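import Groth.Agent.SolvGrp.RepTools

/-! Weight decomposition of a torus representation and limits of lines. -/

set_option backward.isDefEq.respectTransparency false
set_option backward.isDefEq.respectTransparency.types false
set_option linter.style.haveILetI false

universe u

open CategoryTheory MonoidalCategory CartesianMonoidalCategory MonObj AlgebraicGeometry TensorProduct WithConv
open scoped Matrix

namespace Groth.Agent.SolvGrp

open GrpSchLib GrpSchLib.Kunneth GrpSchLib.LineGroups GrpSchLib.ProjLine WeilCmp.Unip AGFLib AGFLib.Gen AGFLib.BorelFixed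
open AGFLib.ProjAct

variable {k : Type u} [Field k] [IsAlgClosed k]

local notation "PT" => 𝟙_ (Over (Spec (CommRingCat.of k)))

/-- The functions of a torus are the group algebra of its characters. -/
theorem exists_torus_chars {T : Over (Spec (CommRingCat.of k))} [GrpObj T] (hT : Red.IsTorus T) :
    ∃ (r : ℕ) (φ : MonoidAlgebra k (Multiplicative (Fin r → ℤ)) ≃ₐ[k] Fn T),
      ∀ (x y : PT ⟶ T) (m : Multiplicative (Fin r → ℤ)),
        vl (x * y) (φ (MonoidAlgebra.single m 1)) =
          vl x (φ (MonoidAlgebra.single m 1)) * vl y (φ (MonoidAlgebra.single m 1)) := by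
  obtain ⟨r, ⟨eG⟩⟩ := exists_iso_sp hT
  let a : AffineHopf.sp k (MonoidAlgebra k (Multiplicative (Fin r → ℤ))) ≅ T := (Grp.forget _).mapIso eG.symm
  haveI : IsMonHom a.inv := eG.hom.hom.isMonHom_hom
  refine ⟨r, (LineVec.toFn (k := k) (A := MonoidAlgebra k (Multiplicative (Fin r → ℤ)))).trans (fnEquiv a.symm),
    fun x y m => ?_⟩
  show ProjAct.toK (LineVec.fn ((x * y) ≫ a.inv) _) = _
  rw [MonObj.mul_comp, LineVec.fn_mul]
  show ProjAct.toK ((toConv (LineVec.fn (x ≫ a.inv)) * toConv (LineVec.fn (y ≫ a.inv))) _) = _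
  rw [AlgHom.convMul_apply, MonoidAlgebra.comul_single, CommSemiring.comul_apply, TensorProduct.map_tmul]
  simp only [MonoidAlgebra.lsingle_apply, Algebra.TensorProduct.lmul'_apply_tmul, Algebra.TensorProduct.map_tmul,
    Algebra.TensorProduct.lift_tmul, map_mul]
  rfl

omit [IsAlgClosed k] in
/-- A linear form separating finitely many vectors. -/
theorem exists_sep {r : ℕ} (S : Finset (Fin r → ℤ)) :
    ∃ ℓ : (Fin r → ℤ) →+ ℤ, ∀ a ∈ S, ∀ b ∈ S, ℓ a = ℓ b → a = b := by
  classical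
  let D := (S ×ˢ S).filter fun p => p.1 ≠ p.2
  let P : (Fin r → ℤ) → Polynomial ℤ := fun m => ∑ i : Fin r, Polynomial.C (m i) * Polynomial.X ^ (i : ℕ)
  have hP : ∀ m, P m = 0 → m = 0 := fun m h => funext fun i => by
    have h1 := congrArg (fun p => Polynomial.coeff p (i : ℕ)) h
    simpa [P, Fin.val_inj] using h1
  have hQ : ∏ p ∈ D, P (p.1 - p.2) ≠ 0 := Finset.prod_ne_zero_iff.mpr fun p hp h =>
    (Finset.mem_filter.mp hp).2 (sub_eq_zero.mp (hP _ h))
  obtain ⟨K, hK⟩ : ∃ K : ℤ, (∏ p ∈ D, P (p.1 - p.2)).eval K ≠ 0 := by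
    by_contra h
    push Not at h
    exact hQ (Polynomial.funext fun x => by rw [h x, Polynomial.eval_zero])
  refine ⟨AddMonoidHom.mk' (fun m => (P m).eval K) (fun a b => by simp [P, add_mul, Finset.sum_add_distrib, Polynomial.eval_finset_sum]),
    fun a ha b hb hab => ?_⟩
  by_contra hne
  refine hK ?_
  rw [Polynomial.eval_prod]
  refine Finset.prod_eq_zero (Finset.mem_filter.mpr ⟨Finset.mem_product.mpr (show (a, b).1 ∈ S ∧ (a, b).2 ∈ S from ⟨ha, hb⟩), hne⟩) ?_
  have h1 : (P a).eval K = (P b).eval K := hab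
  simp only [P, Polynomial.eval_finset_sum, Polynomial.eval_mul, Polynomial.eval_C, Polynomial.eval_pow,
    Polynomial.eval_X] at h1 ⊢
  simp only [Pi.sub_apply, sub_mul, Finset.sum_sub_distrib, h1, sub_self]

/-- The weight projections of a representation of a torus, with exponents separating the weights. -/
theorem exists_decomp {T : Over (Spec (CommRingCat.of k))} [GrpObj T] (hT : Red.IsTorus T) {n : ℕ}
    {R : Matrix (Fin n) (Fin n) (Fn T)} (hR : IsRepMatrix R) :
    ∃ (r : ℕ) (S : Finset (Fin r → ℤ)) (e : (Fin r → ℤ) → ℤ) (P : (Fin r → ℤ) → Matrix (Fin n) (Fin n) k),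
      (∀ m ∈ S, P m ≠ 0) ∧ (∀ m ∈ S, ∀ m' ∈ S, e m = e m' → m = m') ∧
      (∀ m ∈ S, ∀ m' ∈ S, P m * P m' = if m = m' then P m else 0) ∧ ∑ m ∈ S, P m = 1 ∧
      (∀ (t : PT ⟶ T), ∀ m ∈ S, ∃ c : k, valM R t * P m = c • P m) ∧
      ∀ u : k, u ≠ 0 → ∃ t : PT ⟶ T, valM R t = ∑ m ∈ S, u ^ e m • P m := by
  classical
  obtain ⟨haff, hsm, -, -⟩ := torus_props hT
  haveI := haff
  haveI := hsm
  haveI : IsReduced T.left := isReduced_of_smooth_field T.hom
  obtain ⟨r, φ, hφ⟩ := exists_torus_chars hT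
  let χ : (Fin r → ℤ) → (PT ⟶ T) → k := fun m t => vl t (φ (MonoidAlgebra.single (Multiplicative.ofAdd m) 1))
  have hindep : ∀ (S : Finset (Fin r → ℤ)) (c : (Fin r → ℤ) → k), (∀ t, ∑ m ∈ S, c m * χ m t = 0) → ∀ m ∈ S, c m = 0 := by
    intro S c h m hm
    have h1 : ∑ m ∈ S, MonoidAlgebra.single (Multiplicative.ofAdd m) (c m) = (0 : MonoidAlgebra k _) := by
      refine φ.injective (eq_of_vl fun t => ?_)
      rw [map_zero, map_zero, map_sum, map_sum, ← h t]
      refine Finset.sum_congr rfl fun a _ => ?_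
      rw [show MonoidAlgebra.single (Multiplicative.ofAdd a) (c a) =
        c a • MonoidAlgebra.single (Multiplicative.ofAdd a) (1 : k) by simp, map_smul, map_smul, smul_eq_mul]
    have h2 := congrArg (fun z : MonoidAlgebra k _ => z.coeff (Multiplicative.ofAdd m)) h1
    simpa [Finsupp.single_apply, hm] using h2
  have hindepM : ∀ (S : Finset (Fin r → ℤ)) (A B : (Fin r → ℤ) → Matrix (Fin n) (Fin n) k),
      (∀ t, ∑ m ∈ S, χ m t • A m = ∑ m ∈ S, χ m t • B m) → ∀ m ∈ S, A m = B m := by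
    intro S A B h m hm
    ext i j
    refine sub_eq_zero.mp (hindep S (fun m => A m i j - B m i j) (fun t => ?_) m hm)
    have h1 := congrFun (congrFun (h t) i) j
    simp only [Matrix.sum_apply, Matrix.smul_apply, smul_eq_mul] at h1
    simp only [sub_mul, Finset.sum_sub_distrib, sub_eq_zero]
    simpa only [_root_.mul_comm] using h1
  let z : Fin n → Fin n → MonoidAlgebra k (Multiplicative (Fin r → ℤ)) := fun i j => φ.symm (R i j)
  let S₀ : Finset (Fin r → ℤ) := Finset.univ.biUnion fun p : Fin n × Fin n => (z p.1 p.2).coeff.support.image Multiplicative.toAdd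
  let P : (Fin r → ℤ) → Matrix (Fin n) (Fin n) k := fun m => Matrix.of fun i j => (z i j).coeff (Multiplicative.ofAdd m)
  let S := S₀.filter fun m => P m ≠ 0
  have hexp : ∀ t, valM R t = ∑ m ∈ S, χ m t • P m := by
    intro t
    have h0 : valM R t = ∑ m ∈ S₀, χ m t • P m := by
      ext i j
      have hz : z i j = ∑ m ∈ S₀, P m i j • MonoidAlgebra.single (Multiplicative.ofAdd m) (1 : k) := by
        refine MonoidAlgebra.ext (Finsupp.ext fun a => ?_)
        rw [MonoidAlgebra.coeff_sum, Finsupp.finsetSum_apply]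
        simp only [MonoidAlgebra.coeff_smul, MonoidAlgebra.coeff_single, Finsupp.smul_apply, Finsupp.single_apply, smul_eq_mul, mul_ite, _root_.mul_one,
          MulZeroClass.mul_zero]
        refine ((Finset.sum_eq_single (Multiplicative.toAdd a) (fun b _ hb => if_neg fun h => hb (congrArg Multiplicative.toAdd h)) (fun hna => ?_)).trans ?_).symm
        swap
        · exact if_pos rfl
        · refine (if_pos rfl).trans ?_
          show (z i j).coeff a = 0
          by_contra hne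
          exact hna (Finset.mem_biUnion.mpr ⟨(i, j), Finset.mem_univ _,
            Finset.mem_image.mpr ⟨a, Finsupp.mem_support_iff.mpr hne, rfl⟩⟩)
      rw [valM_apply, show R i j = φ (z i j) from (φ.apply_symm_apply _).symm, hz, map_sum, map_sum, Matrix.sum_apply]
      exact Finset.sum_congr rfl fun m _ => by
        rw [map_smul, map_smul, smul_eq_mul, _root_.mul_comm]; rfl
    rw [h0]
    refine (Finset.sum_subset (Finset.filter_subset _ _) fun m _ hm => ?_).symm
    rw [show P m = 0 by by_contra hne; exact hm (Finset.mem_filter.mpr ⟨‹_›, hne⟩), smul_zero]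
  have hmulm : ∀ m t t', χ m (t * t') = χ m t * χ m t' := fun m t t' => hφ t t' _
  have hone : ∀ m, χ m 1 = 1 := fun m => by
    have h1 := hmulm m 1 1
    rw [_root_.mul_one] at h1
    have hne : χ m 1 ≠ 0 := (((((MonoidAlgebra.of k (Multiplicative (Fin r → ℤ))).toHomUnits
      (Multiplicative.ofAdd m)).isUnit).map φ).map (vl (1 : PT ⟶ T))).ne_zero
    exact (mul_eq_left₀ hne).mp h1.symm
  have horth : ∀ m ∈ S, ∀ m' ∈ S, P m * P m' = if m = m' then P m else 0 := by
    intro m hm m' hm'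
    have h1 : ∀ t', ∀ a ∈ S, χ a t' • P a = ∑ b ∈ S, χ b t' • (P a * P b) := fun t' =>
      hindepM S (fun a => χ a t' • P a) (fun a => ∑ b ∈ S, χ b t' • (P a * P b)) fun t => by
        have h2 : valM R (t * t') = _ := valM_mul hR t t'
        rw [hexp, hexp, hexp, Finset.sum_mul_sum] at h2
        simp only [hmulm, Matrix.smul_mul, Matrix.mul_smul, mul_smul, Finset.smul_sum] at h2 ⊢
        refine h2.trans (Finset.sum_congr rfl fun a _ => Finset.sum_congr rfl fun b _ => ?_)
        rw [smul_comm]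
    refine hindepM S (fun b => P m * P b) (fun b => if m = b then P m else 0) (fun t' => ?_) m' hm'
    rw [← h1 t' m hm]
    simp [hm]
  obtain ⟨ℓ, hℓ⟩ := exists_sep S
  refine ⟨r, S, fun m => ℓ m, P, fun m hm => (Finset.mem_filter.mp hm).2, hℓ, horth, ?_, fun t m hm => ?_, fun u hu => ?_⟩
  · have h1 := hexp 1
    rw [valM_one hR] at h1
    simp only [hone, one_smul] at h1
    exact h1.symm
  · refine ⟨χ m t, ?_⟩
    rw [hexp, Finset.sum_mul]
    rw [Finset.sum_eq_single m (fun b hb hne => by rw [Matrix.smul_mul, horth b hb m hm, if_neg hne, smul_zero])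
      (fun h => absurd hm h), Matrix.smul_mul, horth m hm m hm, if_pos rfl]
  · let f : Multiplicative (Fin r → ℤ) →* k :=
      { toFun := fun m => u ^ ℓ (Multiplicative.toAdd m)
        map_one' := by simp
        map_mul' := fun a b => by simp [zpow_add₀ hu] }
    obtain ⟨t, ht⟩ := exists_pt ((MonoidAlgebra.lift k k _ f).comp (φ.symm : Fn T →ₐ[k] _))
    refine ⟨t, ?_⟩
    rw [hexp]
    refine Finset.sum_congr rfl fun m _ => ?_
    congr 1
    show vl t _ = _
    rw [ht]
    simp [f]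

/-- A closed set of lines containing a family of torus translates contains the limit line. -/
theorem limit_mem {n : ℕ} (F : Set (Pn k n).left) (hF : IsClosed F) {ι₀ : Type*} (S : Finset ι₀) (e : ι₀ → ℤ)
    (vv : ι₀ → Fin (n + 1) → k) (m₀ : ι₀) (hm₀ : m₀ ∈ S) (hmax : ∀ m ∈ S, e m ≤ e m₀)
    (q : Fin (n + 1) → k) (hq₀ : q ⬝ᵥ vv m₀ = 1) (hq : ∀ m ∈ S, m ≠ m₀ → q ⬝ᵥ vv m = 0)
    (hlt : ∀ m ∈ S, m ≠ m₀ → e m < e m₀)
    (hu : ∀ (u : k), u ≠ 0 → ∀ (hv : ∑ m ∈ S, u ^ e m • vv m ≠ 0), cp (lineP (∑ m ∈ S, u ^ e m • vv m) hv) ∈ F)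
    (hv₀ : vv m₀ ≠ 0) : cp (lineP (vv m₀) hv₀) ∈ F := by
  classical
  let x : Fn (aff k 1) := affCoord 0
  let d : ι₀ → ℕ := fun m => (e m₀ - e m).toNat
  let z : Fin (n + 1) → Fn (aff k 1) := fun l => ∑ m ∈ S, vv m l • x ^ d m
  have hz : ∀ (p : PT ⟶ aff k 1) (l : Fin (n + 1)), vl p (z l) = ∑ m ∈ S, vv m l * vl p x ^ d m := fun p l => by
    simp only [z, map_sum, map_smul, map_pow, smul_eq_mul]
  have h1 : ∑ l, algebraMap k (Fn (aff k 1)) (q l) * z l = 1 := by
    simp only [z, Finset.mul_sum, Algebra.smul_def, ← _root_.mul_assoc, ← map_mul]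
    rw [Finset.sum_comm]
    simp only [← Finset.sum_mul, ← map_sum, ← dotProduct.eq_def]
    rw [Finset.sum_eq_single m₀ (fun m hm hne => by rw [show q ⬝ᵥ vv m = 0 from hq m hm hne, map_zero, zero_mul])
      (fun h => absurd hm₀ h), hq₀, map_one, _root_.one_mul]
    simp [d]
  obtain ⟨φ, hφ⟩ := exists_hom_pts (aff k 1) z (fun l => algebraMap k _ (q l)) h1
  let pu : k → (PT ⟶ aff k 1) := fun u => affPt fun _ => algebraMap k _ u
  have hpu : ∀ u, vl (pu u) x = u := fun u => by
    show toK (ev _ _) = u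
    rw [ev_affPt, toK_algebraMap]
  have hval : ∀ u l, vl (pu u) (z l) = (∑ m ∈ S, u ^ d m • vv m) l := fun u l => by
    rw [hz, hpu, Finset.sum_apply]
    exact Finset.sum_congr rfl fun m _ => by rw [Pi.smul_apply, smul_eq_mul, _root_.mul_comm]
  have hne : ∀ u : k, (∑ m ∈ S, u ^ d m • vv m) ≠ 0 := fun u h => by
    have h2 := congrArg (fun v => q ⬝ᵥ v) h
    simp only [dotProduct_sum, dotProduct_smul, smul_eq_mul, dotProduct_zero] at h2
    rw [Finset.sum_eq_single m₀ (fun m hm hne => by rw [hq m hm hne, mul_zero]) (fun h => absurd hm₀ h), hq₀] at h2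
    simp [d] at h2
  have himg : ∀ u, pu u ≫ φ = lineP (∑ m ∈ S, u ^ d m • vv m) (hne u) := fun u => hφ _ _ _ (hval u)
  have hgen : ∀ u : k, u ≠ 0 → cp (pu u) ∈ φ.left ⁻¹' F := fun u hu0 => by
    show φ.left (cp (pu u)) ∈ F
    rw [← cp_comp, himg]
    have e2 : ∑ m ∈ S, u ^ d m • vv m = u ^ e m₀ • ∑ m ∈ S, u⁻¹ ^ e m • vv m := by
      rw [Finset.smul_sum]
      refine Finset.sum_congr rfl fun m hm => ?_
      rw [smul_smul, inv_zpow', ← zpow_add₀ hu0, ← zpow_natCast]
      congr 2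
      simp only [d]
      rw [Int.toNat_of_nonneg (sub_nonneg.mpr (hmax m hm))]
      ring
    have h3 : ∑ m ∈ S, u⁻¹ ^ e m • vv m ≠ 0 := fun h => hne u (by rw [e2, h, smul_zero])
    rw [lineP_congr e2 (hne u) (e2 ▸ hne u), lineP_smul _ h3]
    exact hu u⁻¹ (inv_ne_zero hu0) h3
  have h0 : cp (pu 0) ∈ φ.left ⁻¹' F := by
    by_contra hnot
    haveI : JacobsonSpace (aff k 1).left := LocallyOfFiniteType.jacobsonSpace (aff k 1).hom
    let U : Set (aff k 1).left := (φ.left ⁻¹' F)ᶜ
    let V : Set (aff k 1).left := (aff k 1).left.basicOpen x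
    have hU : IsOpen U := (hF.preimage φ.left.continuous).isOpen_compl
    have hV : IsOpen V := ((aff k 1).left.basicOpen x).isOpen
    have hV1 : cp (pu 1) ∈ V := (mem_basicOpen_iff_vl _ _).mpr (by rw [hpu]; exact one_ne_zero)
    obtain ⟨p, hp1, hp⟩ := nonempty_inter_closedPoints (Z := U ∩ V)
      (nonempty_preirreducible_inter hU hV ⟨_, hnot⟩ ⟨_, hV1⟩) (hU.inter hV).isLocallyClosed
    obtain ⟨y, rfl⟩ := exists_cp hp
    have hy : y = pu (vl y x) := aff_ext fun i => by
      rw [Fin.eq_zero i, ev_affPt]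
      exact (algebraMap_toK (k := k) _).symm
    refine hp1.1 ?_
    rw [hy]
    exact hgen _ ((mem_basicOpen_iff_vl y x).mp hp1.2)
  have h4 : ∑ m ∈ S, (0 : k) ^ d m • vv m = vv m₀ := by
    rw [Finset.sum_eq_single m₀ (fun m hm hne' => by
      rw [zero_pow (by have := hlt m hm hne'; simp only [d]; omega), zero_smul]) (fun h => absurd hm₀ h)]
    simp [d]
  change φ.left (cp (pu 0)) ∈ F at h0
  rw [← cp_comp, himg, lineP_congr h4 (hne 0) hv₀] at h0
  exact h0

end Groth.Agent.SolvGrp
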