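import Groth.Agent.SolvGrp.Closed
import Groth.Agent.AGFLib.LinPart
import Groth.Agent.S3278

/-! Quotients by normal subgroups, on rational points. -/

set_option backward.isDefEq.respectTransparency false
set_option backward.isDefEq.respectTransparency.types false
set_option linter.style.haveILetI false

universe u

open CategoryTheory MonoidalCategory CartesianMonoidalCategory MonObj AlgebraicGeometry

namespace Groth.Agent.SolvGrp

open GrpSchLib GrpSchLib.Kunneth GrpSchLib.LineGroups WeilCmp.Unip AGFLib AGFLib.Gen AGFLib.BorelFixed AGFLib.BorelExist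

variable {k : Type u} [Field k] [IsAlgClosed k]

local notation "PT" => 𝟙_ (Over (Spec (CommRingCat.of k)))

variable {G : Over (Spec (CommRingCat.of k))} [GrpObj G] [IsAffine G.left] [Smooth G.hom]

/-- The quotient by a closed normal subgroup of points. -/
theorem exists_quot (Γ : Subgroup (PT ⟶ G)) (hΓ : PtsClosed (Γ : Set (PT ⟶ G))) (hn : Γ.Normal) :
    ∃ (Q : Over (Spec (CommRingCat.of k))) (_ : GrpObj Q) (q : G ⟶ Q) (_ : IsMonHom q),
      IsAffine Q.left ∧ Smooth Q.hom ∧ IsReduced Q.left ∧ Surjective q.left ∧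
      (∀ x : PT ⟶ Q, ∃ g : PT ⟶ G, g ≫ q = x) ∧ ∀ g : PT ⟶ G, g ≫ q = 1 ↔ g ∈ Γ := by
  haveI : IsReduced G.left := isReduced_of_smooth_field G.hom
  obtain ⟨N, _, i, hi, hci, hsm, haff, hr⟩ := exists_sub Γ hΓ
  haveI := hi
  haveI := hci
  haveI := hsm
  have hN : AlgGrp.IsNormalHom i := Groth.Agent.AGFLib.LinPart.isNormal_of_pts i fun g n => by
    obtain ⟨n', hn'⟩ : g * (n ≫ i) * g⁻¹ ∈ rangePts i := hr ▸ hn.conj_mem _ (hr ▸ ⟨n, rfl⟩) g
    exact ⟨n', hn'.symm⟩
  obtain ⟨Q, _, q, hq, haQ, hlQ, hflat, hsurj, hker⟩ := Groth.Agent.S3278.result k G N i hN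
  haveI := hq
  haveI := haQ
  haveI := hlQ
  haveI := hflat
  haveI := hsurj
  haveI : IsReduced Q.left := FBaseLib.isReduced_of_flat_surjective q.left
  haveI := GrpSchLib.AntiAffine.isSeparated_grp Q
  refine ⟨Q, inferInstance, q, hq, haQ, smooth_of_perfectField_of_isReduced Q, inferInstance, hsurj,
    fun x => exists_of_mem_range q x (q.left.surjective _), fun g => ⟨fun hg => ?_, fun hg => ?_⟩⟩
  · have h1 : g ≫ q = toUnit PT ≫ η[Q] := by rw [hg, Hom.one_def]
    rw [← hr]
    exact ⟨hker.lift g (toUnit PT) h1, hker.lift_fst _ _ _⟩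
  · obtain ⟨n, rfl⟩ : g ∈ rangePts i := hr.symm ▸ hg
    show (n ≫ i) ≫ q = 1
    rw [Category.assoc, hker.w, ← Category.assoc, Hom.one_def]
    congr 1
    exact toUnit_unique _ _

end Groth.Agent.SolvGrp
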