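import Groth.Agent.SolvGrp.Unip
import Groth.Agent.S3036
import Groth.Prelude.Def_AGF

/-! Maximal tori of connected smooth affine groups are conjugate. -/

set_option backward.isDefEq.respectTransparency false
set_option backward.isDefEq.respectTransparency.types false
set_option linter.style.haveILetI false

universe u

open CategoryTheory MonoidalCategory CartesianMonoidalCategory MonObj AlgebraicGeometry
open scoped commutatorElement

namespace Groth.Agent.SolvGrp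

open GrpSchLib GrpSchLib.Kunneth GrpSchLib.LineGroups WeilCmp.Unip AGFLib AGFLib.Gen AGFLib.BorelFixed AGFLib.BorelExist

variable {k : Type u} [Field k] [IsAlgClosed k]

local notation "PT" => 𝟙_ (Over (Spec (CommRingCat.of k)))

variable {G : Over (Spec (CommRingCat.of k))} [GrpObj G] [IsAffine G.left] [Smooth G.hom]

/-- A torus mapping monomorphically into a group is a smooth connected closed subgroup. -/
theorem torus_sub {T : Over (Spec (CommRingCat.of k))} [GrpObj T] (hT : Red.IsTorus T) (i : T ⟶ G) [IsMonHom i]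
    [Mono i] : IsClosedImmersion i.left ∧ Smooth T.hom ∧ ConnectedSpace T.left ∧ IsAffine T.left ∧
      LocallyOfFiniteType T.hom ∧ QuasiCompact T.hom ∧ Red.IsSolvableGrp T := by
  obtain ⟨haff, hsm, hconn, -⟩ := torus_props hT
  haveI := haff
  haveI := hsm
  haveI : QuasiCompact T.hom := inferInstance
  haveI : QuasiCompact i.left := by
    haveI : QuasiCompact (i.left ≫ G.hom) := by rw [Over.w i]; infer_instance
    exact QuasiCompact.of_comp i.left G.hom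
  refine ⟨Groth.Agent.S3036.result k T G i, inferInstance, hconn, inferInstance, inferInstance, inferInstance, 1,
    fun X => ?_⟩
  rw [derivedSeries_one, commutator_def, Subgroup.commutator_eq_bot_iff_le_centralizer]
  exact fun g _ => Subgroup.mem_centralizer_iff.mpr fun h _ =>
    GrpSchLib.MultTypeComm.points_comm (TorusQI.isMultTypeFT_of_isTorus hT) h g

/-- The points of a maximal torus determine it. -/
theorem maxTorus_unique {T S : Over (Spec (CommRingCat.of k))} [GrpObj T] [GrpObj S] (iT : T ⟶ G)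
    (hT : AGF.IsMaxTorus iT) (hS : Red.IsTorus S) (iS : S ⟶ G) [IsMonHom iS] [Mono iS]
    (hle : letI := hT.1; rangePts iT ≤ rangePts iS) : ∃ f : T ≅ S, f.hom ≫ iS = iT := by
  obtain ⟨hm, hmono, hTt, hmax⟩ := hT
  haveI := hm
  haveI := hmono
  obtain ⟨-, hsmT, -, -, -, -, -⟩ := torus_sub hTt iT
  obtain ⟨hcS, -, -, -, hlS, -, -⟩ := torus_sub hS iS
  haveI := hsmT
  haveI := hcS
  haveI := hlS
  obtain ⟨f, hf, hfi⟩ := exists_fac_sub iS iT hle
  haveI : IsIso f := hmax S iS f hS hfi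
  exact ⟨asIso f, hfi⟩

theorem rangePts_conjBy {H : Over (Spec (CommRingCat.of k))} [GrpObj H] (g : PT ⟶ G) (i : H ⟶ G) [IsMonHom i]
    [IsMonHom (AGF.conjBy g i)] (x : PT ⟶ G) : x ∈ rangePts (AGF.conjBy g i) ↔ g⁻¹ * x * g ∈ rangePts i := by
  have e : ∀ h : PT ⟶ H, h ≫ AGF.conjBy g i = g * (h ≫ i) * g⁻¹ := fun h => by
    rw [AGFLib.Borel.conjBy_eq, ← Category.assoc, AGFLib.Borel.comp_conjM, toUnit_unique (toUnit PT) (𝟙 _),
      Category.id_comp]
  constructor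
  · rintro ⟨h, rfl⟩
    exact ⟨h, by show h ≫ i = _; rw [show (fun x => x ≫ AGF.conjBy g i) h = g * (h ≫ i) * g⁻¹ from e h]; group⟩
  · rintro ⟨h, hh⟩
    exact ⟨h, by show h ≫ AGF.conjBy g i = x; rw [e, show h ≫ i = g⁻¹ * x * g from hh]; group⟩

variable [ConnectedSpace G.left]

/-- A connected solvable closed subgroup lies in a Borel subgroup. -/
theorem exists_borel_containing {D : Over (Spec (CommRingCat.of k))} [GrpObj D] (iD : D ⟶ G) [IsMonHom iD]
    [IsClosedImmersion iD.left] [Smooth D.hom] [ConnectedSpace D.left] (hD : Red.IsSolvableGrp D) :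
    ∃ (B : Over (Spec (CommRingCat.of k))) (_ : GrpObj B) (iB : B ⟶ G) (_ : IsMonHom iB),
      Red.IsBorelOver k iB ∧ rangePts iD ≤ rangePts iB := by
  obtain ⟨B, _, iB, X, a, o, hB, hX, hprop⟩ := AGFLib.Borel.exists_borel G
  haveI := hB.1
  haveI := hB.2.1
  haveI := hprop
  obtain ⟨g, f, hf⟩ := AGFLib.Borel.exists_conj_into iB iD hD hX
  haveI : IsMonHom (AGF.conjBy g iB) := by rw [AGFLib.Borel.conjBy_eq]; infer_instance
  refine ⟨B, inferInstance, AGF.conjBy g iB, inferInstance, AGFLib.Borel.isBorel_conj iB hB g, ?_⟩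
  rintro _ ⟨x, rfl⟩
  refine ⟨x ≫ f, ?_⟩
  show (x ≫ f) ≫ AGF.conjBy g iB = x ≫ iD
  rw [Category.assoc, hf]

/-- The tori of a Borel subgroup are conjugate into one of them. -/
theorem exists_borelTorus {B : Over (Spec (CommRingCat.of k))} [GrpObj B] (iB : B ⟶ G) [IsMonHom iB]
    (hB : Red.IsBorelOver k iB) :
    ∃ (T : Over (Spec (CommRingCat.of k))) (_ : GrpObj T) (i : T ⟶ B) (_ : IsMonHom i) (_ : IsMonHom (i ≫ iB))
      (_ : Mono (i ≫ iB)), Red.IsTorus T ∧ (∀ b : PT ⟶ B, ∃ t ∈ rangePts i, IsUnipPt (t⁻¹ * b)) ∧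
      ∀ (S : Over (Spec (CommRingCat.of k))) [GrpObj S] (j : S ⟶ G) [IsMonHom j], Red.IsTorus S →
        rangePts j ≤ rangePts iB → ∃ b : PT ⟶ B, ∀ s ∈ rangePts j, (b ≫ iB) * s * (b ≫ iB)⁻¹ ∈ rangePts (i ≫ iB) := by
  obtain ⟨-, hcl, hsm, hconn, ⟨n, hn⟩, -⟩ := id hB
  haveI := hcl
  haveI := hsm
  haveI := hconn
  obtain ⟨haff, hlft, -, hmono, hev⟩ := sub_props iB
  haveI := haff
  haveI := hlft
  obtain ⟨T, _, i, hi, hci, hT, hA, hC⟩ := exists_torus_of_derivedSeries n B (hn _)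
  haveI := hi
  haveI := hci
  haveI : Mono i := mono_of_closedImmersion i
  haveI := hmono
  refine ⟨T, inferInstance, i, hi, inferInstance, mono_comp i iB, hT, hA, fun S _ j _ hS hle => ?_⟩
  haveI : IsReduced G.left := isReduced_of_smooth_field G.hom
  obtain ⟨b, hb⟩ := hC {x : PT ⟶ B | x ≫ iB ∈ rangePts j}
    (fun x hx => by
      obtain ⟨s, hs⟩ := hx
      exact IsSsPt.map iB hev (show IsSsPt (x ≫ iB) from (show s ≫ j = x ≫ iB from hs) ▸ isSsPt_of_torus hS j s))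
    (fun x ⟨s, hs⟩ y ⟨t, ht⟩ => (cancel_mono iB).mp (by
      rw [MonObj.mul_comp, MonObj.mul_comp, ← show s ≫ j = x ≫ iB from hs, ← show t ≫ j = y ≫ iB from ht,
        ← MonObj.mul_comp, ← MonObj.mul_comp, (torus_commute hS s t).eq]))
  refine ⟨b, ?_⟩
  intro s hs
  obtain ⟨x, rfl⟩ := hle hs
  obtain ⟨t, ht⟩ := hb x hs
  refine ⟨t, ?_⟩
  show t ≫ i ≫ iB = (b ≫ iB) * (x ≫ iB) * (b ≫ iB)⁻¹
  rw [← Category.assoc, show t ≫ i = b * x * b⁻¹ from ht, MonObj.mul_comp, MonObj.mul_comp, GrpObj.inv_comp]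

/-- Two maximal tori are conjugate, by an element conjugating given Borel subgroups containing them. -/
theorem borelPair_conj {B B' T T' : Over (Spec (CommRingCat.of k))} [GrpObj B] [GrpObj B'] [GrpObj T] [GrpObj T']
    (iB : B ⟶ G) (iB' : B' ⟶ G) (hB : Red.IsBorelOver k iB) (hB' : Red.IsBorelOver k iB') (iT : T ⟶ G) (iT' : T' ⟶ G)
    (hT : AGF.IsMaxTorus iT) (hT' : AGF.IsMaxTorus iT')
    (t : T ⟶ B) (ht : t ≫ iB = iT) (t' : T' ⟶ B') (ht' : t' ≫ iB' = iT') :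
    ∃ (g : PT ⟶ G) (f : B ≅ B') (f' : T ≅ T'), f.hom ≫ iB' = AGF.conjBy g iB ∧ f'.hom ≫ iT' = AGF.conjBy g iT := by
  haveI := hB.1
  haveI := hB'.1
  haveI := hT.1
  haveI := hT'.1
  haveI := hT.2.1
  haveI := hT'.2.1
  haveI := hB.2.1
  haveI := hB'.2.1
  haveI : Mono iB := mono_of_closedImmersion iB
  haveI : Mono iB' := mono_of_closedImmersion iB'
  obtain ⟨g, f, hf⟩ := AGFLib.Borel.conjugate iB iB' hB hB'
  haveI : IsMonHom (AGF.conjBy g iT) := by rw [AGFLib.Borel.conjBy_eq]; infer_instance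
  haveI : Mono (AGF.conjBy g iT) := by rw [AGFLib.Borel.conjBy_eq]; exact mono_comp iT _
  have hconjT : AGF.IsMaxTorus (AGF.conjBy g iT) := by
    refine ⟨inferInstance, inferInstance, hT.2.2.1, fun T₂ _ j _ _ φ hT₂ hφ => ?_⟩
    haveI : IsMonHom (AGF.conjBy g⁻¹ j) := by rw [AGFLib.Borel.conjBy_eq]; infer_instance
    haveI : Mono (AGF.conjBy g⁻¹ j) := by rw [AGFLib.Borel.conjBy_eq]; exact mono_comp j _
    refine hT.2.2.2 T₂ (AGF.conjBy g⁻¹ j) φ hT₂ ?_
    rw [AGFLib.Borel.conjBy_eq, ← Category.assoc, hφ, AGFLib.Borel.conjBy_eq, Category.assoc, AGFLib.Borel.conjM_comp,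
      inv_mul_cancel, AGFLib.Borel.conjM_one, Category.comp_id]
  have hle : rangePts (AGF.conjBy g iT) ≤ rangePts iB' := by
    rintro _ ⟨x, rfl⟩
    refine ⟨x ≫ t ≫ f.hom, ?_⟩
    show (x ≫ t ≫ f.hom) ≫ iB' = x ≫ AGF.conjBy g iT
    rw [Category.assoc, Category.assoc, hf, AGFLib.Borel.conjBy_eq, AGFLib.Borel.conjBy_eq, reassoc_of% ht]
  have hle' : rangePts iT' ≤ rangePts iB' := by
    rintro _ ⟨x, rfl⟩
    exact ⟨x ≫ t', (Category.assoc x t' iB').trans (congrArg (x ≫ ·) ht')⟩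
  obtain ⟨T₀, _, i₀, hi₀, hm₀, hmono₀, hT₀, -, hC⟩ := exists_borelTorus iB' hB'
  haveI := hm₀
  haveI := hmono₀
  -- conjugate both tori into `T₀`
  have key : ∀ {S : Over (Spec (CommRingCat.of k))} [GrpObj S] (j : S ⟶ G) [IsMonHom j], AGF.IsMaxTorus j →
      rangePts j ≤ rangePts iB' → ∃ (b : PT ⟶ B') (φ : S ≅ T₀), φ.hom ≫ i₀ ≫ iB' = AGF.conjBy (b ≫ iB') j := by
    intro S _ j _ hj hjle
    obtain ⟨b, hb⟩ := hC S j hj.2.2.1 hjle
    haveI := hj.2.1
    haveI : IsMonHom (AGF.conjBy (b ≫ iB') j) := by rw [AGFLib.Borel.conjBy_eq]; infer_instance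
    haveI : Mono (AGF.conjBy (b ≫ iB') j) := by rw [AGFLib.Borel.conjBy_eq]; exact mono_comp j _
    have hmax : AGF.IsMaxTorus (AGF.conjBy (b ≫ iB') j) := by
      refine ⟨inferInstance, inferInstance, hj.2.2.1, fun T₂ _ l _ _ φ hT₂ hφ => ?_⟩
      haveI : IsMonHom (AGF.conjBy (b ≫ iB')⁻¹ l) := by rw [AGFLib.Borel.conjBy_eq]; infer_instance
      haveI : Mono (AGF.conjBy (b ≫ iB')⁻¹ l) := by rw [AGFLib.Borel.conjBy_eq]; exact mono_comp l _
      refine hj.2.2.2 T₂ (AGF.conjBy (b ≫ iB')⁻¹ l) φ hT₂ ?_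
      rw [AGFLib.Borel.conjBy_eq, ← Category.assoc, hφ, AGFLib.Borel.conjBy_eq, Category.assoc,
        AGFLib.Borel.conjM_comp, inv_mul_cancel, AGFLib.Borel.conjM_one, Category.comp_id]
    obtain ⟨φ, hφ⟩ := maxTorus_unique _ hmax hT₀ (i₀ ≫ iB') fun x hx => by
      rw [rangePts_conjBy] at hx
      have := hb _ hx
      simpa [_root_.mul_assoc] using this
    exact ⟨b, φ, hφ⟩
  obtain ⟨b₁, φ₁, h₁⟩ := key (AGF.conjBy g iT) hconjT hle
  obtain ⟨b₂, φ₂, h₂⟩ := key iT' hT' hle'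
  refine ⟨(b₂⁻¹ * b₁) ≫ iB' * g, f ≪≫ asIso (AGFLib.Borel.conjM (b₂⁻¹ * b₁)), φ₁ ≪≫ φ₂.symm, ?_, ?_⟩
  · have e : AGFLib.Borel.conjM (b₂⁻¹ * b₁) ≫ iB' = iB' ≫ AGFLib.Borel.conjM ((b₂⁻¹ * b₁) ≫ iB') := by
      rw [AGFLib.Borel.comp_conjM, AGFLib.Borel.conjM, AGF.conjBy, MonObj.mul_comp, MonObj.mul_comp, GrpObj.inv_comp,
        Category.assoc, Category.id_comp]
    rw [Iso.trans_hom, asIso_hom, Category.assoc, e, ← Category.assoc, hf, AGFLib.Borel.conjBy_eq,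
      AGFLib.Borel.conjBy_eq, Category.assoc, AGFLib.Borel.conjM_comp]
  · have h3 : φ₂.inv ≫ iT' = i₀ ≫ iB' ≫ AGFLib.Borel.conjM (b₂ ≫ iB')⁻¹ := by
      rw [← Category.assoc, ← cancel_epi φ₂.hom, Iso.hom_inv_id_assoc, ← Category.assoc, h₂, AGFLib.Borel.conjBy_eq,
        Category.assoc, AGFLib.Borel.conjM_comp, inv_mul_cancel, AGFLib.Borel.conjM_one, Category.comp_id]
    rw [Iso.trans_hom, Iso.symm_hom, Category.assoc, h3, ← Category.assoc i₀, ← Category.assoc, h₁,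
      AGFLib.Borel.conjBy_eq, AGFLib.Borel.conjBy_eq, AGFLib.Borel.conjBy_eq, Category.assoc, Category.assoc,
      AGFLib.Borel.conjM_comp, AGFLib.Borel.conjM_comp, MonObj.mul_comp, GrpObj.inv_comp, _root_.mul_assoc]

/-- Every maximal torus lies in a Borel subgroup. -/
theorem exists_borel_maxTorus {T : Over (Spec (CommRingCat.of k))} [GrpObj T] (iT : T ⟶ G) (hT : AGF.IsMaxTorus iT) :
    ∃ (B : Over (Spec (CommRingCat.of k))) (_ : GrpObj B) (iB : B ⟶ G) (t : T ⟶ B),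
      Red.IsBorelOver k iB ∧ t ≫ iB = iT := by
  haveI := hT.1
  haveI := hT.2.1
  obtain ⟨hc, hsm, hconn, -, -, -, hsolv⟩ := torus_sub hT.2.2.1 iT
  haveI := hc
  haveI := hsm
  haveI := hconn
  obtain ⟨B, _, iB, hm, hB, hle⟩ := exists_borel_containing iT hsolv
  haveI := hm
  haveI := hB.2.1
  obtain ⟨-, hlft, -, -, -⟩ := sub_props iB
  haveI := hlft
  obtain ⟨t, -, ht⟩ := exists_fac_sub iB iT hle
  exact ⟨B, inferInstance, iB, t, hB, ht⟩

end Groth.Agent.SolvGrp
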