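import Groth.Agent.AVTors.TateInj
import Groth.Agent.AGFLib.GeomBC
import Groth.Prelude.Def_Red2

/-! Centralisers and normalisers commute with base change. -/

set_option backward.isDefEq.respectTransparency false
set_option backward.isDefEq.respectTransparency.types false
set_option linter.style.haveILetI false

universe u

open CategoryTheory CategoryTheory.Limits MonoidalCategory CartesianMonoidalCategory MonObj AlgebraicGeometry

namespace Groth.Agent.SolvGrp

open Groth.Agent.AVTors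

variable {S S' : Scheme.{u}} (σ : S' ⟶ S)

theorem bcPts_comp_left {T T' : Over S'} {A : Over S} [GrpObj A] (x : T' ⟶ T) (f : (Over.map σ).obj T ⟶ A) :
    bcPts σ T' A ((Over.map σ).map x ≫ f) = x ≫ bcPts σ T A f :=
  (Over.mapPullbackAdj σ).homEquiv_naturality_left x f

/-- An object over the image comes from upstairs. -/
theorem exists_lift_map {X : Over S'} {Y : Over S} (x : Y ⟶ (Over.map σ).obj X) :
    ∃ (Y' : Over S') (e : Y ≅ (Over.map σ).obj Y') (x' : Y' ⟶ X), e.hom ≫ (Over.map σ).map x' = x := by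
  refine ⟨Over.mk (x.left ≫ X.hom), Over.isoMk (Iso.refl Y.left) ?_, Over.homMk x.left rfl, ?_⟩
  · simp only [Iso.refl_hom, Category.id_comp]
    show (x.left ≫ X.hom) ≫ σ = Y.hom
    rw [Category.assoc]
    exact Over.w x
  · apply Over.OverMorphism.ext
    simp

/-- A predicate tested after all base changes commutes with base change. -/
theorem forall_bc_iff {H G : Over S} [GrpObj H] [GrpObj G] {X : Over S'} (g : (Over.map σ).obj X ⟶ G)
    (P : ∀ {Y : Over S}, (Y ⟶ G) → (Y ⟶ H) → Prop)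
    (P' : ∀ {Y : Over S'}, (Y ⟶ Red.bc σ G) → (Y ⟶ Red.bc σ H) → Prop)
    (hP : ∀ {Y Y' : Over S} (e : Y ⟶ Y') (a : Y' ⟶ G) (b : Y' ⟶ H), P a b → P (e ≫ a) (e ≫ b))
    (hPP : ∀ {Y : Over S'} (a : (Over.map σ).obj Y ⟶ G) (b : (Over.map σ).obj Y ⟶ H),
      P' (bcPts σ Y G a) (bcPts σ Y H b) ↔ P a b) :
    (∀ (X' : Over S') (x : X' ⟶ X) (h : X' ⟶ Red.bc σ H), P' (x ≫ bcPts σ X G g) h) ↔
      ∀ (X' : Over S) (x : X' ⟶ (Over.map σ).obj X) (h : X' ⟶ H), P (x ≫ g) h := by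
  constructor
  · intro hh X' x h
    obtain ⟨Y, e, x', rfl⟩ := exists_lift_map σ x
    have h1 := hh Y x' (bcPts σ Y H (e.inv ≫ h))
    rw [← bcPts_comp_left, hPP] at h1
    have h2 := hP e.hom _ _ h1
    rwa [Iso.hom_inv_id_assoc, ← Category.assoc] at h2
  · intro hh X' x h
    obtain ⟨b, rfl⟩ := (bcPts σ X' H).surjective h
    rw [← bcPts_comp_left, hPP]
    exact hh _ ((Over.map σ).map x) b

/-- The centraliser commutes with base change. -/
theorem isCentralizerOf_bc {H G Z : Over S} [GrpObj H] [GrpObj G] [GrpObj Z] (i : H ⟶ G) (j : Z ⟶ G)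
    (hj : Red.IsCentralizerOf i j) : Red.IsCentralizerOf ((Over.pullback σ).map i) ((Over.pullback σ).map j) := by
  haveI := hj.1
  haveI := hj.2.1
  haveI : (Over.pullback σ).IsRightAdjoint := (Over.mapPullbackAdj σ).isRightAdjoint
  refine ⟨inferInstance, inferInstance, fun X g' => ?_⟩
  obtain ⟨g, rfl⟩ := (bcPts σ X G).surjective g'
  have h1 : (∃ z : X ⟶ (Over.pullback σ).obj Z, z ≫ (Over.pullback σ).map j = bcPts σ X G g) ↔
      ∃ z, z ≫ j = g := by
    constructor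
    · rintro ⟨z, hz⟩
      obtain ⟨w, rfl⟩ := (bcPts σ X Z).surjective z
      rw [← bcPts_comp] at hz
      exact ⟨w, (bcPts σ X G).injective hz⟩
    · rintro ⟨w, rfl⟩
      exact ⟨bcPts σ X Z w, (bcPts_comp σ w j).symm⟩
  rw [h1, hj.2.2 _ g]
  exact (forall_bc_iff σ (H := H) g (fun a b => a * (b ≫ i) = (b ≫ i) * a)
    (fun a b => a * (b ≫ (Over.pullback σ).map i) = (b ≫ (Over.pullback σ).map i) * a)
    (fun e a b h => by rw [Category.assoc, ← MonObj.comp_mul, ← MonObj.comp_mul, h])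
    (fun {Y} a b => by rw [← bcPts_comp, ← map_mul, ← map_mul, (bcPts σ Y G).injective.eq_iff])).symm

/-- The normaliser commutes with base change. -/
theorem isNormalizerOf_bc {H G Z : Over S} [GrpObj H] [GrpObj G] [GrpObj Z] (i : H ⟶ G) (j : Z ⟶ G)
    (hj : Red.IsNormalizerOf i j) : Red.IsNormalizerOf ((Over.pullback σ).map i) ((Over.pullback σ).map j) := by
  haveI := hj.1
  haveI := hj.2.1
  haveI : (Over.pullback σ).IsRightAdjoint := (Over.mapPullbackAdj σ).isRightAdjoint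
  refine ⟨inferInstance, inferInstance, fun X g' => ?_⟩
  obtain ⟨g, rfl⟩ := (bcPts σ X G).surjective g'
  have h1 : (∃ z : X ⟶ (Over.pullback σ).obj Z, z ≫ (Over.pullback σ).map j = bcPts σ X G g) ↔
      ∃ z, z ≫ j = g := by
    constructor
    · rintro ⟨z, hz⟩
      obtain ⟨w, rfl⟩ := (bcPts σ X Z).surjective z
      rw [← bcPts_comp] at hz
      exact ⟨w, (bcPts σ X G).injective hz⟩
    · rintro ⟨w, rfl⟩
      exact ⟨bcPts σ X Z w, (bcPts_comp σ w j).symm⟩
  rw [h1, hj.2.2 _ g]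
  refine (forall_bc_iff σ (H := H) g
    (fun {Y} a b => (∃ h' : Y ⟶ H, a * (b ≫ i) * a⁻¹ = h' ≫ i) ∧ (∃ h' : Y ⟶ H, a⁻¹ * (b ≫ i) * a = h' ≫ i))
    (fun {Y} a b => (∃ h' : Y ⟶ Red.bc σ H, a * (b ≫ (Over.pullback σ).map i) * a⁻¹ = h' ≫ (Over.pullback σ).map i) ∧
      (∃ h' : Y ⟶ Red.bc σ H, a⁻¹ * (b ≫ (Over.pullback σ).map i) * a = h' ≫ (Over.pullback σ).map i))
    ?_ ?_).symm
  · rintro Y Y' e a b ⟨⟨u, hu⟩, v, hv⟩
    exact ⟨⟨e ≫ u, by rw [Category.assoc e u, ← hu, MonObj.comp_mul, MonObj.comp_mul, GrpObj.comp_inv,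
        Category.assoc]⟩,
      e ≫ v, by rw [Category.assoc e v, ← hv, MonObj.comp_mul, MonObj.comp_mul, GrpObj.comp_inv, Category.assoc]⟩
  · intro Y a b
    constructor
    · rintro ⟨⟨u, hu⟩, v, hv⟩
      obtain ⟨u, rfl⟩ := (bcPts σ Y H).surjective u
      obtain ⟨v, rfl⟩ := (bcPts σ Y H).surjective v
      rw [← bcPts_comp, ← bcPts_comp, ← map_inv, ← map_mul, ← map_mul] at hu hv
      exact ⟨⟨u, (bcPts σ Y G).injective hu⟩, v, (bcPts σ Y G).injective hv⟩
    · rintro ⟨⟨u, hu⟩, v, hv⟩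
      refine ⟨⟨bcPts σ Y H u, ?_⟩, bcPts σ Y H v, ?_⟩
      · rw [← bcPts_comp, ← bcPts_comp, ← map_inv, ← map_mul, ← map_mul, hu]
      · rw [← bcPts_comp, ← bcPts_comp, ← map_inv, ← map_mul, ← map_mul, hv]

end Groth.Agent.SolvGrp
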