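import Groth.Agent.GrpSchLib.MultTypeBC
import Groth.Agent.AGFLib.GeomBC

/-! Geometric fibres over the spectrum of an algebraically closed field. -/

set_option backward.isDefEq.respectTransparency false
set_option backward.isDefEq.respectTransparency.types false
set_option linter.style.haveILetI false

universe u

open CategoryTheory CategoryTheory.Limits MonoidalCategory CartesianMonoidalCategory MonObj AlgebraicGeometry

namespace Groth.Agent.SolvGrp

open GrpSchLib

/-- Tori are stable under base change. -/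
theorem isTorus_bc {S T : Scheme.{u}} (g : T ⟶ S) {H : Over S} [GrpObj H] (hH : Red.IsTorus H) :
    Red.IsTorus (Red.bc g H) := by
  obtain ⟨S', f, hflat, hsurj, hqc, hloc⟩ := hH
  have hcf : FpqcDescLib.Covers f :=
    FpqcDescLib.covers_of_hcov f ⟨S', f, 𝟙 _, Category.id_comp _, hsurj, hflat, hqc⟩
  obtain ⟨Z, r, hr⟩ := hcf.pullback g (pullback.fst g f) (pullback.snd g f) (IsPullback.of_hasPullback g f)
  obtain ⟨hfl, hcov⟩ := SubgroupEqLocus.flat_hcov_of_isCovering hr
  refine ⟨Z, r ≫ pullback.fst g f, hfl, ⟨fun x => ?_⟩, hcov, fun z => ?_⟩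
  · obtain ⟨V, hV, hxV, -⟩ := exists_isAffineOpen_mem_and_subset (show x ∈ (⊤ : T.Opens) from trivial)
    obtain ⟨W, -, hW⟩ := hcov V hV
    have hx : x ∈ (V : Set T) := hxV
    rw [← hW] at hx
    obtain ⟨w, -, hw⟩ := hx
    exact ⟨w, hw⟩
  · obtain ⟨U, hzU, n, ⟨e⟩⟩ := hloc ((r ≫ pullback.snd g f) z)
    let U' : Z.Opens := (r ≫ pullback.snd g f) ⁻¹ᵁ U
    let l : (U' : Scheme.{u}) ⟶ U := (r ≫ pullback.snd g f) ∣_ U
    have hl : (U'.ι ≫ r ≫ pullback.fst g f) ≫ g = l ≫ U.ι ≫ f := by
      rw [← Category.assoc l, morphismRestrict_ι, Category.assoc, Category.assoc, Category.assoc, Category.assoc,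
        pullback.condition]
    obtain ⟨e₁⟩ := MultTypeBC.bc_bc (U'.ι ≫ r ≫ pullback.fst g f) g H
    obtain ⟨e₂⟩ := MultTypeBC.bc_congr hl H
    obtain ⟨e₃⟩ := MultTypeBC.bc_bc l (U.ι ≫ f) H
    obtain ⟨e₄⟩ := MultTypeBC.bc_iso l e
    obtain ⟨e₅⟩ := MultTypeBC.bc_DS l (Fin n → ℤ)
    exact ⟨U', hzU, n, ⟨e₁ ≪≫ e₂ ≪≫ e₃.symm ≪≫ e₄ ≪≫ e₅⟩⟩

/-- The geometric point of an algebraically closed field is an isomorphism. -/
theorem isIso_geomPt {k : Type u} [Field k] [IsAlgClosed k] (s : Spec (CommRingCat.of k)) : IsIso (Red.geomPt s) := by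
  haveI : IsClosedImmersion ((Spec (CommRingCat.of k)).fromSpecResidueField s) := by
    refine IsClosedImmersion.of_isPreimmersion _ ?_
    rw [Scheme.range_fromSpecResidueField]
    exact Set.subsingleton_of_subsingleton.isClosed
  haveI : Surjective ((Spec (CommRingCat.of k)).fromSpecResidueField s) :=
    ⟨fun x => ⟨IsLocalRing.closedPoint _, Subsingleton.elim _ _⟩⟩
  haveI : IsIso ((Spec (CommRingCat.of k)).fromSpecResidueField s) := isIso_of_isClosedImmersion_of_surjective _
  let φ : k →+* (Spec (CommRingCat.of k)).residueField s :=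
    (Spec.preimage ((Spec (CommRingCat.of k)).fromSpecResidueField s)).hom
  have hbij : Function.Bijective φ := by
    haveI : IsIso (Spec.map (Spec.preimage ((Spec (CommRingCat.of k)).fromSpecResidueField s))) := by
      rw [Spec.map_preimage]; infer_instance
    haveI : IsIso (Scheme.Spec.map (Spec.preimage ((Spec (CommRingCat.of k)).fromSpecResidueField s)).op) :=
      inferInstanceAs (IsIso (Spec.map (Spec.preimage ((Spec (CommRingCat.of k)).fromSpecResidueField s))))
    haveI := (isIso_of_reflects_iso (Spec.preimage ((Spec (CommRingCat.of k)).fromSpecResidueField s)).op Scheme.Spec)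
    haveI : IsIso (Spec.preimage ((Spec (CommRingCat.of k)).fromSpecResidueField s)) := (isIso_op_iff _).mp this
    exact ConcreteCategory.bijective_of_isIso _
  haveI : IsAlgClosed ((Spec (CommRingCat.of k)).residueField s) :=
    IsAlgClosed.of_ringEquiv k _ (RingEquiv.ofBijective φ hbij)
  haveI : IsIso (CommRingCat.ofHom (algebraMap ((Spec (CommRingCat.of k)).residueField s)
      (AlgebraicClosure ((Spec (CommRingCat.of k)).residueField s)))) :=
    (RingEquiv.ofBijective _ IsAlgClosed.algebraMap_bijective_of_isIntegral).toCommRingCatIso.isIso_hom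
  infer_instance

/-- A group without subtori has none after base change along an isomorphism. -/
theorem hasNoSubtorus_bc {k K : Type u} [Field k] [Field K] (φ : Spec (CommRingCat.of K) ⟶ Spec (CommRingCat.of k))
    [IsIso φ] {U : Over (Spec (CommRingCat.of k))} [GrpObj U] (h : Red.HasNoSubtorus k U) :
    Red.HasNoSubtorus K (Red.bc φ U) := by
  intro T _ j _ _ hT
  obtain ⟨e₁⟩ := MultTypeBC.bc_bc (inv φ) φ U
  obtain ⟨e₂⟩ := MultTypeBC.bc_congr (IsIso.inv_hom_id φ) U
  let e₃ : Grp.mk (Red.bc (𝟙 (Spec (CommRingCat.of k))) U) ≅ Grp.mk U :=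
    ((Functor.mapGrpNatIso Over.pullbackId) ≪≫ Functor.mapGrpIdIso).app (Grp.mk U)
  let e := e₁ ≪≫ e₂ ≪≫ e₃
  haveI : IsMonHom e.hom.hom.hom := e.hom.hom.isMonHom_hom
  haveI : IsIso e.hom.hom.hom := ((Grp.forget _).mapIso e).isIso_hom
  haveI : (Over.pullback (inv φ)).IsRightAdjoint := (Over.mapPullbackAdj (inv φ)).isRightAdjoint
  let j' : Red.bc (inv φ) T ⟶ U := (Over.pullback (inv φ)).map j ≫ e.hom.hom.hom
  haveI : IsMonHom j' := inferInstanceAs (IsMonHom ((Over.pullback (inv φ)).map j ≫ e.hom.hom.hom))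
  haveI : Mono j' := mono_comp ((Over.pullback (inv φ)).map j) e.hom.hom.hom
  have h1 : IsIso (Red.bc (inv φ) T).hom := h (Red.bc (inv φ) T) j' (isTorus_bc (inv φ) hT)
  haveI : IsIso (pullback.snd T.hom (inv φ)) := h1
  show IsIso T.hom
  haveI : IsIso (pullback.fst T.hom (inv φ) ≫ T.hom) := by rw [pullback.condition]; infer_instance
  exact IsIso.of_isIso_comp_left (pullback.fst T.hom (inv φ)) T.hom

/-- Over an algebraically closed field a smooth connected group without subtori has the same property on its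
geometric fibres. -/
theorem geomFibre_props {k : Type u} [Field k] [IsAlgClosed k] {U : Over (Spec (CommRingCat.of k))} [GrpObj U]
    [ConnectedSpace U.left] (h : Red.HasNoSubtorus k U) (s : Spec (CommRingCat.of k)) :
    ConnectedSpace (Red.geomFibre s U).left ∧
      Red.HasNoSubtorus (AlgebraicClosure ((Spec (CommRingCat.of k)).residueField s)) (Red.geomFibre s U) := by
  haveI := isIso_geomPt s
  refine ⟨?_, hasNoSubtorus_bc (Red.geomPt s) h⟩
  exact (Scheme.Hom.homeomorph (pullback.fst U.hom (Red.geomPt s))).symm.surjective.connectedSpace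
    (Scheme.Hom.homeomorph (pullback.fst U.hom (Red.geomPt s))).symm.continuous

/-- Connectedness descends from a geometric fibre over an algebraically closed field. -/
theorem connectedSpace_of_geomFibre {k : Type u} [Field k] [IsAlgClosed k] {U : Over (Spec (CommRingCat.of k))}
    (s : Spec (CommRingCat.of k)) (h : ConnectedSpace (Red.geomFibre s U).left) : ConnectedSpace U.left := by
  haveI := isIso_geomPt s
  haveI : ConnectedSpace ↥(pullback U.hom (Red.geomPt s)) := h
  exact (Scheme.Hom.homeomorph (pullback.fst U.hom (Red.geomPt s))).surjective.connectedSpace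
    (Scheme.Hom.homeomorph (pullback.fst U.hom (Red.geomPt s))).continuous

/-- Conversely, the geometric fibre condition gives the condition over an algebraically closed field. -/
theorem hasNoSubtorus_of_geomFibre {k : Type u} [Field k] [IsAlgClosed k] {U : Over (Spec (CommRingCat.of k))} [GrpObj U]
    (s : Spec (CommRingCat.of k))
    (h : Red.HasNoSubtorus (AlgebraicClosure ((Spec (CommRingCat.of k)).residueField s)) (Red.geomFibre s U)) :
    Red.HasNoSubtorus k U := by
  intro T _ j _ _ hT
  haveI := isIso_geomPt s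
  haveI : (Over.pullback (Red.geomPt s)).IsRightAdjoint := (Over.mapPullbackAdj (Red.geomPt s)).isRightAdjoint
  have h1 : IsIso (Red.bc (Red.geomPt s) T).hom :=
    h (Red.bc (Red.geomPt s) T) ((Over.pullback (Red.geomPt s)).map j) (isTorus_bc _ hT)
  haveI : IsIso (pullback.snd T.hom (Red.geomPt s)) := h1
  show IsIso T.hom
  haveI : IsIso (pullback.fst T.hom (Red.geomPt s) ≫ T.hom) := by rw [pullback.condition]; infer_instance
  exact IsIso.of_isIso_comp_left (pullback.fst T.hom (Red.geomPt s)) T.hom

end Groth.Agent.SolvGrp
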