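import Groth.Agent.SolvGrp.CentConn
import Groth.Agent.SolvGrp.BC
import Groth.Agent.S5247
import Groth.Agent.TorusQI.Torus
import Groth.Agent.SolvGrp.Fibre
import Groth.Prelude.Def_AGF

/-! Centralisers of tori in smooth connected affine groups: smooth, connected; nilpotency from rational points. -/

set_option backward.isDefEq.respectTransparency false
set_option backward.isDefEq.respectTransparency.types false
set_option linter.style.haveILetI false

universe u

open CategoryTheory MonoidalCategory CartesianMonoidalCategory MonObj AlgebraicGeometry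
open scoped commutatorElement

namespace Groth.Agent.SolvGrp

open GrpSchLib GrpSchLib.Kunneth GrpSchLib.LineGroups WeilCmp.Unip AGFLib AGFLib.Gen AGFLib.BorelFixed AGFLib.BorelExist

/-- Centralisers are unique. -/
theorem centralizer_unique {S : Scheme.{u}} {H G Z Z' : Over S} [GrpObj H] [GrpObj G] [GrpObj Z] [GrpObj Z'] {i : H ⟶ G}
    {j : Z ⟶ G} {j' : Z' ⟶ G} (hj : Red.IsCentralizerOf i j) (hj' : Red.IsCentralizerOf i j') :
    ∃ e : Z ≅ Z', e.hom ≫ j' = j := by
  obtain ⟨a, ha⟩ := (hj'.2.2 Z j).mpr ((hj.2.2 Z j).mp ⟨𝟙 Z, Category.id_comp j⟩)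
  obtain ⟨b, hb⟩ := (hj.2.2 Z' j').mpr ((hj'.2.2 Z' j').mp ⟨𝟙 Z', Category.id_comp j'⟩)
  haveI := hj.2.1
  haveI := hj'.2.1
  exact ⟨⟨a, b, by rw [← cancel_mono j, Category.assoc, hb, ha, Category.id_comp],
    by rw [← cancel_mono j', Category.assoc, ha, hb, Category.id_comp]⟩, ha⟩

variable {k : Type u} [Field k]

/-- A centraliser of a torus in a smooth affine group is a smooth closed subgroup. -/
theorem centralizer_props {G T C : Over (Spec (CommRingCat.of k))} [GrpObj G] [GrpObj T] [GrpObj C] [IsAffine G.left]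
    [Smooth G.hom] {iT : T ⟶ G} [IsMonHom iT] (hT : Red.IsTorus T) {c : C ⟶ G} (hc : Red.IsCentralizerOf iT c) :
    IsClosedImmersion c.left ∧ Smooth C.hom ∧ IsAffine C.left := by
  haveI : IsAffineHom G.hom := isAffineHom_of_isAffine G.hom
  obtain ⟨Z, _, z, hz, hcz, hsz⟩ := Groth.Agent.S5247.result T G (TorusQI.isMultTypeFT_of_isTorus hT) inferInstance
    inferInstance iT
  haveI := hcz
  haveI := hsz
  obtain ⟨e, he⟩ := centralizer_unique hc hz
  haveI : IsIso e.hom.left := ((Over.forget _).mapIso e).isIso_hom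
  haveI : IsClosedImmersion c.left := by
    rw [← he]; exact inferInstanceAs (IsClosedImmersion (e.hom.left ≫ z.left))
  haveI : Smooth C.hom := by rw [← Over.w e.hom]; infer_instance
  exact ⟨inferInstance, inferInstance, isAffine_of_isAffineHom c.left⟩

section AlgClosed

variable [IsAlgClosed k]

local notation "PT" => 𝟙_ (Over (Spec (CommRingCat.of k)))

/-- Over an algebraically closed field the centraliser of a torus is connected. -/
theorem connectedSpace_centralizer {G T C : Over (Spec (CommRingCat.of k))} [GrpObj G] [GrpObj T] [GrpObj C]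
    [IsAffine G.left] [Smooth G.hom] [ConnectedSpace G.left] {iT : T ⟶ G} [IsMonHom iT] (hT : Red.IsTorus T)
    {c : C ⟶ G} (hc : Red.IsCentralizerOf iT c) : ConnectedSpace C.left := by
  haveI := hc.1
  haveI := hc.2.1
  obtain ⟨hcl, hsm, haff⟩ := centralizer_props hT hc
  haveI := hcl
  haveI := hsm
  obtain ⟨D, _, i, hi, hci, hsD, hcD, hD⟩ := exists_connSub_torusCent iT hT
  haveI := hi
  haveI := hci
  haveI := hsD
  haveI := hcD
  obtain ⟨-, hlD, -, -, -⟩ := sub_props i
  haveI := hlD
  haveI : Mono i := mono_of_closedImmersion i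
  haveI : LocallyOfFiniteType C.hom := inferInstance
  have heq : rangePts i = rangePts c := SetLike.ext fun g => (hD g).trans (mem_centralizer_pts iT hT hc g).symm
  obtain ⟨a, -, ha⟩ := exists_fac_sub c i heq.le
  obtain ⟨b, -, hb⟩ := exists_fac_sub i c heq.ge
  have h1 : b ≫ a = 𝟙 C := by rw [← cancel_mono c, Category.assoc, ha, hb, Category.id_comp]
  have h2 : b.left ≫ a.left = 𝟙 C.left := by rw [← Over.comp_left, h1]; rfl
  haveI : Surjective a.left := ⟨fun x => ⟨b.left x, by rw [← Scheme.Hom.comp_apply, h2]; rfl⟩⟩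
  exact a.left.surjective.connectedSpace a.left.continuous

/-- Membership in the upper central series may be checked on rational points. -/
theorem mem_upperCentral_of_pts {G : Over (Spec (CommRingCat.of k))} [GrpObj G] [Smooth G.hom] (m : ℕ) :
    ∀ (T : Over (Spec (CommRingCat.of k))) [IsReduced T.left] [LocallyOfFiniteType T.hom] (f : T ⟶ G),
      (∀ t : PT ⟶ T, t ≫ f ∈ Subgroup.upperCentralSeries (PT ⟶ G) m) →
      ∀ (X : Over (Spec (CommRingCat.of k))) (x : X ⟶ T), x ≫ f ∈ Subgroup.upperCentralSeries (X ⟶ G) m := by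
  haveI := GrpSchLib.AntiAffine.isSeparated_grp G
  haveI : IsReduced G.left := isReduced_of_smooth_field G.hom
  induction m with
  | zero =>
    intro T _ _ f hf X x
    have h1 : f = 1 := hom_ext_pts fun t => by
      have := hf t
      rw [Subgroup.upperCentralSeries_zero, Subgroup.mem_bot] at this
      rw [this, MonObj.comp_one]
    rw [h1, MonObj.comp_one]
    exact one_mem _
  | succ m ih =>
    intro T _ _ f hf X x
    haveI : IsReduced (T ⊗ G).left := GrpSchLib.isReduced_pullback_of_perfectField T.hom G.hom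
    haveI : LocallyOfFiniteType (T ⊗ G).hom :=
      inferInstanceAs (LocallyOfFiniteType (Limits.pullback.fst T.hom G.hom ≫ T.hom))
    rw [Subgroup.mem_upperCentralSeries_succ_iff]
    intro y
    have key := ih (T ⊗ G) ((fst T G ≫ f) * snd T G * (fst T G ≫ f)⁻¹ * (snd T G)⁻¹) (fun t => by
      have h1 := (Subgroup.mem_upperCentralSeries_succ_iff.mp (hf (t ≫ fst T G))) (t ≫ snd T G)
      rw [commutatorElement_def] at h1
      simpa only [MonObj.comp_mul, GrpObj.comp_inv, Category.assoc] using h1) X (lift x y)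
    rw [commutatorElement_def]
    simpa only [MonObj.comp_mul, GrpObj.comp_inv, lift_fst_assoc, lift_snd] using key

/-- A smooth group with nilpotent rational points is nilpotent. -/
theorem isNilpotentGrp_of_pts {G : Over (Spec (CommRingCat.of k))} [GrpObj G] [Smooth G.hom] [Group.IsNilpotent (PT ⟶ G)] :
    AGF.IsNilpotentGrp G := by
  haveI : IsReduced G.left := isReduced_of_smooth_field G.hom
  obtain ⟨n, hn⟩ := (inferInstance : Group.IsNilpotent (PT ⟶ G)).nilpotent'
  refine ⟨n, fun X => eq_top_iff.mpr fun x _ => ?_⟩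
  have := mem_upperCentral_of_pts n G (𝟙 G) (fun t => hn.symm ▸ Subgroup.mem_top _) X x
  rwa [Category.comp_id] at this

/-- The centraliser of a maximal torus is nilpotent. -/
theorem isNilpotentGrp_centralizer {G T C : Over (Spec (CommRingCat.of k))} [GrpObj G] [GrpObj T] [GrpObj C]
    [IsAffine G.left] [Smooth G.hom] [ConnectedSpace G.left] {iT : T ⟶ G} (hT : AGF.IsMaxTorus iT)
    {c : C ⟶ G} (hc : Red.IsCentralizerOf iT c) : AGF.IsNilpotentGrp C := by
  haveI := hT.1
  haveI := hc.1
  haveI := hc.2.1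
  obtain ⟨hcl, hsm, haff⟩ := centralizer_props hT.2.2.1 hc
  haveI := hcl
  haveI := hsm
  haveI := connectedSpace_centralizer hT.2.2.1 hc
  haveI := haff
  obtain ⟨C₀, _, i, hi, hci, hsC, hcC, haC, hTC, hcomm, hnil, hd, R, hR, hcov⟩ := exists_cartan iT hT
  haveI := hi
  haveI := hci
  haveI := hsC
  haveI := hcC
  obtain ⟨-, hlC, hqC, -, -⟩ := sub_props i
  haveI := hlC
  haveI := hqC
  have hle : rangePts c ≤ rangePts i := rangePts_le_of_finite c _ (ptsClosed_range i) R hR fun x hx =>
    hcov x ((mem_centralizer_pts iT hT.2.2.1 hc x).mp hx)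
  obtain ⟨f, hf, hfi⟩ := exists_fac_sub i c hle
  haveI := hf
  haveI : Group.IsNilpotent (PT ⟶ C) := by
    refine isNilpotent_of_ker_le_center (ptsHom f) ?_
    intro x hx
    have h1 : x = 1 := (cancel_mono c).mp (by
      rw [MonObj.one_comp, ← hfi, ← Category.assoc, show x ≫ f = 1 from hx, MonObj.one_comp])
    rw [h1]
    exact one_mem _
  exact isNilpotentGrp_of_pts

end AlgClosed

/-- A maximal torus is one on the geometric fibre. -/
theorem isMaxTorus_geomFibre {G T : Over (Spec (CommRingCat.of k))} [GrpObj G] [GrpObj T] {iT : T ⟶ G}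
    (hT : Red.IsMaximalTorus iT) (s : Spec (CommRingCat.of k)) :
    AGF.IsMaxTorus ((Over.pullback (Red.geomPt s)).map iT) := by
  haveI := hT.1
  haveI := hT.2.1
  haveI : (Over.pullback (Red.geomPt s)).IsRightAdjoint := (Over.mapPullbackAdj (Red.geomPt s)).isRightAdjoint
  exact ⟨inferInstance, inferInstance, isTorus_bc _ hT.2.2.1, hT.2.2.2 s⟩

/-- Points inject into the points of the base change along the geometric point. -/
theorem geomPt_map_injective {X G : Over (Spec (CommRingCat.of k))} (s : Spec (CommRingCat.of k)) :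
    Function.Injective (fun f : X ⟶ G => (Over.pullback (Red.geomPt s)).map f) := by
  intro f g h
  haveI := AGFLib.GeomBC.flat_geomPt s
  haveI := AGFLib.GeomBC.surjective_geomPt s
  haveI : Epi (Limits.pullback.fst X.hom (Red.geomPt s)) := Flat.epi_of_flat_of_surjective _
  refine Over.OverMorphism.ext ((cancel_epi (Limits.pullback.fst X.hom (Red.geomPt s))).mp ?_)
  have h1 := congrArg (fun m : (Over.pullback (Red.geomPt s)).obj X ⟶ (Over.pullback (Red.geomPt s)).obj G =>
    m.left ≫ Limits.pullback.fst G.hom (Red.geomPt s)) h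
  simpa [Limits.pullback.lift_fst] using h1

/-- Nilpotency descends from a geometric fibre. -/
theorem isNilpotentGrp_of_geomFibre {G : Over (Spec (CommRingCat.of k))} [GrpObj G] (s : Spec (CommRingCat.of k))
    (h : AGF.IsNilpotentGrp (Red.geomFibre s G)) : AGF.IsNilpotentGrp G := by
  obtain ⟨n, hn⟩ := h
  refine ⟨n, fun X => ?_⟩
  let φ : (X ⟶ G) →* ((Over.pullback (Red.geomPt s)).obj X ⟶ Red.geomFibre s G) :=
    (Over.pullback (Red.geomPt s)).homMonoidHom
  rw [← Subgroup.lowerCentralSeries_eq_bot_iff_upperCentralSeries_eq_top, eq_bot_iff]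
  intro x hx
  have h1 : φ x ∈ (⊥ : Subgroup _) := by
    rw [← Subgroup.lowerCentralSeries_eq_bot_iff_upperCentralSeries_eq_top.mpr (hn _)]
    have h2 : φ x ∈ (Subgroup.lowerCentralSeries (⊤ : Subgroup (X ⟶ G)) n).map φ := ⟨x, hx, rfl⟩
    rw [Subgroup.map_lowerCentralSeries] at h2
    exact Subgroup.lowerCentralSeries_mono n le_top h2
  exact Subgroup.mem_bot.mpr (geomPt_map_injective s ((Subgroup.mem_bot.mp h1).trans (map_one φ).symm))

/-- The centraliser of a torus in a smooth connected affine group over a field is connected. -/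
theorem connectedSpace_centralizer_field {G T C : Over (Spec (CommRingCat.of k))} [GrpObj G] [GrpObj T] [GrpObj C]
    [IsAffine G.left] [Smooth G.hom] [ConnectedSpace G.left] {iT : T ⟶ G} [IsMonHom iT] (hT : Red.IsTorus T)
    {c : C ⟶ G} (hc : Red.IsCentralizerOf iT c) : ConnectedSpace C.left := by
  haveI : QuasiCompact G.hom := inferInstance
  let s := AGFLib.GeomBC.pt k
  haveI := AGFLib.GeomBC.surjective_geomPt s
  haveI : Surjective (Limits.pullback.fst C.hom (Red.geomPt s)) :=
    MorphismProperty.pullback_fst (P := @Surjective) _ _ ‹_›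
  haveI : ConnectedSpace ↥(Limits.pullback C.hom (Red.geomPt s)) :=
    connectedSpace_centralizer (isTorus_bc (Red.geomPt s) hT) (isCentralizerOf_bc (Red.geomPt s) iT c hc)
  exact (Limits.pullback.fst C.hom (Red.geomPt s)).surjective.connectedSpace
    (Limits.pullback.fst C.hom (Red.geomPt s)).continuous

end Groth.Agent.SolvGrp
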