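import Groth.Agent.SolvGrp.CentConn
import Groth.Agent.SolvGrp.Cent
import Groth.Agent.MultTypeLib.FixedSmooth
import Groth.Agent.GrpSchLib.MultTypeComm
import Groth.Agent.GrpSchLib.AdjointQuot
import Groth.Agent.GrpSchLib.MonoSubgroup

/-! The centraliser of a torus in a subgroup normalised by it is smooth and connected. -/

set_option backward.isDefEq.respectTransparency false
set_option backward.isDefEq.respectTransparency.types false
set_option linter.style.haveILetI false

universe u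

open CategoryTheory MonoidalCategory CartesianMonoidalCategory MonObj AlgebraicGeometry

namespace Groth.Agent.SolvGrp

open GrpSchLib GrpSchLib.Kunneth GrpSchLib.LineGroups WeilCmp.Unip AGFLib AGFLib.Gen AGFLib.BorelFixed AGFLib.BorelExist

section General

variable {k : Type u} [Field k] {G S C H I : Over (Spec (CommRingCat.of k))} [GrpObj G] [GrpObj S] [GrpObj C] [GrpObj H]

/-- The centraliser of a torus in a smooth subgroup normalised by it is smooth. -/
theorem smooth_centInter [IsAffine G.left] [Smooth G.hom] (iS : S ⟶ G) [IsMonHom iS] (hS : Red.IsTorus S)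
    (c : C ⟶ G) (hc : Red.IsCentralizerOf iS c) (j : H ⟶ G) [IsMonHom j] [IsClosedImmersion j.left] [Smooth H.hom]
    (hnorm : ∀ (X : Over (Spec (CommRingCat.of k))) (s : X ⟶ S) (h : X ⟶ H), ∃ h' : X ⟶ H,
      (s ≫ iS) * (h ≫ j) * (s ≫ iS)⁻¹ = h' ≫ j)
    (p : I ⟶ C) (q : I ⟶ H) (hI : IsPullback p q c j) : Smooth I.hom := by
  haveI := hc.1
  haveI := hc.2.1
  haveI : Mono j := (Over.forget _).mono_of_mono_map (inferInstanceAs (Mono j.left))
  haveI : IsAffine H.left := isAffine_of_isAffineHom j.left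
  obtain ⟨hclc, hsC, haC⟩ := centralizer_props hS hc
  haveI := hclc
  haveI := hsC
  haveI : LocallyOfFinitePresentation c.left := by
    haveI : LocallyOfFinitePresentation (c.left ≫ G.hom) := by rw [Over.w c]; infer_instance
    exact AlgSpPts.locallyOfFinitePresentation_of_comp c.left G.hom
  haveI : IsClosedImmersion q.left :=
    MorphismProperty.of_isPullback (P := @IsClosedImmersion) (hI.map (Over.forget _)) ‹IsClosedImmersion c.left›
  haveI : LocallyOfFinitePresentation q.left :=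
    MorphismProperty.of_isPullback (P := @LocallyOfFinitePresentation) (hI.map (Over.forget _))
      ‹LocallyOfFinitePresentation c.left›
  obtain ⟨a, ha⟩ := hnorm (S ⊗ H) (fst S H) (snd S H)
  have hact : ∀ {X : Over (Spec (CommRingCat.of k))} (s : X ⟶ S) (h : X ⟶ H),
      (lift s h ≫ a) ≫ j = (s ≫ iS) * (h ≫ j) * (s ≫ iS)⁻¹ := fun s h => by
    rw [Category.assoc, ← ha, MonObj.comp_mul, MonObj.comp_mul, GrpObj.comp_inv, lift_fst_assoc, lift_snd_assoc]
  have hone : (η[S] ▷ H) ≫ a = (λ_ H).hom := by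
    rw [← cancel_mono j]
    have e : (η[S] ▷ H) = lift (toUnit _ ≫ η[S]) (snd (𝟙_ _) H) := by
      apply CartesianMonoidalCategory.hom_ext
      · rw [whiskerRight_fst, lift_fst, toUnit_unique (fst (𝟙_ _) H) (toUnit _)]
      · rw [whiskerRight_snd, lift_snd]
    rw [e, hact, leftUnitor_hom, ← Hom.one_def, MonObj.one_comp, inv_one, _root_.one_mul, _root_.mul_one]
  have hmul : (μ[S] ▷ H) ≫ a = (α_ S S H).hom ≫ (S ◁ a) ≫ a := by
    rw [← cancel_mono j]
    have e1 : (μ[S] ▷ H) = lift ((fst (S ⊗ S) H ≫ fst S S) * (fst (S ⊗ S) H ≫ snd S S)) (snd (S ⊗ S) H) := by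
      apply CartesianMonoidalCategory.hom_ext
      · rw [whiskerRight_fst, lift_fst, ← MonObj.comp_mul, Hom.mul_def, lift_fst_snd, Category.id_comp]
      · rw [whiskerRight_snd, lift_snd]
    have e2 : (α_ S S H).hom ≫ (S ◁ a) = lift (fst (S ⊗ S) H ≫ fst S S)
        (lift (fst (S ⊗ S) H ≫ snd S S) (snd (S ⊗ S) H) ≫ a) := by
      apply CartesianMonoidalCategory.hom_ext
      · rw [Category.assoc, whiskerLeft_fst, lift_fst, associator_hom_fst]
      · rw [Category.assoc, whiskerLeft_snd, lift_snd, ← Category.assoc]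
        congr 1
        apply CartesianMonoidalCategory.hom_ext
        · rw [Category.assoc, associator_hom_snd_fst, lift_fst]
        · rw [Category.assoc, associator_hom_snd_snd, lift_snd]
    rw [← Category.assoc (α_ S S H).hom, e2, e1, hact, hact, hact, MonObj.mul_comp]
    group
  let act : AlgGrp.Action S H := ⟨a, hone, hmul⟩
  haveI : IsSeparated H.hom := inferInstance
  refine MultTypeLib.FixedSmooth.smooth_fixed (TorusQI.isMultTypeFT_of_isTorus hS) act I q fun T x => ?_
  constructor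
  · rintro ⟨y, rfl⟩ T' e g
    have h1 := (hc.2.2 _ (y ≫ p ≫ c)).mp ⟨y ≫ p, Category.assoc _ _ _⟩ T' e g
    rw [hI.w] at h1
    rw [← cancel_mono j, hact]
    simp only [Category.assoc] at h1 ⊢
    rw [← h1, mul_inv_cancel_right]
  · intro hx
    obtain ⟨w, hw⟩ := (hc.2.2 T (x ≫ j)).mpr fun X' e h => by
      have h1 := congrArg (· ≫ j) (hx X' e h)
      simp only [act] at h1
      rw [hact, Category.assoc, mul_inv_eq_iff_eq_mul] at h1
      exact h1.symm
    exact ⟨hI.lift w x hw, hI.lift_snd _ _ _⟩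

end General

section AlgClosed

variable {k : Type u} [Field k] [IsAlgClosed k]

local notation "PT" => 𝟙_ (Over (Spec (CommRingCat.of k)))

variable {G S C H I : Over (Spec (CommRingCat.of k))} [GrpObj G] [GrpObj S] [GrpObj C] [GrpObj H]

/-- The centraliser of a torus in a connected subgroup normalised by it is connected. -/
theorem connectedSpace_centInter [IsAffine G.left] [Smooth G.hom] (iS : S ⟶ G) [IsMonHom iS] (hS : Red.IsTorus S)
    (c : C ⟶ G) (hc : Red.IsCentralizerOf iS c) (j : H ⟶ G) [IsMonHom j] [IsClosedImmersion j.left] [Smooth H.hom]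
    [ConnectedSpace H.left]
    (hnorm : ∀ (X : Over (Spec (CommRingCat.of k))) (s : X ⟶ S) (h : X ⟶ H), ∃ h' : X ⟶ H,
      (s ≫ iS) * (h ≫ j) * (s ≫ iS)⁻¹ = h' ≫ j)
    (p : I ⟶ C) (q : I ⟶ H) (hI : IsPullback p q c j) : ConnectedSpace I.left := by
  haveI := hc.1
  haveI := hc.2.1
  haveI : Mono j := (Over.forget _).mono_of_mono_map (inferInstanceAs (Mono j.left))
  haveI : IsAffine H.left := isAffine_of_isAffineHom j.left
  obtain ⟨hclc, hsC, -⟩ := centralizer_props hS hc
  haveI := hclc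
  obtain ⟨haS, hsS, hcS, -⟩ := torus_props hS
  haveI := haS
  haveI := hsS
  haveI := hcS
  have hSc : ∀ {X : Over (Spec (CommRingCat.of k))} (a b : X ⟶ S), a * b = b * a := fun a b =>
    GrpSchLib.MultTypeComm.points_comm (TorusQI.isMultTypeFT_of_isTorus hS) a b
  -- the semidirect product inside `G ⊗ S`, on a copy `E` of `H ⊗ S`
  obtain ⟨E, φ, -⟩ : ∃ (E : Over (Spec (CommRingCat.of k))) (_ : E ≅ H ⊗ S), True := ⟨_, Iso.refl _, trivial⟩
  let pH : E ⟶ H := φ.hom ≫ fst H S
  let pS : E ⟶ S := φ.hom ≫ snd H S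
  let mk : ∀ {T : Over (Spec (CommRingCat.of k))}, (T ⟶ H) → (T ⟶ S) → (T ⟶ E) := fun a b => lift a b ≫ φ.inv
  have hmkH : ∀ {T : Over (Spec (CommRingCat.of k))} (a : T ⟶ H) (b : T ⟶ S), mk a b ≫ pH = a := fun a b => by
    simp [mk, pH]
  have hmkS : ∀ {T : Over (Spec (CommRingCat.of k))} (a : T ⟶ H) (b : T ⟶ S), mk a b ≫ pS = b := fun a b => by
    simp [mk, pS]
  have hext : ∀ {T : Over (Spec (CommRingCat.of k))} (x y : T ⟶ E), x ≫ pH = y ≫ pH → x ≫ pS = y ≫ pS → x = y :=
    fun x y h1 h2 => by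
    rw [← cancel_mono φ.hom]
    exact CartesianMonoidalCategory.hom_ext _ _ (by simpa [pH] using h1) (by simpa [pS] using h2)
  let e : E ⟶ G ⊗ S := lift ((pH ≫ j) * (pS ≫ iS)) pS
  have he : ∀ {X : Over (Spec (CommRingCat.of k))} (h : X ⟶ H) (s : X ⟶ S),
      mk h s ≫ e = lift ((h ≫ j) * (s ≫ iS)) s := fun h s => by
    simp only [e, comp_lift, MonObj.comp_mul]
    rw [← Category.assoc (mk h s) pH, ← Category.assoc (mk h s) pS, hmkH, hmkS]
  haveI : Mono e := ⟨fun a b h => by
    have h1 : a ≫ pS = b ≫ pS := by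
      have := congrArg (· ≫ snd G S) h
      simpa only [e, Category.assoc, lift_snd] using this
    have h2 := congrArg (· ≫ fst G S) h
    simp only [e, Category.assoc, lift_fst, MonObj.comp_mul] at h2
    rw [← Category.assoc a pS, ← Category.assoc b pS, h1] at h2
    exact hext _ _ ((cancel_mono j).mp (by simpa only [Category.assoc] using mul_right_cancel h2)) h1⟩
  obtain ⟨b₁, hb₁⟩ := hnorm (E ⊗ E) (fst E E ≫ pS) (snd E E ≫ pH)
  obtain ⟨b₂, hb₂⟩ := hnorm E pS⁻¹ pH⁻¹
  have hμ : mk ((fst E E ≫ pH) * b₁) ((fst E E ≫ pS) * (snd E E ≫ pS)) ≫ e =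
      (fst E E ≫ e) * (snd E E ≫ e) := by
    rw [he]
    apply CartesianMonoidalCategory.hom_ext
    · simp only [e, lift_fst, MonObj.mul_comp, MonObj.comp_mul, Category.assoc] at hb₁ ⊢
      rw [← hb₁]
      group
    · simp only [e, lift_snd, MonObj.mul_comp, Category.assoc]
  have hι : mk b₂ pS⁻¹ ≫ e = e⁻¹ := by
    rw [he]
    apply CartesianMonoidalCategory.hom_ext
    · simp only [e, lift_fst, GrpObj.inv_comp, _root_.mul_inv_rev, ← hb₂, _root_.inv_inv]
      group
    · simp only [e, lift_snd, GrpObj.inv_comp]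
  have hone : mk (η[H]) (η[S]) ≫ e = η[G ⊗ S] := by
    rw [he, IsMonHom.one_hom j, IsMonHom.one_hom iS, MonObj.one_eq_one, _root_.mul_one]
    apply CartesianMonoidalCategory.hom_ext
    · rw [lift_fst, MonObj.one_eq_one, MonObj.one_comp]
    · rw [lift_snd, MonObj.one_eq_one, MonObj.one_eq_one, MonObj.one_comp]
  obtain ⟨strP, he'⟩ := exists_grpObj_of_mono e _ hone _ hμ _ hι
  letI := strP
  haveI : IsMonHom e := he'
  haveI := Adjoint.geometricallyIrreducible (G := H)
  haveI := Adjoint.geometricallyIrreducible (G := S)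
  haveI : IrreducibleSpace S.left := Groth.Agent.S0348.result k S
  haveI : IsIso φ.hom.left := ((Over.forget _).mapIso φ).isIso_hom
  haveI : Smooth (H ⊗ S).hom := inferInstanceAs (Smooth (Limits.pullback.fst H.hom S.hom ≫ H.hom))
  haveI : IsAffine (H ⊗ S).left := inferInstanceAs (IsAffine (Limits.pullback H.hom S.hom))
  haveI : IrreducibleSpace (H ⊗ S).left := by
    haveI : UniversallyOpen H.hom := inferInstance
    exact GeometricallyIrreducible.irreducibleSpace (f := Limits.pullback.snd H.hom S.hom)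
      (Limits.pullback.snd H.hom S.hom).isOpenMap
  haveI : Smooth E.hom := by rw [← Over.w φ.hom]; infer_instance
  haveI : IsAffine E.left := .of_isIso φ.hom.left
  haveI : IrreducibleSpace E.left := φ.hom.left.homeomorph.irreducibleSpace_iff.mpr ‹_›
  haveI : ConnectedSpace E.left := inferInstance
  let i : S ⟶ E := mk 1 (𝟙 S)
  have hie : i ≫ e = lift iS (𝟙 S) := by
    rw [he, MonObj.one_comp, _root_.one_mul, Category.id_comp]
  haveI : IsMonHom i := AGFLib.isMonHom_of_mul i fun X a b => by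
    have hx : ∀ x : X ⟶ S, (x ≫ i) ≫ e = lift (x ≫ iS) x := fun x => by
      rw [Category.assoc, hie, comp_lift, Category.comp_id]
    rw [← cancel_mono e, MonObj.mul_comp (a ≫ i) (b ≫ i) e, hx, hx, hx]
    apply CartesianMonoidalCategory.hom_ext <;> simp [MonObj.mul_comp]
  obtain ⟨D, _, d, hd, hcd, hsD, hcD, hD⟩ := exists_connSub_torusCent i hS
  obtain ⟨-, hlD, -, -, -⟩ := sub_props d
  haveI := hcD
  haveI := hlD
  haveI : IsClosedImmersion q.left :=
    MorphismProperty.of_isPullback (P := @IsClosedImmersion) (hI.map (Over.forget _)) ‹IsClosedImmersion c.left›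
  haveI : LocallyOfFiniteType I.hom := by rw [← Over.w q]; infer_instance
  -- the points of the intersection
  have hpts : ∀ h : PT ⟶ H, (∃ y : PT ⟶ I, y ≫ q = h) ↔ ∃ z : PT ⟶ D, z ≫ d ≫ pH = h := by
    intro h
    constructor
    · rintro ⟨y, rfl⟩
      have hy : (y ≫ p) ≫ c = (y ≫ q) ≫ j := by rw [Category.assoc, Category.assoc, hI.w]
      have h1 : (y ≫ q) ≫ j ∈ rangePts c := ⟨y ≫ p, hy⟩
      obtain ⟨z, hz⟩ := (hD (mk (y ≫ q) 1)).mpr (by
        rintro _ ⟨s, rfl⟩
        show mk (y ≫ q) 1 * (s ≫ i) = (s ≫ i) * mk (y ≫ q) 1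
        rw [← cancel_mono e, MonObj.mul_comp, MonObj.mul_comp, he, Category.assoc s i e, hie, MonObj.one_comp, _root_.mul_one]
        have hcomm := ((mem_centralizer_pts iS hS hc _).mp h1 _ ⟨s, rfl⟩).eq
        apply CartesianMonoidalCategory.hom_ext
        · simpa [MonObj.mul_comp] using hcomm
        · simp [MonObj.mul_comp])
      exact ⟨z, by rw [← Category.assoc]; exact (congrArg (· ≫ pH) hz).trans (hmkH _ _)⟩
    · rintro ⟨z, rfl⟩
      have h1 : (z ≫ d ≫ pH) ≫ j ∈ rangePts c := (mem_centralizer_pts iS hS hc _).mpr (by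
        rintro _ ⟨s, rfl⟩
        have h2 := congrArg (· ≫ e) ((hD (z ≫ d)).mp ⟨z, rfl⟩ _ ⟨s, rfl⟩).eq
        simp only [MonObj.mul_comp] at h2
        have e1 : (z ≫ d) ≫ e = lift (((z ≫ d ≫ pH) ≫ j) * ((z ≫ d ≫ pS) ≫ iS)) (z ≫ d ≫ pS) := by
          rw [← he]
          congr 1
          exact hext _ _ (by rw [hmkH, Category.assoc]) (by rw [hmkS, Category.assoc])
        have e2 : (s ≫ i) ≫ e = lift (s ≫ iS) s := by
          rw [Category.assoc, hie, comp_lift, Category.comp_id]
        rw [e1, e2] at h2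
        have h3 := congrArg (· ≫ fst G S) h2
        simp only [MonObj.mul_comp, lift_fst] at h3
        show (z ≫ d ≫ pH) ≫ j * (s ≫ iS) = (s ≫ iS) * ((z ≫ d ≫ pH) ≫ j)
        have h4 : (z ≫ d ≫ pS) ≫ iS * (s ≫ iS) = (s ≫ iS) * ((z ≫ d ≫ pS) ≫ iS) := by
          rw [← MonObj.mul_comp, ← MonObj.mul_comp, hSc]
        refine mul_right_cancel (b := (z ≫ d ≫ pS) ≫ iS) ?_
        rw [_root_.mul_assoc _ (s ≫ iS), ← h4, ← _root_.mul_assoc, h3, _root_.mul_assoc])
      obtain ⟨w, hw⟩ := h1
      exact ⟨hI.lift w _ hw, hI.lift_snd _ _ _⟩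
  -- connectedness
  let A : Set H.left := Set.range (d ≫ pH).left
  have hA : _root_.IsConnected A := isConnected_range (d ≫ pH).left.continuous
  have hsub : A ⊆ Set.range q.left := by
    haveI : JacobsonSpace D.left := LocallyOfFiniteType.jacobsonSpace D.hom
    have h1 : (d ≫ pH).left ⁻¹' Set.range q.left = Set.univ :=
      eq_univ_of_forall_cp (q.left.isClosedEmbedding.isClosed_range.preimage (d ≫ pH).left.continuous) fun z => by
        obtain ⟨y, hy⟩ := (hpts (z ≫ d ≫ pH)).mpr ⟨z, rfl⟩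
        exact ⟨cp y, (congrArg (fun m : PT ⟶ H => cp m) hy :)⟩
    rintro _ ⟨x, rfl⟩
    exact h1.ge (Set.mem_univ x)
  have hsub' : Set.range q.left ⊆ closure A := by
    have h1 : q.left ⁻¹' closure A = Set.univ :=
      eq_univ_of_forall_cp (isClosed_closure.preimage q.left.continuous) fun y => by
        obtain ⟨z, hz⟩ := (hpts (y ≫ q)).mp ⟨y, rfl⟩
        exact subset_closure ⟨cp z, (congrArg (fun m : PT ⟶ H => cp m) hz :)⟩
    rintro _ ⟨x, rfl⟩
    exact h1.ge (Set.mem_univ x)
  have hcl : _root_.IsConnected (Set.range q.left) := hA.subset_closure hsub hsub'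
  rw [← Set.image_univ] at hcl
  exact connectedSpace_iff_univ.mpr
    ⟨hcl.nonempty.of_image, q.left.isClosedEmbedding.toIsEmbedding.isInducing.isPreconnected_image.mp hcl.isPreconnected⟩

end AlgClosed

end Groth.Agent.SolvGrp
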