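import Groth.Agent.SolvGrp.Conj

/-! A torus of a Borel subgroup with unipotent complement is a maximal torus. -/

set_option backward.isDefEq.respectTransparency false
set_option backward.isDefEq.respectTransparency.types false
set_option linter.style.haveILetI false

universe u

open CategoryTheory MonoidalCategory CartesianMonoidalCategory MonObj AlgebraicGeometry
open scoped commutatorElement

namespace Groth.Agent.SolvGrp

open GrpSchLib GrpSchLib.Kunneth GrpSchLib.LineGroups WeilCmp.Unip AGFLib AGFLib.Gen AGFLib.BorelFixed AGFLib.BorelExist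

variable {k : Type u} [Field k] [IsAlgClosed k]

local notation "PT" => 𝟙_ (Over (Spec (CommRingCat.of k)))

variable {G : Over (Spec (CommRingCat.of k))} [GrpObj G] [IsAffine G.left] [Smooth G.hom]

theorem comp_conjM_pt (g x : PT ⟶ G) : x ≫ AGFLib.Borel.conjM g = g * x * g⁻¹ := by
  rw [AGFLib.Borel.comp_conjM, toUnit_unique (toUnit PT) (𝟙 _), Category.id_comp]

theorem IsUnipPt.conj {u : PT ⟶ G} (hu : IsUnipPt u) (b : PT ⟶ G) : IsUnipPt (b * u * b⁻¹) := by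
  haveI : IsReduced G.left := isReduced_of_smooth_field G.hom
  exact comp_conjM_pt b u ▸ (map_isSsPt_isUnipPt (AGFLib.Borel.conjM b) u).2 hu

variable [ConnectedSpace G.left] {B : Over (Spec (CommRingCat.of k))} [GrpObj B] (iB : B ⟶ G) [IsMonHom iB]
  {T : Over (Spec (CommRingCat.of k))} [GrpObj T] (iT : T ⟶ G) [IsMonHom iT]

/-- The tori of a Borel subgroup `B = T·(unipotent)` are conjugate into `T`. -/
theorem exists_conj_into_torus (hB : Red.IsBorelOver k iB) (hT : Red.IsTorus T)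
    (hle : rangePts iT ≤ rangePts iB) (hA : ∀ b ∈ rangePts iB, ∃ t ∈ rangePts iT, IsUnipPt (t⁻¹ * b))
    {S : Over (Spec (CommRingCat.of k))} [GrpObj S] (j : S ⟶ G) [IsMonHom j] (hS : Red.IsTorus S)
    (hSle : rangePts j ≤ rangePts iB) :
    ∃ h ∈ rangePts iB, ∀ s ∈ rangePts j, h * s * h⁻¹ ∈ rangePts iT := by
  haveI : IsReduced G.left := isReduced_of_smooth_field G.hom
  obtain ⟨T₀, _, i, hi, hm₀, -, hT₀, -, hC⟩ := exists_borelTorus iB hB
  haveI := hm₀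
  obtain ⟨b, hb⟩ := hC T iT hT hle
  obtain ⟨b', hb'⟩ := hC S j hS hSle
  have key : ∀ t₀ ∈ rangePts (i ≫ iB), (b ≫ iB)⁻¹ * t₀ * (b ≫ iB) ∈ rangePts iT := by
    intro t₀ ht₀
    have hy : (b ≫ iB)⁻¹ * t₀ * (b ≫ iB) ∈ rangePts iB :=
      mul_mem (mul_mem (inv_mem ⟨b, rfl⟩) (rangePts_comp iB i ht₀)) ⟨b, rfl⟩
    obtain ⟨t, ht, hu⟩ := hA _ hy
    obtain ⟨x, hx⟩ := ht₀
    obtain ⟨x', hx'⟩ := hb t ht
    change x ≫ (i ≫ iB) = t₀ at hx
    change x' ≫ (i ≫ iB) = _ at hx'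
    have hc : Commute ((b ≫ iB) * t * (b ≫ iB)⁻¹) t₀ := by
      rw [← hx, ← hx', Commute, SemiconjBy, ← MonObj.mul_comp, ← MonObj.mul_comp, (torus_commute hT₀ x' x).eq]
    have hc' : Commute t ((b ≫ iB)⁻¹ * t₀ * (b ≫ iB)) := by
      have := hc.map (MulAut.conj (b ≫ iB)⁻¹).toMonoidHom
      simpa [_root_.mul_assoc] using this
    obtain ⟨w, hw⟩ := id ht
    have hts : IsSsPt t := (show w ≫ iT = t from hw) ▸ isSsPt_of_torus hT iT w
    have hys : IsSsPt ((b ≫ iB)⁻¹ * t₀ * (b ≫ iB)) := by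
      have := (hx ▸ isSsPt_of_torus hT₀ (i ≫ iB) x : IsSsPt t₀).conj (b ≫ iB)⁻¹
      rwa [_root_.inv_inv] at this
    have h1 : t⁻¹ * ((b ≫ iB)⁻¹ * t₀ * (b ≫ iB)) = 1 :=
      eq_one_of_isSsPt_isUnipPt (hts.inv.mul hys hc'.inv_left) hu
    rwa [← inv_mul_eq_one.mp h1]
  refine ⟨(b ≫ iB)⁻¹ * (b' ≫ iB), mul_mem (inv_mem ⟨b, rfl⟩) ⟨b', rfl⟩, fun s hs => ?_⟩
  simpa [_root_.mul_assoc] using key _ (hb' s hs)

/-- In a Borel subgroup, every element is a point of a given maximal torus times a unipotent one. -/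
theorem maxTorus_complement (hB : Red.IsBorelOver k iB) (hT : AGF.IsMaxTorus iT) (hle : rangePts iT ≤ rangePts iB)
    {b : PT ⟶ G} (hb : b ∈ rangePts iB) : ∃ t ∈ rangePts iT, IsUnipPt (t⁻¹ * b) := by
  haveI : IsReduced G.left := isReduced_of_smooth_field G.hom
  haveI : IsClosedImmersion iB.left := hB.2.1
  haveI : Smooth B.hom := hB.2.2.1
  obtain ⟨haffB, hlftB, -, -, -⟩ := sub_props iB
  haveI := haffB
  haveI := hlftB
  haveI : IsReduced B.left := isReduced_of_smooth_field B.hom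
  obtain ⟨T₀, _, i, hi, hm₀, hmono₀, hT₀, hA, hC⟩ := exists_borelTorus iB hB
  haveI := hm₀
  haveI := hmono₀
  obtain ⟨-, hmonoT, hTt, hmax⟩ := id hT
  haveI := hmonoT
  obtain ⟨c, hc⟩ := hC T iT hTt hle
  haveI : IsMonHom (AGF.conjBy (c ≫ iB)⁻¹ (i ≫ iB)) := by rw [AGFLib.Borel.conjBy_eq]; infer_instance
  haveI : Mono (AGF.conjBy (c ≫ iB)⁻¹ (i ≫ iB)) := by rw [AGFLib.Borel.conjBy_eq]; exact mono_comp (i ≫ iB) _
  obtain ⟨φ, hφ⟩ := maxTorus_unique iT hT hT₀ (AGF.conjBy (c ≫ iB)⁻¹ (i ≫ iB)) fun s hs => by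
    rw [rangePts_conjBy, _root_.inv_inv]
    exact hc s hs
  obtain ⟨y, rfl⟩ := hb
  obtain ⟨_, ⟨x, rfl⟩, hu⟩ := hA (c * y * c⁻¹)
  change IsUnipPt ((x ≫ i)⁻¹ * (c * y * c⁻¹)) at hu
  have hu' : IsUnipPt (((x ≫ i) ≫ iB)⁻¹ * ((c ≫ iB) * (y ≫ iB) * (c ≫ iB)⁻¹)) := by
    have := (map_isSsPt_isUnipPt iB _).2 hu
    rwa [MonObj.mul_comp, MonObj.mul_comp, MonObj.mul_comp, GrpObj.inv_comp, GrpObj.inv_comp] at this
  refine ⟨(c ≫ iB)⁻¹ * ((x ≫ i) ≫ iB) * (c ≫ iB), ⟨x ≫ φ.inv, ?_⟩, ?_⟩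
  · show (x ≫ φ.inv) ≫ iT = _
    rw [← hφ, Category.assoc, Iso.inv_hom_id_assoc, AGFLib.Borel.conjBy_eq, ← Category.assoc, comp_conjM_pt,
      _root_.inv_inv, ← Category.assoc]
  · show IsUnipPt (((c ≫ iB)⁻¹ * ((x ≫ i) ≫ iB) * (c ≫ iB))⁻¹ * (y ≫ iB))
    have := hu'.conj (c ≫ iB)⁻¹
    rw [_root_.inv_inv] at this
    convert this using 1
    group

/-- A torus of a Borel subgroup with unipotent complement is a maximal torus. -/
theorem isMaxTorus_of_borel [Mono iT] (hB : Red.IsBorelOver k iB) (hT : Red.IsTorus T)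
    (hle : rangePts iT ≤ rangePts iB) (hA : ∀ b ∈ rangePts iB, ∃ t ∈ rangePts iT, IsUnipPt (t⁻¹ * b)) :
    AGF.IsMaxTorus iT := by
  haveI : IsReduced G.left := isReduced_of_smooth_field G.hom
  refine ⟨inferInstance, inferInstance, hT, fun S _ j _ _ f hS hf => ?_⟩
  obtain ⟨hcS, hsmS, hconnS, -, -, hqS, hsolv⟩ := torus_sub hS j
  haveI := hcS
  haveI := hsmS
  haveI := hconnS
  haveI := hqS
  obtain ⟨hcT, hsmT, -, -, hlT, -, -⟩ := torus_sub hT iT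
  haveI := hcT
  haveI := hlT
  haveI := hsmT
  obtain ⟨B'', _, iB'', hm'', hB'', hle''⟩ := exists_borel_containing j hsolv
  haveI := hm''
  obtain ⟨g, e, he⟩ := AGFLib.Borel.conjugate iB'' iB hB'' hB
  haveI : IsMonHom (AGF.conjBy g j) := by rw [AGFLib.Borel.conjBy_eq]; infer_instance
  have hgle : rangePts (AGF.conjBy g j) ≤ rangePts iB := by
    rintro _ ⟨x, rfl⟩
    obtain ⟨y, hy⟩ := hle'' (⟨x, rfl⟩ : x ≫ j ∈ rangePts j)
    refine ⟨y ≫ e.hom, ?_⟩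
    show (y ≫ e.hom) ≫ iB = x ≫ AGF.conjBy g j
    rw [Category.assoc, he, AGFLib.Borel.conjBy_eq, AGFLib.Borel.conjBy_eq, ← Category.assoc,
      show y ≫ iB'' = x ≫ j from hy, Category.assoc]
  obtain ⟨h, -, hh⟩ := exists_conj_into_torus iB iT hB hT hle hA (AGF.conjBy g j) hS hgle
  haveI : IsMonHom (AGF.conjBy (h * g) j) := by rw [AGFLib.Borel.conjBy_eq]; infer_instance
  obtain ⟨φ, -, hφ⟩ := exists_fac_sub iT (AGF.conjBy (h * g) j) (by
    rintro _ ⟨x, rfl⟩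
    have h1 := hh _ (⟨x, rfl⟩ : x ≫ AGF.conjBy g j ∈ rangePts (AGF.conjBy g j))
    show x ≫ AGF.conjBy (h * g) j ∈ rangePts iT
    rw [AGFLib.Borel.conjBy_eq, ← Category.assoc, comp_conjM_pt] at h1 ⊢
    simpa [_root_.mul_assoc] using h1)
  have hψ : (φ ≫ f) ≫ j = j ≫ AGFLib.Borel.conjM (h * g) := by
    rw [Category.assoc, hf, hφ, AGFLib.Borel.conjBy_eq]
  haveI : IsClosedImmersion ((φ ≫ f).left ≫ j.left) := by
    rw [← Over.comp_left, hψ, Over.comp_left]; infer_instance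
  haveI : IsClosedImmersion (φ ≫ f).left := IsClosedImmersion.of_comp _ j.left
  haveI : IsIso (φ ≫ f) := AGFLib.Borel.isIso_endo (φ ≫ f)
  haveI : Mono (f ≫ j) := hf.symm ▸ inferInstance
  haveI : Mono f := mono_of_mono f j
  haveI : IsSplitEpi f := IsSplitEpi.mk' ⟨inv (φ ≫ f) ≫ φ, by simp⟩
  exact isIso_of_mono_of_isSplitEpi f

end Groth.Agent.SolvGrp
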