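import Groth.Agent.SolvGrp.BC
import Groth.Agent.SolvGrp.Fibre
import Groth.Agent.SolvGrp.Cent

/-! Descent of tori and of normality along the geometric point of a field. -/

set_option backward.isDefEq.respectTransparency false
set_option backward.isDefEq.respectTransparency.types false
set_option linter.style.haveILetI false

universe u

open CategoryTheory MonoidalCategory CartesianMonoidalCategory MonObj AlgebraicGeometry

namespace Groth.Agent.SolvGrp

open GrpSchLib AVTors

section
variable {S S' : Scheme.{u}} (σ : S' ⟶ S)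

/-- Normality is stable under base change. -/
theorem isNormalHom_bc {H G : Over S} [GrpObj H] [GrpObj G] (i : H ⟶ G) (hi : AlgGrp.IsNormalHom i) :
    AlgGrp.IsNormalHom ((Over.pullback σ).map i) := by
  intro X g' n'
  obtain ⟨g, rfl⟩ := (bcPts σ X G).surjective g'
  obtain ⟨n, rfl⟩ := (bcPts σ X H).surjective n'
  obtain ⟨m, hm⟩ := hi _ g n
  refine ⟨bcPts σ X H m, ?_⟩
  rw [← bcPts_comp, ← bcPts_comp, ← map_inv, ← map_mul, ← map_mul, hm]

end

variable {k : Type u} [Field k]

/-- A group becoming a torus over an algebraic closure is a torus. -/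
theorem isTorus_of_geomFibre {H : Over (Spec (CommRingCat.of k))} [GrpObj H] (s : Spec (CommRingCat.of k))
    (h : Red.IsTorus (Red.geomFibre s H)) : Red.IsTorus H := by
  obtain ⟨S', f, hflat, hsurj, hqc, hloc⟩ := h
  haveI := AGFLib.GeomBC.surjective_geomPt s
  haveI := AGFLib.GeomBC.flat_geomPt s
  haveI := hflat
  haveI := hsurj
  refine ⟨S', f ≫ Red.geomPt s, inferInstance, inferInstance, fun V hV => ?_, fun s' => ?_⟩
  · let V' : (Spec (CommRingCat.of (AlgebraicClosure ((Spec (CommRingCat.of k)).residueField s)))).Opens :=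
      Red.geomPt s ⁻¹ᵁ V
    haveI := AGFLib.GeomBC.isIntegralHom_geomPt s
    obtain ⟨W, hW, hWV⟩ := hqc V' (hV.preimage (Red.geomPt s))
    refine ⟨W, hW, ?_⟩
    have e : (f ≫ Red.geomPt s).base '' (W : Set S') = (Red.geomPt s).base '' (f.base '' (W : Set S')) := by
      rw [← Set.image_comp]; rfl
    rw [e, hWV]
    exact Set.image_preimage_eq _ (Red.geomPt s).surjective
  · obtain ⟨U, hU, r, ⟨e⟩⟩ := hloc s'
    obtain ⟨e₁⟩ := MultTypeBC.bc_congr (show U.ι ≫ f ≫ Red.geomPt s = (U.ι ≫ f) ≫ Red.geomPt s from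
      (Category.assoc _ _ _).symm) H
    obtain ⟨e₂⟩ := MultTypeBC.bc_bc (U.ι ≫ f) (Red.geomPt s) H
    exact ⟨U, hU, r, ⟨e₁ ≪≫ e₂.symm ≪≫ e⟩⟩

/-- A scheme over a field which is trivial on a geometric fibre is trivial. -/
theorem isTrivialGrp_of_geomFibre {H : Over (Spec (CommRingCat.of k))} (s : Spec (CommRingCat.of k))
    (h : IsIso (Red.geomFibre s H).hom) : Red.IsTrivialGrp H := by
  haveI := AGFLib.GeomBC.surjective_geomPt s
  haveI := AGFLib.GeomBC.flat_geomPt s
  haveI := AGFLib.GeomBC.isIntegralHom_geomPt s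
  have h1 : MorphismProperty.isomorphisms Scheme (Limits.pullback.snd H.hom (Red.geomPt s)) := h
  exact MorphismProperty.of_pullback_snd_of_descendsAlong
    (P := MorphismProperty.isomorphisms Scheme) (Q := @Surjective ⊓ @Flat ⊓ @QuasiCompact)
    ⟨⟨inferInstance, inferInstance⟩, inferInstance⟩ h1

end Groth.Agent.SolvGrp
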