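import Groth.Agent.SolvGrp.Reductive5
import Groth.Agent.SolvGrp.BC
import Groth.Agent.SolvGrp.Cent
import Groth.Agent.SolvGrp.Descent
import Groth.Agent.GrpSchLib.ImageFactor
import Groth.Agent.GrpSchLib.QuotAffine
import Groth.Agent.GrpSchLib.HomFlat
import Groth.Agent.GrpSchLib.MultTypeComm
import Groth.Agent.S3927
import Groth.Agent.S5247

/-! Maximal tori under central isogenies. -/

set_option backward.isDefEq.respectTransparency false
set_option backward.isDefEq.respectTransparency.types false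
set_option linter.style.haveILetI false

universe u

open CategoryTheory MonoidalCategory CartesianMonoidalCategory MonObj AlgebraicGeometry

namespace Groth.Agent.SolvGrp

open GrpSchLib GrpSchLib.Kunneth GrpSchLib.LineGroups WeilCmp.Unip AGFLib AGFLib.Gen AGFLib.BorelFixed AGFLib.BorelExist

variable {k : Type u} [Field k]

/-- A self-centralising torus is the preimage of its image when the kernel is central. -/
theorem isPullback_of_selfCent {G H S T : Over (Spec (CommRingCat.of k))} [GrpObj G] [GrpObj H] [GrpObj S] [GrpObj T]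
    (f : G ⟶ H) [IsMonHom f] (j : S ⟶ G) (hS : Red.IsCentralizerOf j j) (hSc : ∀ (X : Over (Spec (CommRingCat.of k))) (a b : X ⟶ S), a * b = b * a)
    (i : T ⟶ H) [Mono i] (p : S ⟶ T) [Flat p.left] [Surjective p.left] [QuasiCompact p.left] (hp : p ≫ i = j ≫ f)
    (hcen : ∀ (X : Over (Spec (CommRingCat.of k))) (z g : X ⟶ G), z ≫ f = 1 → z * g = g * z) :
    IsPullback j p f i := by
  haveI := hS.1
  haveI := hS.2.1
  have key : ∀ {X : Over (Spec (CommRingCat.of k))} (g : X ⟶ G) (t : X ⟶ T), g ≫ f = t ≫ i → ∃ s : X ⟶ S, s ≫ j = g := by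
    intro X g t hgt
    refine (hS.2.2 X g).mpr fun X'' x h => ?_
    let c := Limits.pullback.fst (x ≫ t).left p.left
    let Y : Over (Spec (CommRingCat.of k)) := Over.mk (c ≫ X''.hom)
    let e : Y ⟶ X'' := Over.homMk c rfl
    let s : Y ⟶ S := Over.homMk (Limits.pullback.snd (x ≫ t).left p.left) (by
      show Limits.pullback.snd (x ≫ t).left p.left ≫ S.hom = c ≫ X''.hom
      rw [← Over.w p, ← Limits.pullback.condition_assoc, Over.w (x ≫ t)])
    have hs : e ≫ x ≫ t = s ≫ p := Over.OverMorphism.ext Limits.pullback.condition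
    haveI : Flat e.left := inferInstanceAs (Flat (Limits.pullback.fst (x ≫ t).left p.left))
    haveI : Surjective e.left := inferInstanceAs (Surjective (Limits.pullback.fst (x ≫ t).left p.left))
    haveI : QuasiCompact e.left := inferInstanceAs (QuasiCompact (Limits.pullback.fst (x ≫ t).left p.left))
    haveI : Epi e.left := Flat.epi_of_flat_of_surjective _
    haveI : Epi e := Over.epi_of_epi_left _
    have hz : ((s ≫ j)⁻¹ * (e ≫ x ≫ g)) ≫ f = 1 := by
      rw [MonObj.mul_comp, GrpObj.inv_comp, Category.assoc s j f, ← hp, reassoc_of% hs.symm,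
        Category.assoc, Category.assoc, hgt, inv_mul_cancel]
    have h1 := hcen Y _ (e ≫ h ≫ j) hz
    have h2 : (s ≫ j) * ((e ≫ h) ≫ j) = ((e ≫ h) ≫ j) * (s ≫ j) := by
      rw [← MonObj.mul_comp, ← MonObj.mul_comp, hSc]
    rw [Category.assoc] at h2
    rw [← cancel_epi e, MonObj.comp_mul, MonObj.comp_mul]
    calc (e ≫ x ≫ g) * (e ≫ h ≫ j) = (s ≫ j) * (((s ≫ j)⁻¹ * (e ≫ x ≫ g)) * (e ≫ h ≫ j)) := by group
      _ = (s ≫ j) * ((e ≫ h ≫ j) * ((s ≫ j)⁻¹ * (e ≫ x ≫ g))) := by rw [h1]
      _ = ((s ≫ j) * (e ≫ h ≫ j)) * ((s ≫ j)⁻¹ * (e ≫ x ≫ g)) := by group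
      _ = ((e ≫ h ≫ j) * (s ≫ j)) * ((s ≫ j)⁻¹ * (e ≫ x ≫ g)) := by rw [h2]
      _ = _ := by group
  refine ⟨⟨hp.symm⟩, ⟨Limits.PullbackCone.IsLimit.mk _ (fun c => (key c.fst c.snd c.condition).choose)
    (fun c => (key c.fst c.snd c.condition).choose_spec) (fun c => ?_) (fun c m h1 _ => ?_)⟩⟩
  · rw [← cancel_mono i, Category.assoc, hp, ← Category.assoc, (key c.fst c.snd c.condition).choose_spec, c.condition]
  · rw [← cancel_mono j, h1, (key c.fst c.snd c.condition).choose_spec]

section AlgClosed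

variable [IsAlgClosed k]

local notation "PT" => 𝟙_ (Over (Spec (CommRingCat.of k)))

/-- A maximal torus of a reductive group is its own centraliser. -/
theorem selfCent_of_isMaxTorus {G T : Over (Spec (CommRingCat.of k))} [GrpObj G] [GrpObj T] [IsAffine G.left]
    [Smooth G.hom] [ConnectedSpace G.left] (hG : Red.IsReductiveOver k G) (iT : T ⟶ G) (hT : AGF.IsMaxTorus iT) :
    Red.IsCentralizerOf iT iT := by
  haveI := hT.1
  haveI := hT.2.1
  haveI : IsAffineHom G.hom := isAffineHom_of_isAffine G.hom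
  obtain ⟨Z, _, z, hz, hcz, hsz⟩ := Groth.Agent.S5247.result T G (TorusQI.isMultTypeFT_of_isTorus hT.2.2.1) inferInstance
    inferInstance iT
  haveI := hcz
  haveI := hsz
  haveI := hz.1
  haveI := hz.2.1
  obtain ⟨hcT, -, -, -, hlT, hqT, -⟩ := torus_sub hT.2.2.1 iT
  haveI := hcT
  haveI := hlT
  obtain ⟨φ, -, hφ⟩ := exists_fac_sub iT z fun x hx =>
    mem_torus_of_commute hG iT hT x fun r hr => (mem_centralizer_pts iT hT.2.2.1 hz x).mp hx r hr
  refine ⟨inferInstance, inferInstance, fun X g => ⟨?_, fun h => ?_⟩⟩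
  · rintro ⟨t, rfl⟩ X' x h
    rw [← Category.assoc, ← MonObj.mul_comp, ← MonObj.mul_comp,
      GrpSchLib.MultTypeComm.points_comm (TorusQI.isMultTypeFT_of_isTorus hT.2.2.1) (x ≫ t) h]
  · obtain ⟨w, hw⟩ := (hz.2.2 X g).mpr h
    exact ⟨w ≫ φ, by rw [Category.assoc, hφ, hw]⟩

/-- The image of a torus is a torus. -/
theorem isTorus_of_surjective {S M : Over (Spec (CommRingCat.of k))} [GrpObj S] [GrpObj M] [IsAffine M.left]
    [Smooth M.hom] [ConnectedSpace M.left] (hS : Red.IsTorus S) (p : S ⟶ M) [IsMonHom p] [Surjective p.left] :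
    Red.IsTorus M := by
  obtain ⟨haS, hsS, -, -⟩ := torus_props hS
  haveI := hsS
  haveI := haS
  haveI : IsReduced M.left := isReduced_of_smooth_field M.hom
  refine isTorus_of_unip_trivial fun V _ v _ hcv hsV hcV hV => ?_
  haveI := hcv
  haveI := hsV
  haveI := hcV
  obtain ⟨haV, hlV, -, hmV, -⟩ := sub_props v
  haveI := haV
  haveI := hlV
  haveI := hmV
  haveI : IsReduced V.left := isReduced_of_smooth_field V.hom
  refine isTrivialGrp_of_pts fun x => (cancel_mono v).mp ?_
  rw [MonObj.one_comp]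
  obtain ⟨y, hy⟩ := exists_pt_of_surjective p (x ≫ v)
  refine eq_one_of_isSsPt_isUnipPt ?_ ((map_isSsPt_isUnipPt v x).2 (isUnipPt_of_hasNoSubtorus hV x))
  rw [← hy]
  exact isSsPt_of_torus hS p y

/-- The image of a maximal torus under a surjection is a maximal torus. -/
theorem exists_maxTorus_image {G H S : Over (Spec (CommRingCat.of k))} [GrpObj G] [GrpObj H] [GrpObj S]
    [IsAffine G.left] [Smooth G.hom] [ConnectedSpace G.left] [IsAffine H.left] [Smooth H.hom] [ConnectedSpace H.left]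
    (f : G ⟶ H) [IsMonHom f] [Surjective f.left] (j : S ⟶ G) (hS : AGF.IsMaxTorus j) :
    ∃ (M : Over (Spec (CommRingCat.of k))) (_ : GrpObj M) (m : M ⟶ H) (p : S ⟶ M), IsMonHom p ∧
      AGF.IsMaxTorus m ∧ Flat p.left ∧ Surjective p.left ∧ QuasiCompact p.left ∧ p ≫ m = j ≫ f := by
  haveI := hS.1
  haveI := hS.2.1
  obtain ⟨-, hsS, hcS, haS, hlS, hqS, -⟩ := torus_sub hS.2.2.1 j
  haveI := hsS
  haveI := hcS
  haveI := haS
  obtain ⟨M, _, p, m, hp, hm, hpm, hcl, hfl, hsurj, hlM, hqM⟩ := ImageFactor.exists_image (j ≫ f)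
  haveI := hp
  haveI := hm
  haveI := hcl
  haveI := hfl
  haveI := hsurj
  haveI := hlM
  haveI := hqM
  haveI : Smooth M.hom := smooth_of_quotient p
  haveI : ConnectedSpace M.left := p.left.surjective.connectedSpace p.left.continuous
  haveI : IsAffine M.left := isAffine_of_isAffineHom m.left
  haveI : IsReduced M.left := isReduced_of_smooth_field M.hom
  haveI : QuasiCompact p.left := by
    haveI := AntiAffine.isSeparated_grp M
    haveI : QuasiCompact (p.left ≫ M.hom) := by rw [Over.w p]; infer_instance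
    exact QuasiCompact.of_comp p.left M.hom
  exact ⟨M, inferInstance, m, p, hp, Groth.Agent.S3927.result k G H f S j hS M m hcl p hpm, hfl, hsurj,
    inferInstance, hpm⟩

/-- Every maximal torus is the image of one under an isogeny. -/
theorem exists_maxTorus_over {G H T : Over (Spec (CommRingCat.of k))} [GrpObj G] [GrpObj H] [GrpObj T]
    [IsAffine G.left] [Smooth G.hom] [ConnectedSpace G.left] [IsAffine H.left] [Smooth H.hom] [ConnectedSpace H.left]
    (f : G ⟶ H) [IsMonHom f] [Surjective f.left] (hfin : {x : PT ⟶ G | x ≫ f = 1}.Finite) (i : T ⟶ H)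
    (hT : AGF.IsMaxTorus i) :
    ∃ (S : Over (Spec (CommRingCat.of k))) (_ : GrpObj S) (j : S ⟶ G) (p : S ⟶ T), AGF.IsMaxTorus j ∧
      Flat p.left ∧ Surjective p.left ∧ QuasiCompact p.left ∧ p ≫ i = j ≫ f := by
  haveI := hT.1
  haveI := hT.2.1
  haveI : IsReduced G.left := isReduced_of_smooth_field G.hom
  haveI : IsReduced H.left := isReduced_of_smooth_field H.hom
  haveI : QuasiCompact G.hom := inferInstance
  obtain ⟨hclT, hsT, hcT, haT, hlT, hqT, -⟩ := torus_sub hT.2.2.1 i
  haveI := hclT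
  haveI := hsT
  haveI := hcT
  haveI := haT
  haveI := hlT
  haveI := hqT
  let P : Subgroup (PT ⟶ G) := (rangePts i).comap (ptsHom f)
  have hP : PtsClosed (P : Set (PT ⟶ G)) := (ptsClosed_range i).preimage f
  obtain ⟨E, _, e, he, hce, hsE, hcE, haE, hleE, R, hR, -, hcov⟩ := exists_connSub P hP
  haveI := he
  haveI := hce
  haveI := hsE
  haveI := hcE
  haveI := haE
  obtain ⟨-, hlE, hqE, hme, -⟩ := sub_props e
  haveI := hlE
  haveI := hme
  haveI : IsReduced E.left := isReduced_of_smooth_field E.hom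
  have hET : Red.IsTorus E := by
    refine isTorus_of_unip_trivial fun V _ v _ hcv hsV hcV hV => ?_
    haveI := hcv
    haveI := hsV
    haveI := hcV
    obtain ⟨haV, hlV, -, hmV, -⟩ := sub_props v
    haveI := haV
    haveI := hlV
    haveI := hmV
    haveI : IsReduced V.left := isReduced_of_smooth_field V.hom
    have hker : ∀ x : PT ⟶ V, (x ≫ v ≫ e) ≫ f = 1 := fun x => by
      obtain ⟨t, ht⟩ := hleE (⟨x ≫ v, Category.assoc _ _ _⟩ : x ≫ v ≫ e ∈ rangePts e)
      refine eq_one_of_isSsPt_isUnipPt ?_ ?_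
      · rw [show (x ≫ v ≫ e) ≫ f = t ≫ i from ht.symm]
        exact isSsPt_of_torus hT.2.2.1 i t
      · rw [Category.assoc]
        exact (map_isSsPt_isUnipPt ((v ≫ e) ≫ f) x).2 (isUnipPt_of_hasNoSubtorus hV x)
    haveI : Finite (PT ⟶ V) := by
      haveI := hfin.to_subtype
      exact Finite.of_injective (fun x => (⟨x ≫ v ≫ e, hker x⟩ : {x : PT ⟶ G | x ≫ f = 1})) fun a b hab =>
        (cancel_mono (v ≫ e)).mp (congrArg Subtype.val hab)
    exact isTrivialGrp_of_pts fun x => eq_one_of_finite inferInstance x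
  obtain ⟨S, _, j, hj, hjmax, hle⟩ := exists_maxTorus_containing e hET
  obtain ⟨M, _, m, p, hpm, hM, hfl, hsurj, hqc, hp⟩ := exists_maxTorus_image f j hjmax
  haveI := hM.1
  haveI := hM.2.1
  obtain ⟨hclM, hsM, hcM, haM, hlM, hqM, -⟩ := torus_sub hM.2.2.1 m
  haveI := hclM
  haveI := hlM
  haveI := hqM
  have hTM : rangePts i ≤ rangePts m := by
    refine rangePts_le_of_finite i _ (ptsClosed_range m) (ptsHom f '' R) (hR.image _) ?_
    intro y hy
    obtain ⟨x, rfl⟩ := exists_pt_of_surjective f y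
    obtain ⟨r, hr, hx⟩ := hcov x hy
    obtain ⟨s, hs⟩ := hle hx
    refine ⟨_, ⟨r, hr, rfl⟩, s ≫ p, ?_⟩
    show (s ≫ p) ≫ m = (ptsHom f r)⁻¹ * ptsHom f x
    rw [Category.assoc, hp, ← Category.assoc, ← map_inv, ← map_mul, ← hs]
    rfl
  obtain ⟨φ, -, hφ⟩ := exists_fac_sub m i hTM
  haveI : IsIso φ := hT.2.2.2 M m φ hM.2.2.1 hφ
  haveI : IsIso (inv φ).left := inferInstanceAs (IsIso ((Over.forget _).map (inv φ)))
  haveI := hfl
  haveI := hsurj
  haveI := hqc
  refine ⟨S, inferInstance, j, p ≫ inv φ, hjmax, inferInstanceAs (Flat (p.left ≫ (inv φ).left)),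
    inferInstanceAs (Surjective (p.left ≫ (inv φ).left)), inferInstanceAs (QuasiCompact (p.left ≫ (inv φ).left)), ?_⟩
  rw [Category.assoc, ← hφ, IsIso.inv_hom_id_assoc, hp]

end AlgClosed

end Groth.Agent.SolvGrp
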