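import Groth.Agent.AGFLib.QuotProper
import Groth.Agent.AGFLib.GeomBC

/-! Finiteness of a scheme and of its geometric points. -/

set_option backward.isDefEq.respectTransparency false
set_option backward.isDefEq.respectTransparency.types false
set_option linter.style.haveILetI false

universe u

open CategoryTheory MonoidalCategory CartesianMonoidalCategory MonObj AlgebraicGeometry

namespace Groth.Agent.SolvGrp

open AGFLib AGFLib.Gen

variable {k : Type u} [Field k]

/-- A finite scheme over a field has finitely many rational points. -/
theorem finite_pts_of_isFinite [IsAlgClosed k] {F : Over (Spec (CommRingCat.of k))} [IsFinite F.hom] :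
    Finite (𝟙_ (Over (Spec (CommRingCat.of k))) ⟶ F) := by
  haveI : Finite F.left := by
    haveI : Subsingleton ↥(Spec (CommRingCat.of k)) := inferInstance
    have h := IsFinite.finite_preimage_singleton F.hom (IsLocalRing.closedPoint k)
    rw [show F.hom ⁻¹' {IsLocalRing.closedPoint k} = Set.univ from Set.eq_univ_of_forall fun x =>
      Subsingleton.elim (F.hom x) _] at h
    exact Set.finite_univ_iff.mp h
  exact Finite.of_injective (fun g => cp g) fun a b h => cp_injective h

/-- A scheme with finite underlying space has finitely many geometric points. -/
theorem finite_pts_geomFibre {X : Over (Spec (CommRingCat.of k))} [LocallyOfFiniteType X.hom] [IsSeparated X.hom]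
    [QuasiCompact X.hom] [Finite X.left] (s : Spec (CommRingCat.of k)) :
    Finite (𝟙_ (Over (Spec (CommRingCat.of (AlgebraicClosure ((Spec (CommRingCat.of k)).residueField s))))) ⟶
      Red.geomFibre s X) := by
  haveI : LocallyQuasiFinite X.hom := LocallyQuasiFinite.of_finite_preimage_singleton X.hom fun _ => Set.toFinite _
  haveI : IsFinite X.hom := IsFinite.of_locallyQuasiFinite X.hom
  haveI : IsFinite (Red.geomFibre s X).hom := inferInstanceAs (IsFinite (Limits.pullback.snd X.hom (Red.geomPt s)))
  exact finite_pts_of_isFinite

/-- A scheme of finite type with finitely many geometric points has finite underlying space. -/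
theorem finite_of_geomFibre {X : Over (Spec (CommRingCat.of k))} [LocallyOfFiniteType X.hom] [IsSeparated X.hom]
    [QuasiCompact X.hom] (s : Spec (CommRingCat.of k))
    (h : Finite (𝟙_ (Over (Spec (CommRingCat.of (AlgebraicClosure ((Spec (CommRingCat.of k)).residueField s))))) ⟶
      Red.geomFibre s X)) : Finite X.left := by
  haveI : IsSeparated (Red.geomFibre s X).hom := inferInstanceAs (IsSeparated (Limits.pullback.snd X.hom (Red.geomPt s)))
  haveI := h
  haveI := QuotProper.isFinite_of_finite_pts (F := Red.geomFibre s X) Set.univ Set.finite_univ fun _ => trivial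
  haveI : IsFinite (Limits.pullback.snd X.hom (Red.geomPt s)) := ‹_›
  haveI : Finite ↥(Limits.pullback X.hom (Red.geomPt s)) := by
    have h1 := IsFinite.finite_preimage_singleton (Limits.pullback.snd X.hom (Red.geomPt s))
      (IsLocalRing.closedPoint _)
    rw [show Limits.pullback.snd X.hom (Red.geomPt s) ⁻¹' {IsLocalRing.closedPoint
      (AlgebraicClosure ((Spec (CommRingCat.of k)).residueField s))} = Set.univ from Set.eq_univ_of_forall fun x =>
      Subsingleton.elim (α := ↥(Spec (CommRingCat.of (AlgebraicClosure ((Spec (CommRingCat.of k)).residueField s))))) _ _] at h1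
    exact Set.finite_univ_iff.mp h1
  haveI := GeomBC.surjective_geomPt s
  exact Finite.of_surjective _ (Limits.pullback.fst X.hom (Red.geomPt s)).surjective

end Groth.Agent.SolvGrp
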