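import Groth.Agent.SolvGrp.Reductive5
import Groth.Agent.MultTypeLib.SubgroupTransporter

/-! The radical of a reductive group. -/

set_option backward.isDefEq.respectTransparency false
set_option backward.isDefEq.respectTransparency.types false
set_option linter.style.haveILetI false

universe u

open CategoryTheory MonoidalCategory CartesianMonoidalCategory MonObj AlgebraicGeometry

namespace Groth.Agent.SolvGrp

open GrpSchLib GrpSchLib.Kunneth GrpSchLib.LineGroups WeilCmp.Unip AGFLib AGFLib.Gen AGFLib.BorelFixed AGFLib.BorelExist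
open Groth.Agent.AVTors

section bc

variable {S S' : Scheme.{u}} (σ : S' ⟶ S)

/-- Solvability is stable under base change. -/
theorem isSolvableGrp_bc {H : Over S} [GrpObj H] (h : Red.IsSolvableGrp H) :
    Red.IsSolvableGrp ((Over.pullback σ).obj H) := by
  obtain ⟨n, hn⟩ := h
  refine ⟨n, fun X => eq_bot_iff.mpr ?_⟩
  have e := map_derivedSeries_eq (f := (bcPts σ X H).toMonoidHom) (bcPts σ X H).surjective n
  intro x hx
  rw [← e, hn, Subgroup.map_bot] at hx
  exact hx

end bc

variable {k : Type u} [Field k]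

section AlgClosed

variable [IsAlgClosed k]

local notation "PT" => 𝟙_ (Over (Spec (CommRingCat.of k)))

variable {G R : Over (Spec (CommRingCat.of k))} [GrpObj G] [GrpObj R] [IsAffine G.left] [Smooth G.hom]
  [ConnectedSpace G.left] (r : R ⟶ G) [IsMonHom r] [IsClosedImmersion r.left] [Smooth R.hom] [ConnectedSpace R.left]

/-- A connected solvable normal subgroup of a reductive group is a torus. -/
theorem isTorus_of_solvable_normal (hG : Red.IsReductiveOver k G) (hn : AlgGrp.IsNormalHom r)
    (hs : Red.IsSolvableGrp R) : Red.IsTorus R := by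
  obtain ⟨haR, hlR, -, hmR, -⟩ := sub_props r
  haveI := haR
  haveI := hlR
  haveI := hmR
  haveI : IsReduced R.left := isReduced_of_smooth_field R.hom
  obtain ⟨U, _, u, hu, hcu, hsU, hcU, haU, hnU, hU⟩ := exists_unipRad hs
  haveI := hu
  haveI := hcu
  haveI := hsU
  haveI := hcU
  haveI := haU
  obtain ⟨-, hlU, -, -, hevU⟩ := sub_props u
  haveI := hlU
  haveI : IsReduced U.left := isReduced_of_smooth_field U.hom
  have htriv : Red.IsTrivialGrp U := eq_one_of_normal_sub r hG hn u (isNormalHom_of_pts u hnU)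
    (hasNoSubtorus_of_isUnipPt fun x => IsUnipPt.map u hevU ((hU _).mp ⟨x, rfl⟩))
  refine isTorus_of_unip_trivial fun V _ i _ hci hsV hcV hV => ?_
  haveI := hci
  haveI := hsV
  haveI := hcV
  obtain ⟨haV, hlV, -, hmV, -⟩ := sub_props i
  haveI := haV
  haveI := hlV
  haveI := hmV
  haveI : IsReduced V.left := isReduced_of_smooth_field V.hom
  refine isTrivialGrp_of_pts fun x => (cancel_mono i).mp ?_
  obtain ⟨y, hy⟩ : x ≫ i ∈ rangePts u := (hU _).mpr ((map_isSsPt_isUnipPt i x).2 (isUnipPt_of_hasNoSubtorus hV x))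
  change y ≫ u = x ≫ i at hy
  rw [← hy, pt_eq_one_of_trivial htriv y, MonObj.one_comp, MonObj.one_comp]

/-- A normal torus of a connected group is central. -/
theorem central_of_normal_torus (hR : Red.IsTorus R) (hn : AlgGrp.IsNormalHom r) :
    (fst R G ≫ r) * snd R G = snd R G * (fst R G ≫ r) := by
  haveI : IsReduced R.left := isReduced_of_smooth_field R.hom
  haveI : IsReduced G.left := isReduced_of_smooth_field G.hom
  haveI : IsReduced (R ⊗ G).left := GrpSchLib.isReduced_pullback_of_perfectField R.hom G.hom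
  haveI : LocallyOfFiniteType R.hom := (sub_props r).2.1
  haveI : LocallyOfFiniteType (R ⊗ G).hom :=
    inferInstanceAs (LocallyOfFiniteType (Limits.pullback.fst R.hom G.hom ≫ R.hom))
  haveI := GrpSchLib.AntiAffine.isSeparated_grp G
  have hnr : (rangePts r).Normal := ⟨fun z hz g => by
    obtain ⟨x, rfl⟩ := hz
    obtain ⟨y, hy⟩ := hn _ g x
    exact ⟨y, hy.symm⟩⟩
  refine hom_ext_pts fun x => ?_
  rw [MonObj.comp_mul, MonObj.comp_mul]
  exact (commute_of_normal_torus r hR hnr (x ≫ snd R G) _ ⟨x ≫ fst R G, Category.assoc x (fst R G) r⟩).eq.symm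

end AlgClosed

/-- A reductive group over a field is connected. -/
theorem connectedSpace_of_isReductive {G : Over (Spec (CommRingCat.of k))} [GrpObj G] (hG : Red.IsReductive G) :
    ConnectedSpace G.left := by
  let s := AGFLib.GeomBC.pt k
  haveI := AGFLib.GeomBC.surjective_geomPt s
  haveI : ConnectedSpace ↥(Limits.pullback G.hom (Red.geomPt s)) := (hG.2.2 s).2.2.1
  exact (Limits.pullback.fst G.hom (Red.geomPt s)).surjective.connectedSpace
    (Limits.pullback.fst G.hom (Red.geomPt s)).continuous

/-- Centrality descends from a geometric fibre. -/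
theorem central_of_geomFibre {G R : Over (Spec (CommRingCat.of k))} [GrpObj G] (r : R ⟶ G)
    (s : Spec (CommRingCat.of k))
    (h : (fst (Red.geomFibre s R) (Red.geomFibre s G) ≫ (Over.pullback (Red.geomPt s)).map r) * snd _ _ =
      snd _ _ * (fst (Red.geomFibre s R) (Red.geomFibre s G) ≫ (Over.pullback (Red.geomPt s)).map r))
    (X : Over (Spec (CommRingCat.of k))) (t : X ⟶ R) (g : X ⟶ G) : (t ≫ r) * g = g * (t ≫ r) := by
  refine geomPt_map_injective s ?_
  let F := Over.pullback (Red.geomPt s)
  let φ : (X ⟶ G) →* (F.obj X ⟶ Red.geomFibre s G) := F.homMonoidHom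
  show φ ((t ≫ r) * g) = φ (g * (t ≫ r))
  rw [map_mul, map_mul]
  let t' : F.obj X ⟶ Red.geomFibre s R := F.map t
  let g' : F.obj X ⟶ Red.geomFibre s G := F.map g
  have h1 := congrArg (lift t' g' ≫ ·) h
  simp only [MonObj.comp_mul, lift_fst_assoc, lift_snd] at h1
  show F.map (t ≫ r) * F.map g = F.map g * F.map (t ≫ r)
  rw [F.map_comp]
  exact h1

/-- The radical of a reductive group is a central torus. -/
theorem radical_props {G R : Over (Spec (CommRingCat.of k))} [GrpObj G] [GrpObj R] (hG : Red.IsReductive G)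
    (r : R ⟶ G) [IsMonHom r] [IsClosedImmersion r.left] [Smooth R.hom] [ConnectedSpace R.left]
    (hsolv : Red.IsSolvableGrp R) (hnorm : AlgGrp.IsNormalHom r) :
    Red.IsTorus R ∧
      ∀ (X : Over (Spec (CommRingCat.of k))) (t : X ⟶ R) (g : X ⟶ G), (t ≫ r) * g = g * (t ≫ r) := by
  obtain ⟨haffG, hsmG, hfib⟩ := id hG
  haveI := hsmG
  haveI : IsAffine G.left := isAffine_of_isAffineHom G.hom
  haveI : IsAffine R.left := isAffine_of_isAffineHom r.left
  haveI : QuasiCompact R.hom := inferInstance
  let s := AGFLib.GeomBC.pt k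
  obtain ⟨haK, hsK, hcK, -⟩ := id (hfib s)
  haveI := haK
  haveI := hsK
  haveI := hcK
  have ht : Red.IsTorus (Red.geomFibre s R) :=
    isTorus_of_solvable_normal ((Over.pullback (Red.geomPt s)).map r) (hfib s) (isNormalHom_bc _ r hnorm)
      (isSolvableGrp_bc _ hsolv)
  exact ⟨isTorus_of_geomFibre s ht, central_of_geomFibre r s
    (central_of_normal_torus ((Over.pullback (Red.geomPt s)).map r) ht (isNormalHom_bc _ r hnorm))⟩

/-- A subtorus of an affine group over a field is a smooth connected closed subgroup. -/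
theorem torus_sub_field {G S : Over (Spec (CommRingCat.of k))} [GrpObj G] [GrpObj S] [IsAffine G.left] [Smooth G.hom]
    (i : S ⟶ G) [IsMonHom i] [Mono i] (hS : Red.IsTorus S) :
    IsClosedImmersion i.left ∧ Smooth S.hom ∧ ConnectedSpace S.left := by
  haveI : IsAffineHom G.hom := isAffineHom_of_isAffine G.hom
  haveI hci : IsClosedImmersion i.left :=
    MultTypeLib.SubgroupTransporter.isClosedImmersion_of_mono (TorusQI.isMultTypeFT_of_isTorus hS) i
  haveI : IsAffine S.left := isAffine_of_isAffineHom i.left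
  let s := AGFLib.GeomBC.pt k
  obtain ⟨-, hsm, hconn, -⟩ := torus_props (isTorus_bc (Red.geomPt s) hS)
  haveI := AGFLib.GeomBC.surjective_geomPt s
  haveI := AGFLib.GeomBC.flat_geomPt s
  haveI := AGFLib.GeomBC.isIntegralHom_geomPt s
  have h1 : Smooth (Limits.pullback.snd S.hom (Red.geomPt s)) := hsm
  refine ⟨hci, MorphismProperty.of_pullback_snd_of_descendsAlong (P := @Smooth)
    (Q := @Surjective ⊓ @Flat ⊓ @QuasiCompact) ⟨⟨inferInstance, inferInstance⟩, inferInstance⟩ h1, ?_⟩
  haveI : ConnectedSpace ↥(Limits.pullback S.hom (Red.geomPt s)) := hconn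
  exact (Limits.pullback.fst S.hom (Red.geomPt s)).surjective.connectedSpace
    (Limits.pullback.fst S.hom (Red.geomPt s)).continuous

end Groth.Agent.SolvGrp
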