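import Groth.Agent.SolvGrp.DerivedPts
import Groth.Agent.SolvGrp.FinitePts
import Groth.Agent.SolvGrp.Radical2

/-! The centre of a reductive group: finiteness statements. -/

set_option backward.isDefEq.respectTransparency false
set_option backward.isDefEq.respectTransparency.types false
set_option linter.style.haveILetI false

universe u

open CategoryTheory MonoidalCategory CartesianMonoidalCategory MonObj AlgebraicGeometry

namespace Groth.Agent.SolvGrp

open GrpSchLib GrpSchLib.Kunneth GrpSchLib.LineGroups WeilCmp.Unip AGFLib AGFLib.Gen AGFLib.BorelFixed AGFLib.BorelExist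

variable {k : Type u} [Field k] [IsAlgClosed k]

local notation "PT" => 𝟙_ (Over (Spec (CommRingCat.of k)))

variable {G : Over (Spec (CommRingCat.of k))} [GrpObj G] [IsAffine G.left] [Smooth G.hom] [ConnectedSpace G.left]

/-- A closed group of central points of a reductive group is a torus up to finite index. -/
theorem exists_centreTorus (hG : Red.IsReductiveOver k G) (Γ : Subgroup (PT ⟶ G)) (hΓ : PtsClosed (Γ : Set (PT ⟶ G)))
    (hcen : ∀ z ∈ Γ, ∀ g : PT ⟶ G, Commute g z) :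
    ∃ (D : Over (Spec (CommRingCat.of k))) (_ : GrpObj D) (iD : D ⟶ G) (_ : IsMonHom iD),
      IsClosedImmersion iD.left ∧ Red.IsTorus D ∧ AlgGrp.IsNormalHom iD ∧ rangePts iD ≤ Γ ∧
      ∃ S : Set (PT ⟶ G), S.Finite ∧ S ⊆ Γ ∧ ∀ g ∈ Γ, ∃ s ∈ S, s⁻¹ * g ∈ rangePts iD := by
  haveI : IsReduced G.left := isReduced_of_smooth_field G.hom
  obtain ⟨D, _, i, hi, hci, hsm, hconn, haff, hle, S, hS, hSΓ, hcov⟩ := exists_connSub Γ hΓ
  haveI := hi
  haveI := hci
  haveI := hsm
  haveI := hconn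
  haveI := haff
  obtain ⟨-, hlD, hqD, hmD, -⟩ := sub_props i
  haveI := hlD
  haveI := hmD
  haveI : IsReduced D.left := isReduced_of_smooth_field D.hom
  have hn : (rangePts i).Normal := ⟨fun z hz g => by
    rw [(hcen z (hle hz) g).eq, mul_inv_cancel_right]
    exact hz⟩
  have hcomm : ∀ a b : PT ⟶ D, Commute a b := fun a b => by
    show a * b = b * a
    rw [← cancel_mono i, MonObj.mul_comp, MonObj.mul_comp]
    exact (hcen _ (hle ⟨b, rfl⟩) (a ≫ i)).eq
  have hsolv : Red.IsSolvableGrp D := AGFLib.ProperSpace.isSolvableGrp_of_pts 1 (by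
    rw [derivedSeries_one, commutator_def, eq_bot_iff, Subgroup.commutator_le]
    intro a _ b _
    rw [Subgroup.mem_bot, commutatorElement_eq_one_iff_commute]
    exact hcomm a b)
  have hnorm : AlgGrp.IsNormalHom i := isNormalHom_of_pts i hn
  exact ⟨D, inferInstance, i, hi, hci, isTorus_of_solvable_normal i hG hnorm hsolv, hnorm, hle, S, hS, hSΓ, hcov⟩

/-- Finitely many central points of a semisimple group. -/
theorem finite_central_of_semisimple (hG : Red.IsSemisimpleOver k G) (Γ : Subgroup (PT ⟶ G))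
    (hΓ : PtsClosed (Γ : Set (PT ⟶ G))) (hcen : ∀ z ∈ Γ, ∀ g : PT ⟶ G, Commute g z) :
    (Γ : Set (PT ⟶ G)).Finite := by
  obtain ⟨D, _, i, hi, hci, hT, hn, -, S, hS, -, hcov⟩ := exists_centreTorus hG.1 Γ hΓ hcen
  haveI := hi
  haveI : LocallyOfFiniteType D.hom := (sub_props i).2.1
  have htriv : Red.IsTrivialGrp D := hG.2 D i hci hn hT
  refine hS.subset fun g hg => ?_
  obtain ⟨s, hs, d, hd⟩ := hcov g hg
  change d ≫ i = s⁻¹ * g at hd
  rw [pt_eq_one_of_trivial htriv d, MonObj.one_comp, eq_comm, inv_mul_eq_one] at hd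
  exact hd ▸ hs

/-- Finitely many central commutator products in a reductive group. -/
theorem finite_central_commutator (hG : Red.IsReductiveOver k G) (Γ : Subgroup (PT ⟶ G))
    (hΓ : PtsClosed (Γ : Set (PT ⟶ G))) (hcen : ∀ z ∈ Γ, ∀ g : PT ⟶ G, Commute g z) :
    {g : PT ⟶ G | g ∈ Γ ∧ g ∈ _root_.commutator (PT ⟶ G)}.Finite := by
  classical
  haveI : IsReduced G.left := isReduced_of_smooth_field G.hom
  obtain ⟨D, _, i, hi, hci, hT, hn, hle, S, hS, -, hcov⟩ := exists_centreTorus hG Γ hΓ hcen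
  haveI := hi
  have hfin := finite_torus_inter_commutator i hT fun g s hs => hcen s (hle hs) g
  let pick : (PT ⟶ G) → (PT ⟶ G) := fun s =>
    if h : ∃ g, g ∈ _root_.commutator (PT ⟶ G) ∧ s⁻¹ * g ∈ rangePts i then h.choose else 1
  refine (hS.biUnion fun s _ => hfin.image (pick s * ·)).subset fun g ⟨hg, hc⟩ => ?_
  obtain ⟨s, hs, hsg⟩ := hcov g hg
  have hex : ∃ g, g ∈ _root_.commutator (PT ⟶ G) ∧ s⁻¹ * g ∈ rangePts i := ⟨g, hc, hsg⟩
  obtain ⟨hp₁, hp₂⟩ : pick s ∈ _root_.commutator (PT ⟶ G) ∧ s⁻¹ * pick s ∈ rangePts i := by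
    simp only [pick, dif_pos hex]
    exact hex.choose_spec
  refine Set.mem_iUnion₂.mpr ⟨s, hs, (pick s)⁻¹ * g, ⟨?_, mul_mem (inv_mem hp₁) hc⟩, mul_inv_cancel_left _ _⟩
  have := mul_mem (inv_mem hp₂) hsg
  rwa [_root_.mul_inv_rev, _root_.inv_inv, _root_.mul_assoc, mul_inv_cancel_left] at this

end Groth.Agent.SolvGrp
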