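import Groth.Agent.SolvGrp.Fibre
import Groth.Agent.SolvGrp.Descent
import Groth.Agent.SolvGrp.Cent

/-! Geometric fibres over an algebraically closed field. -/

set_option backward.isDefEq.respectTransparency false
set_option backward.isDefEq.respectTransparency.types false
set_option linter.style.haveILetI false

universe u

open CategoryTheory MonoidalCategory CartesianMonoidalCategory MonObj AlgebraicGeometry

namespace Groth.Agent.SolvGrp

variable {k : Type u} [Field k] [IsAlgClosed k] (s : Spec (CommRingCat.of k))

/-- Being an isomorphism descends from the geometric fibre over an algebraically closed field. -/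
theorem isIso_of_geomFibre {X Y : Over (Spec (CommRingCat.of k))} (f : X ⟶ Y)
    [h : IsIso ((Over.pullback (Red.geomPt s)).map f)] : IsIso f := by
  haveI := isIso_geomPt s
  haveI : IsIso ((Over.pullback (Red.geomPt s)).map f).left := inferInstanceAs (IsIso ((Over.forget _).map ((Over.pullback (Red.geomPt s)).map f)))
  have e : ((Over.pullback (Red.geomPt s)).map f).left ≫ Limits.pullback.fst Y.hom (Red.geomPt s) =
      Limits.pullback.fst X.hom (Red.geomPt s) ≫ f.left := Limits.pullback.lift_fst _ _ _
  haveI : IsIso (Limits.pullback.fst X.hom (Red.geomPt s) ≫ f.left) := by rw [← e]; infer_instance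
  haveI : IsIso f.left := IsIso.of_isIso_comp_left (Limits.pullback.fst X.hom (Red.geomPt s)) f.left
  haveI : IsIso ((Over.forget (Spec (CommRingCat.of k))).map f) := ‹IsIso f.left›
  exact isIso_of_reflects_iso f (Over.forget (Spec (CommRingCat.of k)))

/-- Semisimplicity descends from the geometric fibre over an algebraically closed field. -/
theorem isSemisimpleOver_of_geomFibre {G : Over (Spec (CommRingCat.of k))} [GrpObj G] [IsAffine G.left] [Smooth G.hom]
    (h : Red.IsSemisimpleOver (AlgebraicClosure ((Spec (CommRingCat.of k)).residueField s)) (Red.geomFibre s G)) :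
    Red.IsSemisimpleOver k G := by
  haveI : (Over.pullback (Red.geomPt s)).IsRightAdjoint := (Over.mapPullbackAdj (Red.geomPt s)).isRightAdjoint
  refine ⟨⟨inferInstance, inferInstance, connectedSpace_of_geomFibre s h.1.2.2.1,
    fun U _ i _ hci hsU hcU hn hnt => ?_⟩, fun T _ i _ hci hn hT => ?_⟩
  · haveI := hci
    haveI := hsU
    haveI := hcU
    exact isTrivialGrp_of_geomFibre s (h.1.2.2.2 (Red.geomFibre s U) ((Over.pullback (Red.geomPt s)).map i)
      inferInstance (inferInstanceAs (Smooth (Limits.pullback.snd U.hom (Red.geomPt s))))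
      (geomFibre_props hnt s).1 (isNormalHom_bc _ i hn) (geomFibre_props hnt s).2)
  · haveI := hci
    exact isTrivialGrp_of_geomFibre s (h.2 (Red.geomFibre s T) ((Over.pullback (Red.geomPt s)).map i)
      inferInstance (isNormalHom_bc _ i hn) (isTorus_bc _ hT))

/-- Over an algebraically closed field a maximal torus is one in the naive sense. -/
theorem isMaxTorus_of_isMaximalTorus {G T : Over (Spec (CommRingCat.of k))} [GrpObj G] [GrpObj T] {iT : T ⟶ G}
    (hT : Red.IsMaximalTorus iT) : AGF.IsMaxTorus iT := by
  let s := AGFLib.GeomBC.pt k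
  haveI := hT.1
  haveI := hT.2.1
  refine ⟨hT.1, hT.2.1, hT.2.2.1, fun T' _ j _ _ f hT' hf => ?_⟩
  haveI : (Over.pullback (Red.geomPt s)).IsRightAdjoint := (Over.mapPullbackAdj (Red.geomPt s)).isRightAdjoint
  haveI : IsMonHom f := AGFLib.isMonHom_of_mul f fun X a b => by
    rw [← cancel_mono j, Category.assoc, hf, MonObj.mul_comp, MonObj.mul_comp, Category.assoc, Category.assoc, hf]
  haveI : IsIso ((Over.pullback (Red.geomPt s)).map f) :=
    (isMaxTorus_geomFibre hT s).2.2.2 _ ((Over.pullback (Red.geomPt s)).map j) _ (isTorus_bc _ hT')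
      (by rw [← Functor.map_comp, hf])
  exact isIso_of_geomFibre s f

end Groth.Agent.SolvGrp
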