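import Groth.Agent.SolvGrp.Perfect2
import Groth.Agent.SolvGrp.CentInter
import Groth.Agent.SolvGrp.CentreFinite
import Groth.Agent.SolvGrp.CentralIsogeny
import Groth.Agent.GrpSchLib.SemiabDescent
import Groth.Agent.SolvGrp.OverClosed
import Groth.Agent.S3901

/-! Weyl-invariant characters of a maximal torus of a reductive group extend uniquely. -/

set_option backward.isDefEq.respectTransparency false
set_option backward.isDefEq.respectTransparency.types false
set_option linter.style.haveILetI false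

universe u

open CategoryTheory MonoidalCategory CartesianMonoidalCategory MonObj AlgebraicGeometry

namespace Groth.Agent.SolvGrp

open GrpSchLib GrpSchLib.Kunneth GrpSchLib.LineGroups WeilCmp.Unip AGFLib AGFLib.Gen AGFLib.BorelFixed AGFLib.BorelExist

variable {k : Type u} [Field k] [IsAlgClosed k]

local notation "PT" => 𝟙_ (Over (Spec (CommRingCat.of k)))

variable {G T : Over (Spec (CommRingCat.of k))} [GrpObj G] [GrpObj T] [IsAffine G.left] [Smooth G.hom]
  [ConnectedSpace G.left] (iT : T ⟶ G) [IsMonHom iT]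

/-- Every semisimple point is conjugate into a given maximal torus. -/
theorem exists_conj_maxTorus (hT : AGF.IsMaxTorus iT) (g : PT ⟶ G) (hg : IsSsPt g) :
    ∃ x : PT ⟶ G, x * g * x⁻¹ ∈ rangePts iT := by
  haveI : IsReduced G.left := isReduced_of_smooth_field G.hom
  obtain ⟨B, _, iB, -, -, -, hB, -, -⟩ := AGFLib.Borel.exists_borel G
  haveI := hB.1
  haveI := hB.2.1
  haveI := hB.2.2.1
  haveI := hB.2.2.2.1
  obtain ⟨haB, hlB, -, hmB, hevB⟩ := sub_props iB
  haveI := haB
  haveI := hlB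
  haveI := hmB
  haveI : IsReduced B.left := isReduced_of_smooth_field B.hom
  obtain ⟨n, hn⟩ := hB.2.2.2.2.1
  obtain ⟨T₀, _, i, hi, hci, hT₀, hA, hC⟩ := exists_torus_of_derivedSeries n B (hn _)
  haveI := hi
  haveI := hci
  haveI : Mono i := mono_of_closedImmersion i
  let i₀ := i ≫ iB
  haveI : Mono i₀ := mono_comp i iB
  obtain ⟨x, b, hxb⟩ := exists_conj_borel iB hB g
  have hbss : IsSsPt (b ≫ iB) := by
    have := hg.conj x⁻¹
    rwa [_root_.inv_inv, ← hxb, show x⁻¹ * (x * (b ≫ iB) * x⁻¹) * x = b ≫ iB by group] at this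
  obtain ⟨c, hc⟩ := hC {b} (fun y hy => hy ▸ IsSsPt.map iB hevB hbss)
    (fun y hy y' hy' => by rw [show y = b from hy, show y' = b from hy'])
  obtain ⟨t, ht⟩ := hc b rfl
  change t ≫ i = c * b * c⁻¹ at ht
  have hmax : AGF.IsMaxTorus i₀ := isMaxTorus_of_borel iB i₀ hB hT₀ (rangePts_comp iB i) fun y hy => by
    obtain ⟨y, rfl⟩ := hy
    obtain ⟨_, ⟨w, rfl⟩, hu⟩ := hA y
    refine ⟨(w ≫ i) ≫ iB, ⟨w, (Category.assoc _ _ _).symm⟩, ?_⟩
    have h1 := (map_isSsPt_isUnipPt iB _).2 hu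
    rw [MonObj.mul_comp, GrpObj.inv_comp] at h1
    exact h1
  obtain ⟨z, f, hf⟩ := Groth.Agent.S3901.result k G T₀ T i₀ iT hmax hT
  refine ⟨z * (c ≫ iB) * x⁻¹, t ≫ f.hom, ?_⟩
  show (t ≫ f.hom) ≫ iT = _
  rw [Category.assoc, hf, AGFLib.Borel.conjBy_eq, ← Category.assoc, comp_conjM_pt,
    show t ≫ i₀ = (t ≫ i) ≫ iB from (Category.assoc _ _ _).symm, ht, MonObj.mul_comp, MonObj.mul_comp,
    GrpObj.inv_comp, ← hxb]
  group

/-- A closed normal subgroup of rational points containing a maximal torus is everything. -/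
theorem eq_top_of_maxTorus (hG : Red.IsReductiveOver k G) (hT : AGF.IsMaxTorus iT) (K : Subgroup (PT ⟶ G))
    (hK : PtsClosed (K : Set (PT ⟶ G))) (hKn : K.Normal) (h : rangePts iT ≤ K) : K = ⊤ := by
  refine eq_top_of_ss hG K hK hKn fun g hg => ?_
  obtain ⟨x, hx⟩ := exists_conj_maxTorus iT hT g hg
  have := hKn.conj_mem _ (h hx) x⁻¹
  rwa [_root_.inv_inv, show x⁻¹ * (x * g * x⁻¹) * x = g by group] at this

/-- Homomorphisms to a commutative group agreeing on a maximal torus are equal. -/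
theorem hom_eq_of_maxTorus (hG : Red.IsReductiveOver k G) (hT : AGF.IsMaxTorus iT)
    {H : Over (Spec (CommRingCat.of k))} [GrpObj H] [IsCommMonObj H] [IsAffine H.left] [LocallyOfFiniteType H.hom] (f g : G ⟶ H)
    [IsMonHom f] [IsMonHom g] (h : iT ≫ f = iT ≫ g) : f = g := by
  haveI : IsReduced G.left := isReduced_of_smooth_field G.hom
  haveI := GrpSchLib.AntiAffine.isSeparated_grp H
  haveI : IsSeparated (toUnit H).left := by
    haveI : IsSeparated ((toUnit H).left ≫ (𝟙_ (Over (Spec (CommRingCat.of k)))).hom) := by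
      rw [Over.w (toUnit H)]; exact GrpSchLib.AntiAffine.isSeparated_grp H
    exact IsSeparated.of_comp (toUnit H).left (𝟙_ (Over (Spec (CommRingCat.of k)))).hom
  let d : G ⟶ H := f * g⁻¹
  haveI : IsMonHom d := AGFLib.isMonHom_of_mul d fun X a b => by
    simp only [d, MonObj.comp_mul, GrpObj.comp_inv, MonObj.mul_comp]
    rw [mul_inv, _root_.mul_mul_mul_comm]
  haveI : ((ptsHom d).ker).Normal := inferInstance
  have hcl : PtsClosed (((ptsHom d).ker : Subgroup (PT ⟶ G)) : Set (PT ⟶ G)) :=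
    (ptsClosed_one (G := H)).preimage d
  have htop := eq_top_of_maxTorus iT hG hT _ hcl inferInstance (by
    rintro _ ⟨t, rfl⟩
    show (t ≫ iT) ≫ d = 1
    rw [Category.assoc, show iT ≫ d = 1 by simp only [d, MonObj.comp_mul, GrpObj.comp_inv, h, mul_inv_cancel],
      MonObj.comp_one])
  refine LiftUnique.hom_ext_pts (toUnit H) (toUnit_unique _ _) fun x => ?_
  have h1 : x ≫ d = 1 := MonoidHom.mem_ker.mp (htop.ge (Subgroup.mem_top x))
  simp only [d, MonObj.comp_mul, GrpObj.comp_inv] at h1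
  exact mul_inv_eq_one.mp h1

/-- In a reductive group a torus centralised by the normaliser of a maximal torus is central. -/
theorem central_of_weyl (hG : Red.IsReductiveOver k G) (hT : AGF.IsMaxTorus iT)
    {S : Over (Spec (CommRingCat.of k))} [GrpObj S] (iS : S ⟶ G) [IsMonHom iS] (hS : Red.IsTorus S)
    (hST : rangePts iS ≤ rangePts iT)
    (hW : ∀ n : PT ⟶ G, (∀ t ∈ rangePts iT, n⁻¹ * t * n ∈ rangePts iT) → ∀ s ∈ rangePts iS, Commute n s) :
    ∀ (g : PT ⟶ G), ∀ s ∈ rangePts iS, Commute g s := by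
  haveI : IsReduced G.left := isReduced_of_smooth_field G.hom
  haveI := hT.2.1
  obtain ⟨B, _, iB, tB, hB, htB⟩ := exists_borel_maxTorus iT hT
  haveI := hB.1
  haveI := hB.2.1
  haveI := hB.2.2.1
  obtain ⟨-, hlB, hqB, hmB, -⟩ := sub_props iB
  haveI := hlB
  haveI := hqB
  haveI := hmB
  have hTB : rangePts iT ≤ rangePts iB := by
    rintro _ ⟨x, rfl⟩
    exact ⟨x ≫ tB, by show (x ≫ tB) ≫ iB = x ≫ iT; rw [Category.assoc, htB]⟩
  obtain ⟨D, _, iD, hiD, hcD, hsD, hconnD, hnD, hle, hrec⟩ := exists_normalSub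
    {z : PT ⟶ G | ∀ g : PT ⟶ G, g * z * g⁻¹ ∈ rangePts iB}
    (fun g z hz g' => by rw [show g' * (g * z * g⁻¹) * g'⁻¹ = g' * g * z * (g' * g)⁻¹ by group]; exact hz _)
    (rangePts iB) (ptsClosed_range iB) (fun z hz => by simpa using hz 1)
  haveI := hiD
  haveI := hcD
  haveI := hsD
  haveI := hconnD
  obtain ⟨φ, hφ, hφe⟩ := exists_fac_sub iB iD hle
  haveI := hφ
  haveI : Mono iD := mono_of_closedImmersion iD
  obtain ⟨m, hm⟩ := hB.2.2.2.2.1
  have hinj : Function.Injective (ptsHom φ) := fun a b hab => by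
    change a ≫ φ = b ≫ φ at hab
    rw [← cancel_mono iD, ← hφe, reassoc_of% hab]
  have hsolv : Red.IsSolvableGrp D := AGFLib.ProperSpace.isSolvableGrp_of_pts m (eq_bot_iff.mpr fun x hx => by
    have h1 := map_derivedSeries_le_derivedSeries (ptsHom φ) m ⟨x, hx, rfl⟩
    rw [hm] at h1
    exact Subgroup.mem_bot.mpr (hinj ((Subgroup.mem_bot.mp h1).trans (map_one _).symm)))
  have hnD' : AlgGrp.IsNormalHom iD := isNormalHom_of_pts iD hnD
  have hDt := isTorus_of_solvable_normal iD hG hnD' hsolv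
  obtain ⟨haS, hsS, hcS, -⟩ := torus_props hS
  haveI := haS
  haveI := hsS
  haveI := hcS
  intro g s hs
  exact commute_of_normal_torus iD hDt hnD g s (hrec S iS (fun z hz g => by
    have := mem_borel_of_weyl iB iT iS hB hT hTB hS hST hW g⁻¹ z hz
    rwa [_root_.inv_inv] at this) hs)

/-- The norm maps a maximal torus of a reductive group to central points. -/
theorem weylNorm_central (hG : Red.IsReductiveOver k G) (hT : AGF.IsMaxTorus iT) (Φ : T ⟶ T) [IsMonHom Φ]
    (hΦ : ∀ (n : PT ⟶ G) (ψ : T ⟶ T), IsMonHom ψ → (∀ t ∈ rangePts iT, n⁻¹ * t * n ∈ rangePts iT) →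
      ψ ≫ iT = AGF.conjBy n⁻¹ iT → Φ ≫ ψ = Φ) :
    ∀ (g : PT ⟶ G), ∀ z ∈ rangePts (Φ ≫ iT), Commute g z := by
  haveI : IsReduced G.left := isReduced_of_smooth_field G.hom
  haveI : QuasiCompact G.hom := inferInstance
  haveI := hT.2.1
  obtain ⟨hcT, hsT, hcoT, haT, hlT, hqT, -⟩ := torus_sub hT.2.2.1 iT
  haveI := hcT
  haveI := hsT
  haveI := hcoT
  haveI := haT
  haveI := hlT
  haveI := hqT
  haveI : IsReduced T.left := isReduced_of_smooth_field T.hom
  obtain ⟨D, _, i, hi, hci, hsm, hconn, haD, hle, S, hS, -, hcov⟩ := exists_connSub (rangePts (Φ ≫ iT)) (ptsClosed_range _)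
  haveI := hi
  haveI := hci
  haveI := hsm
  haveI := hconn
  haveI := haD
  obtain ⟨-, hlD, hqD, hmD, -⟩ := sub_props i
  haveI := hlD
  haveI := hqD
  haveI := hmD
  haveI : IsReduced D.left := isReduced_of_smooth_field D.hom
  have heq : rangePts (Φ ≫ iT) ≤ rangePts i :=
    le_of_finite_cosets (Φ ≫ iT) _ (ptsClosed_range i) S hS hcov
  have hDT : rangePts i ≤ rangePts iT := hle.trans (rangePts_comp iT Φ)
  have hDt : Red.IsTorus D := isTorus_of_unip_trivial fun V _ j _ hj hsV hcV hV => by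
    haveI := hj
    haveI := hsV
    haveI := hcV
    obtain ⟨haV, hlV, -, hmV, -⟩ := sub_props j
    haveI := haV
    haveI := hlV
    haveI := hmV
    haveI : IsReduced V.left := isReduced_of_smooth_field V.hom
    refine isTrivialGrp_of_pts fun x => (cancel_mono (j ≫ i)).mp ?_
    rw [MonObj.one_comp]
    obtain ⟨y, hy⟩ := hDT (⟨x ≫ j, rfl⟩ : (x ≫ j) ≫ i ∈ rangePts i)
    change y ≫ iT = (x ≫ j) ≫ i at hy
    refine eq_one_of_isSsPt_isUnipPt ?_ ((map_isSsPt_isUnipPt (j ≫ i) x).2 (isUnipPt_of_hasNoSubtorus hV x))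
    rw [← Category.assoc, ← hy]
    exact isSsPt_of_torus hT.2.2.1 iT y
  have hc := central_of_weyl iT hG hT i hDt hDT (fun n hn s hs => by
    obtain ⟨x, rfl⟩ := hle hs
    obtain ⟨φ, hφm, hφ⟩ := exists_weylAut iT hT n hn
    have h1 := congrArg (fun ψ => (x ≫ ψ) ≫ iT) (hΦ n φ.hom hφm hn hφ)
    simp only [Category.assoc, hφ] at h1
    rw [AGFLib.Borel.conjBy_eq, ← Category.assoc Φ, ← Category.assoc x, comp_conjM_pt, _root_.inv_inv] at h1
    show n * (x ≫ Φ ≫ iT) = (x ≫ Φ ≫ iT) * n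
    have h2 : n * (n⁻¹ * (x ≫ Φ ≫ iT) * n) = n * (x ≫ Φ ≫ iT) := by rw [h1]
    rw [← h2]
    group)
  exact fun g z hz => hc g z (heq hz)

/-- The derived subgroup as a smooth connected closed normal subgroup. -/
theorem exists_connDerived (G : Over (Spec (CommRingCat.of k))) [GrpObj G] [IsAffine G.left] [Smooth G.hom]
    [ConnectedSpace G.left] :
    ∃ (D : Over (Spec (CommRingCat.of k))) (_ : GrpObj D) (i : D ⟶ G) (_ : IsMonHom i),
      IsClosedImmersion i.left ∧ Smooth D.hom ∧ ConnectedSpace D.left ∧ AlgGrp.IsNormalHom i ∧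
      rangePts i = _root_.commutator (PT ⟶ G) := by
  obtain ⟨D, _, i, hi, n, f, hci, haD, hnorm, hf, hinj, c, hc⟩ := DerField.exists_derived (G := G)
  haveI := hi
  haveI := hci
  haveI := haD
  haveI : IsAffine (Wn (G ⊗ G) n).left := DerField.wn_isAffine n
  obtain ⟨-, hsW⟩ := DerField.wn_geom (G := G) n
  haveI := hsW
  haveI := DerField.wn_integral (G := G) n
  obtain ⟨-, hlD, -, -, -⟩ := sub_props i
  haveI := hlD
  have hd : DenseRange f.left := DerField.denseRange_of_ev_injective f hinj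
  haveI : Nonempty D.left := hd.nonempty_iff.mp inferInstance
  haveI : IsDomain Γ(D.left, ⊤) := Function.Injective.isDomain (ev f).toRingHom hinj
  haveI : IsIntegral D.left := isIntegral_of_isAffine_of_isDomain D.left
  haveI := smooth_of_perfectField_of_isReduced D
  refine ⟨D, inferInstance, i, hi, hci, inferInstance, inferInstance, hnorm, le_antisymm ?_ ?_⟩
  · rintro _ ⟨d, rfl⟩
    refine DerField.mem_of_denseRange f hd ((DerField.ptsClosed_commutator G).preimage i) (fun w => ?_) d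
    show (w ≫ f) ≫ i ∈ _root_.commutator (PT ⟶ G)
    rw [Category.assoc, hf]
    exact DerField.IsProd.mem_commutator ⟨w, rfl⟩
  · rw [_root_.commutator_def, Subgroup.commutator_le]
    intro a _ b _
    refine ⟨lift a b ≫ c, ?_⟩
    show (lift a b ≫ c) ≫ i = _
    rw [Category.assoc, hc, DerField.lift_comm, commutatorElement_def]

/-- A Weyl-invariant character of a maximal torus extends. -/
theorem exists_hom_extend (hG : Red.IsReductiveOver k G) (hT : AGF.IsMaxTorus iT)
    {H : Over (Spec (CommRingCat.of k))} [GrpObj H] [IsCommMonObj H] [LocallyOfFiniteType H.hom] (χ : T ⟶ H)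
    [IsMonHom χ] (hχ : ∀ (n : PT ⟶ G) (φ : T ⟶ T), φ ≫ iT = AGF.conjBy n iT → φ ≫ χ = χ) :
    ∃ ψ : G ⟶ H, IsMonHom ψ ∧ iT ≫ ψ = χ := by
  haveI : IsReduced G.left := isReduced_of_smooth_field G.hom
  haveI : IsSeparated (toUnit H).left := by
    haveI : IsSeparated ((toUnit H).left ≫ (𝟙_ (Over (Spec (CommRingCat.of k)))).hom) := by
      rw [Over.w (toUnit H)]; exact GrpSchLib.AntiAffine.isSeparated_grp H
    exact IsSeparated.of_comp (toUnit H).left (𝟙_ (Over (Spec (CommRingCat.of k)))).hom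
  haveI := hT.2.1
  obtain ⟨hcT, hsT, hcoT, haT, hlT, hqT, -⟩ := torus_sub hT.2.2.1 iT
  haveI := hcT
  haveI := hsT
  haveI := haT
  haveI := hlT
  haveI := hqT
  haveI : IsReduced T.left := isReduced_of_smooth_field T.hom
  -- the derived subgroup and the quotient by it
  obtain ⟨D, _, i, hi, hci, hsD, hcD, hnorm, hr⟩ := exists_connDerived G
  haveI := hi
  haveI := hci
  haveI := hsD
  haveI := hcD
  obtain ⟨haD, hlD, -, hmD, -⟩ := sub_props i
  haveI := haD
  haveI := hlD
  haveI := hmD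
  obtain ⟨Q, _, q, hq, haQ, hlQ, hflat, hsurj, hker⟩ := Groth.Agent.S3278.result k G D i hnorm
  haveI := hq
  haveI := haQ
  haveI := hlQ
  haveI := hflat
  haveI := hsurj
  haveI : IsReduced Q.left := FBaseLib.isReduced_of_flat_surjective q.left
  haveI := smooth_of_perfectField_of_isReduced Q
  haveI : QuasiCompact Q.hom := inferInstance
  have hkq : ∀ g : PT ⟶ G, g ≫ q = 1 ↔ g ∈ _root_.commutator (PT ⟶ G) := by
    intro g
    rw [← hr]
    constructor
    · intro hg
      have h1 : g ≫ q = toUnit PT ≫ η[Q] := by rw [hg, Hom.one_def]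
      exact ⟨hker.lift g (toUnit PT) h1, hker.lift_fst _ _ _⟩
    · rintro ⟨d, rfl⟩
      show (d ≫ i) ≫ q = 1
      rw [Category.assoc, hker.w, ← Category.assoc, Hom.one_def, toUnit_unique (d ≫ toUnit D) (toUnit _)]
  -- the torus maps onto the quotient
  have hlift : ∀ g : PT ⟶ G, ∃ t : PT ⟶ T, (t ≫ iT) ≫ q = g ≫ q := by
    let K : Subgroup (PT ⟶ G) := (rangePts (iT ≫ q)).comap (ptsHom q)
    have hle : _root_.commutator (PT ⟶ G) ≤ K := fun g hg => by
      show ptsHom q g ∈ rangePts (iT ≫ q)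
      rw [show ptsHom q g = 1 from (hkq g).mpr hg]
      exact one_mem _
    have hKn : K.Normal := ⟨fun z hz g => by
      have h1 : g * z * g⁻¹ * z⁻¹ ∈ K := hle (by
        rw [← commutatorElement_def, _root_.commutator_def]
        exact Subgroup.commutator_mem_commutator (Subgroup.mem_top _) (Subgroup.mem_top _))
      simpa using mul_mem h1 hz⟩
    have htop := eq_top_of_maxTorus iT hG hT K ((ptsClosed_range (iT ≫ q)).preimage q) hKn (by
      rintro _ ⟨t, rfl⟩
      exact ⟨t, (Category.assoc _ _ _).symm⟩)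
    intro g
    obtain ⟨t, ht⟩ := htop.ge (Subgroup.mem_top g)
    exact ⟨t, by rw [Category.assoc]; exact ht⟩
  haveI : Surjective (iT ≫ q).left := surjective_of_rangePts (iT ≫ q) (fun y => by
    obtain ⟨g, rfl⟩ := exists_pt_of_surjective q y
    obtain ⟨t, ht⟩ := hlift g
    exact ⟨t, by rw [← ht, Category.assoc]⟩)
  haveI : IsAffineHom (iT ≫ q).left := isAffineHom_of_isAffine _
  haveI : Flat (iT ≫ q).left := flat_of_surjective_hom (iT ≫ q)
  haveI : LocallyOfFinitePresentation (iT ≫ q).left := by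
    haveI : LocallyOfFinitePresentation ((iT ≫ q).left ≫ Q.hom) := by rw [Over.w (iT ≫ q)]; infer_instance
    exact AlgSpPts.locallyOfFinitePresentation_of_comp (iT ≫ q).left Q.hom
  -- the kernel on the torus
  let I := Limits.pullback iT i
  let p : I ⟶ T := Limits.pullback.fst iT i
  let r : I ⟶ D := Limits.pullback.snd iT i
  have hI : IsPullback p r iT i := IsPullback.of_hasPullback iT i
  haveI : Mono p := inferInstanceAs (Mono (Limits.pullback.fst iT i))
  haveI : IsClosedImmersion p.left :=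
    MorphismProperty.of_isPullback (P := @IsClosedImmersion) (hI.map (Over.forget _)).flip hci
  obtain ⟨strI, hpm⟩ : ∃ str : GrpObj I, letI := str; IsMonHom p := by
    refine exists_grpObj_of_mono p (hI.lift η[T] η[D] (by rw [IsMonHom.one_hom iT, IsMonHom.one_hom i]))
      (hI.lift_fst _ _ _) (hI.lift ((fst I I ≫ p) * (snd I I ≫ p)) ((fst I I ≫ r) * (snd I I ≫ r)) (by
        simp only [MonObj.mul_comp, Category.assoc, hI.w])) (hI.lift_fst _ _ _)
      (hI.lift p⁻¹ r⁻¹ (by simp only [GrpObj.inv_comp, hI.w])) (hI.lift_fst _ _ _)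
  letI := strI
  haveI := hpm
  have hcent := selfCent_of_isMaxTorus hG iT hT
  have hn : ∀ (X : Over (Spec (CommRingCat.of k))) (s : X ⟶ T) (h : X ⟶ D), ∃ h' : X ⟶ D,
      (s ≫ iT) * (h ≫ i) * (s ≫ iT)⁻¹ = h' ≫ i := fun X s h => hnorm X (s ≫ iT) h
  haveI : Smooth I.hom := smooth_centInter iT hT.2.2.1 iT hcent i hn p r hI
  haveI : ConnectedSpace I.left := connectedSpace_centInter iT hT.2.2.1 iT hcent i hn p r hI
  obtain ⟨haI, hlI, -, -, -⟩ := sub_props p
  haveI := haI
  haveI := hlI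
  haveI : IsReduced I.left := isReduced_of_smooth_field I.hom
  have hIt : Red.IsTorus I := isTorus_of_unip_trivial fun V _ j _ hj hsV hcV hV => by
    haveI := hj
    haveI := hsV
    haveI := hcV
    obtain ⟨haV, hlV, -, hmV, -⟩ := sub_props j
    haveI := haV
    haveI := hlV
    haveI := hmV
    haveI : IsReduced V.left := isReduced_of_smooth_field V.hom
    refine isTrivialGrp_of_pts fun x => (cancel_mono (j ≫ p ≫ iT)).mp ?_
    rw [MonObj.one_comp]
    refine eq_one_of_isSsPt_isUnipPt ?_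
      ((map_isSsPt_isUnipPt (j ≫ p ≫ iT) x).2 (isUnipPt_of_hasNoSubtorus hV x))
    rw [← Category.assoc, ← Category.assoc]
    exact isSsPt_of_torus hT.2.2.1 iT ((x ≫ j) ≫ p)
  -- the character is trivial on the kernel
  obtain ⟨m, Φ, hm, hΦm, hinv, hab, hχΦ⟩ := exists_weylNorm iT hT
  haveI := hΦm
  have hfin := finite_central_commutator hG (rangePts (Φ ≫ iT)) (ptsClosed_range _)
    fun z hz g => weylNorm_central iT hG hT Φ hinv g z hz
  haveI := hfin.to_subtype
  have hcomm : ∀ x : PT ⟶ I, (x ≫ p) ≫ iT ∈ _root_.commutator (PT ⟶ G) := fun x => by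
    rw [← hr]
    exact ⟨x ≫ r, by show (x ≫ r) ≫ i = _; rw [Category.assoc, ← hI.w, ← Category.assoc]⟩
  have hmem : ∀ x : PT ⟶ I, ((x ≫ p) ≫ Φ) ≫ iT ∈ rangePts (Φ ≫ iT) ∧
      ((x ≫ p) ≫ Φ) ≫ iT ∈ _root_.commutator (PT ⟶ G) := fun x => by
    refine ⟨⟨x ≫ p, (Category.assoc _ _ _).symm⟩, ?_⟩
    rw [← Abelianization.ker_of, MonoidHom.mem_ker, hab]
    have h1 : Abelianization.of ((x ≫ p) ≫ iT) = 1 := by
      rw [← MonoidHom.mem_ker, Abelianization.ker_of]; exact hcomm x
    rw [h1, one_pow]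
  let F : (PT ⟶ I) →* (PT ⟶ T) := (ptsHom Φ).comp (ptsHom p)
  haveI : Finite F.range := Finite.of_injective
    (fun y => (⟨(y : PT ⟶ T) ≫ iT, by
      obtain ⟨x, hx⟩ := y.2
      rw [← hx]
      exact hmem x⟩ : {g : PT ⟶ G | g ∈ rangePts (Φ ≫ iT) ∧ g ∈ _root_.commutator (PT ⟶ G)}))
    fun a b h => Subtype.ext ((cancel_mono iT).mp (congrArg Subtype.val h))
  have hF : ∀ x, F x = 1 := fun x => by
    obtain ⟨y, rfl⟩ := exists_pow_eq hIt (Nat.card_pos (α := F.range)).ne' x
    rw [map_pow]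
    exact congrArg Subtype.val (pow_card_eq_one' (x := (⟨F y, y, rfl⟩ : F.range)))
  have hpχ : p ≫ χ = 1 := by
    refine LiftUnique.hom_ext_pts (toUnit H) (toUnit_unique _ _) fun x => ?_
    rw [MonObj.comp_one]
    obtain ⟨y, rfl⟩ := exists_pow_eq hIt hm x
    have h1 := hχΦ H χ (fun n ψ _ _ hψ => hχ n⁻¹ ψ hψ) (y ≫ p)
    rw [← Category.assoc, show (y ≫ p) ≫ Φ = 1 from hF y, MonObj.one_comp] at h1
    show ptsHom (p ≫ χ) (y ^ m) = 1
    rw [map_pow, show ptsHom (p ≫ χ) y = (y ≫ p) ≫ χ by exact (Category.assoc y p χ).symm]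
    exact h1.symm
  have hk : AlgGrp.IsKernel p (iT ≫ q) := by
    have h2 := (hI.flip).paste_horiz hker.flip |>.flip
    rw [toUnit_unique (r ≫ toUnit D) (toUnit I)] at h2
    exact h2
  obtain ⟨e, he⟩ := GrpSchLib.SemiabDescent.exists_factor_quot (iT ≫ q) hk χ hpχ
  have hval : ∀ (g : PT ⟶ G) (t : PT ⟶ T), (t ≫ iT) ≫ q = g ≫ q → g ≫ q ≫ e = t ≫ χ := fun g t h => by
    rw [← Category.assoc, ← h, ← he]
    simp only [Category.assoc]
  haveI : Smooth (G ⊗ G).hom := inferInstanceAs (Smooth (Limits.pullback.fst G.hom G.hom ≫ G.hom))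
  haveI : IsReduced (G ⊗ G).left := isReduced_of_smooth_field (G ⊗ G).hom
  have huniv : (fst G G * snd G G) ≫ q ≫ e = (fst G G ≫ q ≫ e) * (snd G G ≫ q ≫ e) := by
    refine LiftUnique.hom_ext_pts (toUnit H) (toUnit_unique _ _) fun w => ?_
    rw [MonObj.comp_mul, ← Category.assoc, MonObj.comp_mul]
    simp only [← Category.assoc w]
    obtain ⟨ta, hta⟩ := hlift (w ≫ fst G G)
    obtain ⟨tb, htb⟩ := hlift (w ≫ snd G G)
    simp only [Category.assoc] at hta htb
    have ha := hval (w ≫ fst G G) ta (by simpa only [Category.assoc] using hta)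
    have hb := hval (w ≫ snd G G) tb (by simpa only [Category.assoc] using htb)
    have hab' := hval ((w ≫ fst G G) * (w ≫ snd G G)) (ta * tb) (by
      simp only [MonObj.mul_comp, Category.assoc, hta, htb])
    rw [MonObj.mul_comp ta tb χ] at hab'
    rw [← ha, ← hb] at hab'
    simpa only [Category.assoc] using hab'
  have hψm : IsMonHom (q ≫ e) := AGFLib.isMonHom_of_mul (q ≫ e) fun X a b => by
    have h1 := congrArg (lift a b ≫ ·) huniv
    simp only [MonObj.comp_mul, ← Category.assoc (lift a b), lift_fst, lift_snd] at h1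
    exact h1
  refine ⟨q ≫ e, hψm, ?_⟩
  rw [← Category.assoc, he]

/-- Reductivity descends from the geometric fibre over an algebraically closed field. -/
theorem isReductiveOver_of_geomFibre {G : Over (Spec (CommRingCat.of k))} [GrpObj G] [IsAffine G.left] [Smooth G.hom]
    (s : Spec (CommRingCat.of k))
    (h : Red.IsReductiveOver (AlgebraicClosure ((Spec (CommRingCat.of k)).residueField s)) (Red.geomFibre s G)) :
    Red.IsReductiveOver k G := by
  haveI : (Over.pullback (Red.geomPt s)).IsRightAdjoint := (Over.mapPullbackAdj (Red.geomPt s)).isRightAdjoint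
  refine ⟨inferInstance, inferInstance, connectedSpace_of_geomFibre s h.2.2.1, fun U _ i _ hci hsU hcU hn hnt => ?_⟩
  haveI := hci
  haveI := hsU
  haveI := hcU
  exact isTrivialGrp_of_geomFibre s (h.2.2.2 (Red.geomFibre s U) ((Over.pullback (Red.geomPt s)).map i)
    inferInstance (inferInstanceAs (Smooth (Limits.pullback.snd U.hom (Red.geomPt s))))
    (geomFibre_props hnt s).1 (isNormalHom_bc _ i hn) (geomFibre_props hnt s).2)

end Groth.Agent.SolvGrp
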