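import Groth.Agent.GrpSchLib.AffineHopf
import Groth.Agent.AlgSpPts.Sep
import Groth.Agent.GrpSchLib.AntiAffineHom
import Groth.Agent.MultTypeLib.SmoothLifting
import Groth.Agent.S1488
import Groth.Prelude.Def_AGF

/-! The torsion of order prime to the characteristic of a smooth affine group is smooth. -/

set_option backward.isDefEq.respectTransparency false
set_option backward.isDefEq.respectTransparency.types false
set_option linter.style.haveILetI false

universe u

open CategoryTheory MonoidalCategory CartesianMonoidalCategory MonObj AlgebraicGeometry TensorProduct WithConv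

namespace Groth.Agent.SolvGrp.Tors

open GrpSchLib.AffineHopf

section Alg

variable {k A B : Type u} [Field k] [CommRing A] [HopfAlgebra k A] [CommRing B] [Algebra k B] (J : Ideal B)

local notation "e₀" => (1 : WithConv (A →ₐ[k] B))

/-- Congruence to the unit. -/
def Infl (u : WithConv (A →ₐ[k] B)) : Prop := ∀ a, u a - e₀ a ∈ J

variable {J}

theorem mul_apply (hJ : J * J = ⊥) {u v : WithConv (A →ₐ[k] B)} (hu : Infl J u) (hv : Infl J v) (a : A) :
    (u * v) a = u a + v a - e₀ a := by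
  have h1 : u a = Algebra.TensorProduct.lift u.ofConv (e₀).ofConv (fun _ _ => .all ..) (Coalgebra.comul a) := by
    rw [← AlgHom.convMul_apply, _root_.mul_one]
  have h2 : v a = Algebra.TensorProduct.lift (e₀).ofConv v.ofConv (fun _ _ => .all ..) (Coalgebra.comul a) := by
    rw [← AlgHom.convMul_apply, _root_.one_mul]
  have h3 : e₀ a = Algebra.TensorProduct.lift (e₀).ofConv (e₀).ofConv (fun _ _ => .all ..) (Coalgebra.comul a) := by
    rw [← AlgHom.convMul_apply, _root_.one_mul]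
  rw [AlgHom.convMul_apply, h1, h2, h3, eq_sub_iff_add_eq]
  generalize Coalgebra.comul (R := k) a = z
  induction z using TensorProduct.induction_on with
  | zero => simp
  | tmul p q =>
    simp only [Algebra.TensorProduct.lift_tmul]
    have h0 : (u.ofConv p - (e₀).ofConv p) * (v.ofConv q - (e₀).ofConv q) = 0 := by
      have := Ideal.mul_mem_mul (hu p) (hv q)
      rwa [hJ, Ideal.mem_bot] at this
    linear_combination h0
  | add p q hp hq =>
    simp only [map_add]
    linear_combination hp + hq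

theorem Infl.mul (hJ : J * J = ⊥) {u v : WithConv (A →ₐ[k] B)} (hu : Infl J u) (hv : Infl J v) : Infl J (u * v) :=
  fun a => by
    rw [mul_apply hJ hu hv, show u a + v a - e₀ a - e₀ a = (u a - e₀ a) + (v a - e₀ a) by ring]
    exact J.add_mem (hu a) (hv a)

theorem Infl.pow (hJ : J * J = ⊥) {u : WithConv (A →ₐ[k] B)} (hu : Infl J u) (n : ℕ) :
    Infl J (u ^ n) ∧ ∀ a, (u ^ n) a = e₀ a + n • (u a - e₀ a) := by
  induction n with
  | zero => exact ⟨fun a => by simp [pow_zero], fun a => by simp [pow_zero]⟩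
  | succ n ih =>
    rw [pow_succ]
    refine ⟨ih.1.mul hJ hu, fun a => ?_⟩
    rw [mul_apply hJ ih.1 hu, ih.2 a, succ_nsmul]
    ring

/-- Scaling an infinitesimal point. -/
theorem exists_scale (hJ : J * J = ⊥) {u : WithConv (A →ₐ[k] B)} (hu : Infl J u) (c : k) :
    ∃ w : WithConv (A →ₐ[k] B), Infl J w ∧ ∀ a, w a = e₀ a + c • (u a - e₀ a) := by
  let f : A →ₗ[k] B := (e₀).ofConv.toLinearMap + c • (u.ofConv.toLinearMap - (e₀).ofConv.toLinearMap)
  have hf : ∀ a, f a = e₀ a + c • (u a - e₀ a) := fun a => rfl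
  have h0 : ∀ p q, (u p - e₀ p) * (u q - e₀ q) = 0 := fun p q => by
    have := Ideal.mul_mem_mul (hu p) (hu q)
    rwa [hJ, Ideal.mem_bot] at this
  have h1 : f 1 = 1 := by rw [hf]; simp [map_one u.ofConv, map_one (e₀).ofConv]
  have hm : ∀ p q, f (p * q) = f p * f q := fun p q => by
    rw [hf, hf, hf, show u (p * q) = u p * u q from map_mul u.ofConv p q,
      show e₀ (p * q) = e₀ p * e₀ q from map_mul (e₀).ofConv p q]
    simp only [Algebra.smul_def]
    linear_combination (algebraMap k B c - algebraMap k B c ^ 2) * h0 p q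
  refine ⟨toConv (AlgHom.ofLinearMap f h1 hm), fun a => ?_, hf⟩
  show f a - e₀ a ∈ J
  rw [hf, add_sub_cancel_left, Algebra.smul_def]
  exact J.mul_mem_left _ (hu a)

/-- Infinitesimal points are uniquely divisible by integers invertible in the field. -/
theorem existsUnique_root (hJ : J * J = ⊥) {u : WithConv (A →ₐ[k] B)} (hu : Infl J u) {n : ℕ} (hn : (n : k) ≠ 0) :
    ∃ w : WithConv (A →ₐ[k] B), Infl J w ∧ w ^ n = u ∧ ∀ w', Infl J w' → w' ^ n = u → w' = w := by
  obtain ⟨w, hw, hwe⟩ := exists_scale hJ hu (n : k)⁻¹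
  refine ⟨w, hw, ?_, fun w' hw' h => ?_⟩
  · apply WithConv.ofConv_injective
    refine AlgHom.ext fun a => ?_
    show (w ^ n) a = u a
    rw [(hw.pow hJ n).2, hwe, add_sub_cancel_left, ← Nat.cast_smul_eq_nsmul k n, smul_smul, mul_inv_cancel₀ hn, one_smul]
    ring
  · apply WithConv.ofConv_injective
    refine AlgHom.ext fun a => ?_
    show w' a = w a
    rw [hwe, ← h, (hw'.pow hJ n).2, add_sub_cancel_left, ← Nat.cast_smul_eq_nsmul k n, smul_smul, inv_mul_cancel₀ hn,
      one_smul]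
    ring

/-- A torsion point modulo a square zero ideal lifts to a torsion point. -/
theorem exists_torsion_lift (hJ : J * J = ⊥) (n : ℕ) (hn : (n : k) ≠ 0) (y : A →ₐ[k] B)
    (hy : spMap ((Ideal.Quotient.mkₐ k J).comp y) ^ n = 1) :
    ∃ y' : A →ₐ[k] B, spMap y' ^ n = 1 ∧ (Ideal.Quotient.mkₐ k J).comp y' = (Ideal.Quotient.mkₐ k J).comp y := by
  let q := Ideal.Quotient.mkₐ k J
  have hq : ∀ u : WithConv (A →ₐ[k] B), Infl J u ↔ spMap (q.comp u.ofConv) = 1 := by
    intro u
    rw [show (1 : sp k (B ⧸ J) ⟶ sp k A) = spMap (1 : WithConv (A →ₐ[k] B ⧸ J)).ofConv from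
      (map_one Spec.mapMulEquiv).symm]
    constructor
    · intro h
      refine congrArg spMap (AlgHom.ext fun a => ?_)
      show Ideal.Quotient.mk J (u a) = algebraMap k (B ⧸ J) (Coalgebra.counit a)
      rw [Ideal.Quotient.mk_eq_mk_iff_sub_mem (u a) (algebraMap k B (Coalgebra.counit a)) |>.mpr (h a)]
      rfl
    · intro h a
      have h2 := DFunLike.congr_fun (spMap_injective h) a
      exact (Ideal.Quotient.mk_eq_mk_iff_sub_mem _ _).mp h2
  have hqm : ∀ u v : WithConv (A →ₐ[k] B), spMap (q.comp (u * v).ofConv) = spMap (q.comp u.ofConv) * spMap (q.comp v.ofConv) :=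
    fun u v => by rw [spMap_mul, AlgHom.comp_convMul_distrib]
  have hqp : ∀ (u : WithConv (A →ₐ[k] B)) (m : ℕ), spMap (q.comp (u ^ m).ofConv) = spMap (q.comp u.ofConv) ^ m := by
    intro u m
    rw [← spMap_comp, ← spMap_comp, ← MonObj.comp_pow]
    congr 1
    exact map_pow Spec.mapMulEquiv u m
  let Y : WithConv (A →ₐ[k] B) := toConv y
  have he : Infl J (Y ^ n) := (hq _).mpr (by rw [hqp]; exact hy)
  obtain ⟨w, hw, hwn, huniq⟩ := existsUnique_root hJ he hn
  -- the root commutes with the point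
  let E : WithConv (A →ₐ[k] B) ≃* (sp k B ⟶ sp k A) := Spec.mapMulEquiv
  have hcomm : E Y * E w * (E Y)⁻¹ = E w := by
    obtain ⟨z, hz⟩ := E.surjective (E Y * E w * (E Y)⁻¹)
    rw [← hz]
    congr 1
    refine huniq z ((hq z).mpr ?_) ?_
    · rw [← spMap_comp, show spMap z.ofConv = E z from rfl, hz, MonObj.comp_mul, MonObj.comp_mul, GrpObj.comp_inv,
        show spMap q ≫ E w = 1 by rw [show E w = spMap w.ofConv from rfl, spMap_comp]; exact (hq w).mp hw,
        _root_.mul_one, mul_inv_cancel]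
    · apply E.injective
      rw [map_pow, hz, conj_pow, ← map_pow E w, hwn, map_pow, ← _root_.pow_succ', _root_.pow_succ, mul_inv_cancel_right]
  obtain ⟨f, hf⟩ := exists_eq_spMap (E Y * (E w)⁻¹)
  refine ⟨f, ?_, ?_⟩
  · have hc : Commute (E Y) (E w)⁻¹ := by
      refine Commute.inv_right ?_
      exact mul_inv_eq_iff_eq_mul.mp hcomm
    rw [← hf, hc.mul_pow, inv_pow, ← map_pow, ← map_pow, hwn, mul_inv_cancel]
  · apply spMap_injective
    rw [← spMap_comp, ← hf, MonObj.comp_mul, GrpObj.comp_inv,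
      show spMap q ≫ E w = 1 by rw [show E w = spMap w.ofConv from rfl, spMap_comp]; exact (hq w).mp hw,
      inv_one, _root_.mul_one, show E Y = spMap y from rfl, spMap_comp]

/-- An element fixed by a finite order conjugation exists in each fixed coset. -/
theorem exists_fix {M : Type*} [Group M] (K : Subgroup M) [K.Normal] (hcomm : ∀ a ∈ K, ∀ b ∈ K, Commute a b)
    (n : ℕ) (hroot : ∀ u ∈ K, ∃ w ∈ K, w ^ n = u ∧ ∀ w' ∈ K, w' ^ n = u → w' = w)
    (t : M) (ht : t ^ n = 1) (y : M) (hy : t * y * t⁻¹ * y⁻¹ ∈ K) :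
    ∃ δ ∈ K, t * (δ * y) * t⁻¹ = δ * y := by
  letI : CommGroup K := { (inferInstance : Group K) with mul_comm := fun a b => Subtype.ext (hcomm a.1 a.2 b.1 b.2) }
  have hc : ∀ j : ℕ, t ^ j * y * (t ^ j)⁻¹ * y⁻¹ ∈ K := by
    intro j
    induction j with
    | zero => simp
    | succ j ih =>
      have h1 := mul_mem ((inferInstance : K.Normal).conj_mem _ ih t) hy
      convert h1 using 1
      rw [_root_.pow_succ']
      group
  let c : ℕ → K := fun j => ⟨_, hc j⟩
  let φ : K →* K := (MulAut.conjNormal t : K ≃* K).toMonoidHom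
  have hφ : ∀ a : K, (φ a : M) = t * a * t⁻¹ := fun a => MulAut.conjNormal_apply t a
  have hstep : ∀ j, φ (c j) * c 1 = c (j + 1) := fun j => Subtype.ext (by
    rw [Subgroup.coe_mul, hφ]
    show t * (t ^ j * y * (t ^ j)⁻¹ * y⁻¹) * t⁻¹ * (t ^ 1 * y * (t ^ 1)⁻¹ * y⁻¹) =
      t ^ (j + 1) * y * (t ^ (j + 1))⁻¹ * y⁻¹
    rw [pow_one, _root_.pow_succ']
    group)
  let P : K := ∏ j ∈ Finset.range n, c j
  obtain ⟨δ, hδ, hδn, huniq⟩ := hroot P.1 P.2
  refine ⟨δ, hδ, ?_⟩
  have hn0 : c n = c 0 := Subtype.ext (by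
    show t ^ n * y * (t ^ n)⁻¹ * y⁻¹ = t ^ 0 * y * (t ^ 0)⁻¹ * y⁻¹
    rw [ht, pow_zero])
  have hP : φ P * c 1 ^ n = P := by
    rw [map_prod, ← Finset.card_range n, ← Finset.prod_const, Finset.card_range, ← Finset.prod_mul_distrib]
    simp only [hstep]
    show ∏ j ∈ Finset.range n, c (j + 1) = P
    have h1 := Finset.prod_range_succ' c n
    rw [Finset.prod_range_succ, hn0] at h1
    exact (mul_right_cancel h1).symm
  have hsq : (φ ⟨δ, hδ⟩ * c 1) ^ n = P := by
    rw [mul_pow, ← map_pow, show (⟨δ, hδ⟩ : K) ^ n = P from Subtype.ext hδn, hP]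
  have key := huniq _ (φ ⟨δ, hδ⟩ * c 1).2 (congrArg Subtype.val hsq)
  rw [Subgroup.coe_mul, hφ] at key
  change t * δ * t⁻¹ * (t ^ 1 * y * (t ^ 1)⁻¹ * y⁻¹) = δ at key
  rw [pow_one] at key
  calc t * (δ * y) * t⁻¹ = t * δ * t⁻¹ * (t * y * t⁻¹ * y⁻¹) * y := by group
    _ = δ * y := by rw [key]

/-- The infinitesimal points form a normal commutative subgroup with unique roots. -/
theorem exists_fixed_lift (hJ : J * J = ⊥) (n : ℕ) (hn : (n : k) ≠ 0) (t y : sp k B ⟶ sp k A) (ht : t ^ n = 1)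
    (hy : spMap (Ideal.Quotient.mkₐ k J) ≫ (t * y * t⁻¹ * y⁻¹) = 1) :
    ∃ δ : sp k B ⟶ sp k A, spMap (Ideal.Quotient.mkₐ k J) ≫ δ = 1 ∧ t * (δ * y) * t⁻¹ = δ * y := by
  let q : sp k (B ⧸ J) ⟶ sp k B := spMap (Ideal.Quotient.mkₐ k J)
  let π : (sp k B ⟶ sp k A) →* (sp k (B ⧸ J) ⟶ sp k A) :=
    { toFun := fun x => q ≫ x, map_one' := MonObj.comp_one q, map_mul' := fun a b => MonObj.comp_mul q a b }
  let E : WithConv (A →ₐ[k] B) ≃* (sp k B ⟶ sp k A) := Spec.mapMulEquiv
  have hE : ∀ u, Infl J u ↔ E u ∈ π.ker := by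
    intro u
    rw [MonoidHom.mem_ker]
    show Infl J u ↔ spMap (Ideal.Quotient.mkₐ k J) ≫ spMap u.ofConv = 1
    rw [spMap_comp, show (1 : sp k (B ⧸ J) ⟶ sp k A) = spMap (1 : WithConv (A →ₐ[k] B ⧸ J)).ofConv from
      (map_one Spec.mapMulEquiv).symm]
    constructor
    · intro h
      refine congrArg spMap (AlgHom.ext fun a => ?_)
      show Ideal.Quotient.mk J (u a) = algebraMap k (B ⧸ J) (Coalgebra.counit a)
      rw [Ideal.Quotient.mk_eq_mk_iff_sub_mem (u a) (algebraMap k B (Coalgebra.counit a)) |>.mpr (h a)]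
      rfl
    · intro h a
      exact (Ideal.Quotient.mk_eq_mk_iff_sub_mem _ _).mp (DFunLike.congr_fun (spMap_injective h) a)
  refine exists_fix π.ker (fun a ha b hb => ?_) n (fun u hu => ?_) t ht y hy
  · obtain ⟨a, rfl⟩ := E.surjective a
    obtain ⟨b, rfl⟩ := E.surjective b
    refine (Commute.map ?_ E.toMonoidHom)
    show a * b = b * a
    refine WithConv.ofConv_injective (AlgHom.ext fun x => ?_)
    show (a * b) x = (b * a) x
    rw [mul_apply hJ ((hE a).mpr ha) ((hE b).mpr hb), mul_apply hJ ((hE b).mpr hb) ((hE a).mpr ha)]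
    ring
  · obtain ⟨u, rfl⟩ := E.surjective u
    obtain ⟨w, hw, hwn, huniq⟩ := existsUnique_root hJ ((hE u).mpr hu) hn
    refine ⟨E w, (hE w).mp hw, by rw [← map_pow, hwn], fun w' hw' h => ?_⟩
    obtain ⟨w', rfl⟩ := E.surjective w'
    rw [← map_pow] at h
    rw [huniq w' ((hE w').mpr hw') (E.injective h)]

end Alg

variable {k : Type u} [Field k]

/-- The kernel of a power prime to the characteristic of a smooth affine group is smooth. -/
theorem smooth_powKer {G K : Over (Spec (CommRingCat.of k))} [GrpObj G] [IsAffine G.left] [Smooth G.hom] (n : ℕ)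
    (hn : (n : k) ≠ 0) (inc : K ⟶ G) (hK : IsPullback inc (toUnit K) (𝟙 G ^ n) η[G]) : Smooth K.hom := by
  obtain ⟨A, _, _, ⟨e⟩⟩ := exists_hopf G
  let eO : sp k A ≅ G := (Grp.forget _).mapIso e
  haveI : IsMonHom eO.hom := e.hom.hom.isMonHom_hom
  haveI : IsClosedImmersion inc.left := by
    haveI := GrpSchLib.AntiAffine.isSeparated_grp G
    haveI : IsClosedImmersion η[G].left := by
      haveI : IsClosedImmersion (η[G].left ≫ G.hom) := by
        rw [Over.w η[G]]; exact inferInstanceAs (IsClosedImmersion (𝟙 (Spec (CommRingCat.of k))))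
      exact IsClosedImmersion.of_comp η[G].left G.hom
    exact MorphismProperty.of_isPullback (P := @IsClosedImmersion) (hK.map (Over.forget _)).flip ‹_›
  haveI : IsAffine K.left := isAffine_of_isAffineHom inc.left
  haveI : IsAffineHom K.hom := isAffineHom_of_isAffine K.hom
  haveI : LocallyOfFiniteType K.hom := by rw [← Over.w inc]; infer_instance
  haveI : LocallyOfFinitePresentation K.hom := AlgSpPts.locallyOfFinitePresentation_of_comp K.hom (𝟙 _)
  refine MultTypeLib.SmoothLifting.smooth_of_lift K.hom fun B _ J hJ t p₀ hp₀ => ?_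
  letI : Algebra k B := (Spec.preimage t).hom.toAlgebra
  have ht : Spec.map (CommRingCat.ofHom (algebraMap k B)) = t := Spec.map_preimage t
  have hJ2 : J * J = ⊥ := by rw [← pow_two]; exact hJ
  let P : sp k (B ⧸ J) ⟶ K := Over.homMk p₀ (by
    rw [hp₀, ← ht, ← Spec.map_comp]
    rfl)
  have hP : (P ≫ inc) ^ n = 1 := by
    have h1 := congrArg (P ≫ ·) hK.w
    simp only [← Category.assoc] at h1
    rw [MonObj.comp_pow, Category.comp_id, toUnit_unique (P ≫ toUnit K) (toUnit _), ← Hom.one_def] at h1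
    exact h1
  obtain ⟨l, hl1, hl2⟩ := ((Groth.Agent.S1488.result G.hom).mp inferInstance).2 B J hJ (P ≫ inc).left t (by
    rw [← hp₀]
    show p₀ ≫ K.hom = (p₀ ≫ inc.left) ≫ G.hom
    rw [Category.assoc, Over.w inc])
  let L : sp k B ⟶ G := Over.homMk l (by rw [hl2, ← ht]; rfl)
  have hL : spMap (Ideal.Quotient.mkₐ k J) ≫ L = P ≫ inc := Over.OverMorphism.ext hl1
  obtain ⟨y, hy⟩ := exists_eq_spMap (L ≫ eO.inv)
  haveI : IsMonHom eO.inv := inferInstance
  obtain ⟨y', hy1, hy2⟩ := exists_torsion_lift hJ2 n hn y (by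
    rw [← spMap_comp, ← hy, ← Category.assoc, hL, ← MonObj.pow_comp, hP, MonObj.one_comp])
  have hw : (spMap y' ≫ eO.hom) ≫ (𝟙 G ^ n) = toUnit _ ≫ η[G] := by
    rw [MonObj.comp_pow, Category.comp_id, ← MonObj.pow_comp, hy1, MonObj.one_comp, ← Hom.one_def]
  refine ⟨(hK.lift _ _ hw).left, ?_, ?_⟩
  · rw [Over.w (hK.lift _ _ hw)]
    exact ht
  · haveI : Mono inc.left := inferInstance
    rw [← cancel_mono inc.left]
    have h3 : (spMap (Ideal.Quotient.mkₐ k J) ≫ hK.lift _ _ hw) ≫ inc = P ≫ inc := by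
      rw [Category.assoc, hK.lift_fst, ← Category.assoc, spMap_comp, hy2, ← spMap_comp, ← hy, Category.assoc,
        Category.assoc, Iso.inv_hom_id, Category.comp_id, hL]
    exact congrArg (fun m => m.left) h3

/-- The centraliser of a torsion point of order prime to the characteristic is smooth. -/
theorem smooth_centPt {G Z : Over (Spec (CommRingCat.of k))} [GrpObj G] [IsAffine G.left] [Smooth G.hom] (n : ℕ)
    (hn : (n : k) ≠ 0) (g : 𝟙_ _ ⟶ G) (hg : g ^ n = 1) (inc : Z ⟶ G)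
    (hZ : IsPullback inc (toUnit Z) (AGF.conjBy g (𝟙 G) * (𝟙 G)⁻¹) η[G]) : Smooth Z.hom := by
  obtain ⟨A, _, _, ⟨e⟩⟩ := exists_hopf G
  let eO : sp k A ≅ G := (Grp.forget _).mapIso e
  haveI : IsMonHom eO.hom := e.hom.hom.isMonHom_hom
  haveI : IsClosedImmersion inc.left := by
    haveI := GrpSchLib.AntiAffine.isSeparated_grp G
    haveI : IsClosedImmersion η[G].left := by
      haveI : IsClosedImmersion (η[G].left ≫ G.hom) := by
        rw [Over.w η[G]]; exact inferInstanceAs (IsClosedImmersion (𝟙 (Spec (CommRingCat.of k))))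
      exact IsClosedImmersion.of_comp η[G].left G.hom
    exact MorphismProperty.of_isPullback (P := @IsClosedImmersion) (hZ.map (Over.forget _)).flip ‹_›
  haveI : IsAffine Z.left := isAffine_of_isAffineHom inc.left
  haveI : IsAffineHom Z.hom := isAffineHom_of_isAffine Z.hom
  haveI : LocallyOfFiniteType Z.hom := by rw [← Over.w inc]; infer_instance
  haveI : LocallyOfFinitePresentation Z.hom := AlgSpPts.locallyOfFinitePresentation_of_comp Z.hom (𝟙 _)
  have hcomp : ∀ {T : Over (Spec (CommRingCat.of k))} (x : T ⟶ G), x ≫ (AGF.conjBy g (𝟙 G) * (𝟙 G)⁻¹) =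
      (toUnit T ≫ g) * x * (toUnit T ≫ g)⁻¹ * x⁻¹ := fun x => by
    simp only [AGF.conjBy, MonObj.comp_mul, GrpObj.comp_inv, ← Category.assoc, comp_toUnit, Category.comp_id]
  refine MultTypeLib.SmoothLifting.smooth_of_lift Z.hom fun B _ J hJ t p₀ hp₀ => ?_
  letI : Algebra k B := (Spec.preimage t).hom.toAlgebra
  have ht : Spec.map (CommRingCat.ofHom (algebraMap k B)) = t := Spec.map_preimage t
  have hJ2 : J * J = ⊥ := by rw [← pow_two]; exact hJ
  let P : sp k (B ⧸ J) ⟶ Z := Over.homMk p₀ (by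
    rw [hp₀, ← ht, ← Spec.map_comp]
    rfl)
  have hP : (toUnit _ ≫ g) * (P ≫ inc) * (toUnit _ ≫ g)⁻¹ * (P ≫ inc)⁻¹ = 1 := by
    have h1 := congrArg (P ≫ ·) hZ.w
    simp only [← Category.assoc] at h1
    rw [hcomp, toUnit_unique (P ≫ toUnit Z) (toUnit _), ← Hom.one_def] at h1
    exact h1
  obtain ⟨l, hl1, hl2⟩ := ((Groth.Agent.S1488.result G.hom).mp inferInstance).2 B J hJ (P ≫ inc).left t (by
    rw [← hp₀]
    show p₀ ≫ Z.hom = (p₀ ≫ inc.left) ≫ G.hom
    rw [Category.assoc, Over.w inc])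
  let L : sp k B ⟶ G := Over.homMk l (by rw [hl2, ← ht]; rfl)
  have hL : spMap (Ideal.Quotient.mkₐ k J) ≫ L = P ≫ inc := Over.OverMorphism.ext hl1
  obtain ⟨δ, hδ, hfix⟩ := exists_fixed_lift hJ2 n hn (toUnit _ ≫ g ≫ eO.inv) (L ≫ eO.inv) (by
    rw [← MonObj.comp_pow, ← MonObj.pow_comp, hg, MonObj.one_comp, MonObj.comp_one]) (by
    have h2 := congrArg (· ≫ eO.inv) hP
    simp only [MonObj.mul_comp, GrpObj.inv_comp, MonObj.one_comp, Category.assoc] at h2
    simp only [MonObj.comp_mul, GrpObj.comp_inv, ← Category.assoc (spMap _), comp_toUnit, hL]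
    simpa only [Category.assoc] using h2)
  let M : sp k B ⟶ G := (δ * (L ≫ eO.inv)) ≫ eO.hom
  have hw : M ≫ (AGF.conjBy g (𝟙 G) * (𝟙 G)⁻¹) = toUnit _ ≫ η[G] := by
    rw [hcomp, ← Hom.one_def, mul_inv_eq_one]
    have h2 := congrArg (· ≫ eO.hom) hfix
    simp only [MonObj.mul_comp, GrpObj.inv_comp, Category.assoc, Iso.inv_hom_id, Category.comp_id] at h2
    simp only [M, MonObj.mul_comp, Category.assoc, Iso.inv_hom_id, Category.comp_id]
    exact h2
  refine ⟨(hZ.lift _ _ hw).left, ?_, ?_⟩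
  · rw [Over.w (hZ.lift _ _ hw)]
    exact ht
  · haveI : Mono inc.left := inferInstance
    rw [← cancel_mono inc.left]
    have h3 : (spMap (Ideal.Quotient.mkₐ k J) ≫ hZ.lift _ _ hw) ≫ inc = P ≫ inc := by
      rw [Category.assoc, hZ.lift_fst, ← Category.assoc, MonObj.comp_mul, hδ, _root_.one_mul, Category.assoc,
        Category.assoc, Iso.inv_hom_id, Category.comp_id, hL]
    exact congrArg (fun m => m.left) h3

end Groth.Agent.SolvGrp.Tors
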