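import Groth.Agent.SolvGrp.TorusDense
import Groth.Agent.SolvGrp.TorsionSmooth
import Groth.Agent.SolvGrp.CharExtend
import Groth.Agent.SmoothSecLib.Basic

/-! Torsion points of smooth affine groups over separably closed fields. -/

set_option backward.isDefEq.respectTransparency false
set_option backward.isDefEq.respectTransparency.types false
set_option linter.style.haveILetI false

universe u

open CategoryTheory MonoidalCategory CartesianMonoidalCategory MonObj AlgebraicGeometry

namespace Groth.Agent.SolvGrp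

open GrpSchLib GrpSchLib.Kunneth GrpSchLib.LineGroups WeilCmp.Unip AGFLib AGFLib.Gen AGFLib.BorelFixed AGFLib.BorelExist

variable {k : Type u} [Field k]

local notation "PT" => 𝟙_ (Over (Spec (CommRingCat.of k)))

/-- An endomorphism of finite order prime to the characteristic is diagonalisable. -/
theorem isDiag_of_pow_eq_one [IsAlgClosed k] {V : Type*} [AddCommGroup V] [Module k V] (f : Module.End k V) {n : ℕ}
    (hn : (n : k) ≠ 0) (hf : f ^ n = 1) : IsDiag f := by
  classical
  haveI : NeZero (n : k) := ⟨hn⟩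
  obtain ⟨ζ, hζ⟩ := HasEnoughRootsOfUnity.exists_primitiveRoot k n
  have hn0 : n ≠ 0 := fun h => hn (by simp [h])
  have hζ0 : ζ ≠ 0 := hζ.ne_zero hn0
  refine eq_top_iff.mpr fun v _ => ?_
  let w : ℕ → V := fun i => (n : k)⁻¹ • ∑ j ∈ Finset.range n, ((ζ ^ i)⁻¹) ^ j • (f ^ j) v
  have hw : ∀ i, f (w i) = ζ ^ i • w i := by
    intro i
    simp only [w, map_smul, map_sum, Finset.smul_sum, smul_smul]
    let g : ℕ → V := fun j => ((n : k)⁻¹ * (ζ ^ i * ((ζ ^ i)⁻¹) ^ j)) • (f ^ j) v
    calc ∑ j ∈ Finset.range n, ((n : k)⁻¹ * ((ζ ^ i)⁻¹) ^ j) • f ((f ^ j) v)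
        = ∑ j ∈ Finset.range n, g (j + 1) := Finset.sum_congr rfl fun j _ => by
          show _ = ((n : k)⁻¹ * (ζ ^ i * ((ζ ^ i)⁻¹) ^ (j + 1))) • (f ^ (j + 1)) v
          rw [_root_.pow_succ' f j, _root_.pow_succ' ((ζ ^ i)⁻¹) j, ← _root_.mul_assoc (ζ ^ i),
            mul_inv_cancel₀ (pow_ne_zero i hζ0), _root_.one_mul]
          rfl
      _ = ∑ j ∈ Finset.range n, g j := by
          have hgn : g n = g 0 := by
            simp only [g, hf, pow_zero]
            rw [inv_pow, ← pow_mul, mul_comm i n, pow_mul, hζ.pow_eq_one, one_pow, inv_one]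
          have h1 := Finset.sum_range_succ' g n
          rw [Finset.sum_range_succ, hgn] at h1
          exact (add_right_cancel h1).symm
      _ = _ := Finset.sum_congr rfl fun j _ => by
          show ((n : k)⁻¹ * (ζ ^ i * ((ζ ^ i)⁻¹) ^ j)) • (f ^ j) v = _
          congr 1
          ring
  have hsum : ∑ i ∈ Finset.range n, w i = v := by
    simp only [w, ← Finset.smul_sum]
    rw [Finset.sum_comm]
    have hj : ∀ j ∈ Finset.range n, ∑ i ∈ Finset.range n, ((ζ ^ i)⁻¹) ^ j • (f ^ j) v =
        if j = 0 then (n : k) • v else 0 := by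
      intro j hj
      rw [← Finset.sum_smul]
      by_cases hj0 : j = 0
      · subst hj0
        simp
      · rw [if_neg hj0]
        have h1 : ∑ i ∈ Finset.range n, ((ζ ^ i)⁻¹) ^ j = ∑ i ∈ Finset.range n, ((ζ ^ j)⁻¹) ^ i :=
          Finset.sum_congr rfl fun i _ => by rw [inv_pow, inv_pow, ← pow_mul, ← pow_mul, mul_comm]
        have hne : (ζ ^ j)⁻¹ ≠ 1 := by
          rw [ne_eq, inv_eq_one]
          exact hζ.pow_ne_one_of_pos_of_lt hj0 (Finset.mem_range.mp hj)
        rw [h1, geom_sum_eq hne, inv_pow, ← pow_mul, mul_comm j n, pow_mul, hζ.pow_eq_one, one_pow, inv_one, sub_self,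
          zero_div, zero_smul]
    rw [Finset.sum_congr rfl hj, Finset.sum_ite_eq', if_pos (Finset.mem_range.mpr (Nat.pos_of_ne_zero hn0)), smul_smul,
      inv_mul_cancel₀ hn, one_smul]
  rw [← hsum]
  exact Submodule.sum_mem _ fun i _ => Submodule.mem_iSup_of_mem (ζ ^ i) (Module.End.mem_eigenspace_iff.mpr (hw i))

/-- A rational point of finite order prime to the characteristic is semisimple. -/
theorem isSsPt_of_pow [IsAlgClosed k] {G : Over (Spec (CommRingCat.of k))} [GrpObj G] [IsAffine G.left]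
    [Smooth G.hom] (g : PT ⟶ G) {n : ℕ} (hn : (n : k) ≠ 0) (hg : g ^ n = 1) : IsSsPt g := by
  refine isDiag_of_pow_eq_one _ hn ?_
  have h : ∀ m : ℕ, rl (g ^ m) = rl g ^ m := by
    intro m
    induction m with
    | zero => rw [pow_zero, pow_zero, rl_one]
    | succ m ih => rw [pow_succ, pow_succ, rl_mul, ih]
  rw [← h, hg, rl_one]

/-- The torsion points of given order of a torus are finite. -/
theorem finite_torsion [IsAlgClosed k] {T : Over (Spec (CommRingCat.of k))} [GrpObj T] (hT : Red.IsTorus T)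
    {n : ℕ} (hn : n ≠ 0) : {x : PT ⟶ T | x ^ n = 1}.Finite := by
  classical
  obtain ⟨haT, hsT, -, -⟩ := torus_props hT
  haveI := haT
  haveI := hsT
  haveI : IsReduced T.left := isReduced_of_smooth_field T.hom
  obtain ⟨r, φ, hφ⟩ := exists_torus_chars hT
  have hv : ∀ (x : PT ⟶ T) (i : Multiplicative (Fin r → ℤ)), vl x (φ (MonoidAlgebra.single i 1)) ≠ 0 := fun x i =>
    (((((MonoidAlgebra.of k (Multiplicative (Fin r → ℤ))).toHomUnits i).isUnit).map φ).map (vl x)).ne_zero
  let U : Set k := {z | z ^ n = 1}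
  have hU : U.Finite := by
    refine ((Polynomial.nthRoots n (1 : k)).toFinset.finite_toSet).subset fun z hz => ?_
    rw [Finset.mem_coe, Multiset.mem_toFinset, Polynomial.mem_nthRoots (Nat.pos_of_ne_zero hn)]
    exact hz
  let e : (PT ⟶ T) → (Fin r → k) := fun x a => vl x (φ (MonoidAlgebra.single (Multiplicative.ofAdd (Pi.single a 1)) 1))
  have hchar : ∀ x : PT ⟶ T, ∀ i : Multiplicative (Fin r → ℤ),
      vl x (φ (MonoidAlgebra.single i 1)) = ∏ a, e x a ^ (Multiplicative.toAdd i a) := by
    intro x i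
    let χ : Multiplicative (Fin r → ℤ) →* k := ((vl x).comp φ.toAlgHom : _ →ₐ[k] k).toMonoidHom.comp
      (MonoidAlgebra.of k _)
    show χ i = _
    have hi : i = ∏ a, Multiplicative.ofAdd (Pi.single a (1 : ℤ)) ^ (Multiplicative.toAdd i a) := by
      refine Multiplicative.toAdd.injective ?_
      rw [toAdd_prod]
      ext b
      simp [Finset.sum_apply, Pi.single_apply, toAdd_zpow]
    conv_lhs => rw [hi, map_prod]
    exact Finset.prod_congr rfl fun a _ => map_zpow χ _ _
  have hinj : Function.Injective e := fun x y hxy => vl_ext fun F => by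
    have e' : (vl x : Fn T →ₐ[k] k).comp φ.toAlgHom = (vl y : Fn T →ₐ[k] k).comp φ.toAlgHom :=
      (MonoidAlgebra.lift k k (Multiplicative (Fin r → ℤ))).symm.injective (MonoidHom.ext fun i => by
        show vl x (φ (MonoidAlgebra.single i 1)) = vl y (φ (MonoidAlgebra.single i 1))
        rw [hchar, hchar, hxy])
    exact DFunLike.congr_fun e' (φ.symm F) |> fun h => by simpa using h
  refine ((Set.Finite.pi' fun _ => hU).subset ?_).of_finite_image hinj.injOn
  rintro _ ⟨x, hx, rfl⟩ a
  let χ : (PT ⟶ T) →* k :=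
    { toFun := fun z => vl z (φ (MonoidAlgebra.single (Multiplicative.ofAdd (Pi.single a 1)) 1))
      map_one' := by
        have h1 := hφ 1 1 (Multiplicative.ofAdd (Pi.single a 1))
        rw [_root_.mul_one] at h1
        exact (mul_eq_left₀ (hv 1 _)).mp h1.symm
      map_mul' := fun z w => hφ z w _ }
  show χ x ^ n = 1
  rw [← map_pow, show x ^ n = 1 from hx, map_one]

/-- A smooth scheme over a separably closed field has a rational point in every nonempty open. -/
theorem exists_pt_mem [IsSepClosed k] {Z : Over (Spec (CommRingCat.of k))} [Smooth Z.hom] (O : Z.left.Opens)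
    (hO : ∃ x, x ∈ O) : ∃ r : PT ⟶ Z, r.left (IsLocalRing.closedPoint k) ∈ O := by
  obtain ⟨x, hx⟩ := hO
  obtain ⟨k', _, _, hfin, hsep, t, ht, htO⟩ := SmoothSecLib.exists_separable_point Z.hom O hx
  haveI := hfin
  haveI := hsep
  let e := RingEquiv.ofBijective (algebraMap k k')
    ⟨(algebraMap k k').injective, IsSepClosed.algebraMap_surjective k k'⟩
  refine ⟨Over.homMk (Spec.map (CommRingCat.ofHom (e.symm : k' →+* k)) ≫ t) ?_, ?_⟩
  · rw [Category.assoc, ht, ← Spec.map_comp]
    show Spec.map _ = 𝟙 _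
    rw [← Spec.map_id]
    congr 1
    ext a
    exact e.symm_apply_apply a
  · show (Spec.map (CommRingCat.ofHom (e.symm : k' →+* k)) ≫ t) (IsLocalRing.closedPoint k) ∈ O
    rw [Scheme.Hom.comp_apply, Subsingleton.elim (Spec.map (CommRingCat.ofHom (e.symm : k' →+* k))
      (IsLocalRing.closedPoint k)) (IsLocalRing.closedPoint k')]
    exact htO

/-- Functions on a smooth affine scheme over a separably closed field are determined by rational points. -/
theorem eq_zero_of_allPts [IsSepClosed k] {Z : Over (Spec (CommRingCat.of k))} [IsAffine Z.left] [Smooth Z.hom]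
    (F : Fn Z) (h : ∀ s ∈ (Set.univ : Set (PT ⟶ Z)), vl s F = 0) : F = 0 := by
  haveI : IsReduced Z.left := isReduced_of_smooth_field Z.hom
  exact eq_zero_of_dense _ (fun O hO => (exists_pt_mem O hO).imp fun r hr => ⟨trivial, hr⟩) F h

section Ext

variable {K : Type u} [Field K] (σ : Spec (CommRingCat.of K) ⟶ Spec (CommRingCat.of k))

/-- A point over the larger field lying over a rational point is the extension of that point. -/
theorem eq_extPt_of_mem {Z : Over (Spec (CommRingCat.of k))} [IsAffine Z.left]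
    (y : 𝟙_ (Over (Spec (CommRingCat.of K))) ⟶ Red.bc σ Z) (r : PT ⟶ Z)
    (h : (((Over.mapPullbackAdj σ).homEquiv (𝟙_ _) Z).symm y).left (IsLocalRing.closedPoint K) =
      r.left (IsLocalRing.closedPoint k)) : y = extPt σ r := by
  obtain ⟨w, rfl⟩ := ((Over.mapPullbackAdj σ).homEquiv (𝟙_ _) Z).surjective y
  rw [Equiv.symm_apply_apply] at h
  show _ = (Over.mapPullbackAdj σ).homEquiv _ _ (toUnit _ ≫ r)
  congr 1
  refine ext_ev (AlgHom.ext fun F => ?_)
  have hr : ∀ G : Fn Z, ev r G = algebraMap k _ (vl r G) := fun G =>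
    (AGFLib.ProjAct.algebraMap_toK (k := k) (ev r G)).symm
  have h0 : ev r (F - algebraMap k (Fn Z) (vl r F)) = 0 := by
    rw [map_sub, AlgHom.commutes, hr, sub_self]
  have h1 : ev w (F - algebraMap k (Fn Z) (vl r F)) = 0 := by
    by_contra hne
    let e := (Scheme.ΓSpecIso (CommRingCat.of K)).commRingCatIsoToRingEquiv
    have hu : IsUnit (ev w (F - algebraMap k (Fn Z) (vl r F))) :=
      (MulEquiv.isUnit_map e.toMulEquiv).mp ((map_ne_zero_iff e e.injective).mpr hne).isUnit
    have h2 : IsLocalRing.closedPoint K ∈ ((Over.map σ).obj (𝟙_ _)).left.basicOpen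
        (ev w (F - algebraMap k (Fn Z) (vl r F))) := by
      rw [Scheme.basicOpen_of_isUnit _ hu]; trivial
    rw [ev_apply, ← Scheme.preimage_basicOpen_top] at h2
    have h3 : IsLocalRing.closedPoint k ∈ r.left ⁻¹ᵁ Z.left.basicOpen (F - algebraMap k (Fn Z) (vl r F)) :=
      (h ▸ h2 : r.left (IsLocalRing.closedPoint k) ∈ Z.left.basicOpen (F - algebraMap k (Fn Z) (vl r F)))
    rw [Scheme.preimage_basicOpen_top, ← ev_apply, h0, Scheme.basicOpen_zero] at h3
    exact h3
  rw [map_sub, sub_eq_zero, AlgHom.commutes] at h1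
  rw [← ev_ev, hr, AlgHom.commutes, h1]

/-- The rational point maps to the point of its extension. -/
theorem extPt_point {Z : Over (Spec (CommRingCat.of k))} (r : PT ⟶ Z) :
    (((Over.mapPullbackAdj σ).homEquiv (𝟙_ _) Z).symm (extPt σ r)).left (IsLocalRing.closedPoint K) =
      r.left (IsLocalRing.closedPoint k) := by
  rw [extPt, Equiv.symm_apply_apply]
  show ((toUnit ((Over.map σ).obj (𝟙_ (Over (Spec (CommRingCat.of K)))))).left ≫ r.left) _ = _
  rw [Scheme.Hom.comp_apply]
  congr 1
  haveI : Subsingleton ↥(𝟙_ (Over (Spec (CommRingCat.of k)))).left := inferInstanceAs (Subsingleton ↥(Spec (CommRingCat.of k)))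
  exact Subsingleton.elim _ _

/-- The point of the image of an extended point. -/
theorem fst_extPt {Z : Over (Spec (CommRingCat.of k))} (y : 𝟙_ (Over (Spec (CommRingCat.of K))) ⟶ Red.bc σ Z) :
    (((Over.mapPullbackAdj σ).homEquiv (𝟙_ _) Z).symm y).left (IsLocalRing.closedPoint K) =
      Limits.pullback.fst Z.hom σ (y.left (IsLocalRing.closedPoint K)) := by
  rw [Adjunction.homEquiv_counit]
  simp [Over.mapPullbackAdj]

theorem extPt_map {Z Z' : Over (Spec (CommRingCat.of k))} (r : PT ⟶ Z) (f : Z ⟶ Z') :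
    extPt σ (r ≫ f) = extPt σ r ≫ (Over.pullback σ).map f := by
  rw [extPt, extPt, ← Category.assoc]
  exact (Over.mapPullbackAdj σ).homEquiv_naturality_right _ f

theorem extPt_mul {Z : Over (Spec (CommRingCat.of k))} [GrpObj Z] (a b : PT ⟶ Z) :
    extPt σ (a * b) = extPt σ a * extPt σ b := by
  show AVTors.bcPts σ _ Z (toUnit _ ≫ (a * b)) = AVTors.bcPts σ _ Z (toUnit _ ≫ a) * AVTors.bcPts σ _ Z (toUnit _ ≫ b)
  rw [MonObj.comp_mul, map_mul]

/-- The extension of rational points as a homomorphism. -/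
noncomputable def extHom (Z : Over (Spec (CommRingCat.of k))) [GrpObj Z] :
    (PT ⟶ Z) →* (𝟙_ (Over (Spec (CommRingCat.of K))) ⟶ Red.bc σ Z) :=
  MonoidHom.mk' (extPt σ) (extPt_mul σ)

theorem extPt_injective {Z : Over (Spec (CommRingCat.of k))} : Function.Injective (extPt σ (Z := Z)) := by
  intro a b h
  have h1 := ((Over.mapPullbackAdj σ).homEquiv _ Z).injective h
  haveI : Flat σ := by
    obtain ⟨φ, rfl⟩ := Spec.map_surjective σ
    exact GrpSchLib.flat_spec_map_field φ.hom
  haveI : Surjective σ := by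
    obtain ⟨φ, rfl⟩ := Spec.map_surjective σ
    exact GrpSchLib.surjective_spec_map_field φ.hom
  refine Over.OverMorphism.ext ?_
  haveI : Epi (toUnit ((Over.map σ).obj (𝟙_ (Over (Spec (CommRingCat.of K)))))).left := by
    have e : (toUnit ((Over.map σ).obj (𝟙_ (Over (Spec (CommRingCat.of K)))))).left = σ := by
      have h2 := Over.w (toUnit ((Over.map σ).obj (𝟙_ (Over (Spec (CommRingCat.of K))))))
      exact (Category.comp_id _).symm.trans (h2.trans (Category.id_comp σ))
    rw [e]
    exact Flat.epi_of_flat_of_surjective _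
  exact (cancel_epi (toUnit ((Over.map σ).obj (𝟙_ (Over (Spec (CommRingCat.of K)))))).left).mp
    (congrArg (fun m => m.left) h1)

end Ext

end Groth.Agent.SolvGrp
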