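import Groth.Agent.SolvGrp.Derived
import Groth.Agent.S5423
import Groth.Agent.S7986
import Groth.Agent.S7987

/-! Unipotent points and unipotent Hopf algebras. -/

set_option backward.isDefEq.respectTransparency false
set_option backward.isDefEq.respectTransparency.types false
set_option linter.style.haveILetI false

universe u

open CategoryTheory MonoidalCategory CartesianMonoidalCategory MonObj AlgebraicGeometry WithConv TensorProduct

namespace Groth.Agent.SolvGrp

open GrpSchLib GrpSchLib.Kunneth GrpSchLib.LineGroups WeilCmp.Unip AGFLib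

variable {k : Type u} [Field k] [IsAlgClosed k]

local notation "PT" => 𝟙_ (Over (Spec (CommRingCat.of k)))

variable {G : Over (Spec (CommRingCat.of k))} [GrpObj G] [IsAffine G.left] [LocallyOfFiniteType G.hom] [IsReduced G.left]
  {A : Type u} [CommRing A] [HopfAlgebra k A]

/-- The underlying isomorphism. -/
noncomputable def coordIso (e : Grp.mk (AffineHopf.sp k A) ≅ Grp.mk G) : AffineHopf.sp k A ≅ G :=
  (Grp.forget _).mapIso e

omit [IsAlgClosed k] [IsAffine G.left] [LocallyOfFiniteType G.hom] [IsReduced G.left] in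
instance (e : Grp.mk (AffineHopf.sp k A) ≅ Grp.mk G) : IsMonHom (coordIso e).inv := e.inv.hom.isMonHom_hom

/-- The coordinate ring identified with the functions of the group. -/
noncomputable def coordEquiv (e : Grp.mk (AffineHopf.sp k A) ≅ Grp.mk G) : A ≃ₐ[k] Fn G :=
  (LineVec.toFn (k := k) (A := A)).trans (fnEquiv (coordIso e).symm)

/-- The points of the group as points of the coordinate ring. -/
noncomputable def ptsEquiv (e : Grp.mk (AffineHopf.sp k A) ≅ Grp.mk G) :
    (𝟙_ (Over (Spec (CommRingCat.of k))) ⟶ G) →* WithConv (A →ₐ[k] k) :=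
  MonoidHom.mk' (fun g => toConv ((vl g).comp (coordEquiv e).toAlgHom)) fun g h => WithConv.ext (AlgHom.ext fun x => by
    show ProjAct.toK (LineVec.fn ((g * h) ≫ (coordIso e).inv) x) =
      (toConv ((vl g).comp (coordEquiv e).toAlgHom) * toConv ((vl h).comp (coordEquiv e).toAlgHom)) x
    rw [MonObj.mul_comp, LineVec.fn_mul]
    show ProjAct.toK ((toConv (LineVec.fn (g ≫ (coordIso e).inv)) *
      toConv (LineVec.fn (h ≫ (coordIso e).inv))) x) = _
    rw [AlgHom.convMul_apply, AlgHom.convMul_apply]
    induction Coalgebra.comul (R := k) x using TensorProduct.induction_on with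
    | zero => simp
    | tmul b c =>
      simp only [Algebra.TensorProduct.map_tmul, Algebra.TensorProduct.lift_tmul,
        Algebra.TensorProduct.lmul'_apply_tmul, map_mul]
      rfl
    | add b c hb hc => simp only [map_add, hb, hc])

theorem ptsEquiv_apply (e : Grp.mk (AffineHopf.sp k A) ≅ Grp.mk G) (g : PT ⟶ G) (x : A) :
    (ptsEquiv e g).ofConv x = vl g (coordEquiv e x) := rfl

theorem ptsEquiv_bijective (e : Grp.mk (AffineHopf.sp k A) ≅ Grp.mk G) : Function.Bijective (ptsEquiv e) := by
  refine ⟨fun g h hgh => vl_ext fun f => ?_, fun ψ => ?_⟩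
  · obtain ⟨x, rfl⟩ := (coordEquiv e).surjective f
    exact congrArg (fun z : WithConv (A →ₐ[k] k) => z.ofConv x) hgh
  · obtain ⟨g, hg⟩ := exists_pt (U := G) (ψ.ofConv.comp (coordEquiv e).symm.toAlgHom)
    exact ⟨g, WithConv.ext (AlgHom.ext fun x => by rw [ptsEquiv_apply, hg]; simp)⟩

/-- With unipotent points the coordinate ring is unipotent. -/
theorem isUnipotent_of_pts [Algebra.FiniteType k A] [IsReduced A] (e : Grp.mk (AffineHopf.sp k A) ≅ Grp.mk G)
    (h : ∀ g : PT ⟶ G, IsUnipPt g) : HopfRep.IsUnipotent k A := by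
  refine (Groth.Agent.S5423.result k A).2 fun ψ V _ _ _ _ => ?_
  obtain ⟨g, hg⟩ := (ptsEquiv_bijective e).2 (toConv ψ)
  let T : Module.End k V := HopfRep.Comod.act k A V ψ
  refine Module.End.isNilpotent_iff_of_finite.mpr fun v => ?_
  let c : (V →ₗ[k] k) → A := fun l =>
    TensorProduct.lid k A (LinearMap.rTensor A l (HopfRep.Comod.coact (k := k) (A := A) v))
  have hc : ∀ (l : V →ₗ[k] k) (χ : A →ₐ[k] k), l (HopfRep.Comod.act k A V χ v) = χ (c l) := by
    intro l χ
    simp only [c, HopfRep.Comod.act, LinearMap.comp_apply]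
    induction HopfRep.Comod.coact (k := k) (A := A) v using TensorProduct.induction_on with
    | zero => simp
    | tmul a b => simp [_root_.mul_comm]
    | add a b ha hb => simp only [map_add, ha, hb]
  have hpow : ∀ i : ℕ, T ^ i = HopfRep.Comod.act k A V (ptsEquiv e (g ^ i)).ofConv := fun i => by
    rw [map_pow, hg]
    exact (map_pow (LieKol.rep (k := k) (A := A) V) (toConv ψ) i).symm
  let b := Module.finBasis k V
  have hn : ∀ i, ∃ n : ℕ, ∀ N, n ≤ N → ((rl g - 1) ^ N) (coordEquiv e (c (b.coord i))) = 0 := fun i => by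
    obtain ⟨n, hn⟩ := h g (coordEquiv e (c (b.coord i)))
    refine ⟨n, fun N hN => ?_⟩
    rw [show N = (N - n) + n by omega, pow_add, Module.End.mul_apply, hn, map_zero]
  choose n hn using hn
  refine ⟨Finset.univ.sup n, ?_⟩
  set N := Finset.univ.sup n
  refine b.ext_elem fun i => ?_
  have h1 : b.coord i (((T - 1) ^ N) v) = vl 1 (((rl g - 1) ^ N) (coordEquiv e (c (b.coord i)))) := by
    rw [sub_eq_add_neg, (Commute.neg_one_right T).add_pow, sub_eq_add_neg, (Commute.neg_one_right (rl g)).add_pow,
      LinearMap.sum_apply, LinearMap.sum_apply, map_sum, map_sum]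
    refine Finset.sum_congr rfl fun j _ => ?_
    rw [show (-1 : Module.End k V) ^ (N - j) = ((-1 : k) ^ (N - j)) • 1 by
        rw [show (-1 : Module.End k V) = (-1 : k) • 1 from (neg_one_smul k (1 : Module.End k V)).symm, smul_pow,
          one_pow],
      show (-1 : Module.End k (Fn G)) ^ (N - j) = ((-1 : k) ^ (N - j)) • 1 by
        rw [show (-1 : Module.End k (Fn G)) = (-1 : k) • 1 from (neg_one_smul k (1 : Module.End k (Fn G))).symm,
          smul_pow, one_pow],
      mul_smul_comm, mul_smul_comm, _root_.mul_one, _root_.mul_one, smul_mul_assoc, smul_mul_assoc,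
      LinearMap.smul_apply, LinearMap.smul_apply, map_smul, map_smul, Module.End.mul_apply, Module.End.mul_apply,
      Module.End.natCast_apply, Module.End.natCast_apply, map_nsmul, map_nsmul, map_nsmul, map_nsmul, hpow, hc,
      ptsEquiv_apply, ← rl_pow]
    exact congrArg _ (congrArg _ (vl_one_rt _ _).symm)
  show b.coord i _ = b.coord i 0
  rw [map_zero]
  refine h1.trans ?_
  rw [hn i N (Finset.le_sup (Finset.mem_univ i)), map_zero]

/-- The points of a group with unipotent points form a nilpotent group. -/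
theorem isNilpotent_pts [Smooth G.hom] (h : ∀ g : PT ⟶ G, IsUnipPt g) : Group.IsNilpotent (PT ⟶ G) := by
  obtain ⟨A, _, _, ⟨e⟩⟩ := AffineHopf.exists_hopf G
  haveI : Algebra.FiniteType k A := by
    haveI := finiteType_fn G
    exact (inferInstance : Algebra.FiniteType k (Fn G)).equiv (coordEquiv e).symm
  haveI : IsReduced A := isReduced_of_injective (coordEquiv e) (coordEquiv e).injective
  haveI := Groth.Agent.S7986.result k A (isUnipotent_of_pts e h)
  exact Group.nilpotent_of_mulEquiv (MulEquiv.ofBijective (ptsEquiv e) (ptsEquiv_bijective e)).symm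

end Groth.Agent.SolvGrp
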