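import Groth.Agent.SolvGrp.Solvable
import Groth.Agent.SolvGrp.Bridge
import Groth.Agent.AGFLib.BorelImage
import Groth.Agent.AGFLib.CentBorel
import Groth.Agent.AGFLib.ProperSpace

/-! A connected group without subtori consists of unipotent elements. -/

set_option backward.isDefEq.respectTransparency false
set_option backward.isDefEq.respectTransparency.types false
set_option linter.style.haveILetI false

universe u

open CategoryTheory MonoidalCategory CartesianMonoidalCategory MonObj AlgebraicGeometry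
open scoped commutatorElement

namespace Groth.Agent.SolvGrp

open GrpSchLib GrpSchLib.Kunneth GrpSchLib.LineGroups WeilCmp.Unip AGFLib AGFLib.Gen AGFLib.BorelFixed AGFLib.BorelExist

variable {k : Type u} [Field k] [IsAlgClosed k]

local notation "PT" => 𝟙_ (Over (Spec (CommRingCat.of k)))

variable {G : Over (Spec (CommRingCat.of k))} [GrpObj G]

/-- An element of a torus is trivial if the torus is. -/
theorem pt_eq_one_of_trivial {T : Over (Spec (CommRingCat.of k))} [GrpObj T] (h : Red.IsTrivialGrp T) (t : PT ⟶ T) :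
    t = 1 := by
  haveI : IsIso T.hom := h
  exact Over.OverMorphism.ext ((cancel_mono T.hom).mp ((Over.w t).trans (Over.w (1 : PT ⟶ T)).symm))

/-- Without subtori a connected solvable group has unipotent points. -/
theorem isUnipPt_of_solvable [IsAffine G.left] [Smooth G.hom] [ConnectedSpace G.left] (hs : Red.IsSolvableGrp G)
    (h : Red.HasNoSubtorus k G) (g : PT ⟶ G) : IsUnipPt g := by
  obtain ⟨n, hn⟩ := hs
  obtain ⟨T, _, i, hi, hci, hT, hA, -⟩ := exists_torus_of_derivedSeries n G (hn _)
  haveI := hi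
  haveI := mono_of_closedImmersion i
  obtain ⟨_, ⟨t, rfl⟩, hu⟩ := hA g
  have ht : t = 1 := pt_eq_one_of_trivial (h T i hT) t
  change IsUnipPt ((t ≫ i)⁻¹ * g) at hu
  rwa [ht, MonObj.one_comp, inv_one, _root_.one_mul] at hu

/-- A Borel subgroup consisting of unipotent elements is everything. -/
theorem borel_unip_eq_top : ∀ (c : ℕ) (G : Over (Spec (CommRingCat.of k))) [GrpObj G] [IsAffine G.left] [Smooth G.hom]
    [ConnectedSpace G.left] (B : Over (Spec (CommRingCat.of k))) [GrpObj B] (iB : B ⟶ G) [IsMonHom iB],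
    Red.IsBorelOver k iB → Subgroup.lowerCentralSeries (⊤ : Subgroup (PT ⟶ B)) c = ⊥ → rangePts iB = ⊤ := by
  intro c
  induction c with
  | zero =>
    intro G _ _ _ _ B _ iB _ hB hc
    obtain ⟨-, hcl, hsm, hconn, hsolv, hmax⟩ := id hB
    haveI := hcl
    haveI := hsm
    obtain ⟨-, hlftB, hqcB, hmonoB, -⟩ := sub_props iB
    haveI := hmonoB
    haveI := hlftB
    haveI := hqcB
    haveI : IsReduced B.left := isReduced_of_smooth_field B.hom
    have hB1 : ∀ b : PT ⟶ B, b = 1 := fun b => Subgroup.mem_bot.mp (hc ▸ (by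
      rw [Subgroup.lowerCentralSeries_zero]; exact Subgroup.mem_top b))
    obtain ⟨X, a, o, hl, -, hf, hsu, hsq⟩ := GrpSchLib.HomogeneousQuot.exists_quot G B iB
    have hX : AGF.IsQuotient iB X a o := ⟨hl, hf, hsu, hsq⟩
    haveI := AGFLib.Borel.isProper_borel iB hB hX
    haveI : IsIso B.hom := isTrivialGrp_of_pts hB1
    have hone : ∀ {T : Over (Spec (CommRingCat.of k))} (h : T ⟶ B), h = 1 := fun {T} h =>
      Over.OverMorphism.ext ((cancel_mono B.hom).mp ((Over.w h).trans (Over.w (1 : T ⟶ B)).symm))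
    have hcomm : ∀ (T : Over (Spec (CommRingCat.of k))) (a b : T ⟶ G), a * b = b * a := fun T a b => by
      have := AGFLib.CentBorel.central hX a (fun T' x h => by rw [hone h, MonObj.one_comp, _root_.mul_one,
        _root_.one_mul]) T (𝟙 T) b
      rwa [Category.id_comp] at this
    have hsG : Red.IsSolvableGrp G := ⟨1, fun X => by
      rw [derivedSeries_one, commutator_def, Subgroup.commutator_eq_bot_iff_le_centralizer]
      exact fun g _ => Subgroup.mem_centralizer_iff.mpr fun h _ => hcomm X h g⟩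
    haveI : IsIso iB := hmax G (𝟙 G) iB (inferInstanceAs (IsClosedImmersion (𝟙 G.left))) inferInstance inferInstance
      hsG (Category.comp_id iB)
    exact eq_top_iff.mpr fun g _ => ⟨g ≫ inv iB, by simp⟩
  | succ c ih =>
    intro G _ _ _ _ B _ iB _ hB hc
    obtain ⟨-, hcl, hsm, hconn, -, -⟩ := id hB
    haveI := hcl
    haveI := hsm
    haveI := hconn
    obtain ⟨haffB, hlftB, hqcB, hmono, -⟩ := sub_props iB
    haveI := haffB
    haveI := hlftB
    haveI := hqcB
    haveI : IsReduced G.left := isReduced_of_smooth_field G.hom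
    have hlc : ∀ m : ℕ, PtsClosed ((Subgroup.lowerCentralSeries (⊤ : Subgroup (PT ⟶ B)) m : Set (PT ⟶ B))) ∧
        ∃ (D : Over (Spec (CommRingCat.of k))) (_ : GrpObj D) (i : D ⟶ B) (_ : IsMonHom i),
          IsClosedImmersion i.left ∧ ConnectedSpace D.left ∧ LocallyOfFiniteType D.hom ∧ QuasiCompact D.hom ∧
          rangePts i = Subgroup.lowerCentralSeries (⊤ : Subgroup (PT ⟶ B)) m := by
      intro m
      induction m with
      | zero =>
        have h1 : rangePts (𝟙 B) = (⊤ : Subgroup (PT ⟶ B)) := eq_top_iff.mpr fun g _ => ⟨g, Category.comp_id g⟩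
        rw [Subgroup.lowerCentralSeries_zero]
        exact ⟨h1 ▸ ptsClosed_range (𝟙 B), B, inferInstance, 𝟙 B, inferInstance,
          inferInstanceAs (IsClosedImmersion (𝟙 B.left)), inferInstance, inferInstance, inferInstance, h1⟩
      | succ m ihm =>
        obtain ⟨-, D, _, i, hi, hci, hcD, hlD, hqD, hr⟩ := ihm
        haveI := hi
        haveI := hcD
        haveI := hlD
        haveI := hqD
        obtain ⟨E, _, e, he, hce, hsE, hcE, -, hrE⟩ := exists_commutatorSub i
        haveI := he
        haveI := hce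
        obtain ⟨-, hlE, hqE, -, -⟩ := sub_props e
        haveI := hlE
        haveI := hqE
        have h2 : rangePts e = Subgroup.lowerCentralSeries (⊤ : Subgroup (PT ⟶ B)) (m + 1) := by
          rw [hrE, hr, Subgroup.lowerCentralSeries_succ, Subgroup.commutator_comm]
        exact ⟨h2 ▸ ptsClosed_range e, E, inferInstance, e, he, hce, hcE, hlE, hqE, h2⟩
    obtain ⟨-, Z, _, z, hz, hcz, -, hlZ, hqZ, hrZ⟩ := hlc c
    haveI := hz
    haveI := hcz
    haveI := hlZ
    haveI := hqZ
    haveI : IsClosedImmersion (z ≫ iB).left := inferInstanceAs (IsClosedImmersion (z.left ≫ iB.left))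
    obtain ⟨X, a, o, hl, -, hf, hsu, hsq⟩ := GrpSchLib.HomogeneousQuot.exists_quot G B iB
    have hX : AGF.IsQuotient iB X a o := ⟨hl, hf, hsu, hsq⟩
    haveI := AGFLib.Borel.isProper_borel iB hB hX
    have hBcomm : ∀ x ∈ Subgroup.lowerCentralSeries (⊤ : Subgroup (PT ⟶ B)) c, ∀ y : PT ⟶ B, Commute x y :=
      fun x hx y => by
        have h1 : ⁅x, y⁆ ∈ Subgroup.lowerCentralSeries (⊤ : Subgroup (PT ⟶ B)) (c + 1) := by
          rw [Subgroup.lowerCentralSeries_succ]
          exact Subgroup.commutator_mem_commutator hx (Subgroup.mem_top y)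
        rw [hc, Subgroup.mem_bot] at h1
        exact commutatorElement_eq_one_iff_commute.mp h1
    have hcent : ∀ (w : PT ⟶ Z) (g : PT ⟶ G), Commute (w ≫ z ≫ iB) g := fun w g => by
      have hB' : ∀ (T' : Over (Spec (CommRingCat.of k))) (h : T' ⟶ B),
          (toUnit T' ≫ w ≫ z) * h = h * (toUnit T' ≫ w ≫ z) := by
        intro T' h
        have key : (toUnit B ≫ w ≫ z) * 𝟙 B = 𝟙 B * (toUnit B ≫ w ≫ z) := by
          haveI := GrpSchLib.AntiAffine.isSeparated_grp B
          haveI : IsReduced B.left := isReduced_of_smooth_field B.hom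
          refine hom_ext_pts fun y => ?_
          rw [MonObj.comp_mul, MonObj.comp_mul, Category.comp_id, ← Category.assoc,
            toUnit_unique (y ≫ toUnit B) (𝟙 _), Category.id_comp]
          exact hBcomm _ (hrZ ▸ ⟨w, rfl⟩) y
        have := congrArg (h ≫ ·) key
        simpa [MonObj.comp_mul, ← Category.assoc, toUnit_unique (h ≫ toUnit B) (toUnit T')] using this
      have := AGFLib.CentBorel.central hX (w ≫ z ≫ iB) (fun T' x h => by
        rw [toUnit_unique x (toUnit T'), ← Category.assoc w, ← Category.assoc, ← MonObj.mul_comp, ← MonObj.mul_comp, hB'])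
        PT (𝟙 PT) g
      rwa [Category.id_comp] at this
    let N : Subgroup (PT ⟶ G) := rangePts (z ≫ iB)
    have hN : N.Normal := ⟨by
      rintro _ ⟨w, rfl⟩ g
      exact ⟨w, by show w ≫ z ≫ iB = _; rw [← (hcent w g).eq, mul_inv_cancel_right]⟩⟩
    obtain ⟨Q, _, q, hq, haQ, hsQ, -, hsurj, hlift, hker⟩ := exists_quot N (ptsClosed_range _) hN
    haveI := hq
    haveI := haQ
    haveI := hsQ
    haveI := hsurj
    haveI : ConnectedSpace Q.left := q.left.surjective.connectedSpace q.left.continuous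
    obtain ⟨B', _, iB', p, hm', hci', hsm', himg⟩ := AGFLib.BorelImage.exists_image q iB
    haveI := hm'
    haveI := hci'
    haveI := hsm'
    obtain ⟨hpsurj, hp⟩ := himg hsm
    haveI := hpsurj
    haveI : Mono iB' := mono_of_closedImmersion iB'
    haveI : IsMonHom p := AGFLib.BorelImage.isMonHom_of_comp p iB' (iB ≫ q) hp
    obtain ⟨-, hlft', -, -, -⟩ := sub_props iB'
    haveI := hlft'
    have hsurjp : Function.Surjective (ptsHom p) := fun x => by
      haveI := GrpSchLib.AntiAffine.isSeparated_grp B'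
      exact exists_of_mem_range p x (p.left.surjective _)
    have hc' : Subgroup.lowerCentralSeries (⊤ : Subgroup (PT ⟶ B')) c = ⊥ := by
      rw [← Subgroup.map_top_of_surjective (ptsHom p) hsurjp, ← Subgroup.map_lowerCentralSeries, eq_bot_iff]
      rintro _ ⟨x, hx, rfl⟩
      obtain ⟨w, rfl⟩ : x ∈ rangePts z := hrZ.symm ▸ hx
      refine Subgroup.mem_bot.mpr ((cancel_mono iB').mp ?_)
      show ((w ≫ z) ≫ p) ≫ iB' = 1 ≫ iB'
      rw [MonObj.one_comp, Category.assoc, hp, ← Category.assoc, Category.assoc w z iB]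
      exact (hker _).mpr ⟨w, rfl⟩
    have htop := ih Q B' iB' (AGFLib.BorelImage.isBorel_image q iB hB iB' p hp) hc'
    refine eq_top_iff.mpr fun g _ => ?_
    obtain ⟨b', hb'⟩ : g ≫ q ∈ rangePts iB' := htop ▸ Subgroup.mem_top _
    obtain ⟨b, rfl⟩ := hsurjp b'
    have h1 : (b ≫ iB)⁻¹ * g ∈ N := (hker _).mp (by
      rw [MonObj.mul_comp, GrpObj.inv_comp, Category.assoc, ← hp, ← Category.assoc,
        show (b ≫ p) ≫ iB' = g ≫ q from hb', inv_mul_cancel])
    obtain ⟨w, hw⟩ := h1
    refine ⟨b * (w ≫ z), ?_⟩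
    show (b * (w ≫ z)) ≫ iB = g
    rw [MonObj.mul_comp, Category.assoc, show w ≫ z ≫ iB = (b ≫ iB)⁻¹ * g from hw, mul_inv_cancel_left]

/-- A connected group without subtori has only unipotent points. -/
theorem isUnipPt_of_hasNoSubtorus [IsAffine G.left] [Smooth G.hom] [ConnectedSpace G.left]
    (h : Red.HasNoSubtorus k G) (g : PT ⟶ G) : IsUnipPt g := by
  haveI : IsReduced G.left := isReduced_of_smooth_field G.hom
  obtain ⟨B, _, iB, X, a, o, hB, -, -⟩ := AGFLib.Borel.exists_borel G
  obtain ⟨hmon, hcl, hsm, hconn, hsolv, -⟩ := id hB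
  haveI := hmon
  haveI := hcl
  haveI := hsm
  haveI := hconn
  obtain ⟨haffB, hlftB, hqcB, hmono, hevB⟩ := sub_props iB
  haveI := haffB
  haveI := hlftB
  haveI : IsReduced B.left := isReduced_of_smooth_field B.hom
  have hu : ∀ b : PT ⟶ B, IsUnipPt b := isUnipPt_of_solvable hsolv fun T _ j _ _ hT => by
    haveI : Mono (j ≫ iB) := mono_comp j iB
    exact h T (j ≫ iB) hT
  obtain ⟨c, hc⟩ := Subgroup.nilpotent_iff_lowerCentralSeries.mp (isNilpotent_pts hu)
  have htop := borel_unip_eq_top c G B iB hB (by simpa using hc)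
  obtain ⟨b, rfl⟩ : g ∈ rangePts iB := htop ▸ Subgroup.mem_top g
  exact (map_isSsPt_isUnipPt iB b).2 (hu b)

/-- A group with unipotent points has no subtorus. -/
theorem hasNoSubtorus_of_isUnipPt [IsAffine G.left] [LocallyOfFiniteType G.hom] [IsReduced G.left]
    (h : ∀ g : PT ⟶ G, IsUnipPt g) : Red.HasNoSubtorus k G := by
  intro T _ j _ _ hT
  obtain ⟨haff, hsm, -, -⟩ := torus_props hT
  haveI := haff
  haveI := hsm
  haveI : IsReduced T.left := isReduced_of_smooth_field T.hom
  refine isTrivialGrp_of_pts fun t => (cancel_mono j).mp ?_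
  rw [MonObj.one_comp]
  exact eq_one_of_isSsPt_isUnipPt (isSsPt_of_torus hT j t) (h _)

end Groth.Agent.SolvGrp
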