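import Groth.Agent.SolvGrp.Torus
import Groth.Agent.TorusQI.Geom
import Groth.Agent.GrpSchLib.MultTypeComm
import Groth.Agent.GrpSchLib.MultTypeLft

/-! The rational points of a torus over an algebraically closed field. -/

set_option backward.isDefEq.respectTransparency false
set_option backward.isDefEq.respectTransparency.types false
set_option linter.style.haveILetI false

universe u

open CategoryTheory MonoidalCategory CartesianMonoidalCategory MonObj AlgebraicGeometry WithConv TensorProduct

namespace Groth.Agent.SolvGrp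

open GrpSchLib GrpSchLib.Kunneth GrpSchLib.LineGroups WeilCmp.Unip AGFLib

variable {k : Type u} [Field k] [IsAlgClosed k]

local notation "PT" => 𝟙_ (Over (Spec (CommRingCat.of k)))

variable {T : Over (Spec (CommRingCat.of k))} [GrpObj T]

theorem exists_iso_sp (hT : Red.IsTorus T) :
    ∃ r : ℕ, Nonempty (Grp.mk T ≅ Grp.mk (AffineHopf.sp k (MonoidAlgebra k (Multiplicative (Fin r → ℤ))))) := by
  obtain ⟨r, ⟨e⟩⟩ := TorusQI.exists_split_geom hT (𝟙 (Spec (CommRingCat.of k)))
  obtain ⟨e'⟩ := AffineHopf.nonempty_DS_iso k (Fin r → ℤ)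
  exact ⟨r, ⟨(((Functor.mapGrpNatIso (Over.pullbackId (X := Spec (CommRingCat.of k)))).app (Grp.mk T)).trans
    (Functor.mapGrpIdIso.app (Grp.mk T))).symm ≪≫ e ≪≫ e'.symm⟩⟩

/-- A torus is affine, smooth and connected, and its rational points are semisimple. -/
theorem torus_props (hT : Red.IsTorus T) :
    IsAffine T.left ∧ Smooth T.hom ∧ ConnectedSpace T.left ∧ ∀ g : PT ⟶ T, IsSsPt g := by
  obtain ⟨r, ⟨eG⟩⟩ := exists_iso_sp hT
  let a : AffineHopf.sp k (MonoidAlgebra k (Multiplicative (Fin r → ℤ))) ≅ T := (Grp.forget _).mapIso eG.symm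
  haveI : IsMonHom a.hom := eG.inv.hom.isMonHom_hom
  haveI : IsMonHom a.inv := eG.hom.hom.isMonHom_hom
  haveI : IsIso a.hom.left := ((Over.forget _).mapIso a).isIso_hom
  haveI : IsIso a.inv.left := ((Over.forget _).mapIso a).isIso_inv
  haveI : IsAffine T.left := IsAffine.of_isIso a.inv.left
  haveI : LocallyOfFiniteType T.hom := MultTypeLft.lft (TorusQI.isMultTypeFT_of_isTorus hT)
  haveI : IsIntegral T.left := by
    haveI : IsIntegral (AffineHopf.sp k (MonoidAlgebra k (Multiplicative (Fin r → ℤ)))).left :=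
      inferInstanceAs (IsIntegral (Spec (CommRingCat.of (MonoidAlgebra k (Multiplicative (Fin r → ℤ))))))
    exact IsIntegral.of_isIso a.hom.left
  haveI : Smooth T.hom := smooth_of_perfectField_of_isReduced T
  refine ⟨inferInstance, inferInstance, inferInstance, fun g => ?_⟩
  let φ : MonoidAlgebra k (Multiplicative (Fin r → ℤ)) ≃ₐ[k] Fn T :=
    (LineVec.toFn (k := k) (A := MonoidAlgebra k (Multiplicative (Fin r → ℤ)))).trans (fnEquiv a.symm)
  have hmul : ∀ (x y : PT ⟶ T) (m : Multiplicative (Fin r → ℤ)),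
      vl (x * y) (φ (MonoidAlgebra.single m 1)) =
        vl x (φ (MonoidAlgebra.single m 1)) * vl y (φ (MonoidAlgebra.single m 1)) := by
    intro x y m
    show ProjAct.toK (LineVec.fn ((x * y) ≫ a.inv) _) = _
    rw [MonObj.mul_comp, LineVec.fn_mul]
    show ProjAct.toK ((toConv (LineVec.fn (x ≫ a.inv)) * toConv (LineVec.fn (y ≫ a.inv))) _) = _
    rw [AlgHom.convMul_apply, MonoidAlgebra.comul_single, CommSemiring.comul_apply, TensorProduct.map_tmul]
    simp only [MonoidAlgebra.lsingle_apply, Algebra.TensorProduct.lmul'_apply_tmul, Algebra.TensorProduct.map_tmul,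
      Algebra.TensorProduct.lift_tmul, map_mul]
    rfl
  refine eq_top_iff.mpr fun f _ => ?_
  obtain ⟨z, rfl⟩ := φ.surjective f
  induction z using MonoidAlgebra.induction_linear with
  | zero => rw [map_zero]; exact Submodule.zero_mem _
  | add p q hp hq => rw [map_add]; exact Submodule.add_mem _ (hp trivial) (hq trivial)
  | single m c =>
    rw [show MonoidAlgebra.single m c = c • MonoidAlgebra.single m (1 : k) by simp, map_smul]
    refine Submodule.smul_mem _ _ (Submodule.mem_iSup_of_mem (vl g (φ (MonoidAlgebra.single m 1)))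
      (Module.End.mem_eigenspace_iff.mpr (eq_of_vl fun x => ?_)))
    show vl x (rt g _) = _
    rw [vl_rt, hmul, map_smul, smul_eq_mul, _root_.mul_comm]

theorem torus_commute (hT : Red.IsTorus T) (g h : PT ⟶ T) : Commute g h :=
  MultTypeComm.points_comm (TorusQI.isMultTypeFT_of_isTorus hT) g h

/-- The image of a point of a torus is semisimple. -/
theorem isSsPt_of_torus (hT : Red.IsTorus T) {G : Over (Spec (CommRingCat.of k))} [GrpObj G] [IsAffine G.left]
    [LocallyOfFiniteType G.hom] [IsReduced G.left] (j : T ⟶ G) [IsMonHom j] (t : PT ⟶ T) : IsSsPt (t ≫ j) := by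
  obtain ⟨haff, hsm, -, hss⟩ := torus_props hT
  haveI := haff
  haveI := hsm
  haveI : IsReduced T.left := isReduced_of_smooth_field T.hom
  exact (map_isSsPt_isUnipPt j t).1 (hss t)

end Groth.Agent.SolvGrp
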