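import Mathlib.LinearAlgebra.Eigenspace.Triangularizable
import Mathlib.RingTheory.Nilpotent.Basic

/-! The semisimple and unipotent parts of locally finite endomorphisms over an algebraically closed field. -/

universe u v

open Module

namespace Groth.Agent.SolvGrp

variable {k : Type u} [Field k] {V : Type v} [AddCommGroup V] [Module k V]

/-- Every vector lies in a finite dimensional stable subspace. -/
def IsLocFin (f : Module.End k V) : Prop :=
  ∀ v, ∃ W : Submodule k V, Module.Finite k W ∧ v ∈ W ∧ ∀ w ∈ W, f w ∈ W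

/-- The endomorphism is locally unipotent. -/
def IsLocUnip (f : Module.End k V) : Prop := ∀ v, ∃ n : ℕ, ((f - 1) ^ n) v = 0

/-- The eigenvectors span. -/
def IsDiag (f : Module.End k V) : Prop := ⨆ μ, f.eigenspace μ = ⊤

theorem pow_mem {f : Module.End k V} {W : Submodule k V} (h : ∀ w ∈ W, f w ∈ W) {w : V} (hw : w ∈ W) (n : ℕ) :
    (f ^ n) w ∈ W := by
  induction n with
  | zero => simpa using hw
  | succ n ih => rw [pow_succ', Module.End.mul_apply]; exact h _ ih

theorem eq_on_top {ι : Type*} {p : ι → Submodule k V} (hp : ⨆ i, p i = ⊤) {a b : Module.End k V}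
    (h : ∀ i, ∀ v ∈ p i, a v = b v) : a = b := by
  refine LinearMap.ext fun v => ?_
  have hv : v ∈ ⨆ i, p i := hp ▸ Submodule.mem_top
  induction hv using Submodule.iSup_induction' with
  | mem i x hx => exact h i x hx
  | zero => simp
  | add x y _ _ hx hy => simp [hx, hy]

section AlgClosed

variable [IsAlgClosed k] {f : Module.End k V}

/-- Inside a stable subspace the generalised eigenvectors span. -/
theorem mem_iSup_inf (hf : IsLocFin f) {W : Submodule k V} (hW : ∀ w ∈ W, f w ∈ W) {v : V} (hv : v ∈ W) :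
    v ∈ ⨆ μ, f.maxGenEigenspace μ ⊓ W := by
  obtain ⟨W₀, hfin, hv₀, hW₀⟩ := hf v
  haveI : FiniteDimensional k (W ⊓ W₀ : Submodule k V) := Submodule.finiteDimensional_of_le inf_le_right
  have hW₁ : ∀ w ∈ W ⊓ W₀, f w ∈ W ⊓ W₀ := fun w hw => ⟨hW w hw.1, hW₀ w hw.2⟩
  have h1 := Module.End.iSup_maxGenEigenspace_eq_top (f.restrict hW₁)
  have h2 : (W ⊓ W₀ : Submodule k V).subtype ⟨v, hv, hv₀⟩ ∈
      (⨆ μ, Module.End.maxGenEigenspace (f.restrict hW₁) μ).map (W ⊓ W₀).subtype :=
    Submodule.mem_map_of_mem (h1 ▸ Submodule.mem_top)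
  rw [Submodule.map_iSup] at h2
  refine SetLike.le_def.mp (iSup_le fun μ => ?_) h2
  refine le_trans ?_ (le_iSup _ μ)
  rintro _ ⟨x, hx, rfl⟩
  refine ⟨?_, x.2.1⟩
  obtain ⟨n, hn⟩ := (Module.End.mem_maxGenEigenspace _ μ x).mp hx
  refine (Module.End.mem_maxGenEigenspace f μ _).mpr ⟨n, ?_⟩
  have key : ∀ (m : ℕ), ((f - μ • 1) ^ m) (x : V) = (((f.restrict hW₁ - μ • 1) ^ m) x : V) := by
    intro m
    induction m with
    | zero => simp
    | succ m ih => rw [pow_succ', pow_succ', Module.End.mul_apply, Module.End.mul_apply, ih]; rfl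
  rw [Submodule.subtype_apply, key, hn]
  rfl

theorem iSup_maxGen (hf : IsLocFin f) : ⨆ μ, f.maxGenEigenspace μ = ⊤ :=
  eq_top_iff.mpr fun v _ => SetLike.le_def.mp (iSup_mono fun μ => (inf_le_left : f.maxGenEigenspace μ ⊓ ⊤ ≤ _))
    (mem_iSup_inf hf (W := ⊤) (fun _ _ => Submodule.mem_top) (Submodule.mem_top (x := v)))

theorem exists_ssPart (hf : IsLocFin f) :
    ∃ s : Module.End k V, ∀ μ, ∀ v ∈ f.maxGenEigenspace μ, s v = μ • v := by
  classical
  have hint : DirectSum.IsInternal fun μ => f.maxGenEigenspace μ :=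
    DirectSum.isInternal_submodule_of_iSupIndep_of_iSup_eq_top f.independent_maxGenEigenspace (iSup_maxGen hf)
  let e := LinearEquiv.ofBijective (DirectSum.coeLinearMap fun μ => f.maxGenEigenspace μ) hint
  let g : DirectSum k (fun μ => f.maxGenEigenspace μ) →ₗ[k] V :=
    DirectSum.toModule k k V fun μ => μ • (f.maxGenEigenspace μ).subtype
  refine ⟨g ∘ₗ e.symm.toLinearMap, fun μ v hv => ?_⟩
  have he : e.symm v = DirectSum.lof k k _ μ ⟨v, hv⟩ := by
    apply e.injective
    rw [e.apply_symm_apply]
    exact (DirectSum.coeLinearMap_lof (fun μ => f.maxGenEigenspace μ) μ ⟨v, hv⟩).symm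
  rw [LinearMap.comp_apply, LinearEquiv.coe_coe, he, DirectSum.toModule_lof]
  rfl

/-- The semisimple part (meaningful for locally finite endomorphisms). -/
noncomputable def ssPart (f : Module.End k V) : Module.End k V :=
  Classical.epsilon fun s => ∀ μ, ∀ v ∈ f.maxGenEigenspace μ, s v = μ • v

theorem ssPart_apply (hf : IsLocFin f) {μ : k} {v : V} (hv : v ∈ f.maxGenEigenspace μ) : ssPart f v = μ • v :=
  Classical.epsilon_spec (exists_ssPart hf) μ v hv

theorem ssPart_mem (hf : IsLocFin f) {W : Submodule k V} (hW : ∀ w ∈ W, f w ∈ W) {v : V} (hv : v ∈ W) :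
    ssPart f v ∈ W := by
  have h := mem_iSup_inf hf hW hv
  clear hv
  induction h using Submodule.iSup_induction' with
  | mem μ x hx => rw [ssPart_apply hf hx.1]; exact W.smul_mem μ hx.2
  | zero => simp
  | add x y _ _ hx hy => rw [map_add]; exact W.add_mem hx hy

theorem ssPart_isDiag (hf : IsLocFin f) : IsDiag (ssPart f) := by
  refine eq_top_iff.mpr (iSup_maxGen hf ▸ iSup_mono fun μ v hv => ?_)
  exact Module.End.mem_eigenspace_iff.mpr (ssPart_apply hf hv)

/-- Naturality of the semisimple part. -/
theorem ssPart_comm {V' : Type*} [AddCommGroup V'] [Module k V'] {f' : Module.End k V'} (hf : IsLocFin f)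
    (hf' : IsLocFin f') (φ : V →ₗ[k] V') (h : ∀ v, φ (f v) = f' (φ v)) (v : V) :
    φ (ssPart f v) = ssPart f' (φ v) := by
  have hv : v ∈ ⨆ μ, f.maxGenEigenspace μ := iSup_maxGen hf ▸ Submodule.mem_top
  induction hv using Submodule.iSup_induction' with
  | mem μ x hx =>
    obtain ⟨n, hn⟩ := (Module.End.mem_maxGenEigenspace _ μ x).mp hx
    have key : ∀ m : ℕ, ((f' - μ • 1) ^ m) (φ x) = φ (((f - μ • 1) ^ m) x) := by
      intro m
      induction m with
      | zero => simp
      | succ m ih => rw [pow_succ', pow_succ', Module.End.mul_apply, Module.End.mul_apply, ih]; simp [h]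
    have hx' : φ x ∈ f'.maxGenEigenspace μ :=
      (Module.End.mem_maxGenEigenspace _ μ _).mpr ⟨n, by rw [key, hn, map_zero]⟩
    rw [ssPart_apply hf hx, ssPart_apply hf' hx', map_smul]
  | zero => simp
  | add x y _ _ hx hy => simp [hx, hy]

/-- Uniqueness: if `f` is a commuting product of a diagonalisable and a locally unipotent endomorphism, the first
factor is the semisimple part. -/
theorem eq_ssPart (hf : IsLocFin f) {s w : Module.End k V} (hs : IsDiag s) (hw : IsLocUnip w) (hsw : s * w = w * s)
    (hfac : f = s * w) : s = ssPart f := by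
  refine eq_on_top hs fun μ v hv => ?_
  have hv' : s v = μ • v := Module.End.mem_eigenspace_iff.mp hv
  have hst : ∀ x, s x = μ • x → s ((w - 1) x) = μ • (w - 1) x := fun x hx => by
    have h1 : s (w x) = w (s x) := congrArg (fun T : Module.End k V => T x) hsw
    simp [h1, hx, smul_sub]
  have key : ∀ m : ℕ, ((f - μ • 1) ^ m) v = μ ^ m • ((w - 1) ^ m) v ∧
      s (((w - 1) ^ m) v) = μ • ((w - 1) ^ m) v := by
    intro m
    induction m with
    | zero => simpa using hv'
    | succ m ih =>
      rw [pow_succ', pow_succ' (w - 1), Module.End.mul_apply, Module.End.mul_apply]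
      refine ⟨?_, hst _ ih.2⟩
      rw [ih.1, map_smul, pow_succ, mul_smul]
      congr 1
      rw [hfac, LinearMap.sub_apply, LinearMap.smul_apply, Module.End.one_apply, Module.End.mul_apply,
        LinearMap.sub_apply, Module.End.one_apply, smul_sub]
      congr 1
      rw [show s (w (((w - 1) ^ m) v)) = w (s (((w - 1) ^ m) v)) from congrArg (fun T : Module.End k V => T _) hsw,
        ih.2, map_smul]
  obtain ⟨n, hn⟩ := hw v
  have hmem : v ∈ f.maxGenEigenspace μ :=
    (Module.End.mem_maxGenEigenspace _ μ _).mpr ⟨n, by rw [(key n).1, hn, smul_zero]⟩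
  rw [ssPart_apply hf hmem, hv']

/-- For an injective `f = ssPart f * w` with commuting factors, `w` is locally unipotent. -/
theorem isLocUnip_of_fac (hf : IsLocFin f) (hinj : Function.Injective f) {w : Module.End k V}
    (hcomm : ssPart f * w = w * ssPart f) (hfac : f = ssPart f * w) : IsLocUnip w := by
  intro v
  have hv : v ∈ ⨆ μ, f.maxGenEigenspace μ := iSup_maxGen hf ▸ Submodule.mem_top
  induction hv using Submodule.iSup_induction' with
  | mem μ x hx =>
    obtain ⟨n, hn⟩ := (Module.End.mem_maxGenEigenspace _ μ x).mp hx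
    by_cases hμ : μ = 0
    · subst hμ
      have hi : Function.Injective (f ^ n) := by
        rw [Module.End.coe_pow]; exact hinj.iterate n
      have hn' : (f ^ n) x = (f ^ n) 0 := by simpa using hn
      exact ⟨0, by simpa using hi hn'⟩
    refine ⟨n, ?_⟩
    have hcommf : Commute (f - μ • 1) w := by
      refine Commute.sub_left ?_ ((Commute.one_left w).smul_left μ)
      show f * w = w * f
      rw [hfac, ← mul_assoc, ← hcomm]
    have key : ∀ m : ℕ, ∀ y ∈ f.maxGenEigenspace μ, μ ^ m • ((w - 1) ^ m) y = ((f - μ • 1) ^ m) y ∧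
        ((w - 1) ^ m) y ∈ f.maxGenEigenspace μ := by
      intro m
      induction m with
      | zero => intro y hy; simpa using hy
      | succ m ih =>
        intro y hy
        obtain ⟨h1, h2⟩ := ih y hy
        rw [pow_succ' (w - 1), pow_succ' (f - _), Module.End.mul_apply, Module.End.mul_apply]
        set z := ((w - 1) ^ m) y
        have hstep : μ • (w - 1) z = (f - μ • 1) z := by
          have h3 : f z = μ • w z := by
            conv_lhs => rw [hfac]
            rw [Module.End.mul_apply, show ssPart f (w z) = w (ssPart f z) from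
              congrArg (fun T : Module.End k V => T z) hcomm, ssPart_apply hf h2, map_smul]
          simp [h3, smul_sub]
        refine ⟨?_, ?_⟩
        · rw [← h1, map_smul, ← hstep, pow_succ, mul_smul]
        · have hw2 : w z ∈ f.maxGenEigenspace μ := by
            refine Module.End.mapsTo_maxGenEigenspace_of_comm ?_ μ h2
            show Commute f w
            show f * w = w * f
            rw [hfac, ← mul_assoc, ← hcomm]
          rw [LinearMap.sub_apply, Module.End.one_apply]
          exact Submodule.sub_mem _ hw2 h2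
    have h4 := (key n x hx).1
    rw [hn] at h4
    exact (smul_eq_zero.mp h4).resolve_left (pow_ne_zero _ hμ)
  | zero => exact ⟨0, by simp⟩
  | add x y _ _ hx hy =>
    obtain ⟨a, ha⟩ := hx
    obtain ⟨b, hb⟩ := hy
    refine ⟨a + b, ?_⟩
    rw [map_add]
    nth_rewrite 1 [add_comm a b]
    rw [pow_add, Module.End.mul_apply, ha, map_zero, zero_add, pow_add, Module.End.mul_apply, hb, map_zero]

/-- A stable subspace of a diagonalisable locally finite endomorphism is spanned by eigenvectors. -/
theorem IsDiag.mem_iSup_inf (hd : IsDiag f) (hf : IsLocFin f) {W : Submodule k V} (hW : ∀ w ∈ W, f w ∈ W) {v : V}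
    (hv : v ∈ W) : v ∈ ⨆ μ, f.eigenspace μ ⊓ W := by
  have hw : IsLocUnip (1 : Module.End k V) := fun x => ⟨1, by simp⟩
  have hs := eq_ssPart hf hd hw rfl (mul_one f).symm
  refine SetLike.le_def.mp (iSup_mono fun μ => ?_) (Groth.Agent.SolvGrp.mem_iSup_inf hf hW hv)
  refine inf_le_inf_right W fun x hx => Module.End.mem_eigenspace_iff.mpr ?_
  rw [hs]
  exact ssPart_apply hf hx

end AlgClosed

theorem IsDiag.isLocFin {f : Module.End k V} (hd : IsDiag f) : IsLocFin f := by
  intro v
  have hv : v ∈ ⨆ μ, f.eigenspace μ := hd ▸ Submodule.mem_top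
  induction hv using Submodule.iSup_induction' with
  | mem μ x hx =>
    refine ⟨Submodule.span k {x}, inferInstance, Submodule.mem_span_singleton_self x, fun w hw => ?_⟩
    obtain ⟨c, rfl⟩ := Submodule.mem_span_singleton.mp hw
    rw [map_smul, Module.End.mem_eigenspace_iff.mp hx]
    exact Submodule.smul_mem _ _ (Submodule.smul_mem _ _ (Submodule.mem_span_singleton_self x))
  | zero => exact ⟨⊥, inferInstance, Submodule.zero_mem _, fun w hw => by simp [(Submodule.mem_bot k).mp hw]⟩
  | add x y _ _ hx hy =>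
    obtain ⟨A, hA, hxA, hA'⟩ := hx
    obtain ⟨B, hB, hyB, hB'⟩ := hy
    refine ⟨A ⊔ B, inferInstance, Submodule.add_mem_sup hxA hyB, fun w hw => ?_⟩
    obtain ⟨a, ha, b, hb, rfl⟩ := Submodule.mem_sup.mp hw
    rw [map_add]
    exact Submodule.add_mem_sup (hA' a ha) (hB' b hb)

theorem IsDiag.mul [IsAlgClosed k] {a b : Module.End k V} (ha : IsDiag a) (hb : IsDiag b) (hab : a * b = b * a) :
    IsDiag (a * b) := by
  refine eq_top_iff.mpr fun v _ => ?_
  have hv : v ∈ ⨆ μ, a.eigenspace μ := ha ▸ Submodule.mem_top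
  induction hv using Submodule.iSup_induction' with
  | mem μ x hx =>
    have hst : ∀ y ∈ a.eigenspace μ, b y ∈ a.eigenspace μ := fun y hy => Module.End.mem_eigenspace_iff.mpr (by
      rw [show a (b y) = b (a y) from congrArg (fun T : Module.End k V => T y) hab,
        Module.End.mem_eigenspace_iff.mp hy, map_smul])
    refine SetLike.le_def.mp (iSup_le fun lam => ?_) (hb.mem_iSup_inf hb.isLocFin hst hx)
    rintro y ⟨hy1, hy2⟩
    refine Submodule.mem_iSup_of_mem (μ * lam) (Module.End.mem_eigenspace_iff.mpr ?_)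
    rw [Module.End.mul_apply, Module.End.mem_eigenspace_iff.mp hy1, map_smul, Module.End.mem_eigenspace_iff.mp hy2,
      smul_smul, mul_comm]
  | zero => simp
  | add x y _ _ hx hy => exact Submodule.add_mem _ (hx trivial) (hy trivial)

theorem IsLocUnip.mul {a b : Module.End k V} (ha : IsLocUnip a) (hb : IsLocUnip b) (hab : a * b = b * a) :
    IsLocUnip (a * b) := by
  intro v
  obtain ⟨n, hn⟩ := ha v
  obtain ⟨m, hm⟩ := hb v
  refine ⟨n + m, ?_⟩
  have hcab : Commute (a - 1) b := (show Commute a b from hab).sub_left (Commute.one_left b)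
  have hcb : Commute ((a - 1) * b) (b - 1) :=
    ((hcab.sub_right (Commute.one_right _))).mul_left ((Commute.refl b).sub_right (Commute.one_right b))
  have hc2 : Commute (a - 1) (b - 1) := hcab.sub_right (Commute.one_right _)
  rw [show a * b - 1 = (a - 1) * b + (b - 1) by rw [sub_mul, one_mul]; abel, hcb.add_pow, LinearMap.sum_apply]
  refine Finset.sum_eq_zero fun i hi => ?_
  rw [Module.End.mul_apply, Module.End.natCast_apply, map_nsmul]
  suffices h : (((a - 1) * b) ^ i * (b - 1) ^ (n + m - i)) v = 0 by rw [h, smul_zero]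
  rw [hcab.mul_pow]
  by_cases h : n ≤ i
  · obtain ⟨j, rfl⟩ := Nat.exists_eq_add_of_le h
    have hc : Commute ((a - 1) ^ n) ((a - 1) ^ j * b ^ (n + j) * (b - 1) ^ (n + m - (n + j))) :=
      (((Commute.refl (a - 1)).pow_pow _ _).mul_right (hcab.pow_pow _ _)).mul_right (hc2.pow_pow _ _)
    rw [pow_add (a - 1), mul_assoc ((a - 1) ^ n), mul_assoc ((a - 1) ^ n), hc.eq, Module.End.mul_apply, hn, map_zero]
  · obtain ⟨j, hj⟩ := Nat.exists_eq_add_of_le (show m ≤ n + m - i by omega)
    rw [hj, add_comm m j, pow_add, ← mul_assoc, Module.End.mul_apply, hm, map_zero]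

theorem eq_one_of_isDiag_isLocUnip {f : Module.End k V} (hd : IsDiag f) (hu : IsLocUnip f) : f = 1 := by
  refine eq_on_top hd fun μ v hv => ?_
  have h := Module.End.mem_eigenspace_iff.mp hv
  obtain ⟨n, hn⟩ := hu v
  have key : ∀ m : ℕ, ((f - 1) ^ m) v = (μ - 1) ^ m • v := by
    intro m
    induction m with
    | zero => simp
    | succ m ih => rw [pow_succ', Module.End.mul_apply, ih, map_smul, pow_succ, mul_smul]; simp [h, sub_smul]
  rw [key] at hn
  rcases smul_eq_zero.mp hn with h0 | h0
  · rw [h, Module.End.one_apply, sub_eq_zero.mp (pow_eq_zero_iff'.mp h0).1, one_smul]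
  · simp [h0]

section Algebra

variable {A : Type v} [CommRing A] [Algebra k A]

theorem mul_mem_maxGen (φ : A →ₐ[k] A) {lam μ : k} {a b : A}
    (ha : a ∈ Module.End.maxGenEigenspace (φ.toLinearMap : Module.End k A) lam)
    (hb : b ∈ Module.End.maxGenEigenspace (φ.toLinearMap : Module.End k A) μ) :
    a * b ∈ Module.End.maxGenEigenspace (φ.toLinearMap : Module.End k A) (lam * μ) := by
  let D : k → Module.End k A := fun c => φ.toLinearMap - c • 1
  have hD : ∀ c x, D c x = φ x - c • x := fun c x => rfl
  obtain ⟨i, hi⟩ := (Module.End.mem_maxGenEigenspace _ lam a).mp ha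
  obtain ⟨j, hj⟩ := (Module.End.mem_maxGenEigenspace _ μ b).mp hb
  suffices key : ∀ N : ℕ, ∀ (i j : ℕ) (a b : A), i + j ≤ N → (D lam ^ i) a = 0 → (D μ ^ j) b = 0 →
      (D (lam * μ) ^ N) (a * b) = 0 from
    (Module.End.mem_maxGenEigenspace _ _ _).mpr ⟨i + j, key _ i j a b le_rfl hi hj⟩
  intro N
  induction N with
  | zero =>
    intro i j a b hij h1 _
    obtain rfl : i = 0 := by omega
    simp [show a = 0 by simpa using h1]
  | succ N ih =>
    intro i j a b hij h1 h2
    rcases Nat.eq_zero_or_pos i with rfl | hi0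
    · simp [show a = 0 by simpa using h1]
    rcases Nat.eq_zero_or_pos j with rfl | hj0
    · simp [show b = 0 by simpa using h2]
    have e : D (lam * μ) (a * b) = D lam a * φ b + a * (lam • D μ b) := by
      simp only [hD, map_mul, Algebra.smul_def, map_mul]
      ring
    have hφD : ∀ c (m : ℕ) x, (D c ^ m) (φ x) = φ ((D c ^ m) x) := by
      intro c m
      induction m with
      | zero => simp
      | succ m ihm =>
        intro x
        rw [pow_succ', Module.End.mul_apply, Module.End.mul_apply, ihm]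
        simp [hD, map_smul]
    rw [pow_succ, Module.End.mul_apply, e, map_add,
      ih (i - 1) j (D lam a) (φ b) (by omega)
        (by rw [← Module.End.mul_apply, ← pow_succ, Nat.sub_add_cancel hi0]; exact h1)
        (by rw [hφD, h2, map_zero]),
      ih i (j - 1) a (lam • D μ b) (by omega) h1
        (by rw [map_smul, ← Module.End.mul_apply, ← pow_succ, Nat.sub_add_cancel hj0, h2, smul_zero]),
      add_zero]

/-- The semisimple part of a locally finite algebra endomorphism is multiplicative. -/
theorem exists_ssPart_algHom [IsAlgClosed k] (φ : A →ₐ[k] A) (hf : IsLocFin (φ.toLinearMap : Module.End k A)) :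
    ∃ ψ : A →ₐ[k] A, (ψ.toLinearMap : Module.End k A) = ssPart (φ.toLinearMap : Module.End k A) := by
  set f : Module.End k A := φ.toLinearMap
  have h1 : ssPart f 1 = 1 := by
    have hm : (1 : A) ∈ f.maxGenEigenspace 1 := (Module.End.mem_maxGenEigenspace _ _ _).mpr ⟨1, by simp [f]⟩
    rw [ssPart_apply hf hm, one_smul]
  have hmul : ∀ a b, ssPart f (a * b) = ssPart f a * ssPart f b := by
    intro a b
    have ha : a ∈ ⨆ μ, f.maxGenEigenspace μ := iSup_maxGen hf ▸ Submodule.mem_top
    induction ha using Submodule.iSup_induction' with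
    | mem lam x hx =>
      have hb : b ∈ ⨆ μ, f.maxGenEigenspace μ := iSup_maxGen hf ▸ Submodule.mem_top
      induction hb using Submodule.iSup_induction' with
      | mem μ y hy =>
        rw [ssPart_apply hf (mul_mem_maxGen φ hx hy), ssPart_apply hf hx, ssPart_apply hf hy, smul_mul_smul_comm]
      | zero => simp
      | add y y' _ _ hy hy' => rw [mul_add, map_add, hy, hy', map_add, mul_add]
    | zero => simp
    | add x x' _ _ hx hx' => rw [add_mul, map_add, hx, hx', map_add, add_mul]
  exact ⟨AlgHom.ofLinearMap (ssPart f) h1 hmul, by ext; rfl⟩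

end Algebra

end Groth.Agent.SolvGrp
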