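import Groth.Agent.S3278
import Groth.Agent.S3280
import Groth.Agent.GrpSchLib.HomFlat
import Groth.Agent.GrpSchLib.MonoSubgroup
import Groth.Agent.GrpSchLib.AntiAffineHom

/-! A reduced group receiving a surjective homomorphism from an affine one is affine. -/

set_option backward.isDefEq.respectTransparency false
set_option backward.isDefEq.respectTransparency.types false
set_option linter.style.haveILetI false

universe u

open CategoryTheory MonoidalCategory CartesianMonoidalCategory MonObj AlgebraicGeometry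

namespace Groth.Agent.SolvGrp

variable {k : Type u} [Field k]

/-- A reduced group receiving a surjective homomorphism from an affine one is affine. -/
theorem isAffine_of_surjective {G H : Over (Spec (CommRingCat.of k))} [GrpObj G] [GrpObj H] [IsAffine G.left]
    [LocallyOfFiniteType G.hom] [LocallyOfFiniteType H.hom] [QuasiCompact H.hom] [AlgebraicGeometry.IsReduced H.left]
    (q : G ⟶ H) [IsMonHom q] [Surjective q.left] : IsAffine H.left := by
  haveI := GrpSchLib.AntiAffine.isSeparated_grp H
  haveI : QuasiCompact q.left := by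
    haveI : QuasiCompact (q.left ≫ H.hom) := by rw [Over.w q]; infer_instance
    exact QuasiCompact.of_comp q.left H.hom
  haveI : Flat q.left := GrpSchLib.flat_of_surjective_hom q
  let N := Limits.pullback q η[H]
  let i : N ⟶ G := Limits.pullback.fst q η[H]
  have sq : IsPullback i (Limits.pullback.snd q η[H]) q η[H] := IsPullback.of_hasPullback q η[H]
  have hker : AlgGrp.IsKernel i q := by
    rw [show Limits.pullback.snd q η[H] = toUnit N from toUnit_unique _ _] at sq
    exact sq
  haveI hη : IsClosedImmersion (η[H] : 𝟙_ _ ⟶ H).left := by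
    haveI : IsClosedImmersion ((η[H] : 𝟙_ _ ⟶ H).left ≫ H.hom) := by
      rw [Over.w]; exact inferInstanceAs (IsClosedImmersion (𝟙 _))
    exact IsClosedImmersion.of_comp (η[H] : 𝟙_ _ ⟶ H).left H.hom
  haveI : IsClosedImmersion i.left :=
    MorphismProperty.of_isPullback (P := @IsClosedImmersion) (sq.map (Over.forget _)).flip hη
  haveI : Mono i := (Over.forget _).mono_of_mono_map (inferInstanceAs (Mono i.left))
  have hi : ∀ {T : Over (Spec (CommRingCat.of k))} (g : T ⟶ G), g ≫ q = 1 → ∃ n, n ≫ i = g := fun {T} g hg =>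
    ⟨hker.lift g (toUnit T) (by rw [hg, Hom.one_def]), hker.lift_fst _ _ _⟩
  have hiq : i ≫ q = 1 := by rw [hker.w, Hom.one_def]
  obtain ⟨e, he⟩ := hi η[G] (by rw [IsMonHom.one_hom, MonObj.one_eq_one (M := H)])
  obtain ⟨m, hm⟩ := hi ((fst N N ≫ i) * (snd N N ≫ i)) (by
    rw [MonObj.mul_comp, Category.assoc, Category.assoc, hiq, MonObj.comp_one, MonObj.comp_one, _root_.one_mul])
  obtain ⟨v, hv⟩ := hi i⁻¹ (by rw [GrpObj.inv_comp, hiq, _root_.inv_one])
  obtain ⟨str, hmi⟩ := GrpSchLib.exists_grpObj_of_mono i e he m hm v hv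
  letI := str
  haveI := hmi
  have hnorm : AlgGrp.IsNormalHom i := fun X g n => by
    obtain ⟨n', hn'⟩ := hi (g * (n ≫ i) * g⁻¹) (by
      rw [MonObj.mul_comp, MonObj.mul_comp, GrpObj.inv_comp, Category.assoc, hiq, MonObj.comp_one, _root_.mul_one,
        mul_inv_cancel])
    exact ⟨n', hn'.symm⟩
  haveI : QuasiCompact G.hom := inferInstance
  obtain ⟨Q, _, p, hp, haQ, hlQ, hflat, hsurj, hkp⟩ := Groth.Agent.S3278.result k G N i hnorm
  haveI := hp
  haveI := haQ
  haveI := hlQ
  haveI := hflat
  haveI := hsurj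
  obtain ⟨a, -, ha, -⟩ := Groth.Agent.S3280.result k G N Q H p i hkp q (by rw [hiq, Hom.one_def])
  obtain ⟨b, -, hb, -⟩ := Groth.Agent.S3280.result k G N H Q q i hker p (by rw [hkp.w])
  obtain ⟨c, -, -, huniq⟩ := Groth.Agent.S3280.result k G N H H q i hker q (by rw [hiq, Hom.one_def])
  have hba : b ≫ a = 𝟙 H := (huniq (b ≫ a) (by rw [← Category.assoc, hb, ha])).trans
    (huniq (𝟙 H) (Category.comp_id q)).symm
  have hab : a ≫ b = 𝟙 Q := by
    obtain ⟨c', -, -, hu'⟩ := Groth.Agent.S3280.result k G N Q Q p i hkp p (by rw [hkp.w])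
    exact (hu' (a ≫ b) (by rw [← Category.assoc, ha, hb])).trans (hu' (𝟙 Q) (Category.comp_id p)).symm
  haveI : IsIso b.left := ⟨a.left, congrArg CommaMorphism.left hba, congrArg CommaMorphism.left hab⟩
  exact IsAffine.of_isIso b.left

end Groth.Agent.SolvGrp
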