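import Groth.Agent.SolvGrp.Weights

/-! A central torus meets the commutator subgroup in a finite set. -/

set_option backward.isDefEq.respectTransparency false
set_option backward.isDefEq.respectTransparency.types false
set_option linter.style.haveILetI false

universe u

open CategoryTheory MonoidalCategory CartesianMonoidalCategory MonObj AlgebraicGeometry

namespace Groth.Agent.SolvGrp

open GrpSchLib GrpSchLib.Kunneth GrpSchLib.LineGroups WeilCmp.Unip AGFLib AGFLib.Gen AGFLib.BorelFixed AGFLib.BorelExist

variable {k : Type u} [Field k] [IsAlgClosed k]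

local notation "PT" => 𝟙_ (Over (Spec (CommRingCat.of k)))

variable {G : Over (Spec (CommRingCat.of k))} [GrpObj G] [IsAffine G.left] [LocallyOfFiniteType G.hom]
  [IsReduced G.left]

/-- The weight spaces of a central torus are stable under all translations. -/
theorem rl_mem_weightSpace {T : Over (Spec (CommRingCat.of k))} [GrpObj T] (iT : T ⟶ G) [IsMonHom iT]
    (hT : Red.IsTorus T) {n : ℕ} {w : Fin n → Fn G} {χ : Fin n → Fn T} (hli : LinearIndependent k w)
    (hst : ∀ (g : PT ⟶ G) a, rl g (w a) ∈ Submodule.span k (Set.range w))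
    (hw : ∀ (t : PT ⟶ T) a, rl (t ≫ iT) (w a) = vl t (χ a) • w a)
    (hc : ∀ (g : PT ⟶ G), ∀ s ∈ rangePts iT, Commute g s) (g : PT ⟶ G) (a : Fin n) :
    ∀ v ∈ Submodule.span k (w '' {b | χ b = χ a}), rl g v ∈ Submodule.span k (w '' {b | χ b = χ a}) := by
  obtain ⟨haff, hsm, -, -⟩ := torus_props hT
  haveI := haff
  haveI := hsm
  haveI : IsReduced T.left := isReduced_of_smooth_field T.hom
  suffices h : Submodule.span k (w '' {b | χ b = χ a}) ≤ (Submodule.span k (w '' {b | χ b = χ a})).comap (rl g) from
    fun v hv => h hv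
  rw [Submodule.span_le]
  rintro _ ⟨a', ha', rfl⟩
  obtain ⟨c, hsum⟩ := (Submodule.mem_span_range_iff_exists_fun k).mp (hst g a')
  show rl g (w a') ∈ Submodule.span k (w '' {b | χ b = χ a})
  rw [← hsum]
  refine Submodule.sum_mem _ fun b _ => ?_
  by_cases hcb : c b = 0
  · rw [hcb, zero_smul]; exact Submodule.zero_mem _
  refine Submodule.smul_mem _ _ (Submodule.subset_span ⟨b, (?_ : χ b = χ a), rfl⟩)
  refine Eq.trans (eq_of_vl fun t => ?_) ha'
  have h2 := LinearMap.congr_fun (rl_commute (hc g _ ⟨t, rfl⟩)) (w a')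
  rw [Module.End.mul_apply, Module.End.mul_apply, hw, map_smul, ← hsum, map_sum, Finset.smul_sum] at h2
  simp only [map_smul, hw, smul_smul] at h2
  have h3 := Fintype.linearIndependent_iff.mp hli (fun b => c b * vl t (χ b) - c b * vl t (χ a')) (by
    simp only [sub_smul, Finset.sum_sub_distrib]
    rw [sub_eq_zero, ← h2]
    exact Finset.sum_congr rfl fun b _ => by rw [mul_comm]) b
  exact mul_left_cancel₀ hcb (sub_eq_zero.mp h3)

/-- A central torus meets the commutator subgroup in finitely many points. -/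
theorem finite_torus_inter_commutator {T : Over (Spec (CommRingCat.of k))} [GrpObj T] (iT : T ⟶ G) [IsMonHom iT]
    (hT : Red.IsTorus T) (hc : ∀ (g : PT ⟶ G), ∀ s ∈ rangePts iT, Commute g s) :
    {g : PT ⟶ G | g ∈ rangePts iT ∧ g ∈ commutator (PT ⟶ G)}.Finite := by
  classical
  obtain ⟨n, w, χ, hli, hgen, hst, hw⟩ := exists_weights iT hT
  let W : Fin n → Submodule k (Fn G) := fun a => Submodule.span k (w '' {b | χ b = χ a})
  haveI : ∀ a, FiniteDimensional k (W a) := fun a => FiniteDimensional.span_of_finite k (Set.toFinite _)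
  have hW := rl_mem_weightSpace iT hT hli hst hw hc
  let d : Fin n → (PT ⟶ G) →* k := fun a =>
    { toFun := fun g => LinearMap.det ((rl g).restrict (hW g a))
      map_one' := by
        have e : (rl (1 : PT ⟶ G)).restrict (hW 1 a) = LinearMap.id :=
          LinearMap.ext fun v => Subtype.ext (by rw [LinearMap.restrict_apply]; simp [rl_one])
        rw [e]
        exact LinearMap.det_id
      map_mul' := fun g h => by
        rw [← LinearMap.det_comp]
        congr 1
        exact LinearMap.ext fun v => Subtype.ext (by simp [LinearMap.restrict_apply, rl_mul]) }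
  have hpow : ∀ (t : PT ⟶ T) a, t ≫ iT ∈ commutator (PT ⟶ G) → vl t (χ a) ^ Module.finrank k (W a) = 1 := by
    intro t a ht
    have h1 : d a (t ≫ iT) = 1 := by
      have hk := MonoidHom.mem_ker.mp (Abelianization.commutator_subset_ker (d a).toHomUnits ht)
      exact congrArg Units.val hk
    have e : (rl (t ≫ iT)).restrict (hW (t ≫ iT) a) = vl t (χ a) • LinearMap.id := by
      refine LinearMap.ext fun v => Subtype.ext ?_
      have hsp : W a ≤ LinearMap.eqLocus (rl (t ≫ iT)) (vl t (χ a) • LinearMap.id) := Submodule.span_le.mpr (by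
        rintro _ ⟨b, hb, rfl⟩
        show rl (t ≫ iT) (w b) = vl t (χ a) • w b
        rw [hw, show χ b = χ a from hb])
      exact hsp v.2
    change LinearMap.det ((rl (t ≫ iT)).restrict (hW (t ≫ iT) a)) = 1 at h1
    rw [e, LinearMap.det_smul, LinearMap.det_id, _root_.mul_one] at h1
    exact h1
  have hpos : ∀ a, 0 < Module.finrank k (W a) := fun a => by
    haveI : Nontrivial (W a) := nontrivial_of_ne ⟨w a, Submodule.subset_span ⟨a, rfl, rfl⟩⟩ 0 fun h =>
      hli.ne_zero a (congrArg Subtype.val h)
    exact Module.finrank_pos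
  let V : Fin n → Set k := fun a => {z | z ^ Module.finrank k (W a) = 1}
  have hV : ∀ a, (V a).Finite := fun a => Set.Finite.subset
    (Polynomial.nthRootsFinset (Module.finrank k (W a)) (1 : k)).finite_toSet fun z hz =>
      (Polynomial.mem_nthRootsFinset (hpos a) (1 : k)).mpr hz
  haveI : ∀ a, Finite (V a) := fun a => (hV a).to_subtype
  let pick : {g : PT ⟶ G | g ∈ rangePts iT ∧ g ∈ commutator (PT ⟶ G)} → ∀ a, V a := fun g a =>
    ⟨vl g.2.1.choose (χ a), hpow _ a (by rw [show g.2.1.choose ≫ iT = g from g.2.1.choose_spec]; exact g.2.2)⟩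
  refine Set.finite_coe_iff.mp (Finite.of_injective pick fun g h hgh => Subtype.ext (eq_of_rl_eqOn hgen ?_))
  rintro _ ⟨a, rfl⟩
  have h1 := hw g.2.1.choose a
  have h2 := hw h.2.1.choose a
  rw [show g.2.1.choose ≫ iT = g from g.2.1.choose_spec] at h1
  rw [show h.2.1.choose ≫ iT = h from h.2.1.choose_spec] at h2
  rw [h1, h2]
  exact congrArg (fun z : k => z • w a) (congrArg Subtype.val (congrFun hgh a))

end Groth.Agent.SolvGrp
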