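import Groth.Agent.SolvGrp.DerivedField
import Groth.Agent.SolvGrp.CentralComm
import Groth.Agent.AVTors.TateInj
import Groth.Agent.S3283

/-! The rational points over an algebraic closure of the derived subgroup are commutator products. -/

set_option backward.isDefEq.respectTransparency false
set_option backward.isDefEq.respectTransparency.types false
set_option linter.style.haveILetI false

universe u

open CategoryTheory MonoidalCategory CartesianMonoidalCategory MonObj AlgebraicGeometry

namespace Groth.Agent.SolvGrp.DerField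

open GrpSchLib GrpSchLib.Kunneth GrpSchLib.LineGroups AGFLib AGFLib.Gen AGFLib.BorelFixed AGFLib.BorelExist Groth.Agent.AVTors

variable {k : Type u} [Field k]

theorem IsProd.mem_commutator {G : Over (Spec (CommRingCat.of k))} [GrpObj G] {T : Over (Spec (CommRingCat.of k))}
    {n : ℕ} {g : T ⟶ G} (h : IsProd n g) : g ∈ commutator (T ⟶ G) := by
  induction n generalizing g with
  | zero => rw [(isProd_zero_iff g).mp h]; exact one_mem _
  | succ n ih =>
    obtain ⟨a, b, g', hg', rfl⟩ := (isProd_succ_iff g).mp h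
    refine mul_mem ?_ (ih hg')
    rw [← commutatorElement_def, commutator_def]
    exact Subgroup.commutator_mem_commutator (Subgroup.mem_top _) (Subgroup.mem_top _)

/-- A morphism of affine schemes injective on functions has dense range. -/
theorem denseRange_of_ev_injective {W D : Over (Spec (CommRingCat.of k))} [IsAffine W.left] [IsAffine D.left]
    (f : W ⟶ D) (h : Function.Injective (ev f)) : DenseRange f.left := by
  have h1 : DenseRange (Spec.map f.left.appTop) :=
    (PrimeSpectrum.denseRange_comap_iff_ker_le_nilRadical f.left.appTop.hom).mpr fun x hx => by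
      have hx0 : x = 0 := h ((show ev f x = 0 from hx).trans (map_zero (ev f)).symm)
      rw [hx0]
      exact zero_mem _
  have e : f.left = W.left.isoSpec.hom ≫ Spec.map f.left.appTop ≫ D.left.isoSpec.inv := by
    rw [← Category.assoc, Scheme.isoSpec_hom_naturality, Category.assoc, Iso.hom_inv_id, Category.comp_id]
  rw [e]
  exact (D.left.isoSpec.inv.surjective.denseRange.comp h1 D.left.isoSpec.inv.continuous).comp
    W.left.isoSpec.hom.surjective.denseRange (Spec.map f.left.appTop ≫ D.left.isoSpec.inv).continuous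

section Pullback

variable {K : Type u} [Field K] (σ : Spec (CommRingCat.of K) ⟶ Spec (CommRingCat.of k))

/-- Dense range is stable under extension of the field. -/
theorem denseRange_bc {W D : Over (Spec (CommRingCat.of k))} (f : W ⟶ D) (h : DenseRange f.left) :
    DenseRange ((Over.pullback σ).map f).left := by
  let p := Limits.pullback.fst D.hom σ
  haveI : IsIntegral (Spec (CommRingCat.of k)) := inferInstance
  haveI : UniversallyOpen σ := inferInstance
  haveI : UniversallyOpen p := UniversallyOpen.fst D.hom σ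
  have sq : IsPullback (Limits.pullback.fst W.hom σ) ((Over.pullback σ).map f).left f.left p := by
    refine IsPullback.of_bot ?_ (Limits.pullback.lift_fst _ _ _).symm (IsPullback.of_hasPullback D.hom σ)
    have h1 : ((Over.pullback σ).map f).left ≫ Limits.pullback.snd D.hom σ = Limits.pullback.snd W.hom σ :=
      Limits.pullback.lift_snd _ _ _
    rw [h1, Over.w f]
    exact IsPullback.of_hasPullback W.hom σ
  have hr : Set.range ((Over.pullback σ).map f).left = p ⁻¹' Set.range f.left := by
    rw [← sq.isoPullback_hom_snd]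
    refine Eq.trans ?_ (Scheme.Pullback.range_snd (f := f.left) (g := p))
    ext x
    exact ⟨fun ⟨y, hy⟩ => ⟨_, hy⟩, fun ⟨y, hy⟩ => ⟨sq.isoPullback.inv y, by
      rw [← hy]
      show (sq.isoPullback.inv ≫ sq.isoPullback.hom ≫ Limits.pullback.snd f.left p) y = _
      rw [Iso.inv_hom_id_assoc]⟩⟩
  show Dense (Set.range ((Over.pullback σ).map f).left)
  rw [hr]
  exact Dense.preimage h p.isOpenMap

end Pullback

variable [IsAlgClosed k]

local notation "PT" => 𝟙_ (Over (Spec (CommRingCat.of k)))

/-- A closed set of rational points containing the image of a dominant map contains all points. -/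
theorem mem_of_denseRange {W D : Over (Spec (CommRingCat.of k))} [LocallyOfFiniteType W.hom] (f : W ⟶ D)
    (h : DenseRange f.left) {S : Set (PT ⟶ D)} (hS : PtsClosed S) (hf : ∀ w : PT ⟶ W, w ≫ f ∈ S) (d : PT ⟶ D) :
    d ∈ S := by
  obtain ⟨Z, hZ, hmem⟩ := hS
  have h1 := eq_univ_of_forall_cp (hZ.preimage f.left.continuous) fun w => (hmem _).mp (hf w)
  refine (hmem d).mpr (hZ.closure_subset_iff.mpr ?_ (h (cp d)))
  rintro _ ⟨x, rfl⟩
  exact h1.ge (Set.mem_univ x)

/-- The commutator subgroup of the rational points of a connected group is closed. -/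
theorem ptsClosed_commutator (G : Over (Spec (CommRingCat.of k))) [GrpObj G] [IsAffine G.left] [Smooth G.hom]
    [ConnectedSpace G.left] : PtsClosed ((commutator (PT ⟶ G) : Subgroup (PT ⟶ G)) : Set (PT ⟶ G)) := by
  obtain ⟨⟨D, _, i, hi, hci, hsm, hr⟩, -⟩ := Groth.Agent.S3283.result k G
  haveI := hi
  haveI := hci
  obtain ⟨-, hlD, hqD, -, -⟩ := sub_props i
  haveI := hlD
  haveI := hqD
  rw [← hr]
  exact ptsClosed_range i

end Groth.Agent.SolvGrp.DerField

namespace Groth.Agent.SolvGrp.DerField

open GrpSchLib GrpSchLib.Kunneth GrpSchLib.LineGroups AGFLib AGFLib.Gen AGFLib.BorelFixed AGFLib.BorelExist Groth.Agent.AVTors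

variable {k : Type u} [Field k]

/-- A homomorphism to a commutative group whose kernel on geometric points consists of products of commutators. -/
theorem exists_commHom (G : Over (Spec (CommRingCat.of k))) [GrpObj G] [IsAffine G.left] [Smooth G.hom]
    [ConnectedSpace G.left] (s : Spec (CommRingCat.of k)) [IsAffine (Red.geomFibre s G).left]
    [Smooth (Red.geomFibre s G).hom] [ConnectedSpace (Red.geomFibre s G).left] :
    ∃ (Q : Over (Spec (CommRingCat.of k))) (_ : GrpObj Q) (_ : IsCommMonObj Q) (_ : IsAffine Q.left)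
      (_ : LocallyOfFiniteType Q.hom) (q : G ⟶ Q) (_ : IsMonHom q),
      ∀ x : 𝟙_ _ ⟶ Red.geomFibre s G, x ≫ (Over.pullback (Red.geomPt s)).map q = 1 →
        x ∈ commutator (𝟙_ (Over (Spec (CommRingCat.of (AlgebraicClosure ((Spec (CommRingCat.of k)).residueField s))))) ⟶
          Red.geomFibre s G) := by
  obtain ⟨Q, _, _, q, hq, D, _, i, n, f, hi, hci, haD, haQ, hlQ, hker, hf, hinj⟩ := exists_abelianQuot (G := G)
  refine ⟨Q, inferInstance, inferInstance, haQ, hlQ, q, hq, fun x hx => ?_⟩
  haveI := hq
  haveI := hi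
  haveI := hci
  haveI : IsAffine (Wn (G ⊗ G) n).left := wn_isAffine n
  obtain ⟨-, hsW⟩ := wn_geom (G := G) n
  haveI := hsW
  set σ := Red.geomPt s with hσ
  -- lift the point to the kernel
  obtain ⟨x₀, rfl⟩ := (bcPts σ _ G).surjective x
  have hx₀ : x₀ ≫ q = 1 := (bcPts σ _ Q).injective (by rw [bcPts_comp, map_one]; exact hx)
  have hx₁ : x₀ ≫ q = toUnit _ ≫ η[Q] := by rw [hx₀, Hom.one_def]
  let d₀ := hker.lift x₀ (toUnit _) hx₁
  have hd₀ : d₀ ≫ i = x₀ := hker.lift_fst _ _ _
  rw [← hd₀, bcPts_comp]
  haveI : LocallyOfFiniteType ((Over.pullback σ).obj (Wn (G ⊗ G) n)).hom :=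
    inferInstanceAs (LocallyOfFiniteType (Limits.pullback.snd (Wn (G ⊗ G) n).hom σ))
  refine mem_of_denseRange ((Over.pullback σ).map f) (denseRange_bc σ f (denseRange_of_ev_injective f hinj))
    ((ptsClosed_commutator (Red.geomFibre s G)).preimage ((Over.pullback σ).map i)) (fun w => ?_) (bcPts σ _ D d₀)
  show (w ≫ (Over.pullback σ).map f) ≫ (Over.pullback σ).map i ∈
    commutator (𝟙_ (Over (Spec (CommRingCat.of (AlgebraicClosure ((Spec (CommRingCat.of k)).residueField s))))) ⟶
      Red.geomFibre s G)
  have hm : ∀ {Y : Over (Spec (CommRingCat.of k))} (w₀ : (Over.map σ).obj (𝟙_ _) ⟶ Y) (h : Y ⟶ G),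
      (Over.mapPullbackAdj σ).homEquiv _ _ w₀ ≫ (Over.pullback σ).map h = bcPts σ _ G (w₀ ≫ h) := fun w₀ h =>
    ((Over.mapPullbackAdj σ).homEquiv_naturality_right w₀ h).symm
  obtain ⟨w₀, rfl⟩ := ((Over.mapPullbackAdj σ).homEquiv _ (Wn (G ⊗ G) n)).surjective w
  rw [Category.assoc, ← Functor.map_comp, hm, hf]
  have hp : IsProd n (w₀ ≫ fn (comm G) n) := ⟨w₀, rfl⟩
  have h1 : bcPts σ _ G (w₀ ≫ fn (comm G) n) ∈ (commutator _).map (bcPts σ (𝟙_ _) G).toMonoidHom :=
    ⟨_, hp.mem_commutator, rfl⟩
  rw [commutator_def, Subgroup.map_commutator] at h1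
  rw [commutator_def]
  exact Subgroup.commutator_mono le_top le_top h1

end Groth.Agent.SolvGrp.DerField
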