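import Groth.Agent.SolvGrp.WeylFixed
import Groth.Agent.SolvGrp.DerivedPts

/-! Semisimple groups are perfect. -/

set_option backward.isDefEq.respectTransparency false
set_option backward.isDefEq.respectTransparency.types false
set_option linter.style.haveILetI false

universe u

open CategoryTheory MonoidalCategory CartesianMonoidalCategory MonObj AlgebraicGeometry

namespace Groth.Agent.SolvGrp

open GrpSchLib GrpSchLib.Kunneth GrpSchLib.LineGroups WeilCmp.Unip AGFLib AGFLib.Gen AGFLib.BorelFixed AGFLib.BorelExist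

variable {k : Type u} [Field k] [IsAlgClosed k]

local notation "PT" => 𝟙_ (Over (Spec (CommRingCat.of k)))

variable {G T : Over (Spec (CommRingCat.of k))} [GrpObj G] [GrpObj T] [IsAffine G.left] [Smooth G.hom]
  [ConnectedSpace G.left] (iT : T ⟶ G) [IsMonHom iT]

/-- In a semisimple group no non-trivial torus is centralised by the normaliser of a maximal torus. -/
theorem eq_one_of_weyl (hG : Red.IsSemisimpleOver k G) (hT : AGF.IsMaxTorus iT) {S : Over (Spec (CommRingCat.of k))}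
    [GrpObj S] (iS : S ⟶ G) [IsMonHom iS] (hS : Red.IsTorus S) (hST : rangePts iS ≤ rangePts iT)
    (hW : ∀ n : PT ⟶ G, (∀ t ∈ rangePts iT, n⁻¹ * t * n ∈ rangePts iT) → ∀ s ∈ rangePts iS, Commute n s) :
    ∀ s ∈ rangePts iS, s = 1 := by
  haveI : IsReduced G.left := isReduced_of_smooth_field G.hom
  haveI := hT.2.1
  obtain ⟨B, _, iB, tB, hB, htB⟩ := exists_borel_maxTorus iT hT
  haveI := hB.1
  haveI := hB.2.1
  haveI := hB.2.2.1
  obtain ⟨-, hlB, hqB, hmB, -⟩ := sub_props iB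
  haveI := hlB
  haveI := hqB
  haveI := hmB
  have hTB : rangePts iT ≤ rangePts iB := by
    rintro _ ⟨x, rfl⟩
    exact ⟨x ≫ tB, by show (x ≫ tB) ≫ iB = x ≫ iT; rw [Category.assoc, htB]⟩
  obtain ⟨D, _, iD, hiD, hcD, hsD, hconnD, hnD, hle, hrec⟩ := exists_normalSub
    {z : PT ⟶ G | ∀ g : PT ⟶ G, g * z * g⁻¹ ∈ rangePts iB}
    (fun g z hz g' => by rw [show g' * (g * z * g⁻¹) * g'⁻¹ = g' * g * z * (g' * g)⁻¹ by group]; exact hz _)
    (rangePts iB) (ptsClosed_range iB) (fun z hz => by simpa using hz 1)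
  haveI := hiD
  haveI := hcD
  haveI := hsD
  haveI := hconnD
  obtain ⟨φ, hφ, hφe⟩ := exists_fac_sub iB iD hle
  haveI := hφ
  haveI : Mono iD := mono_of_closedImmersion iD
  obtain ⟨m, hm⟩ := hB.2.2.2.2.1
  have hinj : Function.Injective (ptsHom φ) := fun a b hab => by
    change a ≫ φ = b ≫ φ at hab
    rw [← cancel_mono iD, ← hφe, reassoc_of% hab]
  have hsolv : Red.IsSolvableGrp D := AGFLib.ProperSpace.isSolvableGrp_of_pts m (eq_bot_iff.mpr fun x hx => by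
    have h1 := map_derivedSeries_le_derivedSeries (ptsHom φ) m ⟨x, hx, rfl⟩
    rw [hm] at h1
    exact Subgroup.mem_bot.mpr (hinj ((Subgroup.mem_bot.mp h1).trans (map_one _).symm)))
  have hnD' : AlgGrp.IsNormalHom iD := isNormalHom_of_pts iD hnD
  have htriv : Red.IsTrivialGrp D := hG.2 D iD hcD hnD' (isTorus_of_solvable_normal iD hG.1 hnD' hsolv)
  obtain ⟨haS, hsS, hcS, -⟩ := torus_props hS
  haveI := haS
  haveI := hsS
  haveI := hcS
  haveI : LocallyOfFiniteType D.hom := (sub_props iD).2.1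
  intro s hs
  obtain ⟨d, hd⟩ := hrec S iS (fun z hz g => by
    have := mem_borel_of_weyl iB iT iS hB hT hTB hS hST hW g⁻¹ z hz
    rwa [_root_.inv_inv] at this) hs
  change d ≫ iD = s at hd
  rw [← hd, pt_eq_one_of_trivial htriv d, MonObj.one_comp]

/-- Powers are surjective on the rational points of a torus. -/
theorem exists_pow_eq (hT : Red.IsTorus T) {m : ℕ} (hm : m ≠ 0) (t : PT ⟶ T) : ∃ s : PT ⟶ T, s ^ m = t := by
  obtain ⟨haT, hsT, -, -⟩ := torus_props hT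
  haveI := haT
  haveI := hsT
  haveI : IsReduced T.left := isReduced_of_smooth_field T.hom
  obtain ⟨r, φ, hφ⟩ := exists_torus_chars hT
  have hvl : ∀ (x : PT ⟶ T) (i : Fin r → ℤ), vl x (φ (MonoidAlgebra.single (Multiplicative.ofAdd i) 1)) ≠ 0 :=
    fun x i => (((((MonoidAlgebra.of k (Multiplicative (Fin r → ℤ))).toHomUnits
      (Multiplicative.ofAdd i)).isUnit).map φ).map (vl x)).ne_zero
  have hroot : ∀ a : Fin r, ∃ z : k, z ^ m = vl t (φ (MonoidAlgebra.single (Multiplicative.ofAdd (Pi.single a 1)) 1)) :=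
    fun a => IsAlgClosed.exists_pow_nat_eq _ (Nat.pos_of_ne_zero hm)
  choose z hz using hroot
  have hz0 : ∀ a, z a ≠ 0 := fun a h => hvl t _ (by rw [← hz a, h, zero_pow hm])
  let f : Multiplicative (Fin r → ℤ) →* k :=
    { toFun := fun i => ∏ a, z a ^ (Multiplicative.toAdd i a)
      map_one' := by simp
      map_mul' := fun x y => by
        rw [← Finset.prod_mul_distrib]
        exact Finset.prod_congr rfl fun a _ => zpow_add₀ (hz0 a) _ _ }
  obtain ⟨s, hs⟩ := exists_pt ((MonoidAlgebra.lift k k _ f).comp (φ.symm : Fn T →ₐ[k] _))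
  refine ⟨s, vl_ext fun F => ?_⟩
  have hext : (vl (s ^ m) : Fn T →ₐ[k] k).comp φ.toAlgHom = (vl t : Fn T →ₐ[k] k).comp φ.toAlgHom := by
    refine (MonoidAlgebra.lift k k (Multiplicative (Fin r → ℤ))).symm.injective (MonoidHom.ext fun i => ?_)
    let χ : Multiplicative (Fin r → ℤ) →* k := ((vl t).comp φ.toAlgHom : _ →ₐ[k] k).toMonoidHom.comp
      (MonoidAlgebra.of k _)
    have hpow : ∀ j : ℕ, vl (s ^ j) (φ (MonoidAlgebra.single i 1)) = vl s (φ (MonoidAlgebra.single i 1)) ^ j := by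
      intro j
      induction j with
      | zero =>
        have h1 := hφ 1 1 i
        rw [_root_.mul_one] at h1
        rw [pow_zero, pow_zero]
        exact (mul_eq_left₀ (hvl 1 (Multiplicative.toAdd i))).mp h1.symm
      | succ j ih => rw [pow_succ, pow_succ, hφ, ih]
    show vl (s ^ m) (φ (MonoidAlgebra.single i 1)) = χ i
    rw [hpow, hs]
    show (MonoidAlgebra.lift k k _ f (φ.symm (φ (MonoidAlgebra.single i 1)))) ^ m = χ i
    rw [AlgEquiv.symm_apply_apply, MonoidAlgebra.lift_single, one_smul]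
    show (∏ a, z a ^ (Multiplicative.toAdd i a)) ^ m = χ i
    have hi : i = ∏ a, Multiplicative.ofAdd (Pi.single a (1 : ℤ)) ^ (Multiplicative.toAdd i a) := by
      refine Multiplicative.toAdd.injective ?_
      rw [toAdd_prod]
      ext b
      simp [Finset.sum_apply, Pi.single_apply, toAdd_zpow]
    conv_rhs => rw [hi, map_prod]
    rw [← Finset.prod_pow]
    refine Finset.prod_congr rfl fun a _ => ?_
    rw [← zpow_natCast (z a ^ (Multiplicative.toAdd i a)), ← zpow_mul, mul_comm (Multiplicative.toAdd i a), zpow_mul,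
      zpow_natCast, hz]
    exact (map_zpow χ _ _).symm
  exact DFunLike.congr_fun hext (φ.symm F) |> fun h => by simpa using h

/-- An element normalising a maximal torus induces an automorphism of it. -/
theorem exists_weylAut (hT : AGF.IsMaxTorus iT) (n : PT ⟶ G) (hn : ∀ t ∈ rangePts iT, n⁻¹ * t * n ∈ rangePts iT) :
    ∃ φ : T ≅ T, IsMonHom φ.hom ∧ φ.hom ≫ iT = AGF.conjBy n⁻¹ iT := by
  haveI := hT.2.1
  haveI : IsMonHom (AGF.conjBy n⁻¹ iT) := by rw [AGFLib.Borel.conjBy_eq]; infer_instance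
  haveI : Mono (AGF.conjBy n⁻¹ iT) := by rw [AGFLib.Borel.conjBy_eq]; exact mono_comp iT _
  have hT' : AGF.IsMaxTorus (AGF.conjBy n⁻¹ iT) := ⟨inferInstance, inferInstance, hT.2.2.1, fun T₂ _ j _ _ φ hT₂ hφ => by
    haveI : IsMonHom (AGF.conjBy n j) := by rw [AGFLib.Borel.conjBy_eq]; infer_instance
    haveI : Mono (AGF.conjBy n j) := by rw [AGFLib.Borel.conjBy_eq]; exact mono_comp j _
    refine hT.2.2.2 T₂ (AGF.conjBy n j) φ hT₂ ?_
    rw [AGFLib.Borel.conjBy_eq, ← Category.assoc, hφ, AGFLib.Borel.conjBy_eq, Category.assoc, AGFLib.Borel.conjM_comp,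
      mul_inv_cancel, AGFLib.Borel.conjM_one, Category.comp_id]⟩
  obtain ⟨φ, hφ⟩ := maxTorus_unique _ hT' hT.2.2.1 iT fun x hx => by
    rw [rangePts_conjBy, _root_.inv_inv] at hx
    have := hn _ hx
    rwa [show n⁻¹ * (n * x * n⁻¹) * n = x by group] at this
  exact ⟨φ, AGFLib.BorelImage.isMonHom_of_comp φ.hom iT _ hφ, hφ⟩

/-- The sum over the Weyl group: a fixed endomorphism congruent to a power modulo commutators. -/
theorem exists_weylNorm (hT : AGF.IsMaxTorus iT) :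
    ∃ (m : ℕ) (Φ : T ⟶ T), m ≠ 0 ∧ IsMonHom Φ ∧
      (∀ (n : PT ⟶ G) (ψ : T ⟶ T), IsMonHom ψ → (∀ t ∈ rangePts iT, n⁻¹ * t * n ∈ rangePts iT) →
        ψ ≫ iT = AGF.conjBy n⁻¹ iT → Φ ≫ ψ = Φ) ∧
      (∀ t : PT ⟶ T, Abelianization.of ((t ≫ Φ) ≫ iT) = Abelianization.of (t ≫ iT) ^ m) ∧
      ∀ (H : Over (Spec (CommRingCat.of k))) [GrpObj H] [IsCommMonObj H] (χ : T ⟶ H) [IsMonHom χ],
        (∀ (n : PT ⟶ G) (ψ : T ⟶ T), IsMonHom ψ → (∀ t ∈ rangePts iT, n⁻¹ * t * n ∈ rangePts iT) →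
          ψ ≫ iT = AGF.conjBy n⁻¹ iT → ψ ≫ χ = χ) → ∀ t : PT ⟶ T, t ≫ Φ ≫ χ = (t ≫ χ) ^ m := by
  classical
  haveI : IsReduced G.left := isReduced_of_smooth_field G.hom
  haveI := hT.2.1
  obtain ⟨haT, hsT, -, -⟩ := torus_props hT.2.2.1
  haveI := haT
  haveI := hsT
  haveI : IsReduced T.left := isReduced_of_smooth_field T.hom
  haveI := GrpSchLib.AntiAffine.isSeparated_grp G
  haveI : IsCommMonObj T := ⟨by
    rw [show μ[T] = fst T T * snd T T by rw [Hom.mul_def, lift_fst_snd, Category.id_comp], MonObj.comp_mul,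
      braiding_hom_fst, braiding_hom_snd,
      GrpSchLib.MultTypeComm.points_comm (TorusQI.isMultTypeFT_of_isTorus hT.2.2.1) (snd T T) (fst T T)]⟩
  obtain ⟨R, hR, hfin⟩ := finite_normalizer iT hT.2.2.1
  let A : Set (T ⟶ T) := {ψ | IsMonHom ψ ∧ ∃ n : PT ⟶ G, (∀ t ∈ rangePts iT, n⁻¹ * t * n ∈ rangePts iT) ∧
    ψ ≫ iT = AGF.conjBy n⁻¹ iT}
  have hpt : ∀ (n : PT ⟶ G) (ψ : T ⟶ T), ψ ≫ iT = AGF.conjBy n⁻¹ iT → ∀ t : PT ⟶ T,
      (t ≫ ψ) ≫ iT = n⁻¹ * (t ≫ iT) * n := fun n ψ h t => by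
    rw [Category.assoc, h, AGFLib.Borel.conjBy_eq, ← Category.assoc, comp_conjM_pt, _root_.inv_inv]
  have hA : A.Finite := by
    have hex : ∀ ψ : A, ∃ r ∈ R, ∀ t : PT ⟶ T, (t ≫ (ψ : T ⟶ T)) ≫ iT = r⁻¹ * (t ≫ iT) * r := by
      rintro ⟨ψ, -, n, hn, hψ⟩
      obtain ⟨r, hr, hc⟩ := hfin n hn
      refine ⟨r, hr, fun t => ?_⟩
      rw [hpt n ψ hψ t]
      have h2 : n * r⁻¹ * (t ≫ iT) = (t ≫ iT) * (n * r⁻¹) := (hc _ ⟨t, rfl⟩).eq
      calc n⁻¹ * (t ≫ iT) * n = n⁻¹ * ((t ≫ iT) * (n * r⁻¹)) * r := by group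
        _ = n⁻¹ * (n * r⁻¹ * (t ≫ iT)) * r := by rw [h2]
        _ = r⁻¹ * (t ≫ iT) * r := by group
    choose pick hpick hspec using hex
    haveI := hR.to_subtype
    refine Set.finite_coe_iff.mp (Finite.of_injective (fun ψ : A => (⟨pick ψ, hpick ψ⟩ : R)) fun a b hab =>
      Subtype.ext ((cancel_mono iT).mp (hom_ext_pts fun t => ?_)))
    rw [← Category.assoc, ← Category.assoc, hspec, hspec, show pick a = pick b from congrArg Subtype.val hab]
  have hid : 𝟙 T ∈ A := ⟨inferInstance, 1, fun t ht => by simpa using ht, by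
    rw [Category.id_comp, _root_.inv_one, AGFLib.Borel.conjBy_eq, AGFLib.Borel.conjM_one, Category.comp_id]⟩
  let Φ : T ⟶ T := ∏ ψ ∈ hA.toFinset, ψ
  have hev : ∀ {X : Over (Spec (CommRingCat.of k))} (x : X ⟶ T), x ≫ Φ = ∏ ψ ∈ hA.toFinset, x ≫ ψ := fun {X} x => by
    let f : (T ⟶ T) →* (X ⟶ T) :=
      { toFun := fun ψ => x ≫ ψ, map_one' := MonObj.comp_one x, map_mul' := fun a b => MonObj.comp_mul x a b }
    exact map_prod f _ _
  haveI hΦm : IsMonHom Φ := AGFLib.isMonHom_of_mul Φ fun X a b => by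
    rw [hev, hev, hev, ← Finset.prod_mul_distrib]
    exact Finset.prod_congr rfl fun ψ hψ => by
      haveI := (hA.mem_toFinset.mp hψ).1
      exact MonObj.mul_comp a b ψ
  refine ⟨hA.toFinset.card, Φ, Finset.card_ne_zero.mpr ⟨_, hA.mem_toFinset.mpr hid⟩, hΦm, ?_, ?_, ?_⟩
  · intro n ψn hψn hn hψne
    haveI := hψn
    obtain ⟨φ, hφm, hφ⟩ := exists_weylAut iT hT n hn
    have hφψ : φ.hom = ψn := (cancel_mono iT).mp (hφ.trans hψne.symm)
    let f : (T ⟶ T) →* (T ⟶ T) :=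
      { toFun := fun ψ => ψ ≫ ψn, map_one' := MonObj.one_comp ψn, map_mul' := fun a b => MonObj.mul_comp a b ψn }
    have hmap : ∀ ψ ∈ A, ψ ≫ ψn ∈ A := by
      rintro ψ ⟨hψm, n', hn', hψ⟩
      haveI := hψm
      refine ⟨inferInstance, n' * n, fun t ht => ?_, ?_⟩
      · have := hn _ (hn' t ht)
        rwa [show n⁻¹ * (n'⁻¹ * t * n') * n = (n' * n)⁻¹ * t * (n' * n) by group] at this
      · rw [Category.assoc, hψne, AGFLib.Borel.conjBy_eq, ← Category.assoc, hψ, AGFLib.Borel.conjBy_eq,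
          AGFLib.Borel.conjBy_eq, Category.assoc, AGFLib.Borel.conjM_comp, _root_.mul_inv_rev]
    have hinj : Set.InjOn (fun ψ => ψ ≫ ψn) (hA.toFinset : Set (T ⟶ T)) := fun a _ b _ h => by
      change a ≫ ψn = b ≫ ψn at h
      rw [← hφψ] at h
      exact (cancel_mono φ.hom).mp h
    have himg : hA.toFinset.image (fun ψ => ψ ≫ ψn) = hA.toFinset := by
      refine Finset.eq_of_subset_of_card_le ?_ (Finset.card_image_of_injOn hinj).ge
      intro ψ hψ
      obtain ⟨a, ha, rfl⟩ := Finset.mem_image.mp hψ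
      exact hA.mem_toFinset.mpr (hmap a (hA.mem_toFinset.mp ha))
    show f Φ = Φ
    rw [map_prod]
    show ∏ ψ ∈ hA.toFinset, ψ ≫ ψn = ∏ ψ ∈ hA.toFinset, ψ
    conv_rhs => rw [← himg, Finset.prod_image hinj]
  · intro t
    let g : (PT ⟶ T) →* Abelianization (PT ⟶ G) := Abelianization.of.comp (ptsHom iT)
    show g (t ≫ Φ) = g t ^ hA.toFinset.card
    rw [hev, map_prod, Finset.prod_eq_pow_card]
    intro ψ hψ
    obtain ⟨-, n, -, hψe⟩ := hA.mem_toFinset.mp hψ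
    show Abelianization.of ((t ≫ ψ) ≫ iT) = Abelianization.of (t ≫ iT)
    rw [hpt n ψ hψe t, map_mul, map_mul, map_inv, mul_comm (Abelianization.of n)⁻¹, _root_.mul_assoc, inv_mul_cancel,
      _root_.mul_one]
  · intro H _ _ χ _ hχ t
    let g : (PT ⟶ T) →* (PT ⟶ H) :=
      { toFun := fun x => x ≫ χ, map_one' := MonObj.one_comp χ, map_mul' := fun a b => MonObj.mul_comp a b χ }
    rw [← Category.assoc]
    show g (t ≫ Φ) = g t ^ hA.toFinset.card
    rw [hev, map_prod, Finset.prod_eq_pow_card]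
    intro ψ hψ
    obtain ⟨hψm, n, hn, hψe⟩ := hA.mem_toFinset.mp hψ
    show (t ≫ ψ) ≫ χ = t ≫ χ
    rw [Category.assoc, hχ n ψ hψm hn hψe]

/-- The norm kills a maximal torus of a semisimple group. -/
theorem weylNorm_eq_one (hG : Red.IsSemisimpleOver k G) (hT : AGF.IsMaxTorus iT) (Φ : T ⟶ T) [IsMonHom Φ]
    (hΦ : ∀ (n : PT ⟶ G) (ψ : T ⟶ T), IsMonHom ψ → (∀ t ∈ rangePts iT, n⁻¹ * t * n ∈ rangePts iT) →
      ψ ≫ iT = AGF.conjBy n⁻¹ iT → Φ ≫ ψ = Φ) (t : PT ⟶ T) : t ≫ Φ = 1 := by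
  haveI : IsReduced G.left := isReduced_of_smooth_field G.hom
  haveI : QuasiCompact G.hom := inferInstance
  haveI := hT.2.1
  obtain ⟨hcT, hsT, hcoT, haT, hlT, hqT, -⟩ := torus_sub hT.2.2.1 iT
  haveI := hcT
  haveI := hsT
  haveI := hcoT
  haveI := haT
  haveI := hlT
  haveI := hqT
  haveI : IsReduced T.left := isReduced_of_smooth_field T.hom
  obtain ⟨D, _, i, hi, hci, hsm, hconn, haD, hle, S, hS, -, hcov⟩ := exists_connSub (rangePts (Φ ≫ iT)) (ptsClosed_range _)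
  haveI := hi
  haveI := hci
  haveI := hsm
  haveI := hconn
  haveI := haD
  obtain ⟨-, hlD, hqD, hmD, -⟩ := sub_props i
  haveI := hlD
  haveI := hqD
  haveI := hmD
  haveI : IsReduced D.left := isReduced_of_smooth_field D.hom
  have heq : rangePts (Φ ≫ iT) ≤ rangePts i :=
    le_of_finite_cosets (Φ ≫ iT) _ (ptsClosed_range i) S hS hcov
  have hDT : rangePts i ≤ rangePts iT := hle.trans (rangePts_comp iT Φ)
  have hDt : Red.IsTorus D := isTorus_of_unip_trivial fun V _ j _ hj hsV hcV hV => by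
    haveI := hj
    haveI := hsV
    haveI := hcV
    obtain ⟨haV, hlV, -, hmV, -⟩ := sub_props j
    haveI := haV
    haveI := hlV
    haveI := hmV
    haveI : IsReduced V.left := isReduced_of_smooth_field V.hom
    refine isTrivialGrp_of_pts fun x => (cancel_mono (j ≫ i)).mp ?_
    rw [MonObj.one_comp]
    obtain ⟨y, hy⟩ := hDT (⟨x ≫ j, rfl⟩ : (x ≫ j) ≫ i ∈ rangePts i)
    change y ≫ iT = (x ≫ j) ≫ i at hy
    refine eq_one_of_isSsPt_isUnipPt ?_ ((map_isSsPt_isUnipPt (j ≫ i) x).2 (isUnipPt_of_hasNoSubtorus hV x))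
    rw [← Category.assoc, ← hy]
    exact isSsPt_of_torus hT.2.2.1 iT y
  have hone := eq_one_of_weyl iT hG hT i hDt hDT (fun n hn s hs => by
    obtain ⟨x, rfl⟩ := hle hs
    obtain ⟨φ, hφm, hφ⟩ := exists_weylAut iT hT n hn
    have h1 := congrArg (fun ψ => (x ≫ ψ) ≫ iT) (hΦ n φ.hom hφm hn hφ)
    simp only [Category.assoc, hφ] at h1
    rw [AGFLib.Borel.conjBy_eq, ← Category.assoc Φ, ← Category.assoc x, comp_conjM_pt, _root_.inv_inv] at h1
    show n * (x ≫ Φ ≫ iT) = (x ≫ Φ ≫ iT) * n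
    have h2 : n * (n⁻¹ * (x ≫ Φ ≫ iT) * n) = n * (x ≫ Φ ≫ iT) := by rw [h1]
    rw [← h2]
    group)
  refine (cancel_mono iT).mp ?_
  rw [MonObj.one_comp, Category.assoc]
  exact hone _ (heq ⟨t, rfl⟩)

/-- The rational points of a semisimple group form a perfect group. -/
theorem commutator_eq_top (hG : Red.IsSemisimpleOver k G) : _root_.commutator (PT ⟶ G) = ⊤ := by
  haveI : IsReduced G.left := isReduced_of_smooth_field G.hom
  refine eq_top_of_ss hG.1 _ (DerField.ptsClosed_commutator G) (by rw [_root_.commutator_def]; infer_instance) fun g hg => ?_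
  obtain ⟨B, _, iB, -, -, -, hB, -, -⟩ := AGFLib.Borel.exists_borel G
  haveI := hB.1
  haveI := hB.2.1
  haveI := hB.2.2.1
  haveI := hB.2.2.2.1
  obtain ⟨haB, hlB, hqB, hmB, hevB⟩ := sub_props iB
  haveI := haB
  haveI := hlB
  haveI := hmB
  haveI : IsReduced B.left := isReduced_of_smooth_field B.hom
  obtain ⟨n, hn⟩ := hB.2.2.2.2.1
  obtain ⟨T, _, i, hi, hci, hT, hA, hC⟩ := exists_torus_of_derivedSeries n B (hn _)
  haveI := hi
  haveI := hci
  haveI : Mono i := mono_of_closedImmersion i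
  let iT := i ≫ iB
  haveI : Mono iT := mono_comp i iB
  obtain ⟨x, b, hxb⟩ := exists_conj_borel iB hB g
  have hbss : IsSsPt (b ≫ iB) := by
    have := hg.conj x⁻¹
    rwa [_root_.inv_inv, ← hxb, show x⁻¹ * (x * (b ≫ iB) * x⁻¹) * x = b ≫ iB by group] at this
  obtain ⟨c, hc⟩ := hC {b} (fun y hy => hy ▸ IsSsPt.map iB hevB hbss)
    (fun y hy y' hy' => by rw [show y = b from hy, show y' = b from hy'])
  obtain ⟨t, ht⟩ := hc b rfl
  change t ≫ i = c * b * c⁻¹ at ht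
  have hT : AGF.IsMaxTorus iT := isMaxTorus_of_borel iB iT hB hT (rangePts_comp iB i) fun y hy => by
    obtain ⟨y, rfl⟩ := hy
    obtain ⟨_, ⟨w, rfl⟩, hu⟩ := hA y
    refine ⟨(w ≫ i) ≫ iB, ⟨w, (Category.assoc _ _ _).symm⟩, ?_⟩
    have h1 := (map_isSsPt_isUnipPt iB _).2 hu
    rw [MonObj.mul_comp, GrpObj.inv_comp] at h1
    exact h1
  suffices hkey : t ≫ iT ∈ _root_.commutator (PT ⟶ G) by
    have e : g = (x * (c ≫ iB)⁻¹) * (t ≫ iT) * (x * (c ≫ iB)⁻¹)⁻¹ := by
      rw [← hxb, show t ≫ iT = (t ≫ i) ≫ iB from (Category.assoc _ _ _).symm, ht, MonObj.mul_comp, MonObj.mul_comp,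
        GrpObj.inv_comp]
      group
    rw [e]
    exact (inferInstance : (_root_.commutator (PT ⟶ G)).Normal).conj_mem _ hkey _
  obtain ⟨m, Φ, hm, hΦm, hinv, hab, -⟩ := exists_weylNorm iT hT
  haveI := hΦm
  obtain ⟨s, rfl⟩ := exists_pow_eq hT.2.2.1 hm t
  show ptsHom iT (s ^ m) ∈ _
  rw [map_pow]
  have h1 := hab s
  rw [weylNorm_eq_one iT hG hT Φ hinv s, MonObj.one_comp, map_one, ← map_pow] at h1
  rw [← Abelianization.ker_of]
  exact MonoidHom.mem_ker.mpr h1.symm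

end Groth.Agent.SolvGrp
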