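import Groth.Agent.SolvGrp.Reductive4
import Groth.Agent.GrpSchLib.HomFinite

/-! Isogenies and central tori. -/

set_option backward.isDefEq.respectTransparency false
set_option backward.isDefEq.respectTransparency.types false
set_option linter.style.haveILetI false

universe u

open CategoryTheory MonoidalCategory CartesianMonoidalCategory MonObj AlgebraicGeometry

namespace Groth.Agent.SolvGrp

open GrpSchLib GrpSchLib.Kunneth GrpSchLib.LineGroups WeilCmp.Unip AGFLib AGFLib.Gen AGFLib.BorelFixed AGFLib.BorelExist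

variable {k : Type u} [Field k] [IsAlgClosed k]

local notation "PT" => 𝟙_ (Over (Spec (CommRingCat.of k)))

variable {G G' : Over (Spec (CommRingCat.of k))} [GrpObj G] [GrpObj G']

/-- A finite homomorphism has finitely many rational points in the kernel. -/
theorem finite_ker_pts [LocallyOfFiniteType G'.hom] (φ : G' ⟶ G) [IsFinite φ.left] :
    {x : PT ⟶ G' | x ≫ φ = 1}.Finite := by
  have h : (cp '' {x : PT ⟶ G' | x ≫ φ = 1}).Finite := by
    refine (IsFinite.finite_preimage_singleton φ.left (cp (1 : PT ⟶ G))).subset ?_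
    rintro _ ⟨x, hx, rfl⟩
    show φ.left (cp x) = cp (1 : PT ⟶ G)
    rw [← hx]
    rfl
  exact h.of_finite_image fun a _ b _ hab => cp_injective hab

section

variable [IsAffine G'.left] [Smooth G'.hom] [ConnectedSpace G'.left] (φ : G' ⟶ G) [IsMonHom φ] [Surjective φ.left]
  [IsFinite φ.left]

include φ

/-- Reductivity passes to isogenous covers. -/
theorem isReductiveOver_of_isogeny (hG : Red.IsReductiveOver k G) : Red.IsReductiveOver k G' := by
  haveI := hG.1
  haveI := hG.2.1
  refine ⟨inferInstance, inferInstance, inferInstance, fun U _ i _ hci hsU hconnU hn hnt => ?_⟩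
  haveI := hci
  haveI := hsU
  haveI := hconnU
  obtain ⟨haU, hlU, hqU, hmi, -⟩ := sub_props i
  haveI := haU
  haveI := hlU
  haveI := hqU
  haveI := hmi
  haveI : IsReduced U.left := isReduced_of_smooth_field U.hom
  have hnr : (rangePts i).Normal := ⟨fun z hz g => by
    obtain ⟨x, rfl⟩ := hz
    obtain ⟨y, hy⟩ := hn _ g x
    exact ⟨y, hy.symm⟩⟩
  obtain ⟨D, _, iD, hmD, hcD, hsD, hconnD, hnD, htD, he⟩ :=
    exists_unip_image φ i hnr (isUnipPt_of_hasNoSubtorus hnt)
  haveI := hmD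
  haveI := hcD
  haveI : LocallyOfFiniteType D.hom := (sub_props iD).2.1
  have htriv : Red.IsTrivialGrp D := hG.2.2.2 D iD hcD hsD hconnD hnD htD
  haveI : Finite (PT ⟶ U) := by
    haveI := (finite_ker_pts φ).to_subtype
    refine Finite.of_injective (fun x : PT ⟶ U => (⟨x ≫ i, ?_⟩ : {x : PT ⟶ G' | x ≫ φ = 1})) fun a b hab =>
      (cancel_mono i).mp (congrArg Subtype.val hab)
    obtain ⟨d, hd⟩ : x ≫ i ≫ φ ∈ rangePts iD := he.symm ▸ ⟨x, rfl⟩
    show (x ≫ i) ≫ φ = 1
    rw [Category.assoc, ← hd, pt_eq_one_of_trivial htriv d]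
    exact MonObj.one_comp iD
  exact isTrivialGrp_of_pts fun x => eq_one_of_finite inferInstance x

/-- Semisimplicity passes to isogenous covers. -/
theorem isSemisimpleOver_of_isogeny (hG : Red.IsSemisimpleOver k G) : Red.IsSemisimpleOver k G' := by
  haveI := hG.1.1
  haveI := hG.1.2.1
  haveI := hG.1.2.2.1
  haveI : IsReduced G.left := isReduced_of_smooth_field G.hom
  haveI : IsReduced G'.left := isReduced_of_smooth_field G'.hom
  refine ⟨isReductiveOver_of_isogeny φ hG.1, fun T _ i _ hci hn hT => ?_⟩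
  haveI := hci
  obtain ⟨haT, hsT, hcT, hss⟩ := torus_props hT
  haveI := haT
  haveI := hsT
  haveI := hcT
  obtain ⟨-, hlT, hqT, hmi, -⟩ := sub_props i
  haveI : IsReduced T.left := isReduced_of_smooth_field T.hom
  haveI := hlT
  haveI := hqT
  haveI := hmi
  have hnr : (rangePts i).Normal := ⟨fun z hz g => by
    obtain ⟨x, rfl⟩ := hz
    obtain ⟨y, hy⟩ := hn _ g x
    exact ⟨y, hy.symm⟩⟩
  obtain ⟨D, _, iD, hmD, hcD, hsD, hconnD, hnD, he⟩ := exists_imageSub φ i hnr
  haveI := hmD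
  haveI := hcD
  haveI := hsD
  haveI := hconnD
  obtain ⟨haD, hlD, hqD, hmono, hevD⟩ := sub_props iD
  haveI := haD
  haveI := hlD
  haveI := hmono
  haveI : IsReduced D.left := isReduced_of_smooth_field D.hom
  have hDt : Red.IsTorus D := isTorus_of_unip_trivial fun V _ j _ hcj hsV hcV hV => by
    haveI := hcj
    haveI := hsV
    haveI := hcV
    obtain ⟨haV, hlV, -, hmV, -⟩ := sub_props j
    haveI := haV
    haveI := hlV
    haveI := hmV
    haveI : IsReduced V.left := isReduced_of_smooth_field V.hom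
    refine isTrivialGrp_of_pts fun x => (cancel_mono (j ≫ iD)).mp ?_
    rw [MonObj.one_comp]
    obtain ⟨y, hy⟩ : (x ≫ j) ≫ iD ∈ rangePts (i ≫ φ) := he ▸ ⟨x ≫ j, rfl⟩
    change y ≫ i ≫ φ = (x ≫ j) ≫ iD at hy
    refine eq_one_of_isSsPt_isUnipPt ?_ ((map_isSsPt_isUnipPt (j ≫ iD) x).2 (isUnipPt_of_hasNoSubtorus hV x))
    rw [← Category.assoc, ← hy]
    exact isSsPt_of_torus hT (i ≫ φ) y
  have htriv : Red.IsTrivialGrp D := hG.2 D iD hcD (isNormalHom_of_pts iD hnD) hDt
  haveI : Finite (PT ⟶ T) := by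
    haveI := (finite_ker_pts φ).to_subtype
    refine Finite.of_injective (fun x : PT ⟶ T => (⟨x ≫ i, ?_⟩ : {x : PT ⟶ G' | x ≫ φ = 1})) fun a b hab =>
      (cancel_mono i).mp (congrArg Subtype.val hab)
    obtain ⟨d, hd⟩ : x ≫ i ≫ φ ∈ rangePts iD := he.symm ▸ ⟨x, rfl⟩
    show (x ≫ i) ≫ φ = 1
    rw [Category.assoc, ← hd, pt_eq_one_of_trivial htriv d]
    exact MonObj.one_comp iD
  exact isTrivialGrp_of_pts fun x => eq_one_of_finite inferInstance x

end

/-- A normal torus of a connected group commutes with every point. -/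
theorem commute_of_normal_torus [IsAffine G.left] [Smooth G.hom] [ConnectedSpace G.left]
    {S : Over (Spec (CommRingCat.of k))} [GrpObj S] (iS : S ⟶ G) [IsMonHom iS] [IsClosedImmersion iS.left]
    (hS : Red.IsTorus S) (hn : (rangePts iS).Normal) (g : PT ⟶ G) : ∀ s ∈ rangePts iS, Commute g s := by
  haveI : IsReduced G.left := isReduced_of_smooth_field G.hom
  haveI : QuasiCompact G.hom := inferInstance
  obtain ⟨C, _, c, hmc, hcc, hsC, hconnC, hC⟩ := exists_connSub_torusCent iS hS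
  haveI := hmc
  haveI := hcc
  obtain ⟨-, hlC, hqC, -, -⟩ := sub_props c
  haveI := hlC
  haveI := hqC
  obtain ⟨R, hR, hfin⟩ := finite_normalizer iS hS
  have htop : rangePts c = ⊤ := by
    refine eq_top_of_finite _ (ptsClosed_range c) R hR fun x => ?_
    obtain ⟨r, hr, hcomm⟩ := hfin x fun s hs => by simpa using hn.conj_mem s hs x⁻¹
    refine ⟨r, hr, (hC _).mpr fun s hs => ?_⟩
    have h1 : Commute (x * r⁻¹) (r * s * r⁻¹) := hcomm _ (hn.conj_mem s hs r)
    show r⁻¹ * x * s = s * (r⁻¹ * x)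
    have h2 : x * r⁻¹ * (r * s * r⁻¹) = r * s * r⁻¹ * (x * r⁻¹) := h1.eq
    calc r⁻¹ * x * s = r⁻¹ * (x * r⁻¹ * (r * s * r⁻¹)) * r := by group
      _ = r⁻¹ * (r * s * r⁻¹ * (x * r⁻¹)) * r := by rw [h2]
      _ = s * (r⁻¹ * x) := by group
  exact (hC g).mp (htop ▸ Subgroup.mem_top g)

end Groth.Agent.SolvGrp
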