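import Groth.Agent.SolvGrp.Reductive

/-! Centralisers of tori in reductive groups are reductive. -/

set_option backward.isDefEq.respectTransparency false
set_option backward.isDefEq.respectTransparency.types false
set_option linter.style.haveILetI false

universe u

open CategoryTheory MonoidalCategory CartesianMonoidalCategory MonObj AlgebraicGeometry

namespace Groth.Agent.SolvGrp

open GrpSchLib GrpSchLib.Kunneth GrpSchLib.LineGroups WeilCmp.Unip AGFLib AGFLib.Gen AGFLib.BorelFixed AGFLib.BorelExist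

variable {k : Type u} [Field k] [IsAlgClosed k]

local notation "PT" => 𝟙_ (Over (Spec (CommRingCat.of k)))

variable {G : Over (Spec (CommRingCat.of k))} [GrpObj G] [IsAffine G.left] [Smooth G.hom] [ConnectedSpace G.left]

/-- A normal connected unipotent subgroup lies in every Borel subgroup. -/
theorem normal_le_borel {U B : Over (Spec (CommRingCat.of k))} [GrpObj U] [GrpObj B] [IsAffine U.left] [Smooth U.hom]
    [ConnectedSpace U.left] (u : U ⟶ G) [IsMonHom u] [IsClosedImmersion u.left] (hu : ∀ x : PT ⟶ U, IsUnipPt x)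
    (hn : AlgGrp.IsNormalHom u) (iB : B ⟶ G) [IsMonHom iB] (hB : Red.IsBorelOver k iB) : rangePts u ≤ rangePts iB := by
  haveI : IsReduced U.left := isReduced_of_smooth_field U.hom
  obtain ⟨-, hlU, -, -, -⟩ := sub_props u
  haveI := hlU
  haveI : Group.IsNilpotent (PT ⟶ U) := isNilpotent_pts hu
  obtain ⟨m, hm⟩ := (inferInstance : Group.IsSolvable (PT ⟶ U)).solvable
  obtain ⟨B₀, _, iB₀, hm₀, hB₀, hle⟩ := exists_borel_containing u (AGFLib.ProperSpace.isSolvableGrp_of_pts m hm)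
  haveI := hm₀
  obtain ⟨g, f, hf⟩ := AGFLib.Borel.conjugate iB₀ iB hB₀ hB
  rintro _ ⟨x, rfl⟩
  obtain ⟨y, hy⟩ := hn _ g⁻¹ x
  obtain ⟨c, hc⟩ := hle ⟨y, rfl⟩
  change c ≫ iB₀ = y ≫ u at hc
  refine ⟨c ≫ f.hom, ?_⟩
  show (c ≫ f.hom) ≫ iB = x ≫ u
  rw [Category.assoc, hf, AGFLib.Borel.conjBy_eq, ← Category.assoc, hc, comp_conjM_pt, ← hy]
  group

/-- Every torus lies in a maximal torus. -/
theorem exists_maxTorus_containing {S : Over (Spec (CommRingCat.of k))} [GrpObj S] (iS : S ⟶ G) [IsMonHom iS]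
    (hS : Red.IsTorus S) :
    ∃ (T : Over (Spec (CommRingCat.of k))) (_ : GrpObj T) (iT : T ⟶ G) (_ : IsMonHom iT),
      AGF.IsMaxTorus iT ∧ rangePts iS ≤ rangePts iT := by
  haveI : IsReduced G.left := isReduced_of_smooth_field G.hom
  obtain ⟨B, _, iB, hmB, hB, hle, -⟩ := exists_borel_torus_pt iS hS 1 (fun s _ => Commute.one_left s)
  haveI := hB.2.1
  haveI := hB.2.2.1
  obtain ⟨haB, hlB, -, -, -⟩ := sub_props iB
  haveI := haB
  haveI := hlB
  haveI : IsReduced B.left := isReduced_of_smooth_field B.hom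
  obtain ⟨T, _, i, hi, hmi, hmono, hT, hA, hC⟩ := exists_borelTorus iB hB
  haveI := hmi
  haveI := hmono
  obtain ⟨b, hb⟩ := hC S iS hS hle
  let iT : T ⟶ G := AGF.conjBy (b ≫ iB)⁻¹ (i ≫ iB)
  haveI : IsMonHom iT := by simp only [iT, AGFLib.Borel.conjBy_eq]; infer_instance
  haveI : Mono iT := by simp only [iT, AGFLib.Borel.conjBy_eq]; exact mono_comp (i ≫ iB) _
  have hmem : ∀ x, x ∈ rangePts iT ↔ (b ≫ iB) * x * (b ≫ iB)⁻¹ ∈ rangePts (i ≫ iB) := fun x => by
    haveI : IsMonHom (AGF.conjBy (b ≫ iB)⁻¹ (i ≫ iB)) := inferInstanceAs (IsMonHom iT)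
    rw [show x ∈ rangePts iT ↔ x ∈ rangePts (AGF.conjBy (b ≫ iB)⁻¹ (i ≫ iB)) from Iff.rfl, rangePts_conjBy,
      _root_.inv_inv]
  refine ⟨T, inferInstance, iT, inferInstance, isMaxTorus_of_borel iB iT hB hT ?_ ?_,
    fun s hs => (hmem s).mpr (hb s hs)⟩
  · intro x hx
    obtain ⟨y, hy⟩ := rangePts_comp iB i ((hmem x).mp hx)
    change y ≫ iB = _ at hy
    refine ⟨b⁻¹ * y * b, ?_⟩
    show (b⁻¹ * y * b) ≫ iB = x
    rw [MonObj.mul_comp, MonObj.mul_comp, GrpObj.inv_comp, hy]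
    group
  · rintro _ ⟨y, rfl⟩
    obtain ⟨_, ⟨t, rfl⟩, hu⟩ := hA (b * y * b⁻¹)
    refine ⟨(b ≫ iB)⁻¹ * ((t ≫ i) ≫ iB) * (b ≫ iB), (hmem _).mpr ⟨t, ?_⟩, ?_⟩
    · show t ≫ i ≫ iB = _
      rw [← Category.assoc]
      group
    · have h1 := ((map_isSsPt_isUnipPt iB _).2 hu).conj (b ≫ iB)⁻¹
      rw [_root_.inv_inv] at h1
      convert h1 using 1
      simp only [MonObj.mul_comp, GrpObj.inv_comp, ptsHom]
      group

/-- A normal connected unipotent subgroup of the centraliser of a torus in a reductive group is trivial. -/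
theorem eq_one_of_normal_centralizer (hG : Red.IsReductiveOver k G) {S C U : Over (Spec (CommRingCat.of k))}
    [GrpObj S] [GrpObj C] [GrpObj U] (iS : S ⟶ G) [IsMonHom iS] [Mono iS] (hS : Red.IsTorus S) (c : C ⟶ G)
    (hc : Red.IsCentralizerOf iS c) (u : U ⟶ C) [IsMonHom u] [IsClosedImmersion u.left] [Smooth U.hom]
    [ConnectedSpace U.left] (hn : AlgGrp.IsNormalHom u) (hnt : Red.HasNoSubtorus k U) :
    Red.IsTrivialGrp U := by
  haveI := hc.1
  haveI := hc.2.1
  haveI : IsReduced G.left := isReduced_of_smooth_field G.hom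
  obtain ⟨hcl, hsC, haC⟩ := centralizer_props hS hc
  haveI := hcl
  haveI := hsC
  haveI := haC
  haveI := connectedSpace_centralizer hS hc
  haveI : IsReduced C.left := isReduced_of_smooth_field C.hom
  obtain ⟨haU, hlU, -, hmU, -⟩ := sub_props u
  haveI := haU
  haveI := hlU
  haveI := hmU
  haveI : IsReduced U.left := isReduced_of_smooth_field U.hom
  obtain ⟨T, _, iT, hmT, hT, hST⟩ := exists_maxTorus_containing iS hS
  obtain ⟨B, _, iB, hmB, hB, hTB, -⟩ := exists_borel_torus_pt iT hT.2.2.1 1 (fun s _ => Commute.one_left s)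
  refine isTrivialGrp_of_pts fun x => (cancel_mono (u ≫ c)).mp ?_
  rw [MonObj.one_comp]
  refine eq_one_of_unip hG iB hB iT hT (u ≫ c) (isUnipPt_of_hasNoSubtorus hnt) (fun g hg y => ?_) x
  haveI : IsMonHom (AGF.conjBy g iB) := by rw [AGFLib.Borel.conjBy_eq]; infer_instance
  have hB' := AGFLib.Borel.isBorel_conj iB hB g
  have hle : rangePts iS ≤ rangePts (AGF.conjBy g iB) := by
    intro s hs
    obtain ⟨t, rfl⟩ := hST hs
    exact (rangePts_conjBy g iB _).mpr (hg t)
  obtain ⟨D, _, d, hd, hD, hmem⟩ := exists_borel_cent (AGF.conjBy g iB) hB' iS hS hle c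
    (fun z => mem_centralizer_pts iS hS hc z)
  have h1 := (hmem _).mp (normal_le_borel u (isUnipPt_of_hasNoSubtorus hnt) hn d hD ⟨y, rfl⟩)
  rw [Category.assoc] at h1
  exact (rangePts_conjBy g iB _).mp h1

end Groth.Agent.SolvGrp
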