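import Groth.Agent.SolvGrp.Reductive3

/-! Images of unipotent radicals; reductive groups have no unipotent quotients. -/

set_option backward.isDefEq.respectTransparency false
set_option backward.isDefEq.respectTransparency.types false
set_option linter.style.haveILetI false

universe u

open CategoryTheory MonoidalCategory CartesianMonoidalCategory MonObj AlgebraicGeometry

namespace Groth.Agent.SolvGrp

open GrpSchLib GrpSchLib.Kunneth GrpSchLib.LineGroups WeilCmp.Unip AGFLib AGFLib.Gen AGFLib.BorelFixed AGFLib.BorelExist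

variable {k : Type u} [Field k] [IsAlgClosed k]

local notation "PT" => 𝟙_ (Over (Spec (CommRingCat.of k)))

variable {G : Over (Spec (CommRingCat.of k))} [GrpObj G] [IsAffine G.left] [Smooth G.hom]

/-- A morphism surjective on rational points is surjective. -/
theorem surjective_of_rangePts {H : Over (Spec (CommRingCat.of k))} [GrpObj H] [LocallyOfFiniteType H.hom]
    [QuasiCompact H.hom] (f : H ⟶ G) [IsMonHom f] (h : ∀ g, g ∈ rangePts f) : Surjective f.left := by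
  haveI := GrpSchLib.AntiAffine.isSeparated_grp G
  haveI : QuasiCompact f.left := by
    haveI : QuasiCompact (f.left ≫ G.hom) := by rw [Over.w f]; infer_instance
    exact QuasiCompact.of_comp f.left G.hom
  have e := eq_univ_of_forall_cp (GrpSchLib.HomClosedRange.isClosed_range f) fun g => by
    obtain ⟨x, rfl⟩ := h g
    exact ⟨cp x, rfl⟩
  exact ⟨Set.range_eq_univ.mp e⟩

/-- A surjective morphism is surjective on rational points. -/
theorem exists_pt_of_surjective {H : Over (Spec (CommRingCat.of k))} [LocallyOfFiniteType H.hom] (f : H ⟶ G)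
    [Surjective f.left] (g : PT ⟶ G) : ∃ x : PT ⟶ H, x ≫ f = g :=
  haveI := GrpSchLib.AntiAffine.isSeparated_grp G
  exists_of_mem_range f g (f.left.surjective _)

/-- The largest normal connected subgroup of unipotent points. -/
theorem exists_unipRadPts (G : Over (Spec (CommRingCat.of k))) [GrpObj G] [IsAffine G.left] [Smooth G.hom] :
    ∃ (R : Over (Spec (CommRingCat.of k))) (_ : GrpObj R) (r : R ⟶ G) (_ : IsMonHom r),
      IsClosedImmersion r.left ∧ Smooth R.hom ∧ ConnectedSpace R.left ∧ (rangePts r).Normal ∧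
      (∀ x : PT ⟶ R, IsUnipPt x) ∧
      ∀ (U : Over (Spec (CommRingCat.of k))) [GrpObj U] (u : U ⟶ G) [IsMonHom u], IsClosedImmersion u.left →
        Smooth U.hom → ConnectedSpace U.left → (rangePts u).Normal → Red.HasNoSubtorus k U →
        rangePts u ≤ rangePts r := by
  haveI : IsReduced G.left := isReduced_of_smooth_field G.hom
  haveI : QuasiCompact G.hom := inferInstance
  obtain ⟨Γ, hΓ, hΓu, hmax⟩ := exists_unipContainer G
  obtain ⟨D, _, iD, hiD, hcD, hsD, hconnD, hnD, hle, hrec⟩ := exists_normalSub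
    {z : PT ⟶ G | ∀ g : PT ⟶ G, g * z * g⁻¹ ∈ Γ}
    (fun g z hz g' => by rw [show g' * (g * z * g⁻¹) * g'⁻¹ = g' * g * z * (g' * g)⁻¹ by group]; exact hz _)
    Γ hΓ (fun z hz => by simpa using hz 1)
  haveI := hiD
  haveI := hcD
  haveI := hsD
  obtain ⟨haD, hlD, -, -, hevD⟩ := sub_props iD
  haveI := haD
  haveI := hlD
  haveI : IsReduced D.left := isReduced_of_smooth_field D.hom
  refine ⟨D, inferInstance, iD, hiD, hcD, hsD, hconnD, hnD, fun x => IsUnipPt.map iD hevD (hΓu _ (hle ⟨x, rfl⟩)),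
    fun U _ u _ hcu hsu hconn hn hnt => ?_⟩
  haveI := hcu
  haveI := hsu
  haveI := hconn
  haveI := (sub_props u).1
  exact hrec U u fun z hz g => hmax U u hcu hsu hconn hnt hn (hn.conj_mem z hz g)

variable {G' : Over (Spec (CommRingCat.of k))} [GrpObj G'] [IsAffine G'.left] [Smooth G'.hom]

/-- The image of a connected normal subgroup under a surjection is one. -/
theorem exists_imageSub (π : G ⟶ G') [IsMonHom π] [Surjective π.left] {H : Over (Spec (CommRingCat.of k))} [GrpObj H]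
    (h : H ⟶ G) [IsMonHom h] [IsClosedImmersion h.left] [Smooth H.hom] [ConnectedSpace H.left]
    (hn : (rangePts h).Normal) :
    ∃ (D : Over (Spec (CommRingCat.of k))) (_ : GrpObj D) (iD : D ⟶ G') (_ : IsMonHom iD),
      IsClosedImmersion iD.left ∧ Smooth D.hom ∧ ConnectedSpace D.left ∧ (rangePts iD).Normal ∧
      rangePts iD = rangePts (h ≫ π) := by
  haveI : QuasiCompact G'.hom := inferInstance
  obtain ⟨haH, hlH, hqH, -, -⟩ := sub_props h
  haveI := haH
  haveI := hlH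
  haveI := hqH
  have hC : ∀ g, ∀ z ∈ (rangePts (h ≫ π) : Set (PT ⟶ G')), g * z * g⁻¹ ∈ (rangePts (h ≫ π) : Set (PT ⟶ G')) := by
    rintro g _ ⟨x, rfl⟩
    obtain ⟨g, rfl⟩ := exists_pt_of_surjective π g
    obtain ⟨y, hy⟩ := hn.conj_mem (x ≫ h) ⟨x, rfl⟩ g
    refine ⟨y, ?_⟩
    change y ≫ h = g * (x ≫ h) * g⁻¹ at hy
    show y ≫ h ≫ π = _
    rw [← Category.assoc, hy, MonObj.mul_comp, MonObj.mul_comp, GrpObj.inv_comp, Category.assoc x h π]
  obtain ⟨D, _, iD, hiD, hcD, hsD, hconnD, hnD, hle, hrec⟩ := exists_normalSub (rangePts (h ≫ π) : Set (PT ⟶ G')) hC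
    (rangePts (h ≫ π)) (ptsClosed_range _) (fun z hz => hz)
  exact ⟨D, inferInstance, iD, hiD, hcD, hsD, hconnD, hnD, le_antisymm hle (hrec H (h ≫ π) (fun z hz => hz))⟩

/-- A connected unipotent normal subgroup maps into one. -/
theorem exists_unip_image (π : G ⟶ G') [IsMonHom π] [Surjective π.left] {H : Over (Spec (CommRingCat.of k))} [GrpObj H]
    (h : H ⟶ G) [IsMonHom h] [IsClosedImmersion h.left] [Smooth H.hom] [ConnectedSpace H.left]
    (hn : (rangePts h).Normal) (hu : ∀ x : PT ⟶ H, IsUnipPt x) :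
    ∃ (D : Over (Spec (CommRingCat.of k))) (_ : GrpObj D) (iD : D ⟶ G') (_ : IsMonHom iD),
      IsClosedImmersion iD.left ∧ Smooth D.hom ∧ ConnectedSpace D.left ∧ AlgGrp.IsNormalHom iD ∧
      Red.HasNoSubtorus k D ∧ rangePts iD = rangePts (h ≫ π) := by
  haveI : IsReduced G'.left := isReduced_of_smooth_field G'.hom
  haveI : IsReduced G.left := isReduced_of_smooth_field G.hom
  obtain ⟨D, _, iD, hiD, hcD, hsD, hconnD, hnD, he⟩ := exists_imageSub π h hn
  haveI := hiD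
  haveI := hcD
  haveI := hsD
  obtain ⟨haD, hlD, -, -, hevD⟩ := sub_props iD
  haveI := haD
  haveI := hlD
  haveI : IsReduced D.left := isReduced_of_smooth_field D.hom
  obtain ⟨haH, hlH, -, -, -⟩ := sub_props h
  haveI := haH
  haveI := hlH
  haveI : IsReduced H.left := isReduced_of_smooth_field H.hom
  refine ⟨D, inferInstance, iD, hiD, hcD, hsD, hconnD, isNormalHom_of_pts iD hnD,
    hasNoSubtorus_of_isUnipPt fun d => IsUnipPt.map iD hevD ?_, he⟩
  obtain ⟨x, hx⟩ : d ≫ iD ∈ rangePts (h ≫ π) := he ▸ ⟨d, rfl⟩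
  change x ≫ h ≫ π = d ≫ iD at hx
  rw [← hx, ← Category.assoc]
  exact (map_isSsPt_isUnipPt π _).2 ((map_isSsPt_isUnipPt h x).2 (hu x))

variable [ConnectedSpace G.left]

/-- The quotient by the unipotent radical is reductive. -/
theorem exists_reductiveQuot {R : Over (Spec (CommRingCat.of k))} [GrpObj R] (r : R ⟶ G) [IsMonHom r]
    [IsClosedImmersion r.left] (hn : (rangePts r).Normal) (hu : ∀ x ∈ rangePts r, IsUnipPt x)
    (hmax : ∀ (U : Over (Spec (CommRingCat.of k))) [GrpObj U] (u : U ⟶ G) [IsMonHom u], IsClosedImmersion u.left →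
      Smooth U.hom → ConnectedSpace U.left → (rangePts u).Normal → Red.HasNoSubtorus k U →
      rangePts u ≤ rangePts r) :
    ∃ (Q : Over (Spec (CommRingCat.of k))) (_ : GrpObj Q) (q : G ⟶ Q) (_ : IsMonHom q),
      Red.IsReductiveOver k Q ∧ Surjective q.left ∧ ∀ g : PT ⟶ G, g ≫ q = 1 ↔ g ∈ rangePts r := by
  haveI : IsReduced G.left := isReduced_of_smooth_field G.hom
  haveI : QuasiCompact G.hom := inferInstance
  obtain ⟨haR, hlR, hqR, -, -⟩ := sub_props r
  haveI := hlR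
  haveI := hqR
  obtain ⟨Q, _, q, hq, haQ, hsQ, hrQ, hsurj, hlift, hker⟩ := exists_quot (rangePts r) (ptsClosed_range r) hn
  haveI := hq
  haveI := haQ
  haveI := hsQ
  haveI := hrQ
  haveI := hsurj
  haveI : ConnectedSpace Q.left := q.left.surjective.connectedSpace q.left.continuous
  refine ⟨Q, inferInstance, q, hq, ⟨haQ, hsQ, inferInstance, fun U _ i _ hci hsU hconnU hnorm hnt => ?_⟩, hsurj, hker⟩
  haveI := hci
  haveI := hsU
  haveI := hconnU
  obtain ⟨haU, hlU, hqU, hmi, -⟩ := sub_props i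
  haveI := haU
  haveI := hlU
  haveI := hqU
  haveI := hmi
  haveI : IsReduced U.left := isReduced_of_smooth_field U.hom
  let P : Subgroup (PT ⟶ G) := (rangePts i).comap (ptsHom q)
  have hP : PtsClosed (P : Set (PT ⟶ G)) := (ptsClosed_range i).preimage q
  have hPn : ∀ g, ∀ z ∈ (P : Set (PT ⟶ G)), g * z * g⁻¹ ∈ (P : Set (PT ⟶ G)) := by
    intro g z hz
    obtain ⟨y, hy⟩ := hz
    change y ≫ i = z ≫ q at hy
    obtain ⟨y', hy'⟩ := hnorm _ (g ≫ q) y
    refine ⟨y', ?_⟩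
    show y' ≫ i = (g * z * g⁻¹) ≫ q
    rw [← hy', MonObj.mul_comp, MonObj.mul_comp, GrpObj.inv_comp, hy]
  obtain ⟨E, _, e, he, hce, hsE, hcE, haE, hleE, S, hS, -, hcov⟩ := exists_connSub P hP
  haveI := he
  haveI := hce
  haveI := hsE
  haveI := hcE
  haveI := haE
  obtain ⟨D, _, iD, hiD, hcD, hsD, hconnD, hnD, hle, hrec⟩ := exists_normalSub (P : Set (PT ⟶ G)) hPn P hP
    (fun z hz => hz)
  haveI := hiD
  haveI := hcD
  haveI := hsD
  haveI := hconnD
  obtain ⟨haD, hlD, -, -, hevD⟩ := sub_props iD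
  haveI := haD
  haveI := hlD
  haveI : IsReduced D.left := isReduced_of_smooth_field D.hom
  have hDu : Red.HasNoSubtorus k D := hasNoSubtorus_of_isUnipPt fun d => IsUnipPt.map iD hevD (by
    obtain ⟨y, hy⟩ := hle ⟨d, rfl⟩
    change y ≫ i = (d ≫ iD) ≫ q at hy
    obtain ⟨s, v, e, hc, hs, hv, -⟩ := exists_jordan (d ≫ iD)
    have hsq : s ≫ q = 1 := (jordan_unique (g := (d ≫ iD) ≫ q) (by rw [← MonObj.mul_comp, ← e])
      (by show (s ≫ q) * (v ≫ q) = (v ≫ q) * (s ≫ q); rw [← MonObj.mul_comp, hc.eq, MonObj.mul_comp])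
      ((map_isSsPt_isUnipPt q s).1 hs) ((map_isSsPt_isUnipPt q v).2 hv) (_root_.one_mul _).symm (Commute.one_left _)
      isSsPt_one (hy ▸ (map_isSsPt_isUnipPt i y).2 (isUnipPt_of_hasNoSubtorus hnt y))).1
    have hs1 : s = 1 := eq_one_of_isSsPt_isUnipPt hs (hu s ((hker s).mp hsq))
    rw [e, hs1, _root_.one_mul]
    exact hv)
  have hEr : rangePts e ≤ rangePts r := (hrec E e hleE).trans (hmax D iD hcD hsD hconnD hnD hDu)
  refine isTrivialGrp_of_pts fun x => eq_one_of_finite ?_ x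
  classical
  haveI := hS.to_subtype
  refine Finite.of_surjective
    (fun s : S => if h : ∃ y : PT ⟶ U, y ≫ i = (s : PT ⟶ G) ≫ q then h.choose else 1) fun y => ?_
  obtain ⟨g, hg⟩ := hlift (y ≫ i)
  obtain ⟨s, hs, hsg⟩ := hcov g ⟨y, hg.symm⟩
  have h1 : (s⁻¹ * g) ≫ q = 1 := (hker _).mpr (hEr hsg)
  rw [MonObj.mul_comp, GrpObj.inv_comp, inv_mul_eq_one] at h1
  have hex : ∃ y : PT ⟶ U, y ≫ i = s ≫ q := ⟨y, by rw [h1, hg]⟩
  refine ⟨⟨s, hs⟩, (cancel_mono i).mp ?_⟩
  simp only [dif_pos hex]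
  rw [hex.choose_spec, h1, hg]

/-- In a reductive group a closed normal subgroup containing the semisimple points is everything. -/
theorem eq_top_of_ss (hG : Red.IsReductiveOver k G) (K : Subgroup (PT ⟶ G)) (hK : PtsClosed (K : Set (PT ⟶ G)))
    (hKn : K.Normal) (hss : ∀ g, IsSsPt g → g ∈ K) : K = ⊤ := by
  haveI : IsReduced G.left := isReduced_of_smooth_field G.hom
  haveI : QuasiCompact G.hom := inferInstance
  obtain ⟨B₀, _, iB₀, -, -, -, hB₀, -, -⟩ := AGFLib.Borel.exists_borel G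
  haveI := hB₀.1
  haveI := hB₀.2.1
  haveI := hB₀.2.2.1
  haveI := hB₀.2.2.2.1
  obtain ⟨haB, hlB, -, -, -⟩ := sub_props iB₀
  haveI := haB
  haveI := hlB
  obtain ⟨T₀, _, i₀, hi₀, hm₀, hmono₀, hT₀, -, -⟩ := exists_borelTorus iB₀ hB₀
  haveI := hm₀
  obtain ⟨T, _, iT, hmT, hT, -⟩ := exists_maxTorus_containing (i₀ ≫ iB₀) hT₀
  haveI := hmT
  haveI := hT.2.1
  obtain ⟨hcT, hsT, hconT, haT, hlT, hqT, -⟩ := torus_sub hT.2.2.1 iT
  haveI := hcT
  haveI := hsT
  haveI := hconT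
  haveI := haT
  haveI := hlT
  haveI := hqT
  obtain ⟨D, _, iD, hiD, hcD, hsD, hcoD, haD, hleD, S, hS, -, hcov⟩ := exists_connSub K hK
  haveI := hiD
  haveI := hcD
  haveI := hsD
  haveI := hcoD
  haveI := haD
  obtain ⟨-, hlD, hqD, hmD, -⟩ := sub_props iD
  haveI := hlD
  haveI := hqD
  haveI := hmD
  have hTK : rangePts iT ≤ K := by
    rintro _ ⟨t, rfl⟩
    exact hss _ (isSsPt_of_torus hT.2.2.1 iT t)
  have hTD : rangePts iT ≤ rangePts iD :=
    le_of_finite_cosets iT _ (ptsClosed_range iD) S hS fun x hx => hcov x (hTK hx)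
  obtain ⟨t₀, ht₀, ht₀e⟩ := exists_fac_sub iD iT hTD
  haveI := ht₀
  haveI : Mono (t₀ ≫ iD) := by rw [ht₀e]; exact hT.2.1
  haveI : Mono t₀ := mono_of_mono t₀ iD
  have hT₀' : AGF.IsMaxTorus t₀ := ⟨ht₀, inferInstance, hT.2.2.1, fun T' _ j _ _ f hT' hf =>
    haveI : Mono (j ≫ iD) := mono_comp j iD
    hT.2.2.2 T' (j ≫ iD) f hT' (by rw [← Category.assoc, hf, ht₀e])⟩
  obtain ⟨R, hR, hfin⟩ := finite_normalizer iT hT.2.2.1
  refine eq_top_of_finite K hK ((fun z => z⁻¹) '' R) (hR.image _) fun g => ?_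
  -- move the conjugate torus back inside the subgroup
  haveI : IsMonHom (AGF.conjBy g iT) := by rw [AGFLib.Borel.conjBy_eq]; infer_instance
  haveI : Mono (AGF.conjBy g iT) := by rw [AGFLib.Borel.conjBy_eq]; exact mono_comp iT _
  have hgD : rangePts (AGF.conjBy g iT) ≤ rangePts iD :=
    le_of_finite_cosets _ _ (ptsClosed_range iD) S hS fun x hx => hcov x (by
      rw [rangePts_conjBy] at hx
      have := hKn.conj_mem _ (hTK hx) g
      rwa [show g * (g⁻¹ * x * g) * g⁻¹ = x by group] at this)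
  obtain ⟨t₁, ht₁, ht₁e⟩ := exists_fac_sub iD (AGF.conjBy g iT) hgD
  haveI := ht₁
  haveI : Mono (t₁ ≫ iD) := by rw [ht₁e]; infer_instance
  haveI : Mono t₁ := mono_of_mono t₁ iD
  have hT₁ : AGF.IsMaxTorus t₁ := ⟨ht₁, inferInstance, hT.2.2.1, fun T' _ j _ _ f hT' hf => by
    haveI : IsMonHom (AGF.conjBy g⁻¹ (j ≫ iD)) := by rw [AGFLib.Borel.conjBy_eq]; infer_instance
    haveI : Mono (AGF.conjBy g⁻¹ (j ≫ iD)) := by
      rw [AGFLib.Borel.conjBy_eq]; haveI : Mono (j ≫ iD) := mono_comp j iD; exact mono_comp (j ≫ iD) _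
    refine hT.2.2.2 T' (AGF.conjBy g⁻¹ (j ≫ iD)) f hT' ?_
    rw [AGFLib.Borel.conjBy_eq, ← Category.assoc, ← Category.assoc, hf, ht₁e, AGFLib.Borel.conjBy_eq, Category.assoc,
      AGFLib.Borel.conjM_comp, inv_mul_cancel, AGFLib.Borel.conjM_one, Category.comp_id]⟩
  obtain ⟨B, _, iB, b, hB, hb⟩ := exists_borel_maxTorus t₀ hT₀'
  obtain ⟨B', _, iB', b', hB', hb'⟩ := exists_borel_maxTorus t₁ hT₁
  obtain ⟨h, f, f', hf, hf'⟩ := borelPair_conj iB iB' hB hB' t₀ t₁ hT₀' hT₁ b hb b' hb'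
  set n := g⁻¹ * (h ≫ iD) with hn
  have hnT : ∀ s ∈ rangePts iT, n⁻¹ * s * n ∈ rangePts iT := by
    rintro _ ⟨s, rfl⟩
    refine ⟨s ≫ f'.inv, ?_⟩
    show (s ≫ f'.inv) ≫ iT = n⁻¹ * (s ≫ iT) * n
    have e1 := congrArg ((s ≫ f'.inv) ≫ ·) hf'
    simp only [Category.assoc, Iso.inv_hom_id_assoc] at e1
    rw [AGFLib.Borel.conjBy_eq, ← Category.assoc s, ← Category.assoc (s ≫ f'.inv), comp_conjM_pt] at e1
    have e2 := congrArg (· ≫ iD) e1
    simp only [MonObj.mul_comp, GrpObj.inv_comp, Category.assoc, ht₀e] at e2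
    rw [ht₁e, AGFLib.Borel.conjBy_eq, ← Category.assoc s iT, comp_conjM_pt] at e2
    rw [Category.assoc, hn]
    have e3 : s ≫ f'.inv ≫ iT = (h ≫ iD)⁻¹ * (g * (s ≫ iT) * g⁻¹) * (h ≫ iD) := by rw [e2]; group
    rw [e3]
    group
  obtain ⟨r, hr, hcomm⟩ := hfin n hnT
  have ht : n * r⁻¹ ∈ rangePts iT := mem_torus_of_commute hG iT hT _ hcomm
  refine ⟨r⁻¹, ⟨r, hr, rfl⟩, ?_⟩
  rw [_root_.inv_inv]
  have h1 : r * (h ≫ iD) * r⁻¹ ∈ K := hKn.conj_mem _ (hleD ⟨h, rfl⟩) r
  have h2 : (n * r⁻¹)⁻¹ ∈ K := inv_mem (hTK ht)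
  have h3 : r * g = r * (h ≫ iD) * r⁻¹ * (n * r⁻¹)⁻¹ := by rw [hn]; group
  rw [h3]
  exact mul_mem h1 h2

/-- A surjection carries the unipotent radical onto that of the target, on rational points. -/
theorem le_map_unipRad {R : Over (Spec (CommRingCat.of k))} [GrpObj R] (π : G ⟶ G') [IsMonHom π]
    [Surjective π.left] (r : R ⟶ G) [IsMonHom r] [IsClosedImmersion r.left]
    (hnr : (rangePts r).Normal)
    (hmax : ∀ (U : Over (Spec (CommRingCat.of k))) [GrpObj U] (u : U ⟶ G) [IsMonHom u], IsClosedImmersion u.left →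
      Smooth U.hom → ConnectedSpace U.left → (rangePts u).Normal → Red.HasNoSubtorus k U →
      rangePts u ≤ rangePts r)
    {U' : Over (Spec (CommRingCat.of k))} [GrpObj U'] (u' : U' ⟶ G') [IsMonHom u'] [IsClosedImmersion u'.left]
    [Smooth U'.hom] [ConnectedSpace U'.left] (hn' : (rangePts u').Normal) (hu' : ∀ x : PT ⟶ U', IsUnipPt x) :
    rangePts u' ≤ (rangePts r).map (ptsHom π) := by
  haveI : IsReduced G.left := isReduced_of_smooth_field G.hom
  haveI : IsReduced G'.left := isReduced_of_smooth_field G'.hom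
  haveI : QuasiCompact G.hom := inferInstance
  haveI : QuasiCompact G'.hom := inferInstance
  obtain ⟨-, hlR, hqR, -, -⟩ := sub_props r
  haveI := hlR
  haveI := hqR
  obtain ⟨haU, hlU, hqU, hmU, -⟩ := sub_props u'
  haveI := haU
  haveI := hlU
  haveI := hqU
  haveI := hmU
  haveI : IsReduced U'.left := isReduced_of_smooth_field U'.hom
  let P : Subgroup (PT ⟶ G) := (rangePts u').comap (ptsHom π)
  have hP : PtsClosed (P : Set (PT ⟶ G)) := (ptsClosed_range u').preimage π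
  have hPn : P.Normal := hn'.comap (ptsHom π)
  obtain ⟨E, _, e, he, hce, hsE, hcE, haE, hleE, S, hS, hSP, hcov⟩ := exists_connSub P hP
  haveI := he
  haveI := hce
  haveI := hsE
  haveI := hcE
  haveI := haE
  obtain ⟨N, _, iN, hiN, hcN, hsN, hconnN, hnN, hleN, hrec⟩ := exists_normalSub (P : Set (PT ⟶ G))
    (fun g z hz => hPn.conj_mem z hz g) P hP (fun z hz => hz)
  haveI := hiN
  haveI := hcN
  haveI := hsN
  haveI := hconnN
  obtain ⟨haN, hlN, hqN, hmN, hevN⟩ := sub_props iN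
  haveI := haN
  haveI := hlN
  haveI := hmN
  haveI : IsReduced N.left := isReduced_of_smooth_field N.hom
  obtain ⟨R', _, r', hr', hcr', hsR', hcR', hnR', huR', hmaxR'⟩ := exists_unipRadPts N
  haveI := hr'
  haveI := hcr'
  haveI := hsR'
  haveI := hcR'
  obtain ⟨haR', hlR', hqR', -, -⟩ := sub_props r'
  haveI := haR'
  haveI := hlR'
  haveI := hqR'
  haveI : IsReduced R'.left := isReduced_of_smooth_field R'.hom
  obtain ⟨Q, _, q, hq, hQ, hqs, hker⟩ := exists_reductiveQuot r' hnR'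
    (fun x hx => by obtain ⟨y, rfl⟩ := hx; exact (map_isSsPt_isUnipPt r' y).2 (huR' y)) hmaxR'
  haveI := hq
  haveI := hqs
  haveI := hQ.1
  haveI := hQ.2.1
  haveI := hQ.2.2.1
  haveI : IsReduced Q.left := isReduced_of_smooth_field Q.hom
  -- the unipotent radical of `N` lies in that of `G`
  have hR'R : rangePts (r' ≫ iN) ≤ rangePts r := by
    obtain ⟨D, _, iD, hmD, hcD, hsD, hconnD, hnD, htD, hle⟩ := exists_unip_of_normal_sub iN
      (isNormalHom_of_pts iN hnN) r' (isNormalHom_of_pts r' hnR') (hasNoSubtorus_of_isUnipPt huR')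
    exact hle.trans (hmax D iD hcD hsD hconnD hnD htD)
  let W : Subgroup (PT ⟶ G') := (rangePts r).map (ptsHom π)
  have hWc : PtsClosed (W : Set (PT ⟶ G')) := by
    have hW : W = rangePts (r ≫ π) := by
      ext x
      constructor
      · rintro ⟨_, ⟨y, rfl⟩, rfl⟩
        exact ⟨y, (Category.assoc _ _ _).symm⟩
      · rintro ⟨y, rfl⟩
        exact ⟨y ≫ r, ⟨y, rfl⟩, Category.assoc y r π⟩
    rw [hW]
    exact ptsClosed_range _
  let Z : Subgroup (PT ⟶ N) := W.comap (ptsHom (iN ≫ π))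
  have hZ : PtsClosed (Z : Set (PT ⟶ N)) := hWc.preimage _
  have hZR : rangePts r' ≤ Z := by
    rintro _ ⟨y, rfl⟩
    exact ⟨y ≫ r' ≫ iN, hR'R ⟨y, rfl⟩, by
      show (y ≫ r' ≫ iN) ≫ π = (y ≫ r') ≫ iN ≫ π
      simp only [Category.assoc]⟩
  have hZn : Z.Normal := (Subgroup.Normal.map (hnr) (ptsHom π) (fun x => exists_pt_of_surjective π x)).comap _
  have hZss : ∀ g, IsSsPt g → g ∈ Z := fun g hg => by
    obtain ⟨y, hy⟩ := hleN ⟨g, rfl⟩
    change y ≫ u' = (g ≫ iN) ≫ π at hy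
    have h1 : (g ≫ iN) ≫ π = 1 := eq_one_of_isSsPt_isUnipPt
      ((map_isSsPt_isUnipPt π _).1 ((map_isSsPt_isUnipPt iN g).1 hg))
      (hy ▸ (map_isSsPt_isUnipPt u' y).2 (hu' y))
    show g ≫ iN ≫ π ∈ W
    rw [← Category.assoc, h1]
    exact one_mem W
  have hZq : PtsClosed ((Z.map (ptsHom q) : Subgroup (PT ⟶ Q)) : Set (PT ⟶ Q)) := by
    obtain ⟨Z₀, _, z, hz, hcz, hsZ, -, hrZ⟩ := exists_sub Z hZ
    haveI := hz
    haveI := hcz
    obtain ⟨-, hlZ, hqZ, -, -⟩ := sub_props z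
    haveI := hlZ
    haveI := hqZ
    have e : Z.map (ptsHom q) = rangePts (z ≫ q) := by
      ext x
      constructor
      · rintro ⟨a, ha, rfl⟩
        obtain ⟨y, rfl⟩ := hrZ.symm ▸ ha
        exact ⟨y, (Category.assoc _ _ _).symm⟩
      · rintro ⟨y, rfl⟩
        exact ⟨y ≫ z, hrZ ▸ ⟨y, rfl⟩, Category.assoc y z q⟩
    rw [e]
    exact ptsClosed_range _
  have htop : Z.map (ptsHom q) = ⊤ := eq_top_of_ss hQ _ hZq
    (Subgroup.Normal.map hZn (ptsHom q) (fun x => exists_pt_of_surjective q x)) fun x hx => by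
      obtain ⟨g, rfl⟩ := exists_pt_of_surjective q x
      obtain ⟨s, v, e, hc, hs, hv, -⟩ := exists_jordan g
      have hvq : v ≫ q = 1 := (jordan_unique (g := g ≫ q) (by rw [← MonObj.mul_comp, ← e])
        (by show (s ≫ q) * (v ≫ q) = (v ≫ q) * (s ≫ q); rw [← MonObj.mul_comp, hc.eq, MonObj.mul_comp])
        ((map_isSsPt_isUnipPt q s).1 hs) ((map_isSsPt_isUnipPt q v).2 hv) (_root_.mul_one _).symm (Commute.one_right _)
        hx isUnipPt_one).2
      exact ⟨s, hZss s hs, by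
        show s ≫ q = g ≫ q
        rw [e, MonObj.mul_comp, hvq, _root_.mul_one]⟩
  have hNW : ∀ x : PT ⟶ N, (x ≫ iN) ≫ π ∈ W := fun x => by
    obtain ⟨z, hz, hzx⟩ : ptsHom q x ∈ Z.map (ptsHom q) := htop ▸ Subgroup.mem_top _
    have h1 : (z⁻¹ * x) ≫ q = 1 := by
      change z ≫ q = x ≫ q at hzx
      rw [MonObj.mul_comp, GrpObj.inv_comp, hzx, inv_mul_cancel]
    have h2 : x ∈ Z := by simpa using mul_mem hz (hZR ((hker _).mp h1))
    rw [Category.assoc]
    exact h2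
  refine le_of_finite_cosets u' W hWc ((fun s => s ≫ π) '' S) (hS.image _) fun x hx => ?_
  obtain ⟨g, rfl⟩ := exists_pt_of_surjective π x
  obtain ⟨s, hs, hsg⟩ := hcov g hx
  refine ⟨s ≫ π, ⟨s, hs, rfl⟩, ?_⟩
  obtain ⟨y, hy⟩ := hrec E e hleE hsg
  change y ≫ iN = s⁻¹ * g at hy
  have := hNW y
  rwa [hy, MonObj.mul_comp, GrpObj.inv_comp] at this

end Groth.Agent.SolvGrp
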