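import Groth.Agent.SolvGrp.GaloisDescent
import Groth.Agent.SolvGrp.Reductive4
import Groth.Agent.SolvGrp.Bridge
import Groth.Agent.SolvGrp.Radical2
import Groth.Agent.AGFLib.LargestNormal
import Mathlib.FieldTheory.Perfect
import Mathlib.FieldTheory.IsAlgClosed.AlgebraicClosure

/-! Over a perfect field the radical and the unipotent radical are geometric. -/

set_option backward.isDefEq.respectTransparency false
set_option backward.isDefEq.respectTransparency.types false
set_option linter.style.haveILetI false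

universe u

open CategoryTheory MonoidalCategory CartesianMonoidalCategory MonObj AlgebraicGeometry

namespace Groth.Agent.SolvGrp

open GrpSchLib GrpSchLib.Kunneth GrpSchLib.LineGroups WeilCmp.Unip AGFLib AGFLib.Gen AGFLib.BorelFixed AGFLib.BorelExist

variable {k : Type u} [Field k]

local notation "PT" => 𝟙_ (Over (Spec (CommRingCat.of k)))

/-- The rational points form a solvable group. -/
def SolvPts (E : Over (Spec (CommRingCat.of k))) [GrpObj E] : Prop := ∃ n, derivedSeries (PT ⟶ E) n = ⊥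

theorem solvPts_of_isSolvableGrp {E : Over (Spec (CommRingCat.of k))} [GrpObj E] (h : Red.IsSolvableGrp E) : SolvPts E :=
  ⟨h.choose, h.choose_spec _⟩

theorem solvPts_ext (N E Q : Over (Spec (CommRingCat.of k))) [GrpObj N] [GrpObj E] [GrpObj Q] (i : N ⟶ E) (q : E ⟶ Q)
    [IsMonHom i] [IsMonHom q] (hk : AlgGrp.IsKernel i q) (hN : SolvPts N) (hQ : SolvPts Q) : SolvPts E := by
  obtain ⟨n, hn⟩ := hQ
  obtain ⟨m, hm⟩ := hN
  have h0 : derivedSeries (PT ⟶ E) n ≤ (⊤ : Subgroup (PT ⟶ N)).map (ptsHom i) := fun x hx => by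
    have h1 : ptsHom q x ∈ derivedSeries (PT ⟶ Q) n :=
      map_derivedSeries_le_derivedSeries (f := ptsHom q) n ⟨x, hx, rfl⟩
    rw [hn, Subgroup.mem_bot] at h1
    exact ⟨hk.lift x (toUnit _) (by rw [← Hom.one_def]; exact h1), trivial, hk.lift_fst _ _ _⟩
  have h : ∀ j, derivedSeries (PT ⟶ E) (n + j) ≤ (derivedSeries (PT ⟶ N) j).map (ptsHom i) := by
    intro j
    induction j with
    | zero => simpa using h0
    | succ j ih =>
      rw [← Nat.add_assoc, derivedSeries_succ, derivedSeries_succ, Subgroup.map_commutator]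
      exact Subgroup.commutator_mono ih ih
  exact ⟨n + m, eq_bot_iff.mpr ((h m).trans (by rw [hm, Subgroup.map_bot]))⟩

/-- A group with unipotent points is solvable. -/
theorem isSolvableGrp_of_unipPts [IsAlgClosed k] {G : Over (Spec (CommRingCat.of k))} [GrpObj G] [IsAffine G.left]
    [Smooth G.hom] (h : ∀ g : PT ⟶ G, IsUnipPt g) : Red.IsSolvableGrp G := by
  haveI : IsReduced G.left := isReduced_of_smooth_field G.hom
  haveI := isNilpotent_pts h
  obtain ⟨n, hn⟩ := (Group.isSolvable_def (PT ⟶ G)).mp inferInstance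
  exact AGFLib.ProperSpace.isSolvableGrp_of_pts n hn

section AlgClosed

variable [IsAlgClosed k]

theorem solvPts_quot (E Q : Over (Spec (CommRingCat.of k))) [GrpObj E] [GrpObj Q] [LocallyOfFiniteType E.hom]
    [LocallyOfFiniteType Q.hom] (q : E ⟶ Q) [IsMonHom q] [Surjective q.left] (hE : SolvPts E) : SolvPts Q := by
  obtain ⟨n, hn⟩ := hE
  haveI := GrpSchLib.AntiAffine.isSeparated_grp Q
  have hs : Function.Surjective (fun x : PT ⟶ E => ptsHom q x) := fun g => exists_of_mem_range q g (q.left.surjective _)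
  exact ⟨n, by rw [← map_derivedSeries_eq hs n, hn, Subgroup.map_bot]⟩

/-- The radical exists over an algebraically closed field. -/
theorem exists_solvRad (G : Over (Spec (CommRingCat.of k))) [GrpObj G] [LocallyOfFiniteType G.hom]
    [QuasiCompact G.hom] :
    ∃ (H : Over (Spec (CommRingCat.of k))) (_ : GrpObj H) (j : H ⟶ G), IsMonHom j ∧ IsClosedImmersion j.left ∧
      Smooth H.hom ∧ ConnectedSpace H.left ∧ AlgGrp.IsNormalHom j ∧ SolvPts H ∧
      ∀ (H' : Over (Spec (CommRingCat.of k))) [GrpObj H'] (j' : H' ⟶ G) [IsMonHom j'],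
        IsClosedImmersion j'.left → Smooth H'.hom → ConnectedSpace H'.left → AlgGrp.IsNormalHom j' → SolvPts H' →
        ∃ f : H' ⟶ H, f ≫ j = j' := by
  refine AGFLib.LargestNormal.exists_largest (fun E _ => SolvPts E)
    (fun N E Q _ _ _ _ _ _ _ _ _ i q _ _ _ _ hk hN hQ => solvPts_ext N E Q i q hk hN hQ)
    (fun E Q _ _ _ _ _ _ q _ _ _ hE => solvPts_quot E Q q hE) ?_
  haveI := GrpSchLib.AntiAffine.isSeparated_grp G
  refine ⟨PT, inferInstance, η[G], ⟨by simp, ?_⟩, inferInstanceAs (IsClosedImmersion η[G].left),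
    inferInstanceAs (Smooth (𝟙 _)), inferInstanceAs (ConnectedSpace ↥(Spec (CommRingCat.of k))), fun T g n => ⟨n, ?_⟩,
    ⟨0, eq_bot_iff.mpr fun x _ => Subgroup.mem_bot.mpr (toUnit_unique _ _)⟩⟩
  · simp [MonObj.one_eq_one, MonObj.one_mul, toUnit_unique μ[PT] (toUnit _)]
    rw [show ((1 : PT ⟶ G) ⊗ₘ (1 : PT ⟶ G)) = lift 1 1 by
      apply CartesianMonoidalCategory.hom_ext <;> simp, ← Hom.mul_def, _root_.mul_one]
  · rw [MonObj.one_eq_one, MonObj.comp_one]; group

end AlgClosed

/-- Over a perfect field the geometric point is a separable normal algebraic extension. -/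
theorem exists_geomAlg [PerfectField k] (s : Spec (CommRingCat.of k)) :
    ∃ (_ : Algebra k (AlgebraicClosure ((Spec (CommRingCat.of k)).residueField s))),
      Algebra.IsSeparable k (AlgebraicClosure ((Spec (CommRingCat.of k)).residueField s)) ∧
      Normal k (AlgebraicClosure ((Spec (CommRingCat.of k)).residueField s)) ∧
      Red.geomPt s = Spec.map (CommRingCat.ofHom (algebraMap k _)) := by
  obtain ⟨φ, hφ⟩ := Spec.map_surjective (Red.geomPt s)
  letI : Algebra k (AlgebraicClosure ((Spec (CommRingCat.of k)).residueField s)) := φ.hom.toAlgebra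
  haveI hint : Algebra.IsIntegral k (AlgebraicClosure ((Spec (CommRingCat.of k)).residueField s)) := by
    have h := AGFLib.GeomBC.isIntegralHom_geomPt s
    rw [← hφ, IsIntegralHom.SpecMap_iff] at h
    exact algebraMap_isIntegral_iff.mp h
  haveI : Algebra.IsAlgebraic k (AlgebraicClosure ((Spec (CommRingCat.of k)).residueField s)) := inferInstance
  haveI : IsAlgClosure k (AlgebraicClosure ((Spec (CommRingCat.of k)).residueField s)) := ⟨inferInstance, inferInstance⟩
  exact ⟨inferInstance, inferInstance, inferInstance, hφ.symm⟩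

/-- A base change of field with automorphism is an isomorphism. -/
theorem isIso_specMap_algEquiv {k Ω : Type u} [Field k] [Field Ω] [Algebra k Ω] (σ : Ω ≃ₐ[k] Ω) :
    IsIso (Spec.map (CommRingCat.ofHom (σ : Ω →ₐ[k] Ω).toRingHom)) := by
  haveI : IsIso (CommRingCat.ofHom (σ : Ω →ₐ[k] Ω).toRingHom) := σ.toRingEquiv.toCommRingCatIso.isIso_hom
  infer_instance

variable [PerfectField k] {G : Over (Spec (CommRingCat.of k))} [GrpObj G] [IsAffine G.left] [Smooth G.hom]
  [ConnectedSpace G.left]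

/-- Over a perfect field the radical contains the radical of a geometric fibre. -/
theorem le_radical_geomFibre {R : Over (Spec (CommRingCat.of k))} [GrpObj R] (r : R ⟶ G)
    (hmax : ∀ (R' : Over (Spec (CommRingCat.of k))) [GrpObj R'] (r' : R' ⟶ G) [IsMonHom r'], IsClosedImmersion r'.left →
      Smooth R'.hom → ConnectedSpace R'.left → Red.IsSolvableGrp R' → AlgGrp.IsNormalHom r' →
      ∃ f : R' ⟶ R, f ≫ r = r')
    (s : Spec (CommRingCat.of k))
    {W : Over (Spec (CommRingCat.of (AlgebraicClosure ((Spec (CommRingCat.of k)).residueField s))))} [GrpObj W]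
    (iW : W ⟶ Red.geomFibre s G) [IsMonHom iW] [IsClosedImmersion iW.left] [Smooth W.hom] [ConnectedSpace W.left]
    (hn : AlgGrp.IsNormalHom iW) (hW : SolvPts W) :
    ∃ f : W ⟶ Red.geomFibre s R, f ≫ (Over.pullback (Red.geomPt s)).map r = iW := by
  haveI : QuasiCompact G.hom := inferInstance
  obtain ⟨N, _, jN, hjN, hcN, hsN, hconnN, hnN, hNS, hmaxN⟩ := exists_solvRad (Red.geomFibre s G)
  haveI := hjN
  haveI := hcN
  haveI := hsN
  haveI := hconnN
  haveI : IsAffine N.left := isAffine_of_isAffineHom jN.left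
  obtain ⟨alg, hsep, hnor, hg⟩ := exists_geomAlg s
  letI := alg
  haveI := hsep
  haveI := hnor
  obtain ⟨Z, _, z, hz, hz1, hz2, hz3, hz4, hz5, e, he, hez⟩ := Galois.exists_descend_largest G
    (fun E _ => Red.IsSolvableGrp E) (fun σ E _ hE => isSolvableGrp_bc _ hE) (Red.geomPt s) hg N jN hnN
    (AGFLib.ProperSpace.isSolvableGrp_of_pts hNS.choose hNS.choose_spec)
    (fun N' _ j' _ h1 h2 h3 _ h5 h6 => hmaxN N' j' h1 h2 h3 h5 (solvPts_of_isSolvableGrp h6))
  haveI := hz
  haveI := he
  have hZsolv : Red.IsSolvableGrp Z := by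
    obtain ⟨n, hn⟩ : Red.IsSolvableGrp N := AGFLib.ProperSpace.isSolvableGrp_of_pts hNS.choose hNS.choose_spec
    refine ⟨n, fun X => eq_bot_iff.mpr fun x hx => Subgroup.mem_bot.mpr (geomPt_map_injective s ?_)⟩
    let φ : (X ⟶ Z) →* ((Over.pullback (Red.geomPt s)).obj X ⟶ N) :=
      MonoidHom.mk' (fun x => (Over.pullback (Red.geomPt s)).map x ≫ e.hom) fun a b => by
        rw [Functor.map_mul, MonObj.mul_comp]
    have h1 : φ x ∈ derivedSeries ((Over.pullback (Red.geomPt s)).obj X ⟶ N) n :=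
      map_derivedSeries_le_derivedSeries (f := φ) n ⟨x, hx, rfl⟩
    rw [hn, Subgroup.mem_bot, ← map_one φ] at h1
    exact (cancel_mono e.hom).mp h1
  obtain ⟨f₀, hf₀⟩ := hmax Z z hz1 hz2 hz3 hZsolv hz5
  obtain ⟨f₁, hf₁⟩ := hmaxN W iW inferInstance inferInstance inferInstance hn hW
  refine ⟨f₁ ≫ e.inv ≫ (Over.pullback (Red.geomPt s)).map f₀, ?_⟩
  rw [Category.assoc, Category.assoc, ← Functor.map_comp, hf₀, ← hez, Iso.inv_hom_id_assoc, hf₁]

/-- Over a perfect field the unipotent radical contains that of a geometric fibre. -/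
theorem le_unipRad_geomFibre {U : Over (Spec (CommRingCat.of k))} [GrpObj U] (u : U ⟶ G)
    (hU : Par.IsUnipotentRadical u) (s : Spec (CommRingCat.of k))
    {W : Over (Spec (CommRingCat.of (AlgebraicClosure ((Spec (CommRingCat.of k)).residueField s))))} [GrpObj W]
    (iW : W ⟶ Red.geomFibre s G) [IsMonHom iW] [IsClosedImmersion iW.left] [Smooth W.hom] [ConnectedSpace W.left]
    (hn : AlgGrp.IsNormalHom iW)
    (hW : Red.HasNoSubtorus (AlgebraicClosure ((Spec (CommRingCat.of k)).residueField s)) W) :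
    ∃ f : W ⟶ Red.geomFibre s U, f ≫ (Over.pullback (Red.geomPt s)).map u = iW := by
  obtain ⟨hmu, hcu, hnu, hsU, hqU, hgU, hmaxU⟩ := id hU
  haveI : QuasiCompact G.hom := inferInstance
  obtain ⟨N, _, jN, hjN, hcN, hsN, hconnN, hnN, huN, hmaxN⟩ := exists_unipRadPts (Red.geomFibre s G)
  haveI := hjN
  haveI := hcN
  haveI := hsN
  haveI := hconnN
  obtain ⟨haN, hlN, -, -, -⟩ := sub_props jN
  haveI := haN
  haveI := hlN
  haveI : IsReduced N.left := isReduced_of_smooth_field N.hom
  have key : ∀ (N' : Over (Spec (CommRingCat.of (AlgebraicClosure ((Spec (CommRingCat.of k)).residueField s))))) [GrpObj N']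
      (j' : N' ⟶ Red.geomFibre s G) [IsMonHom j'], IsClosedImmersion j'.left → Smooth N'.hom → ConnectedSpace N'.left →
      AlgGrp.IsNormalHom j' → Red.HasNoSubtorus (AlgebraicClosure ((Spec (CommRingCat.of k)).residueField s)) N' →
      ∃ f : N' ⟶ N, f ≫ jN = j' := by
    intro N' _ j' _ h1 h2 h3 h5 h6
    haveI := h1
    haveI := h2
    haveI := h3
    haveI : LocallyOfFiniteType N.hom := hlN
    obtain ⟨f, -, hf⟩ := exists_fac_sub jN j' (hmaxN N' j' h1 h2 h3 ⟨fun z hz g => by
      obtain ⟨x, rfl⟩ := hz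
      obtain ⟨y, hy⟩ := h5 _ g x
      exact ⟨y, hy.symm⟩⟩ h6)
    exact ⟨f, hf⟩
  obtain ⟨alg, hsep, hnor, hg⟩ := exists_geomAlg s
  letI := alg
  haveI := hsep
  haveI := hnor
  obtain ⟨Z, _, z, hz, hz1, hz2, hz3, hz4, hz5, e, he, hez⟩ := Galois.exists_descend_largest G
    (fun E _ => Red.HasNoSubtorus (AlgebraicClosure ((Spec (CommRingCat.of k)).residueField s)) E)
    (fun σ E _ hE => by
      haveI := isIso_specMap_algEquiv σ
      exact hasNoSubtorus_bc _ hE)
    (Red.geomPt s) hg N jN (isNormalHom_of_pts jN hnN) (hasNoSubtorus_of_isUnipPt huN)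
    (fun N' _ j' _ h1 h2 h3 _ h5 h6 => key N' j' h1 h2 h3 h5 h6)
  haveI := he
  haveI : IsIso e.hom.left := ((Over.forget _).mapIso e).isIso_hom
  have hZu : ∀ t : Spec (CommRingCat.of k), ConnectedSpace (Red.geomFibre t Z).left ∧
      Red.HasNoSubtorus (AlgebraicClosure ((Spec (CommRingCat.of k)).residueField t)) (Red.geomFibre t Z) := by
    intro t
    obtain rfl : t = s := @Subsingleton.elim (PrimeSpectrum k) inferInstance _ _
    refine ⟨e.hom.left.homeomorph.symm.surjective.connectedSpace e.hom.left.homeomorph.symm.continuous, ?_⟩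
    intro T _ j _ _ hT
    exact hasNoSubtorus_of_isUnipPt huN T (j ≫ e.hom) hT
  obtain ⟨f₀, hf₀⟩ := hmaxU Z z hz1 hz5 hz2
    (by haveI := hz4; haveI := hz2; infer_instance) hZu
  obtain ⟨f₁, hf₁⟩ := key W iW inferInstance inferInstance inferInstance hn hW
  refine ⟨f₁ ≫ e.inv ≫ (Over.pullback (Red.geomPt s)).map f₀, ?_⟩
  rw [Category.assoc, Category.assoc, ← Functor.map_comp, hf₀, ← hez, Iso.inv_hom_id_assoc, hf₁]

end Groth.Agent.SolvGrp
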