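import Groth.Agent.SolvGrp.Perfect
import Groth.Agent.LiftUnique.Basic

/-! Consequences of the perfectness of semisimple groups. -/

set_option backward.isDefEq.respectTransparency false
set_option backward.isDefEq.respectTransparency.types false
set_option linter.style.haveILetI false

universe u

open CategoryTheory MonoidalCategory CartesianMonoidalCategory MonObj AlgebraicGeometry

namespace Groth.Agent.SolvGrp

open GrpSchLib GrpSchLib.Kunneth GrpSchLib.LineGroups WeilCmp.Unip AGFLib AGFLib.Gen AGFLib.BorelFixed AGFLib.BorelExist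

variable {k : Type u} [Field k] [IsAlgClosed k]

local notation "PT" => 𝟙_ (Over (Spec (CommRingCat.of k)))

/-- A homomorphism of a semisimple group to a commutative group scheme is trivial. -/
theorem hom_comm_eq_one {G : Over (Spec (CommRingCat.of k))} [GrpObj G] (hG : Red.IsSemisimpleOver k G)
    {H : Over (Spec (CommRingCat.of k))} [GrpObj H] [IsCommMonObj H] (f : G ⟶ H) [IsMonHom f] : f = 1 := by
  haveI := hG.1.1
  haveI := hG.1.2.1
  haveI := hG.1.2.2.1
  haveI : IsReduced G.left := isReduced_of_smooth_field G.hom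
  haveI : IsSeparated (toUnit H).left := by
    haveI : IsSeparated ((toUnit H).left ≫ (𝟙_ (Over (Spec (CommRingCat.of k)))).hom) := by
      rw [Over.w (toUnit H)]; exact GrpSchLib.AntiAffine.isSeparated_grp H
    exact IsSeparated.of_comp (toUnit H).left (𝟙_ (Over (Spec (CommRingCat.of k)))).hom
  refine LiftUnique.hom_ext_pts (toUnit H) (toUnit_unique _ _) fun g => ?_
  rw [MonObj.comp_one]
  have h1 : _root_.commutator (PT ⟶ G) ≤ (ptsHom f).ker := Abelianization.commutator_subset_ker (ptsHom f)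
  exact MonoidHom.mem_ker.mp (h1 (commutator_eq_top hG ▸ Subgroup.mem_top g))

variable {G G' : Over (Spec (CommRingCat.of k))} [GrpObj G] [GrpObj G'] [IsAffine G'.left] [Smooth G'.hom]

/-- A quotient of a semisimple group is semisimple. -/
theorem isSemisimpleOver_image (hG : Red.IsSemisimpleOver k G) (π : G ⟶ G') [IsMonHom π] [Surjective π.left] :
    Red.IsSemisimpleOver k G' := by
  haveI := hG.1.1
  haveI := hG.1.2.1
  haveI := hG.1.2.2.1
  haveI : IsReduced G.left := isReduced_of_smooth_field G.hom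
  haveI : IsReduced G'.left := isReduced_of_smooth_field G'.hom
  haveI : QuasiCompact G.hom := inferInstance
  haveI : ConnectedSpace G'.left := π.left.surjective.connectedSpace π.left.continuous
  have hperf : _root_.commutator (PT ⟶ G') = ⊤ := by
    refine eq_top_iff.mpr fun y _ => ?_
    obtain ⟨x, rfl⟩ := exists_pt_of_surjective π y
    have h1 : ptsHom π x ∈ (_root_.commutator (PT ⟶ G)).map (ptsHom π) :=
      ⟨x, by rw [commutator_eq_top hG]; trivial, rfl⟩
    rw [_root_.commutator_def, Subgroup.map_commutator] at h1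
    rw [_root_.commutator_def]
    exact Subgroup.commutator_mono le_top le_top h1
  refine ⟨⟨inferInstance, inferInstance, inferInstance, fun U _ i _ hci hsU hcU hn hnt => ?_⟩, fun T _ i _ hci hn hT => ?_⟩
  · haveI := hci
    haveI := hsU
    haveI := hcU
    obtain ⟨haU, hlU, hqU, hmi, -⟩ := sub_props i
    haveI := haU
    haveI := hlU
    haveI := hmi
    haveI : IsReduced U.left := isReduced_of_smooth_field U.hom
    obtain ⟨R, _, r, hr, hcr, hsR, hcR, hnR, huR, hmax⟩ := exists_unipRadPts G
    haveI := hr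
    haveI := hcr
    haveI := hsR
    haveI := hcR
    obtain ⟨haR, hlR, -, -, hevR⟩ := sub_props r
    haveI := haR
    haveI := hlR
    haveI : IsReduced R.left := isReduced_of_smooth_field R.hom
    have htriv : Red.IsTrivialGrp R := hG.1.2.2.2 R r hcr hsR hcR (isNormalHom_of_pts r hnR)
      (hasNoSubtorus_of_isUnipPt huR)
    refine isTrivialGrp_of_pts fun x => (cancel_mono i).mp ?_
    obtain ⟨_, ⟨y, rfl⟩, hy⟩ := le_map_unipRad π r hnR hmax i ⟨fun z hz g => by
      obtain ⟨w, rfl⟩ := hz
      obtain ⟨w', hw'⟩ := hn _ g w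
      exact ⟨w', hw'.symm⟩⟩ (isUnipPt_of_hasNoSubtorus hnt) (⟨x, rfl⟩ : x ≫ i ∈ rangePts i)
    rw [MonObj.one_comp, ← hy]
    show (y ≫ r) ≫ π = 1
    rw [pt_eq_one_of_trivial htriv y, MonObj.one_comp, MonObj.one_comp]
  · haveI := hci
    obtain ⟨haT, hsT, hcT, -⟩ := torus_props hT
    haveI := haT
    haveI := hsT
    haveI := hcT
    obtain ⟨-, hlT, -, hmi, -⟩ := sub_props i
    haveI := hlT
    haveI := hmi
    haveI : IsReduced T.left := isReduced_of_smooth_field T.hom
    have hnr : (rangePts i).Normal := ⟨fun z hz g => by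
      obtain ⟨x, rfl⟩ := hz
      obtain ⟨y, hy⟩ := hn _ g x
      exact ⟨y, hy.symm⟩⟩
    have hfin := finite_torus_inter_commutator i hT fun g => commute_of_normal_torus i hT hnr g
    haveI := hfin.to_subtype
    have hf : Finite (PT ⟶ T) := Finite.of_injective
      (fun x => (⟨x ≫ i, ⟨x, rfl⟩, hperf ▸ Subgroup.mem_top _⟩ :
        {g : PT ⟶ G' | g ∈ rangePts i ∧ g ∈ _root_.commutator _})) fun a b hab =>
      (cancel_mono i).mp (congrArg Subtype.val hab)
    exact isTrivialGrp_of_pts fun x => eq_one_of_finite hf x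

/-- A Weyl-invariant character of a maximal torus of a semisimple group is trivial. -/
theorem char_eq_one_of_weyl {T H : Over (Spec (CommRingCat.of k))} [GrpObj T] [GrpObj H] [IsCommMonObj H]
    [IsAffine G.left] [Smooth G.hom] [ConnectedSpace G.left] (hG : Red.IsSemisimpleOver k G) (iT : T ⟶ G) [IsMonHom iT]
    (hT : AGF.IsMaxTorus iT) (χ : T ⟶ H) [IsMonHom χ]
    (hχ : ∀ (n : PT ⟶ G) (φ : T ⟶ T), φ ≫ iT = AGF.conjBy n iT → φ ≫ χ = χ) (t : PT ⟶ T) : t ≫ χ = 1 := by
  obtain ⟨m, Φ, hm, hΦm, hinv, -, hχΦ⟩ := exists_weylNorm iT hT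
  haveI := hΦm
  obtain ⟨s, rfl⟩ := exists_pow_eq hT.2.2.1 hm t
  have h1 := hχΦ H χ (fun n ψ _ _ hψ => hχ n⁻¹ ψ hψ) s
  rw [← Category.assoc, weylNorm_eq_one iT hG hT Φ hinv s, MonObj.one_comp] at h1
  show ptsHom χ (s ^ m) = 1
  rw [map_pow]
  exact h1.symm

end Groth.Agent.SolvGrp
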