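import Groth.Agent.GrpSchLib.LargestNormalSep
import Groth.Agent.GrpSchLib.MonoSubgroup
import Groth.Agent.AGFLib.Semi

/-! A closed subscheme becoming a reduced subgroup over a larger field is a subgroup. -/

set_option backward.isDefEq.respectTransparency false
set_option backward.isDefEq.respectTransparency.types false
set_option linter.style.haveILetI false

universe u

open CategoryTheory Limits AlgebraicGeometry MonoidalCategory CartesianMonoidalCategory MonObj GrpObj

namespace Groth.Agent.SolvGrp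

open GrpSchLib GrpSchLib.LargestNormalSep

/-- A closed subscheme becoming a reduced subgroup over a larger field is a subgroup. -/
theorem exists_grpObj_of_bc {k Ω : Type u} [Field k] [Field Ω] (φ₀ : k →+* Ω)
    (G : Over (Spec (CommRingCat.of k))) [GrpObj G] (N : Over (Spec (CommRingCat.of Ω))) [GrpObj N]
    (jN : N ⟶ Red.bc (Spec.map (CommRingCat.ofHom φ₀)) G) [IsMonHom jN] [IsClosedImmersion jN.left] [IsReduced N.left]
    {Z : Over (Spec (CommRingCat.of k))} (i : Z ⟶ G) [IsClosedImmersion i.left]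
    [IsReduced (Red.bc (Spec.map (CommRingCat.ofHom φ₀)) Z).left]
    (hr : Set.range ((Over.pullback (Spec.map (CommRingCat.ofHom φ₀))).map i).left = Set.range jN.left) :
    ∃ (_ : GrpObj Z) (_ : IsMonHom i) (e : Red.bc (Spec.map (CommRingCat.ofHom φ₀)) Z ≅ N), IsMonHom e.hom ∧
      e.hom ≫ jN = (Over.pullback (Spec.map (CommRingCat.ofHom φ₀))).map i := by
  let h := Spec.map (CommRingCat.ofHom φ₀)
  let F := Over.pullback h
  haveI : Mono i := (Over.forget _).mono_of_mono_map (inferInstanceAs (Mono i.left))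
  haveI : IsClosedImmersion (F.map i).left := MorphismProperty.baseChange_map (P := @IsClosedImmersion) h i inferInstance
  haveI : IsReduced (F.obj Z).left := ‹IsReduced (Red.bc (Spec.map (CommRingCat.ofHom φ₀)) Z).left›
  obtain ⟨e, he⟩ := H23.RedSub.exists_iso_of_range_eq (F.map i).left jN.left hr
  let φ : F.obj Z ≅ N := Over.isoMk e (by rw [← Over.w jN, reassoc_of% he, Over.w (F.map i)])
  have hφ : φ.hom ≫ jN = F.map i := Over.OverMorphism.ext he
  have hφ' : φ.inv ≫ F.map i = jN := by rw [← hφ, Iso.inv_hom_id_assoc]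
  have fac : ∀ {A : Over (Spec (CommRingCat.of k))} (f : A ⟶ G), (∃ b, b ≫ jN = F.map f) → ∃ f', f' ≫ i = f := by
    rintro A f ⟨b, hb⟩
    exact exists_factor_of_bc φ₀ f i (b ≫ φ.inv) (by rw [Category.assoc, hφ', hb])
  have hFi : ∀ {A : Over (Spec (CommRingCat.of k))} (x : A ⟶ Z), F.map (x ≫ i) = (F.map x ≫ φ.hom) ≫ jN := by
    intro A x
    rw [Category.assoc, hφ, F.map_comp]
  have hinv : ∀ {A : Over (Spec (CommRingCat.of k))} (x : A ⟶ G), F.map x⁻¹ = (F.map x)⁻¹ := fun x =>
    (F.homMonoidHom).map_inv x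
  obtain ⟨η', he'⟩ := fac η[G] ⟨1, by rw [MonObj.one_comp, MonObj.one_eq_one, F.map_one]⟩
  obtain ⟨μ', hm'⟩ := fac ((fst Z Z ≫ i) * (snd Z Z ≫ i))
    ⟨(F.map (fst Z Z) ≫ φ.hom) * (F.map (snd Z Z) ≫ φ.hom), by rw [MonObj.mul_comp, F.map_mul, hFi, hFi]⟩
  obtain ⟨ι', hi'⟩ := fac i⁻¹ ⟨φ.hom⁻¹, by rw [GrpObj.inv_comp, hφ, hinv]⟩
  obtain ⟨str, hstr⟩ := exists_grpObj_of_mono i η' he' μ' hm' ι' hi'
  letI := str
  haveI := hstr
  haveI : Mono jN := (Over.forget _).mono_of_mono_map (inferInstanceAs (Mono jN.left))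
  refine ⟨str, hstr, φ, ?_, hφ⟩
  haveI : IsMonHom (φ.hom ≫ jN) := by rw [hφ]; infer_instance
  exact AGFLib.isMonHom_of_mul φ.hom fun X a b => by
    rw [← cancel_mono jN, Category.assoc, MonObj.mul_comp a b (φ.hom ≫ jN), MonObj.mul_comp, Category.assoc, Category.assoc]

end Groth.Agent.SolvGrp
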