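import Groth.Agent.SolvGrp.TorusSepBase
import Groth.Agent.SolvGrp.SubgroupDescend
import Groth.Agent.GrpSchLib.IdentityComp
import Groth.Agent.GrpSchLib.IsogTorus

/-! Maximal tori exist over separably closed fields. -/

set_option backward.isDefEq.respectTransparency false
set_option backward.isDefEq.respectTransparency.types false
set_option linter.style.haveILetI false

universe u

open CategoryTheory MonoidalCategory CartesianMonoidalCategory MonObj AlgebraicGeometry

namespace Groth.Agent.SolvGrp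

open GrpSchLib GrpSchLib.Kunneth GrpSchLib.LineGroups WeilCmp.Unip AGFLib AGFLib.Gen AGFLib.BorelFixed AGFLib.BorelExist

variable {k : Type u} [Field k]

local notation "PT" => 𝟙_ (Over (Spec (CommRingCat.of k)))

/-- A conjugate of a maximal torus is maximal. -/
theorem isMaxTorus_of_conj {G T T' : Over (Spec (CommRingCat.of k))} [GrpObj G] [GrpObj T] [GrpObj T'] {iT : T ⟶ G}
    {iT' : T' ⟶ G} [IsMonHom iT] [Mono iT] (hT : Red.IsTorus T) (hT' : AGF.IsMaxTorus iT') (g : PT ⟶ G) (f : T ≅ T')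
    (hf : f.hom ≫ iT' = AGF.conjBy g iT) : AGF.IsMaxTorus iT := by
  haveI := hT'.1
  haveI := hT'.2.1
  refine ⟨inferInstance, inferInstance, hT, fun W _ j _ _ φ hW hφ => ?_⟩
  haveI : IsMonHom (AGF.conjBy g j) := by rw [AGFLib.Borel.conjBy_eq]; infer_instance
  haveI : Mono (AGF.conjBy g j) := by rw [AGFLib.Borel.conjBy_eq]; exact mono_comp j _
  haveI := hT'.2.2.2 W (AGF.conjBy g j) (f.inv ≫ φ) hW (by
    rw [AGFLib.Borel.conjBy_eq, Category.assoc, ← Category.assoc φ, hφ, ← AGFLib.Borel.conjBy_eq, ← hf,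
      Iso.inv_hom_id_assoc])
  exact IsIso.of_isIso_comp_left f.inv φ

/-- A prime invertible in the field. -/
theorem exists_prime_ne (k : Type u) [Field k] : ∃ l : ℕ, l.Prime ∧ (l : k) ≠ 0 := by
  by_cases h2 : (2 : k) = 0
  · refine ⟨3, Nat.prime_three, fun h3 => one_ne_zero (α := k) ?_⟩
    have h3' : (3 : k) = 0 := by exact_mod_cast h3
    linear_combination h3' - h2
  · exact ⟨2, Nat.prime_two, by exact_mod_cast h2⟩

/-- A rational point on a closed subscheme comes from it. -/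
theorem exists_lift_of_mem {Z G : Over (Spec (CommRingCat.of k))} (i : Z ⟶ G) [IsClosedImmersion i.left]
    (r : PT ⟶ G) (h : cp r ∈ Set.range i.left) : ∃ x : PT ⟶ Z, x ≫ i = r := by
  haveI : Subsingleton ↥(𝟙_ (Over (Spec (CommRingCat.of k)))).left := inferInstanceAs (Subsingleton ↥(Spec (CommRingCat.of k)))
  haveI : IsReduced (𝟙_ (Over (Spec (CommRingCat.of k)))).left := inferInstanceAs (IsReduced (Spec (CommRingCat.of k)))
  haveI : Surjective (Limits.pullback.snd i.left r.left) := ⟨fun p => by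
    obtain ⟨x, hx⟩ := h
    obtain ⟨q, -, hq⟩ := Scheme.Pullback.exists_preimage_pullback (f := i.left) (g := r.left) x p
      (by rw [hx]; exact congrArg r.left (Subsingleton.elim _ _))
    exact ⟨q, hq⟩⟩
  haveI : IsIso (Limits.pullback.snd i.left r.left) := isIso_of_isClosedImmersion_of_surjective _
  let x := inv (Limits.pullback.snd i.left r.left) ≫ Limits.pullback.fst i.left r.left
  have hx : x ≫ i.left = r.left := by
    rw [Category.assoc, Limits.pullback.condition, IsIso.inv_hom_id_assoc]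
  exact ⟨Over.homMk x (by rw [← Over.w i, ← Category.assoc, hx, Over.w r]), Over.OverMorphism.ext hx⟩

variable [IsSepClosed k] {K : Type u} [Field K] [IsAlgClosed K] (φ : k →+* K)

local notation "σ" => Spec.map (CommRingCat.ofHom φ)
local notation "PK" => 𝟙_ (Over (Spec (CommRingCat.of K)))

theorem bc_props {G : Over (Spec (CommRingCat.of k))} [GrpObj G] [IsAffine G.left] [Smooth G.hom] [ConnectedSpace G.left] :
    IsAffine (Red.bc σ G).left ∧ Smooth (Red.bc σ G).hom ∧ ConnectedSpace (Red.bc σ G).left :=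
  ⟨inferInstanceAs (IsAffine (Limits.pullback G.hom σ)), inferInstanceAs (Smooth (Limits.pullback.snd G.hom σ)),
    AntiAffine.connectedSpace_bc G φ⟩

theorem mem_range_bc {X Y : Over (Spec (CommRingCat.of k))} [GrpObj X] (z : Y ⟶ X) (y : PK ⟶ Red.bc σ X)
    (w : PT ⟶ Y) (h : extPt σ (w ≫ z) = y) : y.left (IsLocalRing.closedPoint K) ∈ Set.range ((Over.pullback σ).map z).left := by
  rw [← h, extPt_map, Over.comp_left, Scheme.Hom.comp_apply]
  exact ⟨_, rfl⟩

/-- A torsion point in a central maximal torus is rational. -/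
theorem exists_rational_of_torsion {G : Over (Spec (CommRingCat.of k))} [GrpObj G] [IsAffine G.left] [Smooth G.hom]
    [ConnectedSpace G.left] {T : Over (Spec (CommRingCat.of K))} [GrpObj T] (iT : T ⟶ Red.bc σ G)
    (hT : AGF.IsMaxTorus iT) (hc : haveI := hT.1; ∀ g : PK ⟶ Red.bc σ G, ∀ s ∈ rangePts iT, Commute g s)
    {n : ℕ} (hn : (n : k) ≠ 0) (y : PK ⟶ Red.bc σ G) (hy : y ^ n = 1) :
    ∃ r : PT ⟶ G, r ^ n = 1 ∧ extPt σ r = y := by
  haveI := hT.1
  haveI := hT.2.1
  obtain ⟨hA, hS, hC⟩ := bc_props φ (G := G)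
  haveI := hA
  haveI := hS
  haveI := hC
  have hnK : (n : K) ≠ 0 := fun h => hn (φ.injective (by rw [map_natCast, h, map_zero]))
  let Kn := Limits.pullback (𝟙 G ^ n) η[G]
  let inc : Kn ⟶ G := Limits.pullback.fst (𝟙 G ^ n) η[G]
  have hKn : IsPullback inc (toUnit Kn) (𝟙 G ^ n) η[G] := by
    have h := IsPullback.of_hasPullback (𝟙 G ^ n) η[G]
    rw [toUnit_unique (toUnit Kn) (Limits.pullback.snd _ _)]
    exact h
  haveI := GrpSchLib.AntiAffine.isSeparated_grp G
  haveI : IsClosedImmersion η[G].left := by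
    haveI : IsClosedImmersion (η[G].left ≫ G.hom) := by
      rw [Over.w η[G]]; exact inferInstanceAs (IsClosedImmersion (𝟙 (Spec (CommRingCat.of k))))
    exact IsClosedImmersion.of_comp η[G].left G.hom
  haveI : IsClosedImmersion inc.left :=
    MorphismProperty.of_isPullback (P := @IsClosedImmersion) (hKn.map (Over.forget _)).flip ‹_›
  haveI : IsAffine Kn.left := isAffine_of_isAffineHom inc.left
  haveI : Mono inc := (Over.forget _).mono_of_mono_map (inferInstanceAs (Mono inc.left))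
  haveI := Tors.smooth_powKer n hn inc hKn
  -- finitely many rational points
  have hpow : ∀ x : PT ⟶ Kn, (x ≫ inc) ^ n = 1 := fun x => by
    have h1 := congrArg (x ≫ ·) hKn.w
    simp only [← Category.assoc] at h1
    rw [MonObj.comp_pow, Category.comp_id, toUnit_unique (x ≫ toUnit Kn) (toUnit _), ← Hom.one_def] at h1
    exact h1
  have hin : ∀ z : PK ⟶ Red.bc σ G, z ^ n = 1 → ∃ t : PK ⟶ T, t ^ n = 1 ∧ t ≫ iT = z := fun z hz => by
    obtain ⟨x, t, ht⟩ := exists_conj_maxTorus iT hT z (isSsPt_of_pow z hnK hz)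
    change t ≫ iT = x * z * x⁻¹ at ht
    have h1 : Commute x (t ≫ iT) := hc x _ ⟨t, rfl⟩
    have h2 : z = t ≫ iT := by
      calc z = x⁻¹ * (t ≫ iT) * x := by rw [ht]; group
        _ = x⁻¹ * (x * (t ≫ iT)) := by rw [_root_.mul_assoc, h1.eq]
        _ = t ≫ iT := inv_mul_cancel_left _ _
    refine ⟨t, (cancel_mono iT).mp ?_, h2.symm⟩
    rw [MonObj.pow_comp, ← h2, hz, MonObj.one_comp]
  haveI : Finite (PT ⟶ Kn) := by
    haveI := (finite_torsion hT.2.2.1 (show n ≠ 0 from fun h => hn (by simp [h]))).to_subtype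
    have hp : ∀ x : PT ⟶ Kn, extPt σ (x ≫ inc) ^ n = 1 := fun x => by
      rw [show extPt σ (x ≫ inc) = extHom σ G (x ≫ inc) from rfl, ← map_pow, hpow, map_one]
    choose t ht1 ht2 using fun x => hin _ (hp x)
    exact Finite.of_injective (fun x => (⟨t x, ht1 x⟩ : {x : PK ⟶ T | x ^ n = 1})) fun a b h =>
      (cancel_mono inc).mp (extPt_injective σ (by
        rw [← ht2, ← ht2, show t a = t b from congrArg Subtype.val h]))
  haveI : LocallyOfFiniteType Kn.hom := inferInstance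
  have hall : ∀ p : Kn.left, ∃ x : PT ⟶ Kn, x.left (IsLocalRing.closedPoint k) = p := by
    intro p
    by_contra hp
    let C : Set Kn.left := Set.range fun x : PT ⟶ Kn => x.left (IsLocalRing.closedPoint k)
    have hC : IsClosed C := by
      have hset : C = ⋃ x : PT ⟶ Kn, {cp x} := by
        ext q
        simp only [Set.mem_iUnion, Set.mem_singleton_iff, C, Set.mem_range]
        exact ⟨fun ⟨x, hx⟩ => ⟨x, hx.symm⟩, fun ⟨x, hx⟩ => ⟨x, hx.symm⟩⟩
      rw [hset]
      exact isClosed_iUnion_of_finite fun x => isClosed_cp x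
    obtain ⟨x, hx⟩ := exists_pt_mem (Z := Kn) ⟨Cᶜ, hC.isOpen_compl⟩ ⟨p, fun ⟨x, hx⟩ => hp ⟨x, hx⟩⟩
    exact hx ⟨x, rfl⟩
  -- the point factors through the torsion
  obtain ⟨w, rfl⟩ := (AVTors.bcPts σ PK G).surjective y
  have hw : w ≫ (𝟙 G ^ n) = toUnit _ ≫ η[G] := by
    rw [MonObj.comp_pow, Category.comp_id, ← Hom.one_def]
    exact (AVTors.bcPts σ PK G).injective (by rw [map_pow, hy, map_one])
  obtain ⟨x, hx⟩ := hall ((hKn.lift w (toUnit _) hw).left (IsLocalRing.closedPoint K))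
  refine ⟨x ≫ inc, hpow x, ?_⟩
  have h1 := eq_extPt_of_mem σ ((Over.mapPullbackAdj σ).homEquiv _ Kn (hKn.lift w (toUnit _) hw)) x (by
    rw [Equiv.symm_apply_apply]; exact hx.symm)
  rw [extPt_map, ← h1, ← Adjunction.homEquiv_naturality_right, hKn.lift_fst]
  rfl

/-- A central maximal torus is defined over a separably closed field. -/
theorem exists_torus_of_central {G : Over (Spec (CommRingCat.of k))} [GrpObj G] [IsAffine G.left] [Smooth G.hom]
    [ConnectedSpace G.left] {T' : Over (Spec (CommRingCat.of K))} [GrpObj T'] (iT : T' ⟶ Red.bc σ G)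
    (hT : AGF.IsMaxTorus iT) (hc : haveI := hT.1; ∀ g : PK ⟶ Red.bc σ G, ∀ s ∈ rangePts iT, Commute g s) :
    ∃ (T : Over (Spec (CommRingCat.of k))) (_ : GrpObj T) (i : T ⟶ G), IsMonHom i ∧ IsClosedImmersion i.left ∧
      Red.IsTorus T ∧ AGF.IsMaxTorus ((Over.pullback σ).map i) := by
  classical
  haveI := hT.1
  haveI := hT.2.1
  obtain ⟨hA, hS, hC⟩ := bc_props φ (G := G)
  haveI := hA
  haveI := hS
  haveI := hC
  obtain ⟨hcT, hsT, -, haT, hlT, -, -⟩ := torus_sub hT.2.2.1 iT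
  haveI := hcT
  haveI := hsT
  haveI := haT
  haveI := hlT
  haveI : IsReduced T'.left := isReduced_of_smooth_field T'.hom
  obtain ⟨l, hl, hlk⟩ := exists_prime_ne k
  have hlK : (l : K) ≠ 0 := fun h => hlk (φ.injective (by rw [map_natCast, h, map_zero]))
  let S₀ : Set (PT ⟶ G) := {r | (∃ j : ℕ, r ^ l ^ j = 1) ∧ extPt σ r ∈ rangePts iT}
  let C₀ : Set G.left := closure (cp '' S₀)
  let Z : Over (Spec (CommRingCat.of k)) :=
    Over.mk ((Scheme.IdealSheafData.vanishingIdeal ⟨C₀, isClosed_closure⟩).subschemeι ≫ G.hom)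
  let i : Z ⟶ G := Over.homMk (Scheme.IdealSheafData.vanishingIdeal ⟨C₀, isClosed_closure⟩).subschemeι rfl
  haveI : IsClosedImmersion i.left :=
    inferInstanceAs (IsClosedImmersion (Scheme.IdealSheafData.vanishingIdeal ⟨C₀, isClosed_closure⟩).subschemeι)
  haveI : IsReduced Z.left := H23.RedSub.isReduced_vanishingIdeal _
  haveI : IsAffine Z.left := isAffine_of_isAffineHom i.left
  have hri : Set.range i.left = C₀ := H23.RedSub.range_vanishingIdeal _
  let S : Set (PT ⟶ Z) := {x | x ≫ i ∈ S₀}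
  have hlift : ∀ r ∈ S₀, ∃ x ∈ S, x ≫ i = r := by
    intro r hr
    obtain ⟨x, hx⟩ := exists_lift_of_mem i r (hri.ge (subset_closure ⟨r, hr, rfl⟩))
    exact ⟨x, show x ≫ i ∈ S₀ from hx ▸ hr, hx⟩
  have hsep : ∀ F : Fn Z, (∀ s ∈ S, vl s F = 0) → F = 0 := by
    refine eq_zero_of_dense S fun O ⟨p, hp⟩ => ?_
    obtain ⟨V, hV, hVO⟩ := i.left.isClosedEmbedding.isEmbedding.isInducing.isOpen_iff.mp O.isOpen
    have hpV : i.left p ∈ V := by
      have : p ∈ i.left ⁻¹' V := hVO.symm ▸ hp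
      exact this
    obtain ⟨_, hqV, r, hr, rfl⟩ := mem_closure_iff.mp (hri.le ⟨p, rfl⟩ : i.left p ∈ C₀) V hV hpV
    obtain ⟨x, hx, hxe⟩ := hlift r hr
    refine ⟨x, hx, ?_⟩
    show x.left (IsLocalRing.closedPoint k) ∈ (O : Set Z.left)
    rw [← hVO]
    show (x.left ≫ i.left) (IsLocalRing.closedPoint k) ∈ V
    rw [show x.left ≫ i.left = r.left from congrArg (fun m => m.left) hxe]
    exact hqV
  haveI : IsReduced (Red.bc σ Z).left := isReduced_bc_of_pts σ S hsep
  let F := Over.pullback σ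
  haveI : IsClosedImmersion (F.map i).left := MorphismProperty.baseChange_map (P := @IsClosedImmersion) σ i inferInstance
  have hrange : Set.range (F.map i).left = Set.range iT.left := by
    refine Set.Subset.antisymm ?_ ?_
    · have h1 := eq_univ_of_pts σ S hsep ((F.map i).left ⁻¹' Set.range iT.left)
        (iT.left.isClosedEmbedding.isClosed_range.preimage (F.map i).left.continuous) fun s hs => by
        obtain ⟨t, ht⟩ := (hs : s ≫ i ∈ S₀).2
        change t ≫ iT = extPt σ (s ≫ i) at ht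
        rw [extPt_map] at ht
        refine ⟨t.left (IsLocalRing.closedPoint K), ?_⟩
        rw [← Scheme.Hom.comp_apply, ← Over.comp_left, ht, Over.comp_left, Scheme.Hom.comp_apply]
      rintro _ ⟨p, rfl⟩
      exact (h1.ge (Set.mem_univ p) : p ∈ (F.map i).left ⁻¹' Set.range iT.left)
    · have h1 := eq_univ_of_torsion hT.2.2.1 hl hlK (iT.left ⁻¹' Set.range (F.map i).left)
        ((F.map i).left.isClosedEmbedding.isClosed_range.preimage iT.left.continuous) fun t j htj => by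
        obtain ⟨r, hr, hre⟩ := exists_rational_of_torsion φ iT hT hc
          (show ((l ^ j : ℕ) : k) ≠ 0 by rw [Nat.cast_pow]; exact pow_ne_zero j hlk) (t ≫ iT)
          (by rw [← MonObj.pow_comp, htj, MonObj.one_comp])
        obtain ⟨x, -, hxe⟩ := hlift r ⟨⟨j, hr⟩, t, hre.symm⟩
        show iT.left (t.left (IsLocalRing.closedPoint K)) ∈ Set.range (F.map i).left
        rw [← Scheme.Hom.comp_apply, ← Over.comp_left]
        exact mem_range_bc φ i (t ≫ iT) x (by rw [hxe, hre])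
      rintro _ ⟨p, rfl⟩
      exact (h1.ge (Set.mem_univ p) : p ∈ iT.left ⁻¹' Set.range (F.map i).left)
  obtain ⟨strZ, hiZ, e, hem, he⟩ := exists_grpObj_of_bc φ G T' iT i hrange
  haveI := hiZ
  haveI := hem
  haveI : Mono i := (Over.forget _).mono_of_mono_map (inferInstanceAs (Mono i.left))
  let ge : Grp.mk (Red.bc σ Z) ≅ Grp.mk T' :=
    ⟨Grp.ofHom e.hom, Grp.ofHom e.inv, by ext : 1; exact e.hom_inv_id, by ext : 1; exact e.inv_hom_id⟩
  have hTor : Red.IsTorus (Red.bc σ Z) := isTorus_of_iso ge hT.2.2.1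
  haveI : (Over.pullback σ).IsRightAdjoint := (Over.mapPullbackAdj σ).isRightAdjoint
  refine ⟨Z, strZ, i, inferInstance, inferInstance, GrpSchLib.IsogTorus.isTorus_of_bc φ hTor, inferInstance, inferInstance, hTor,
    fun W _ j _ _ f hW hf => ?_⟩
  haveI := hT.2.2.2 W j (e.inv ≫ f) hW (by rw [Category.assoc, hf, ← he, Iso.inv_hom_id_assoc])
  exact IsIso.of_isIso_comp_left e.inv f

/-- The centraliser of a rational torsion point, with its identity component. -/
theorem exists_centPt {G : Over (Spec (CommRingCat.of k))} [GrpObj G] [IsAffine G.left] [Smooth G.hom]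
    (r : PT ⟶ G) {n : ℕ} (hn : (n : k) ≠ 0) (hr : r ^ n = 1) :
    ∃ (Z : Over (Spec (CommRingCat.of k))) (_ : GrpObj Z) (z : Z ⟶ G) (Z₀ : Over (Spec (CommRingCat.of k)))
      (_ : GrpObj Z₀) (i₀ : Z₀ ⟶ Z), IsMonHom z ∧ IsClosedImmersion z.left ∧ Smooth Z.hom ∧
      IsMonHom i₀ ∧ IsClosedImmersion i₀.left ∧ IsOpenImmersion i₀.left ∧ Smooth Z₀.hom ∧ ConnectedSpace Z₀.left ∧
      (∀ x : PT ⟶ G, x ∈ Set.range (fun w : PT ⟶ Z => w ≫ z) ↔ Commute r x) ∧
      ∀ y : PK ⟶ Red.bc σ G,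
        (∃ w : PK ⟶ Red.bc σ Z, w ≫ (Over.pullback σ).map z = y) ↔ Commute (extPt σ r) y := by
  let c : G ⟶ G := AGF.conjBy r (𝟙 G) * (𝟙 G)⁻¹
  let Z := Limits.pullback c η[G]
  let z : Z ⟶ G := Limits.pullback.fst c η[G]
  have hZ : IsPullback z (toUnit Z) c η[G] := by
    have h := IsPullback.of_hasPullback c η[G]
    rw [toUnit_unique (toUnit Z) (Limits.pullback.snd _ _)]
    exact h
  haveI := GrpSchLib.AntiAffine.isSeparated_grp G
  haveI : IsClosedImmersion η[G].left := by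
    haveI : IsClosedImmersion (η[G].left ≫ G.hom) := by
      rw [Over.w η[G]]; exact inferInstanceAs (IsClosedImmersion (𝟙 (Spec (CommRingCat.of k))))
    exact IsClosedImmersion.of_comp η[G].left G.hom
  haveI : IsClosedImmersion z.left :=
    MorphismProperty.of_isPullback (P := @IsClosedImmersion) (hZ.map (Over.forget _)).flip ‹_›
  haveI : IsAffine Z.left := isAffine_of_isAffineHom z.left
  haveI : Mono z := (Over.forget _).mono_of_mono_map (inferInstanceAs (Mono z.left))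
  haveI := Tors.smooth_centPt n hn r hr z hZ
  have hfac : ∀ {X : Over (Spec (CommRingCat.of k))} (x : X ⟶ G),
      (∃ w : X ⟶ Z, w ≫ z = x) ↔ Commute (toUnit X ≫ r) x := by
    intro X x
    have e : x ≫ c = (toUnit X ≫ r) * x * (toUnit X ≫ r)⁻¹ * x⁻¹ := by
      simp only [c, AGF.conjBy, MonObj.comp_mul, GrpObj.comp_inv, ← Category.assoc, comp_toUnit, Category.comp_id]
    constructor
    · rintro ⟨w, rfl⟩
      have h1 : (w ≫ z) ≫ c = 1 := by
        rw [Category.assoc, hZ.w, ← Category.assoc, toUnit_unique (w ≫ toUnit Z) (toUnit X), ← Hom.one_def]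
      rw [e, mul_inv_eq_one, mul_inv_eq_iff_eq_mul] at h1
      exact h1
    · intro h
      refine ⟨hZ.lift x (toUnit _) ?_, hZ.lift_fst _ _ _⟩
      rw [e, h.eq, mul_inv_cancel_right, mul_inv_cancel, Hom.one_def]
  obtain ⟨str, hzm⟩ : ∃ str : GrpObj Z, letI := str; IsMonHom z := by
    obtain ⟨e₁, he₁⟩ := (hfac η[G]).mpr (by rw [MonObj.one_eq_one]; exact Commute.one_right _)
    have hf : ∀ {X : Over (Spec (CommRingCat.of k))} (w : X ⟶ Z), Commute (toUnit X ≫ r) (w ≫ z) :=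
      fun w => (hfac _).mp ⟨w, rfl⟩
    obtain ⟨m₁, hm₁⟩ := (hfac ((fst Z Z ≫ z) * (snd Z Z ≫ z))).mpr ((hf _).mul_right (hf _))
    obtain ⟨v₁, hv₁⟩ := (hfac z⁻¹).mpr (by
      have h := hf (𝟙 Z)
      rw [Category.id_comp] at h
      exact h.inv_right)
    exact exists_grpObj_of_mono z e₁ he₁ m₁ hm₁ v₁ hv₁
  letI := str
  haveI := hzm
  obtain ⟨Z₀, _, i₀, hi₀, hci₀, hfl, -, hgi, hcpt⟩ := GrpSchLib.exists_identityComponent (G := Z)
  haveI := hi₀
  haveI := hci₀
  haveI := hfl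
  haveI := hgi
  haveI := hcpt
  haveI : LocallyOfFinitePresentation i₀.left := by
    haveI : LocallyOfFiniteType (i₀.left ≫ Z.hom) := inferInstance
    haveI : LocallyOfFinitePresentation (i₀.left ≫ Z.hom) := AlgSpPts.locallyOfFinitePresentation_of_comp _ (𝟙 _)
    exact AlgSpPts.locallyOfFinitePresentation_of_comp i₀.left Z.hom
  haveI : IsOpenImmersion i₀.left := IsOpenImmersion.of_flat_of_mono _
  haveI : Smooth Z₀.hom := by rw [← Over.w i₀]; infer_instance
  haveI : IrreducibleSpace Z₀.left := GeometricallyIrreducible.irreducibleSpace_of_subsingleton Z₀.hom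
  refine ⟨Z, str, z, Z₀, inferInstance, i₀, hzm, inferInstance, inferInstance, hi₀, hci₀, inferInstance, inferInstance,
    inferInstance, fun x => ?_, fun y => ?_⟩
  · rw [Set.mem_range, hfac, toUnit_unique (toUnit PT) (𝟙 _), Category.id_comp]
  · obtain ⟨w, rfl⟩ := (AVTors.bcPts σ PK G).surjective y
    constructor
    · rintro ⟨v, hv⟩
      obtain ⟨v₀, rfl⟩ := (AVTors.bcPts σ PK Z).surjective v
      rw [← AVTors.bcPts_comp] at hv
      have h1 := (hfac w).mp ⟨v₀, (AVTors.bcPts σ PK G).injective hv⟩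
      exact h1.map (AVTors.bcPts σ PK G).toMonoidHom
    · intro h
      obtain ⟨v₀, hv₀⟩ := (hfac w).mpr (by
        have h1 := h.map (AVTors.bcPts σ PK G).symm.toMonoidHom
        simp only [extPt, MulEquiv.coe_toMonoidHom] at h1
        rw [MulEquiv.symm_apply_apply] at h1
        convert h1 using 1
        exact ((AVTors.bcPts σ PK G).symm_apply_apply _).symm)
      exact ⟨AVTors.bcPts σ PK Z v₀, by rw [← AVTors.bcPts_comp, hv₀]⟩

/-- Some maximal torus exists over an algebraically closed field. -/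
theorem exists_maxTorus_closed (G : Over (Spec (CommRingCat.of K))) [GrpObj G] [IsAffine G.left] [Smooth G.hom]
    [ConnectedSpace G.left] :
    ∃ (T : Over (Spec (CommRingCat.of K))) (_ : GrpObj T) (iT : T ⟶ G), AGF.IsMaxTorus iT := by
  obtain ⟨B₀, _, iB₀, -, -, -, hB₀, -, -⟩ := AGFLib.Borel.exists_borel G
  haveI := hB₀.1
  obtain ⟨T₀, _, i₀, hi₀, hm₀, hmono₀, hT₀, -, -⟩ := exists_borelTorus iB₀ hB₀
  haveI := hm₀
  obtain ⟨T, _, iT, -, hT, -⟩ := exists_maxTorus_containing (i₀ ≫ iB₀) hT₀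
  exact ⟨T, inferInstance, iT, hT⟩

/-- A rational torsion point not central in a group with a non-central maximal torus. -/
theorem exists_noncentral_torsion {G : Over (Spec (CommRingCat.of k))} [GrpObj G] [IsAffine G.left] [Smooth G.hom]
    [ConnectedSpace G.left] {T : Over (Spec (CommRingCat.of K))} [GrpObj T] (iT : T ⟶ Red.bc σ G) [IsMonHom iT]
    (hT : Red.IsTorus T) {g : PK ⟶ Red.bc σ G} {s : PK ⟶ T} (hgs : ¬ Commute g (s ≫ iT)) :
    ∃ (r h : PT ⟶ G) (n : ℕ), (n : k) ≠ 0 ∧ r ^ n = 1 ∧ ¬ Commute r h := by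
  obtain ⟨hA, hS, hC⟩ := bc_props φ (G := G)
  haveI := hA
  haveI := hS
  haveI := hC
  obtain ⟨l, hl, hlk⟩ := exists_prime_ne k
  have hlK : (l : K) ≠ 0 := fun h => hlk (φ.injective (by rw [map_natCast, h, map_zero]))
  haveI := GrpSchLib.AntiAffine.isSeparated_grp (Red.bc σ G)
  haveI : LocallyOfFiniteType (Red.bc σ G).hom := inferInstance
  haveI : LocallyOfFiniteType T.hom := by obtain ⟨-, hsT, -, -⟩ := torus_props hT; haveI := hsT; infer_instance
  -- some torsion point fails to commute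
  obtain ⟨t, j, htj, ht⟩ : ∃ (t : PK ⟶ T) (j : ℕ), t ^ l ^ j = 1 ∧ ¬ Commute g (t ≫ iT) := by
    by_contra hne
    push Not at hne
    let c : T ⟶ Red.bc σ G := (toUnit T ≫ g) * iT * (toUnit T ≫ g)⁻¹ * iT⁻¹
    have hcv : ∀ t : PK ⟶ T, t ≫ c = g * (t ≫ iT) * g⁻¹ * (t ≫ iT)⁻¹ := fun t => by
      simp only [c, MonObj.comp_mul, GrpObj.comp_inv, ← Category.assoc, comp_toUnit,
        toUnit_unique (toUnit PK) (𝟙 _), Category.id_comp]
    have hu := eq_univ_of_torsion hT hl hlK (c.left ⁻¹' {cp (1 : PK ⟶ Red.bc σ G)})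
      ((isClosed_cp _).preimage c.left.continuous) fun t j htj => by
      show (t.left ≫ c.left) _ ∈ ({cp (1 : PK ⟶ Red.bc σ G)} : Set _)
      rw [← Over.comp_left, hcv, (hne t j htj).eq]
      simp
      rfl
    refine hgs ?_
    have h1 : cp (s ≫ c) = cp (1 : PK ⟶ Red.bc σ G) := hu.ge (Set.mem_univ (cp s))
    have h2 := cp_injective h1
    rw [hcv, mul_inv_eq_one, mul_inv_eq_iff_eq_mul] at h2
    exact h2
  have hnk : ((l ^ j : ℕ) : k) ≠ 0 := by rw [Nat.cast_pow]; exact pow_ne_zero j hlk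
  -- some rational point fails to commute with it
  obtain ⟨h, hh⟩ : ∃ h : PT ⟶ G, ¬ Commute (extPt σ h) (t ≫ iT) := by
    by_contra hne
    push Not at hne
    let c : Red.bc σ G ⟶ Red.bc σ G := AGF.conjBy (t ≫ iT) (𝟙 _) * (𝟙 _)⁻¹
    have hcv : ∀ y : PK ⟶ Red.bc σ G, y ≫ c = (t ≫ iT) * y * (t ≫ iT)⁻¹ * y⁻¹ := fun y => by
      simp only [c, AGF.conjBy, MonObj.comp_mul, GrpObj.comp_inv, ← Category.assoc, comp_toUnit,
        toUnit_unique (toUnit PK) (𝟙 _), Category.id_comp, Category.comp_id]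
    have hu := eq_univ_of_pts σ (Set.univ : Set (PT ⟶ G)) (eq_zero_of_allPts) (c.left ⁻¹' {cp (1 : PK ⟶ Red.bc σ G)})
      ((isClosed_cp _).preimage c.left.continuous) fun x _ => by
      show ((extPt σ x).left ≫ c.left) _ ∈ ({cp (1 : PK ⟶ Red.bc σ G)} : Set _)
      rw [← Over.comp_left, hcv, (hne x).symm.eq]
      simp
      rfl
    refine ht ?_
    have h1 : cp (g ≫ c) = cp (1 : PK ⟶ Red.bc σ G) := hu.ge (Set.mem_univ (cp g))
    have h2 := cp_injective h1
    rw [hcv, mul_inv_eq_one, mul_inv_eq_iff_eq_mul] at h2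
    exact h2.symm
  -- torsion points commuting with it form a closed set missing this one
  let Kn := Limits.pullback (𝟙 G ^ (l ^ j)) η[G]
  let inc : Kn ⟶ G := Limits.pullback.fst (𝟙 G ^ (l ^ j)) η[G]
  have hKn : IsPullback inc (toUnit Kn) (𝟙 G ^ (l ^ j)) η[G] := by
    have h := IsPullback.of_hasPullback (𝟙 G ^ (l ^ j)) η[G]
    rw [toUnit_unique (toUnit Kn) (Limits.pullback.snd _ _)]
    exact h
  haveI := Tors.smooth_powKer (l ^ j) hnk inc hKn
  haveI := GrpSchLib.AntiAffine.isSeparated_grp G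
  let c : Kn ⟶ G := inc * (toUnit Kn ≫ h) * inc⁻¹ * (toUnit Kn ≫ h)⁻¹
  obtain ⟨w, hw⟩ := (AVTors.bcPts σ PK G).surjective (t ≫ iT)
  have hwn : w ≫ (𝟙 G ^ (l ^ j)) = toUnit _ ≫ η[G] := by
    rw [MonObj.comp_pow, Category.comp_id, ← Hom.one_def]
    exact (AVTors.bcPts σ PK G).injective (by rw [map_pow, hw, ← MonObj.pow_comp, htj, MonObj.one_comp, map_one])
  let q := hKn.lift w (toUnit _) hwn
  have hq : c.left (q.left (IsLocalRing.closedPoint K)) ≠ cp (1 : PT ⟶ G) := by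
    intro he
    have h1 := eq_extPt_of_mem σ ((Over.mapPullbackAdj σ).homEquiv _ G (q ≫ c)) 1 (by
      rw [Equiv.symm_apply_apply]; exact he)
    rw [show extPt σ (1 : PT ⟶ G) = 1 from map_one (extHom σ G)] at h1
    change AVTors.bcPts σ PK G (q ≫ c) = 1 at h1
    simp only [c, MonObj.comp_mul, GrpObj.comp_inv, ← Category.assoc, comp_toUnit] at h1
    rw [show q ≫ inc = w from hKn.lift_fst _ _ _, map_mul, map_mul, map_mul, map_inv, map_inv, hw,
      mul_inv_eq_one, mul_inv_eq_iff_eq_mul] at h1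
    exact hh h1.symm
  obtain ⟨r, hr⟩ := exists_pt_mem (Z := Kn)
    ⟨(c.left ⁻¹' {cp (1 : PT ⟶ G)})ᶜ, ((isClosed_cp _).preimage c.left.continuous).isOpen_compl⟩
    ⟨q.left (IsLocalRing.closedPoint K), hq⟩
  refine ⟨r ≫ inc, h, l ^ j, hnk, ?_, fun hc => hr ?_⟩
  · have h1 := congrArg (r ≫ ·) hKn.w
    simp only [← Category.assoc] at h1
    rw [MonObj.comp_pow, Category.comp_id, toUnit_unique (r ≫ toUnit Kn) (toUnit _), ← Hom.one_def] at h1
    exact h1
  · show (r.left ≫ c.left) _ ∈ ({cp (1 : PT ⟶ G)} : Set _)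
    rw [← Over.comp_left]
    simp only [c, MonObj.comp_mul, GrpObj.comp_inv, ← Category.assoc, comp_toUnit,
      toUnit_unique (toUnit PT) (𝟙 _), Category.id_comp]
    rw [hc.eq]
    simp
    rfl

/-- Every smooth connected affine group over a separably closed field has a geometrically maximal torus. -/
theorem exists_torus_sepClosed (G : Over (Spec (CommRingCat.of k))) [GrpObj G] [IsAffine G.left] [Smooth G.hom]
    [ConnectedSpace G.left] :
    ∃ (T : Over (Spec (CommRingCat.of k))) (_ : GrpObj T) (i : T ⟶ G), IsMonHom i ∧ IsClosedImmersion i.left ∧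
      Red.IsTorus T ∧ AGF.IsMaxTorus ((Over.pullback σ).map i) := by
  haveI : IsNoetherian G.left := by
    haveI : IsLocallyNoetherian G.left := LocallyOfFiniteType.isLocallyNoetherian G.hom
    exact {}
  suffices key : ∀ (C : TopologicalSpace.Closeds G.left) (H : Over (Spec (CommRingCat.of k))) [GrpObj H]
      [IsAffine H.left] [Smooth H.hom] [ConnectedSpace H.left] (j : H ⟶ G) [IsClosedImmersion j.left],
      Set.range j.left = C →
      ∃ (T : Over (Spec (CommRingCat.of k))) (_ : GrpObj T) (i : T ⟶ H), IsMonHom i ∧ IsClosedImmersion i.left ∧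
        Red.IsTorus T ∧ AGF.IsMaxTorus ((Over.pullback σ).map i) by
    haveI : IsClosedImmersion (𝟙 G : G ⟶ G).left := inferInstanceAs (IsClosedImmersion (𝟙 G.left))
    exact key ⟨Set.range (𝟙 G : G ⟶ G).left, (𝟙 G : G ⟶ G).left.isClosedEmbedding.isClosed_range⟩ G (𝟙 G) rfl
  intro C
  induction C using WellFoundedLT.induction with
  | ind C IH =>
  intro H _ _ _ _ j _ hjC
  obtain ⟨hA, hS, hC⟩ := bc_props φ (G := H)
  haveI := hA
  haveI := hS
  haveI := hC
  obtain ⟨T, _, iT, hT⟩ := exists_maxTorus_closed (Red.bc σ H)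
  haveI := hT.1
  haveI := hT.2.1
  by_cases hc : ∀ g : PK ⟶ Red.bc σ H, ∀ s ∈ rangePts iT, Commute g s
  · exact exists_torus_of_central φ iT hT hc
  push Not at hc
  obtain ⟨g, _, ⟨s, rfl⟩, hgs⟩ := hc
  obtain ⟨r, h, n, hn, hrn, hrh⟩ := exists_noncentral_torsion φ iT hT.2.2.1 hgs
  obtain ⟨Z, _, z, Z₀, _, i₀, hzm, hcz, hsZ, hi₀, hci₀, hoi₀, hsZ₀, hconZ₀, hptk, hptK⟩ := exists_centPt φ r hn hrn
  haveI := hzm
  haveI := hcz
  haveI := hi₀
  haveI := hci₀
  haveI := hoi₀
  haveI := hsZ₀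
  haveI := hconZ₀
  haveI := hsZ
  haveI : IsAffine Z.left := isAffine_of_isAffineHom z.left
  haveI : IsAffine Z₀.left := isAffine_of_isAffineHom i₀.left
  haveI : IsClosedImmersion (i₀ ≫ z).left := inferInstanceAs (IsClosedImmersion (i₀.left ≫ z.left))
  haveI : IsClosedImmersion ((i₀ ≫ z) ≫ j).left := inferInstanceAs (IsClosedImmersion ((i₀ ≫ z).left ≫ j.left))
  let C' : TopologicalSpace.Closeds G.left :=
    ⟨Set.range ((i₀ ≫ z) ≫ j).left, ((i₀ ≫ z) ≫ j).left.isClosedEmbedding.isClosed_range⟩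
  have hlt : C' < C := by
    have hle : (C' : Set G.left) ⊆ C := by
      rintro _ ⟨x, rfl⟩
      rw [← hjC]
      exact ⟨(i₀ ≫ z).left x, (Scheme.Hom.comp_apply _ _ _).symm⟩
    refine lt_of_le_of_ne hle fun he => hrh ?_
    have hmem : cp h ∈ Set.range (i₀ ≫ z).left := by
      obtain ⟨x, hx⟩ := (congrArg (fun D : TopologicalSpace.Closeds G.left => (D : Set G.left)) he).ge
        (hjC ▸ ⟨cp h, rfl⟩ : j.left (cp h) ∈ (C : Set G.left))
      exact ⟨x, j.left.isClosedEmbedding.injective hx⟩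
    obtain ⟨x, hx⟩ := exists_lift_of_mem (i₀ ≫ z) h hmem
    exact (hptk h).mp ⟨x ≫ i₀, by rw [← hx]; exact Category.assoc _ _ _⟩
  obtain ⟨T₀, _, t, htm, htc, hT₀, htmax⟩ := IH C' hlt Z₀ ((i₀ ≫ z) ≫ j) rfl
  haveI := htm
  haveI := htc
  haveI : IsClosedImmersion (t ≫ i₀ ≫ z).left := inferInstanceAs (IsClosedImmersion (t.left ≫ (i₀ ≫ z).left))
  refine ⟨T₀, inferInstance, t ≫ i₀ ≫ z, inferInstance, inferInstance, hT₀, ?_⟩
  -- the centraliser contains a maximal torus through the point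
  obtain ⟨hA₀, hS₀, hC₀⟩ := bc_props φ (G := Z₀)
  haveI := hA₀
  haveI := hS₀
  haveI := hC₀
  let F := Over.pullback σ
  haveI : F.IsRightAdjoint := (Over.mapPullbackAdj σ).isRightAdjoint
  haveI : IsClosedImmersion (F.map z).left := MorphismProperty.baseChange_map (P := @IsClosedImmersion) σ z inferInstance
  haveI : IsClosedImmersion (F.map i₀).left :=
    MorphismProperty.baseChange_map (P := @IsClosedImmersion) σ i₀ inferInstance
  haveI : IsOpenImmersion (F.map i₀).left :=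
    MorphismProperty.baseChange_map (P := @IsOpenImmersion) σ i₀ inferInstance
  haveI : IsMonHom (F.map (i₀ ≫ z)) := inferInstance
  haveI : IsClosedImmersion (F.map (i₀ ≫ z)).left :=
    MorphismProperty.baseChange_map (P := @IsClosedImmersion) σ (i₀ ≫ z) inferInstance
  haveI : Mono (F.map (i₀ ≫ z)) := mono_of_closedImmersion _
  have hnK : (n : K) ≠ 0 := fun h => hn (φ.injective (by rw [map_natCast, h, map_zero]))
  have hrK : extPt σ r ^ n = 1 := by
    rw [show extPt σ r = extHom σ H r from rfl, ← map_pow, hrn, map_one]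
  obtain ⟨x, t₁, ht₁⟩ := exists_conj_maxTorus iT hT (extPt σ r) (isSsPt_of_pow _ hnK hrK)
  change t₁ ≫ iT = x * extPt σ r * x⁻¹ at ht₁
  let iT' : T ⟶ Red.bc σ H := AGF.conjBy x⁻¹ iT
  haveI : IsMonHom iT' := by simp only [iT', AGFLib.Borel.conjBy_eq]; infer_instance
  haveI : Mono iT' := by simp only [iT', AGFLib.Borel.conjBy_eq]; exact mono_comp iT _
  have hT' : AGF.IsMaxTorus iT' := isMaxTorus_of_conj hT.2.2.1 hT x (Iso.refl T) (by
    simp only [iT', AGFLib.Borel.conjBy_eq, Category.assoc, AGFLib.Borel.conjM_comp, mul_inv_cancel,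
      AGFLib.Borel.conjM_one, Category.comp_id, Iso.refl_hom, Category.id_comp])
  obtain ⟨haT, hsT, hcT, -⟩ := torus_props hT.2.2.1
  haveI := haT
  haveI := hsT
  haveI := hcT
  have hrT : extPt σ r ∈ rangePts iT' := ⟨t₁, by
    show t₁ ≫ iT' = _
    rw [show iT' = iT ≫ AGFLib.Borel.conjM x⁻¹ from AGFLib.Borel.conjBy_eq _ _, ← Category.assoc, comp_conjM_pt, ht₁]
    group⟩
  have hZle : rangePts iT' ≤ rangePts (F.map z) := by
    rintro y ⟨u, rfl⟩
    obtain ⟨u₁, hu₁⟩ := hrT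
    refine (hptK (u ≫ iT')).mpr ?_
    rw [← show u₁ ≫ iT' = extPt σ r from hu₁]
    exact (torus_commute hT.2.2.1 u₁ u).map (ptsHom iT')
  haveI : LocallyOfFiniteType (F.obj Z).hom := by
    haveI : Smooth (F.obj Z).hom := inferInstanceAs (Smooth (Limits.pullback.snd Z.hom σ))
    infer_instance
  haveI : IsSeparated (F.obj Z).hom := GrpSchLib.AntiAffine.isSeparated_grp (Red.bc σ Z)
  obtain ⟨τ, hτ, hτe⟩ := exists_fac_sub (F.map z) iT' hZle
  haveI := hτ
  have hrng : rangePts iT' ≤ rangePts (F.map (i₀ ≫ z)) := by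
    rintro y ⟨u, rfl⟩
    have hsub : Set.range τ.left ⊆ Set.range (F.map i₀).left := by
      rw [← Set.image_univ]
      refine (isPreconnected_univ.image _ τ.left.continuous.continuousOn).subset_isClopen
        ⟨(F.map i₀).left.isClosedEmbedding.isClosed_range, (F.map i₀).left.isOpenEmbedding.isOpen_range⟩
        ⟨cp (1 : PK ⟶ Red.bc σ Z), ?_, ?_⟩
      · exact ⟨cp (1 : PK ⟶ T), trivial, by
          show (Over.Hom.left (1 : PK ⟶ T) ≫ τ.left) _ = _
          rw [← Over.comp_left, MonObj.one_comp]⟩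
      · refine ⟨cp (1 : PK ⟶ Red.bc σ Z₀), ?_⟩
        show (Over.Hom.left (1 : PK ⟶ Red.bc σ Z₀) ≫ (F.map i₀).left) _ = _
        rw [← Over.comp_left, MonObj.one_comp]
    obtain ⟨v, hv⟩ := exists_of_mem_range (F.map i₀) (u ≫ τ) (hsub ⟨cp u, rfl⟩)
    refine ⟨v, ?_⟩
    show v ≫ F.map (i₀ ≫ z) = u ≫ iT'
    rw [Functor.map_comp, ← Category.assoc, hv, Category.assoc, hτe]
  obtain ⟨τ₀, hτ₀, hτ₀e⟩ := exists_fac_sub (F.map (i₀ ≫ z)) iT' hrng
  haveI := hτ₀
  haveI : Mono (τ₀ ≫ F.map (i₀ ≫ z)) := hτ₀e ▸ hT'.2.1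
  haveI : Mono τ₀ := mono_of_mono τ₀ (F.map (i₀ ≫ z))
  have hτmax : AGF.IsMaxTorus τ₀ := ⟨hτ₀, inferInstance, hT.2.2.1, fun W _ w _ _ f hW hf => by
    haveI : Mono (w ≫ F.map (i₀ ≫ z)) := mono_comp w _
    exact hT'.2.2.2 W (w ≫ F.map (i₀ ≫ z)) f hW (by rw [← Category.assoc, hf, hτ₀e])⟩
  obtain ⟨y, e, he⟩ := Groth.Agent.S3901.result K (Red.bc σ Z₀) (Red.bc σ T₀) T (F.map t) τ₀ htmax hτmax
  haveI := htmax.1
  haveI := htmax.2.1
  haveI : IsMonHom (F.map (t ≫ i₀ ≫ z)) := inferInstance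
  haveI : Mono (F.map (t ≫ i₀ ≫ z)) := by rw [Functor.map_comp]; exact mono_comp _ _
  refine isMaxTorus_of_conj htmax.2.2.1 hT' (y ≫ F.map (i₀ ≫ z)) e ?_
  rw [← hτ₀e, ← Category.assoc, he, Functor.map_comp F t (i₀ ≫ z)]
  simp only [AGF.conjBy, MonObj.mul_comp, GrpObj.inv_comp, Category.assoc]

end Groth.Agent.SolvGrp
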