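import Groth.Agent.SolvGrp.GrothTorus
import Groth.Agent.SolvGrp.Descent

/-! A torus maximal over a field stays maximal over algebraically closed extensions. -/

set_option backward.isDefEq.respectTransparency false
set_option backward.isDefEq.respectTransparency.types false
set_option linter.style.haveILetI false

universe u

open CategoryTheory MonoidalCategory CartesianMonoidalCategory MonObj GrpObj AlgebraicGeometry

noncomputable section

namespace Groth.Agent.SolvGrp.Groth

open GrpSchLib GrpSchLib.Kunneth GrpSchLib.LineGroups WeilCmp.Unip AGFLib AGFLib.Gen AGFLib.BorelFixed AGFLib.BorelExist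

variable {k : Type u} [Field k]

/-- A morphism which becomes an isomorphism after extending the field is one. -/
theorem isIso_of_fieldExt {X Y : Over (Spec (CommRingCat.of k))} (f : X ⟶ Y) {Ω : Type u} [Field Ω] (φ : k →+* Ω)
    (h : IsIso ((Over.pullback (Spec.map (CommRingCat.ofHom φ))).map f)) : IsIso f := by
  haveI : Flat (Spec.map (CommRingCat.ofHom φ)) := GrpSchLib.flat_spec_map_field φ
  haveI : Surjective (Spec.map (CommRingCat.ofHom φ)) := ⟨fun z =>
    ⟨IsLocalRing.closedPoint Ω, @Subsingleton.elim (PrimeSpectrum k) inferInstance _ _⟩⟩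
  have hsnd : ((Over.pullback (Spec.map (CommRingCat.ofHom φ))).map f).left ≫ Limits.pullback.snd Y.hom (Spec.map (CommRingCat.ofHom φ)) =
      Limits.pullback.snd X.hom (Spec.map (CommRingCat.ofHom φ)) := Limits.pullback.lift_snd _ _ _
  have hfst : Limits.pullback.fst X.hom (Spec.map (CommRingCat.ofHom φ)) ≫ f.left =
      ((Over.pullback (Spec.map (CommRingCat.ofHom φ))).map f).left ≫ Limits.pullback.fst Y.hom (Spec.map (CommRingCat.ofHom φ)) :=
    (Limits.pullback.lift_fst _ _ _).symm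
  have hpb : IsPullback ((Over.pullback (Spec.map (CommRingCat.ofHom φ))).map f).left (Limits.pullback.fst X.hom (Spec.map (CommRingCat.ofHom φ)))
      (Limits.pullback.fst Y.hom (Spec.map (CommRingCat.ofHom φ))) f.left :=
    (IsPullback.of_bot (v₁₂ := f.left) (v₁₁ := ((Over.pullback (Spec.map (CommRingCat.ofHom φ))).map f).left)
      (h₁₁ := Limits.pullback.fst X.hom (Spec.map (CommRingCat.ofHom φ)))
      (show IsPullback (Limits.pullback.fst X.hom (Spec.map (CommRingCat.ofHom φ)))
          (((Over.pullback (Spec.map (CommRingCat.ofHom φ))).map f).left ≫ Limits.pullback.snd Y.hom (Spec.map (CommRingCat.ofHom φ)))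
          (f.left ≫ Y.hom) (Spec.map (CommRingCat.ofHom φ)) by
        rw [hsnd]
        convert IsPullback.of_hasPullback X.hom (Spec.map (CommRingCat.ofHom φ)) using 1
        exact Over.w f)
      hfst (IsPullback.of_hasPullback Y.hom (Spec.map (CommRingCat.ofHom φ)))).flip
  have h1 : MorphismProperty.isomorphisms Scheme ((Over.pullback (Spec.map (CommRingCat.ofHom φ))).map f).left := by
    haveI := h
    exact inferInstanceAs (IsIso ((Over.forget _).map ((Over.pullback (Spec.map (CommRingCat.ofHom φ))).map f)))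
  haveI : IsIso f.left := MorphismProperty.of_isPullback_of_descendsAlong
    (P := MorphismProperty.isomorphisms Scheme) (Q := @Surjective ⊓ @Flat ⊓ @QuasiCompact) hpb
    ⟨⟨MorphismProperty.pullback_fst (P := @Surjective) _ _ inferInstance,
      MorphismProperty.pullback_fst (P := @Flat) _ _ inferInstance⟩,
      MorphismProperty.pullback_fst (P := @QuasiCompact) _ _ inferInstance⟩ h1
  haveI : IsIso ((Over.forget _).map f) := ‹IsIso f.left›
  exact isIso_of_reflects_iso f (Over.forget _)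

/-- Factoring through a monomorphism can be tested after extending the field. -/
theorem exists_fac_of_fieldExt {X Y G : Over (Spec (CommRingCat.of k))} (i : X ⟶ G) (j : Y ⟶ G) [Mono j]
    {Ω : Type u} [Field Ω] (φ : k →+* Ω)
    (h : ∃ l, l ≫ (Over.pullback (Spec.map (CommRingCat.ofHom φ))).map j = (Over.pullback (Spec.map (CommRingCat.ofHom φ))).map i) :
    ∃ f : X ⟶ Y, f ≫ j = i := by
  haveI : (Over.pullback (Spec.map (CommRingCat.ofHom φ))).IsRightAdjoint := (Over.mapPullbackAdj (Spec.map (CommRingCat.ofHom φ))).isRightAdjoint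
  let F := Over.pullback (Spec.map (CommRingCat.ofHom φ))
  obtain ⟨l, hl⟩ := h
  have hP := IsPullback.of_hasPullback i j
  have hPF := hP.map F
  haveI : Mono (Limits.pullback.fst i j) := inferInstance
  haveI : IsIso (F.map (Limits.pullback.fst i j)) := by
    haveI : IsSplitEpi (F.map (Limits.pullback.fst i j)) := IsSplitEpi.mk'
      ⟨hPF.lift (𝟙 _) l (by rw [Category.id_comp]; exact hl.symm), hPF.lift_fst _ _ _⟩
    exact isIso_of_mono_of_isSplitEpi _
  haveI := isIso_of_fieldExt (Limits.pullback.fst i j) φ inferInstance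
  exact ⟨inv (Limits.pullback.fst i j) ≫ Limits.pullback.snd i j, by
    rw [Category.assoc, ← hP.w, IsIso.inv_hom_id_assoc]⟩

/-- The identity component of a smooth affine group. -/
theorem exists_identityComponent_smooth (G : Over (Spec (CommRingCat.of k))) [GrpObj G] [IsAffine G.left]
    [Smooth G.hom] :
    ∃ (G₀ : Over (Spec (CommRingCat.of k))) (_ : GrpObj G₀) (i₀ : G₀ ⟶ G),
      IsMonHom i₀ ∧ IsClosedImmersion i₀.left ∧ IsOpenImmersion i₀.left ∧ IsAffine G₀.left ∧ Smooth G₀.hom ∧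
        ConnectedSpace G₀.left := by
  haveI : LocallyOfFiniteType G.hom := inferInstance
  obtain ⟨G₀, _, i₀, hi₀, hci₀, hfl, -, hgi, hcpt⟩ := GrpSchLib.exists_identityComponent (G := G)
  haveI := hi₀
  haveI := hci₀
  haveI := hfl
  haveI := hgi
  haveI := hcpt
  haveI : LocallyOfFinitePresentation i₀.left := by
    haveI : LocallyOfFiniteType (i₀.left ≫ G.hom) := inferInstance
    haveI : LocallyOfFinitePresentation (i₀.left ≫ G.hom) := AlgSpPts.locallyOfFinitePresentation_of_comp _ (𝟙 _)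
    exact AlgSpPts.locallyOfFinitePresentation_of_comp i₀.left G.hom
  haveI : IsOpenImmersion i₀.left := IsOpenImmersion.of_flat_of_mono _
  haveI : IrreducibleSpace G₀.left := GeometricallyIrreducible.irreducibleSpace_of_subsingleton G₀.hom
  exact ⟨G₀, inferInstance, i₀, hi₀, hci₀, inferInstance, isAffine_of_isAffineHom i₀.left,
    by rw [← Over.w i₀]; infer_instance, inferInstance⟩

variable {G T : Over (Spec (CommRingCat.of k))} [GrpObj G] [GrpObj T] [IsAffine G.left] [Smooth G.hom]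

/-- A maximal torus stays maximal over an algebraically closed field over which the connected groups have tori. -/
theorem isMaxTorus_bc_core {Ω : Type u} [Field Ω] [IsAlgClosed Ω] (φ : k →+* Ω)
    (hex : ∀ (C : Over (Spec (CommRingCat.of k))) [GrpObj C] [IsAffine C.left] [Smooth C.hom] [ConnectedSpace C.left],
      HasTorus φ C)
    (iT : T ⟶ G) (hmax : AGF.IsMaxTorus iT) :
    AGF.IsMaxTorus ((Over.pullback (Spec.map (CommRingCat.ofHom φ))).map iT) := by
  haveI := hmax.1
  haveI := hmax.2.1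
  obtain ⟨hTc, hTs, hTcon⟩ := torus_sub_field iT hmax.2.2.1
  haveI := hTs
  haveI := hTcon
  obtain ⟨G₀, _, i₀, hi₀, hci₀, hoi₀, haff₀, hsm₀, hcon₀⟩ := exists_identityComponent_smooth G
  haveI := hi₀
  haveI := hci₀
  haveI := hoi₀
  haveI := haff₀
  haveI := hsm₀
  haveI := hcon₀
  haveI : Mono i₀ := (Over.forget _).mono_of_mono_map (inferInstanceAs (Mono i₀.left))
  obtain ⟨f₀, hf₀⟩ := UnipRadSep.exists_fac_openSubgroup i₀ iT η[T] (IsMonHom.one_hom iT)
  haveI : IsMonHom f₀ := SekSuwaLib.CharLift.isMonHom_of_mul f₀ fun {Y} a b => by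
    rw [← cancel_mono i₀, Category.assoc, hf₀, MonObj.mul_comp, MonObj.mul_comp, Category.assoc, Category.assoc, hf₀]
  haveI : Mono f₀ := mono_of_mono_fac hf₀
  obtain ⟨C, _, c, hc, hcl, hcs, hccon, hcen, -⟩ := exists_centralizer φ f₀ hmax.2.2.1
  haveI := hc
  haveI := hcl
  haveI := hcs
  haveI := hccon
  haveI : IsAffine C.left := isAffine_of_isAffineHom c.left
  haveI : Mono c := hcen.2.1
  obtain ⟨z, hz⟩ := (hcen.2.2 T f₀).mpr fun X' x h => by
    rw [← MonObj.mul_comp, ← MonObj.mul_comp,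
      MultTypeComm.points_comm (TorusQI.isMultTypeFT_of_isTorus hmax.2.2.1) x h]
  haveI : IsMonHom z := SekSuwaLib.CharLift.isMonHom_of_mul z fun {Y} a b => by
    rw [← cancel_mono c, Category.assoc, hz, MonObj.mul_comp, MonObj.mul_comp, Category.assoc, Category.assoc, hz]
  haveI : Mono z := mono_of_mono_fac hz
  obtain ⟨T₁, _, t₁, ht₁m, ht₁mono, ht₁T, ht₁K⟩ := hex C
  haveI := ht₁m
  haveI := ht₁mono
  let F := Over.pullback (Spec.map (CommRingCat.ofHom φ))
  haveI : F.IsRightAdjoint := (Over.mapPullbackAdj (Spec.map (CommRingCat.ofHom φ))).isRightAdjoint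
  obtain ⟨hA, hS, hC⟩ : IsAffine (F.obj C).left ∧ Smooth (F.obj C).hom ∧ ConnectedSpace (F.obj C).left :=
    Frob.bcG_props φ (G := C)
  haveI := hA
  haveI := hS
  haveI := hC
  -- the torus is central in the centraliser, so lies in every maximal torus
  have hcen' : ∀ (X : Over (Spec (CommRingCat.of Ω)))
      (g : X ⟶ F.obj C) (h : X ⟶ F.obj T), g * (h ≫ F.map z) = (h ≫ F.map z) * g := by
    intro X g h
    rw [← cancel_mono (F.map c), MonObj.mul_comp, MonObj.mul_comp, Category.assoc, ← Functor.map_comp, hz]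
    have h1 := ((isCentralizerOf_bc (Spec.map (CommRingCat.ofHom φ)) f₀ c hcen).2.2 X (g ≫ F.map c)).mp ⟨g, rfl⟩ X (𝟙 X) h
    simpa using h1
  obtain ⟨W, _, iW, hWm, hW, hle⟩ := exists_maxTorus_containing (F.map z) (isTorus_bc _ hmax.2.2.1)
  haveI := hWm
  haveI := hW.2.1
  obtain ⟨hWcl, -, -, -, hWl, -, -⟩ := torus_sub hW.2.2.1 iW
  haveI := hWcl
  haveI := hWl
  haveI : Smooth (F.obj T).hom := (torus_sub (isTorus_bc _ hmax.2.2.1) (F.map z)).2.1
  obtain ⟨lw, -, hlw⟩ := exists_fac_sub iW (F.map z) hle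
  obtain ⟨x, e, he⟩ := Groth.Agent.S3901.result _ (F.obj C) W (F.obj T₁) iW (F.map t₁) hW ht₁K
  obtain ⟨f, hf⟩ := exists_fac_of_fieldExt z t₁ φ ⟨lw ≫ e.hom, by
    rw [Category.assoc, he]
    simp only [AGF.conjBy, MonObj.comp_mul, GrpObj.comp_inv, hlw, ← Category.assoc, comp_toUnit]
    rw [show (toUnit (F.obj T) ≫ x) * F.map z = F.map z * (toUnit (F.obj T) ≫ x) by
      simpa using hcen' (F.obj T) (toUnit _ ≫ x) (𝟙 _), mul_inv_cancel_right]⟩
  haveI : IsMonHom f := SekSuwaLib.CharLift.isMonHom_of_mul f fun {Y} a b => by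
    rw [← cancel_mono t₁, Category.assoc, hf, MonObj.mul_comp, MonObj.mul_comp, Category.assoc, Category.assoc, hf]
  haveI : Mono (t₁ ≫ c ≫ i₀) := mono_comp t₁ (c ≫ i₀)
  haveI := hmax.2.2.2 T₁ (t₁ ≫ c ≫ i₀) f ht₁T (by rw [← Category.assoc, hf, ← Category.assoc, hz, hf₀])
  refine ⟨inferInstance, inferInstance, isTorus_bc _ hmax.2.2.1, fun W' _ j _ _ g hW' hg => ?_⟩
  haveI : IsAffine (F.obj G).left := inferInstanceAs (IsAffine (Limits.pullback G.hom (Spec.map (CommRingCat.ofHom φ))))
  haveI : Smooth (F.obj G).hom := inferInstanceAs (Smooth (Limits.pullback.snd G.hom (Spec.map (CommRingCat.ofHom φ))))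
  haveI : IsOpenImmersion (F.map i₀).left :=
    MorphismProperty.baseChange_map (P := @IsOpenImmersion) (Spec.map (CommRingCat.ofHom φ)) i₀ inferInstance
  haveI : IsMonHom (F.map i₀) := inferInstance
  haveI : ConnectedSpace W'.left := (torus_sub hW' j).2.2.1
  obtain ⟨j₀, hj₀⟩ := UnipRadSep.exists_fac_openSubgroup (F.map i₀) j η[W'] (IsMonHom.one_hom j)
  have hgj : g ≫ j₀ = F.map f₀ := by
    rw [← cancel_mono (F.map i₀), Category.assoc, hj₀, ← Functor.map_comp, hf₀, hg]
  obtain ⟨j₁, hj₁⟩ := ((isCentralizerOf_bc (Spec.map (CommRingCat.ofHom φ)) f₀ c hcen).2.2 W' j₀).mpr fun X' x h => by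
    rw [← cancel_mono (F.map i₀), MonObj.mul_comp, MonObj.mul_comp, Category.assoc, Category.assoc, hj₀, ← hgj,
      Category.assoc, hj₀, ← Category.assoc h g, ← MonObj.mul_comp, ← MonObj.mul_comp,
      MultTypeComm.points_comm (TorusQI.isMultTypeFT_of_isTorus hW') x (h ≫ g)]
  haveI : IsMonHom j₁ := SekSuwaLib.CharLift.isMonHom_of_mul j₁ fun {Y} a b => by
    rw [← cancel_mono (F.map c), ← cancel_mono (F.map i₀)]
    simp only [Category.assoc, MonObj.mul_comp]
    rw [reassoc_of% hj₁, hj₀, MonObj.mul_comp]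
  haveI : Mono j₁ := by
    haveI : Mono (j₁ ≫ F.map c ≫ F.map i₀) := by rw [reassoc_of% hj₁, hj₀]; infer_instance
    exact mono_of_mono j₁ (F.map c ≫ F.map i₀)
  have h2 : (inv (F.map f) ≫ g) ≫ j₁ = F.map t₁ := by
    rw [Category.assoc, IsIso.inv_comp_eq, ← Functor.map_comp, hf, ← cancel_mono (F.map c), Category.assoc, hj₁, hgj,
      ← Functor.map_comp, hz]
  haveI := ht₁K.2.2.2 W' j₁ (inv (F.map f) ≫ g) hW' h2
  exact IsIso.of_isIso_comp_left (inv (F.map f)) g

/-- A maximal torus stays maximal over any algebraically closed extension of an infinite field. -/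
theorem isMaxTorus_bc_infinite [Infinite k] (Ω : Type u) [Field Ω] [Algebra k Ω] [IsAlgClosed Ω] (iT : T ⟶ G)
    (hmax : AGF.IsMaxTorus iT) :
    AGF.IsMaxTorus ((Over.pullback (Spec.map (CommRingCat.ofHom (algebraMap k Ω)))).map iT) :=
  isMaxTorus_bc_core (algebraMap k Ω) (fun C _ _ _ _ => hasTorus_of_infinite Ω C) iT hmax

/-- A maximal torus is maximal on the geometric fibre. -/
theorem isMaximalTorus_of_isMaxTorus (iT : T ⟶ G) (hmax : AGF.IsMaxTorus iT) : Red.IsMaximalTorus iT := by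
  refine ⟨hmax.1, hmax.2.1, hmax.2.2.1, fun s => ?_⟩
  haveI := hmax.1
  haveI := hmax.2.1
  obtain ⟨φ₀, hφ₀⟩ := Spec.map_surjective (Red.geomPt s)
  have e : Spec.map (CommRingCat.ofHom φ₀.hom) = Red.geomPt s := by rw [CommRingCat.ofHom_hom, hφ₀]
  have hex : ∀ (C : Over (Spec (CommRingCat.of k))) [GrpObj C] [IsAffine C.left] [Smooth C.hom]
      [ConnectedSpace C.left], HasTorus φ₀.hom C := by
    intro C _ _ _ _
    obtain ⟨T₁, _, t₁, -, ht₁⟩ := exists_isMaximalTorus C
    haveI := ht₁.1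
    haveI := ht₁.2.1
    exact ⟨T₁, inferInstance, t₁, inferInstance, inferInstance, ht₁.2.2.1,
      isMaxTorus_congr t₁ e.symm (isMaxTorus_geomFibre ht₁ s)⟩
  exact (isMaxTorus_congr iT e (isMaxTorus_bc_core φ₀.hom hex iT hmax)).2.2.2

/-- Maximality over the field and over its closure agree. -/
theorem isMaxTorus_iff (iT : T ⟶ G) : AGF.IsMaxTorus iT ↔ Red.IsMaximalTorus iT := by
  refine ⟨isMaximalTorus_of_isMaxTorus iT, fun h => ⟨h.1, h.2.1, h.2.2.1, fun W _ j _ _ f hW hf => ?_⟩⟩
  let s := AGFLib.GeomBC.pt k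
  haveI : (Over.pullback (Red.geomPt s)).IsRightAdjoint := (Over.mapPullbackAdj (Red.geomPt s)).isRightAdjoint
  obtain ⟨φ₀, hφ₀⟩ := Spec.map_surjective (Red.geomPt s)
  have e : Spec.map (CommRingCat.ofHom φ₀.hom) = Red.geomPt s := by rw [CommRingCat.ofHom_hom, hφ₀]
  refine isIso_of_fieldExt f φ₀.hom ?_
  rw [e]
  exact (h.2.2.2 s _ ((Over.pullback (Red.geomPt s)).map j)
    ((Over.pullback (Red.geomPt s)).map f) (isTorus_bc _ hW) (by rw [← Functor.map_comp, hf]))

end Groth.Agent.SolvGrp.Groth
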