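import Groth.Agent.SolvGrp.MaxTorus

/-! The unipotent part of a connected solvable group; groups without unipotent subgroups are tori. -/

set_option backward.isDefEq.respectTransparency false
set_option backward.isDefEq.respectTransparency.types false
set_option linter.style.haveILetI false

universe u

open CategoryTheory MonoidalCategory CartesianMonoidalCategory MonObj AlgebraicGeometry
open scoped commutatorElement

namespace Groth.Agent.SolvGrp

open GrpSchLib GrpSchLib.Kunneth GrpSchLib.LineGroups WeilCmp.Unip AGFLib AGFLib.Gen AGFLib.BorelFixed AGFLib.BorelExist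

variable {k : Type u} [Field k] [IsAlgClosed k]

local notation "PT" => 𝟙_ (Over (Spec (CommRingCat.of k)))

variable {G : Over (Spec (CommRingCat.of k))} [GrpObj G] [IsAffine G.left] [Smooth G.hom] [ConnectedSpace G.left]

/-- In a connected solvable group the product of unipotent elements is unipotent. -/
theorem isUnipPt_mul_of_solvable [Group.IsSolvable (PT ⟶ G)] {a b : PT ⟶ G} (ha : IsUnipPt a) (hb : IsUnipPt b) :
    IsUnipPt (a * b) := by
  haveI : IsReduced G.left := isReduced_of_smooth_field G.hom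
  obtain ⟨s, v, e, hc, hs, hv, -⟩ := exists_jordan (a * b)
  obtain ⟨D, _, i, hi, hci, -, -, hr⟩ := exists_derivedSub (G := G) 1
  haveI := hi
  haveI := hci
  obtain ⟨-, hlD, hqD, -, -⟩ := sub_props i
  haveI := hlD
  haveI := hqD
  obtain ⟨Q, _, q, hq, haQ, hsQ, hrQ, -, hlift, hker⟩ := exists_quot (rangePts i) (ptsClosed_range i) (by
    rw [hr, derivedSeries_one, commutator_def]; infer_instance)
  haveI := hq
  haveI := haQ
  haveI := hsQ
  haveI := hrQ
  have hcomm : ∀ x y : PT ⟶ Q, Commute x y := fun x y => by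
    obtain ⟨x', rfl⟩ := hlift x
    obtain ⟨y', rfl⟩ := hlift y
    refine commutatorElement_eq_one_iff_commute.mp ?_
    rw [show x' ≫ q = ptsHom q x' from rfl, show y' ≫ q = ptsHom q y' from rfl, ← map_commutatorElement]
    refine (hker _).mpr ?_
    rw [hr, derivedSeries_one, commutator_def]
    exact Subgroup.commutator_mem_commutator (Subgroup.mem_top _) (Subgroup.mem_top _)
  have hab : IsUnipPt ((a * b) ≫ q) := by
    rw [MonObj.mul_comp]
    exact ((map_isSsPt_isUnipPt q a).2 ha).mul ((map_isSsPt_isUnipPt q b).2 hb) (hcomm _ _)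
  have hs1 : s ≫ q = 1 := by
    refine (jordan_unique (g := (a * b) ≫ q) ?_ (hcomm _ _) ((map_isSsPt_isUnipPt q s).1 hs)
      ((map_isSsPt_isUnipPt q v).2 hv) (_root_.one_mul _).symm (Commute.one_left _) isSsPt_one hab).1
    rw [← MonObj.mul_comp, ← e]
  have hs2 : s = 1 := eq_one_of_isSsPt_isUnipPt hs (isUnipPt_of_commutator (by
    have := (hker s).mp hs1
    rwa [hr, derivedSeries_one] at this))
  rw [e, hs2, _root_.one_mul]
  exact hv

theorem IsUnipPt.inv' {a : PT ⟶ G} [Group.IsSolvable (PT ⟶ G)] (ha : IsUnipPt a) : IsUnipPt a⁻¹ := by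
  haveI : IsReduced G.left := isReduced_of_smooth_field G.hom
  obtain ⟨s, v, e, hc, hs, hv, -⟩ := exists_jordan a⁻¹
  have h1 : (1 : PT ⟶ G) = s * (v * a) := by rw [← _root_.mul_assoc, ← e, inv_mul_cancel]
  have hca : Commute s a := by
    have := (commute_of_jordan e hc hs hv (a := a) (Commute.refl a).inv_right).1
    exact this.symm
  have h2 : IsUnipPt (v * a) := isUnipPt_mul_of_solvable hv ha
  have h3 := (jordan_unique h1 (hc.mul_right hca) hs h2 (_root_.one_mul 1).symm (Commute.one_left _) isSsPt_one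
    isUnipPt_one).1
  rw [e, h3, _root_.one_mul]
  exact hv

/-- The unipotent points of a connected solvable group are the points of a connected normal subgroup. -/
theorem exists_unipRad (hs : Red.IsSolvableGrp G) :
    ∃ (U : Over (Spec (CommRingCat.of k))) (_ : GrpObj U) (i : U ⟶ G) (_ : IsMonHom i),
      IsClosedImmersion i.left ∧ Smooth U.hom ∧ ConnectedSpace U.left ∧ IsAffine U.left ∧ (rangePts i).Normal ∧
        ∀ g, g ∈ rangePts i ↔ IsUnipPt g := by
  haveI : IsReduced G.left := isReduced_of_smooth_field G.hom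
  obtain ⟨n, hn⟩ := hs
  haveI : Group.IsSolvable (PT ⟶ G) := ⟨⟨n, hn _⟩⟩
  let Γ : Subgroup (PT ⟶ G) :=
    { carrier := {g | IsUnipPt g}
      one_mem' := isUnipPt_one
      mul_mem' := fun ha hb => isUnipPt_mul_of_solvable ha hb
      inv_mem' := fun ha => IsUnipPt.inv' ha }
  have hΓc : PtsClosed (Γ : Set (PT ⟶ G)) := ptsClosed_unip
  obtain ⟨D, _, i, hi, hci, hsmD, hconnD, haffD, hle, S, hSf, hSΓ, hS⟩ := exists_connSub Γ hΓc
  haveI := hi
  haveI := hci
  haveI := hsmD
  haveI := hconnD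
  obtain ⟨-, hlD, hqD, -, -⟩ := sub_props i
  haveI := hlD
  haveI := hqD
  obtain ⟨E, _, e, he, hce, hsE, hcE, hrE⟩ := exists_derivedSub (G := G) 1
  haveI := he
  haveI := hce
  haveI := hsE
  haveI := hcE
  obtain ⟨haE, hlE, hqE, -, -⟩ := sub_props e
  haveI := haE
  haveI := hlE
  haveI := hqE
  -- the derived subgroup is contained in the neutral component
  have hder : rangePts e ≤ rangePts i := by
    let Δ : Subgroup (PT ⟶ E) := (rangePts i).comap (ptsHom e)
    have hΔ : PtsClosed (Δ : Set (PT ⟶ E)) := (ptsClosed_range i).preimage e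
    have heΓ : ∀ x : PT ⟶ E, x ≫ e ∈ Γ := fun x => isUnipPt_of_commutator (by
      rw [← derivedSeries_one, ← hrE]; exact ⟨x, rfl⟩)
    classical
    let pick : (PT ⟶ G) → (PT ⟶ E) := fun s => if h : ∃ x : PT ⟶ E, s⁻¹ * (x ≫ e) ∈ rangePts i then h.choose else 1
    have htop : Δ = ⊤ := by
      refine eq_top_of_finite Δ hΔ (pick '' S) (hSf.image _) fun x => ?_
      obtain ⟨s, hs, hx⟩ := hS _ (heΓ x)
      refine ⟨pick s, ⟨s, hs, rfl⟩, ?_⟩
      have hp : s⁻¹ * (pick s ≫ e) ∈ rangePts i := by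
        have h : ∃ x : PT ⟶ E, s⁻¹ * (x ≫ e) ∈ rangePts i := ⟨x, hx⟩
        simp only [pick, dif_pos h]
        exact h.choose_spec
      show ((pick s)⁻¹ * x) ≫ e ∈ rangePts i
      have h2 := mul_mem (inv_mem hp) hx
      simpa [MonObj.mul_comp, GrpObj.inv_comp, _root_.mul_assoc] using h2
    rintro _ ⟨x, rfl⟩
    exact (htop ▸ Subgroup.mem_top x : x ∈ Δ)
  have hnorm : (rangePts i).Normal := ⟨fun d hd g => by
    have h1 : ⁅g, d⁆ ∈ rangePts i := hder (by
      rw [hrE, derivedSeries_one, commutator_def]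
      exact Subgroup.commutator_mem_commutator (Subgroup.mem_top _) (Subgroup.mem_top _))
    have h2 := mul_mem h1 hd
    rwa [commutatorElement_def, inv_mul_cancel_right] at h2⟩
  refine ⟨D, inferInstance, i, hi, hci, hsmD, hconnD, haffD, hnorm, fun g => ⟨fun h => hle h, fun hg => ?_⟩⟩
  obtain ⟨Q, _, q, hq, haQ, hsQ, hrQ, hsurj, hlift, hker⟩ := exists_quot (rangePts i) (ptsClosed_range i) hnorm
  haveI := hq
  haveI := haQ
  haveI := hsQ
  haveI := hrQ
  haveI := hsurj
  haveI : ConnectedSpace Q.left := q.left.surjective.connectedSpace q.left.continuous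
  obtain ⟨T, _, t, ht, hct, hT, hA, -⟩ := exists_torus_of_derivedSeries n G (hn _)
  haveI := ht
  haveI := hct
  obtain ⟨-, hlT, hqT, -, -⟩ := sub_props t
  haveI := hlT
  haveI := hqT
  have htop : rangePts (t ≫ q) = ⊤ := by
    refine eq_top_of_finite _ (ptsClosed_range (t ≫ q)) ((fun s => s ≫ q) '' S) (hSf.image _) fun y => ?_
    obtain ⟨y, rfl⟩ := hlift y
    obtain ⟨_, ⟨a, rfl⟩, hu⟩ := hA y
    obtain ⟨s, hs, hsy⟩ := hS _ hu
    refine ⟨s ≫ q, ⟨s, hs, rfl⟩, a, ?_⟩
    show a ≫ t ≫ q = (s ≫ q)⁻¹ * (y ≫ q)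
    have h1 : (s⁻¹ * ((a ≫ t)⁻¹ * y)) ≫ q = 1 := (hker _).mpr hsy
    have h2 : ⁅(a ≫ t), s⁻¹⁆ ∈ rangePts i := hder (by
      rw [hrE, derivedSeries_one, commutator_def]
      exact Subgroup.commutator_mem_commutator (Subgroup.mem_top _) (Subgroup.mem_top _))
    have h3 : (a ≫ t ≫ q) * (s ≫ q)⁻¹ = (s ≫ q)⁻¹ * (a ≫ t ≫ q) := by
      have := (hker _).mpr h2
      rw [show (⁅(a ≫ t), s⁻¹⁆ ≫ q) = ptsHom q ⁅(a ≫ t), s⁻¹⁆ from rfl, map_commutatorElement,
        commutatorElement_eq_one_iff_commute, map_inv] at this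
      simpa [ptsHom, Commute, SemiconjBy] using this
    rw [MonObj.mul_comp, MonObj.mul_comp, GrpObj.inv_comp, GrpObj.inv_comp, Category.assoc] at h1
    have h4 : y ≫ q = (a ≫ t ≫ q) * (s ≫ q) := by
      have h5 := eq_mul_of_inv_mul_eq h1
      rw [_root_.mul_one] at h5
      exact eq_mul_of_inv_mul_eq h5
    rw [h4, ← _root_.mul_assoc, ← h3, _root_.mul_assoc, inv_mul_cancel, _root_.mul_one]
  obtain ⟨a, ha⟩ : g ≫ q ∈ rangePts (t ≫ q) := htop ▸ Subgroup.mem_top _
  change a ≫ t ≫ q = g ≫ q at ha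
  have h1 : (a ≫ t)⁻¹ * g ∈ rangePts i := (hker _).mp (by
    rw [MonObj.mul_comp, GrpObj.inv_comp, Category.assoc, ha, inv_mul_cancel])
  have h2 : IsUnipPt (a ≫ t) := by
    have h3 : IsUnipPt (g * ((a ≫ t)⁻¹ * g)⁻¹) :=
      isUnipPt_mul_of_solvable hg (IsUnipPt.inv' (hle h1 : (a ≫ t)⁻¹ * g ∈ Γ))
    rwa [mul_inv_rev, _root_.inv_inv, mul_inv_cancel_left] at h3
  have h4 : a ≫ t = 1 := eq_one_of_isSsPt_isUnipPt (isSsPt_of_torus hT t a) h2
  rwa [h4, inv_one, _root_.one_mul] at h1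

/-- A group without nontrivial connected unipotent subgroups is a torus. -/
theorem isTorus_of_unip_trivial (h : ∀ (U : Over (Spec (CommRingCat.of k))) [GrpObj U] (i : U ⟶ G) [IsMonHom i],
    IsClosedImmersion i.left → Smooth U.hom → ConnectedSpace U.left → Red.HasNoSubtorus k U → Red.IsTrivialGrp U) :
    Red.IsTorus G := by
  haveI : IsReduced G.left := isReduced_of_smooth_field G.hom
  obtain ⟨B, _, iB, X, a, o, hB, -, -⟩ := AGFLib.Borel.exists_borel G
  obtain ⟨hmon, hcl, hsm, hconn, hsolv, -⟩ := id hB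
  haveI := hmon
  haveI := hcl
  haveI := hsm
  haveI := hconn
  obtain ⟨haffB, hlftB, hqcB, hmono, hevB⟩ := sub_props iB
  haveI := haffB
  haveI := hlftB
  haveI : IsReduced B.left := isReduced_of_smooth_field B.hom
  obtain ⟨U, _, i, hi, hci, hsU, hcU, haU, -, hU⟩ := exists_unipRad hsolv
  haveI := hi
  haveI := hci
  haveI := hsU
  haveI := hcU
  haveI := haU
  obtain ⟨-, hlU, -, -, hevU⟩ := sub_props i
  haveI := hlU
  haveI : IsReduced U.left := isReduced_of_smooth_field U.hom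
  haveI : IsClosedImmersion (i ≫ iB).left := inferInstanceAs (IsClosedImmersion (i.left ≫ iB.left))
  have hUtriv : Red.IsTrivialGrp U := h U (i ≫ iB) inferInstance hsU hcU
    (hasNoSubtorus_of_isUnipPt fun x => IsUnipPt.map i hevU ((hU _).mp ⟨x, rfl⟩))
  obtain ⟨n, hn⟩ := hsolv
  obtain ⟨T, _, t, ht, hct, hT, hA, -⟩ := exists_torus_of_derivedSeries n B (hn _)
  haveI := ht
  haveI := hct
  have hBT : ∀ b : PT ⟶ B, ∃ x : PT ⟶ T, x ≫ t = b := fun b => by
    obtain ⟨_, ⟨x, rfl⟩, hu⟩ := hA b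
    obtain ⟨z, hz⟩ := (hU _).mpr hu
    refine ⟨x, inv_mul_eq_one.mp ?_⟩
    rw [← show z ≫ i = (x ≫ t)⁻¹ * b from hz, pt_eq_one_of_trivial hUtriv z, MonObj.one_comp]
  have hBcomm : ∀ b c : PT ⟶ B, Commute b c := fun b c => by
    obtain ⟨x, rfl⟩ := hBT b
    obtain ⟨y, rfl⟩ := hBT c
    show (x ≫ t) * (y ≫ t) = (y ≫ t) * (x ≫ t)
    rw [← MonObj.mul_comp, ← MonObj.mul_comp, (torus_commute hT x y).eq]
  have htop := borel_unip_eq_top 1 G B iB hB (by
    rw [Subgroup.lowerCentralSeries_succ, Subgroup.lowerCentralSeries_zero, Subgroup.commutator_eq_bot_iff_le_centralizer]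
    exact fun b _ => Subgroup.mem_centralizer_iff.mpr fun c _ => (hBcomm c b).eq)
  have key : ∀ g : PT ⟶ G, ∃ x : PT ⟶ T, x ≫ t ≫ iB = g := fun g => by
    obtain ⟨b, rfl⟩ : g ∈ rangePts iB := htop ▸ Subgroup.mem_top g
    obtain ⟨x, rfl⟩ := hBT b
    exact ⟨x, (Category.assoc _ _ _).symm⟩
  refine isTorus_of_pts G (fun g => ?_) fun g g' => ?_
  · obtain ⟨x, rfl⟩ := key g
    exact isSsPt_of_torus hT (t ≫ iB) x
  · obtain ⟨x, rfl⟩ := key g
    obtain ⟨y, rfl⟩ := key g'
    show (x ≫ t ≫ iB) * (y ≫ t ≫ iB) = (y ≫ t ≫ iB) * (x ≫ t ≫ iB)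
    rw [← MonObj.mul_comp, ← MonObj.mul_comp, (torus_commute hT x y).eq]

end Groth.Agent.SolvGrp
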