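import Groth.Agent.SolvGrp.Cent
import Groth.Agent.SolvGrp.Radical

/-! Borel subgroups through a torus meet its centraliser in Borel subgroups. -/

set_option backward.isDefEq.respectTransparency false
set_option backward.isDefEq.respectTransparency.types false
set_option linter.style.haveILetI false

universe u

open CategoryTheory MonoidalCategory CartesianMonoidalCategory MonObj AlgebraicGeometry
open scoped commutatorElement

namespace Groth.Agent.SolvGrp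

open GrpSchLib GrpSchLib.Kunneth GrpSchLib.LineGroups WeilCmp.Unip AGFLib AGFLib.Gen AGFLib.BorelFixed AGFLib.BorelExist
open AGFLib.QuotProper

variable {k : Type u} [Field k] [IsAlgClosed k]

local notation "PT" => 𝟙_ (Over (Spec (CommRingCat.of k)))

theorem PtsClosed.iInter {X : Over (Spec (CommRingCat.of k))} {ι₀ : Sort*} {S : ι₀ → Set (PT ⟶ X)}
    (h : ∀ a, PtsClosed (S a)) : PtsClosed (⋂ a, S a) := by
  choose Z hZ hm using h
  refine ⟨⋂ a, Z a, isClosed_iInter hZ, fun g => ?_⟩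
  simp only [Set.mem_iInter]
  exact forall_congr' fun a => hm a g

variable {G : Over (Spec (CommRingCat.of k))} [GrpObj G] [IsAffine G.left] [Smooth G.hom] [ConnectedSpace G.left]

/-- The elements carrying a torus of a Borel subgroup into it, modulo its unipotent part, are products of
centralising elements and elements of the Borel subgroup. -/
theorem exists_mul_of_conj {B S : Over (Spec (CommRingCat.of k))} [GrpObj B] [GrpObj S] (iB : B ⟶ G) [IsMonHom iB]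
    (hB : Red.IsBorelOver k iB) (iS : S ⟶ G) [IsMonHom iS] (hS : Red.IsTorus S) (hle : rangePts iS ≤ rangePts iB)
    (y : PT ⟶ G) (hy : ∀ s ∈ rangePts iS, ∃ b : PT ⟶ B, IsUnipPt b ∧ b ≫ iB = s⁻¹ * (y⁻¹ * s * y)) :
    ∃ b ∈ rangePts iB, ∀ s ∈ rangePts iS, Commute (y * b) s := by
  obtain ⟨hmon, hcl, hsm, hconn, ⟨n, hn⟩, -⟩ := id hB
  haveI := hcl
  haveI := hsm
  haveI := hconn
  obtain ⟨haffB, hlB, hqB, hmonoB, hevB⟩ := sub_props iB
  haveI := haffB
  haveI := hlB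
  haveI := hqB
  haveI := hmonoB
  haveI : IsReduced B.left := isReduced_of_smooth_field B.hom
  haveI : IsReduced G.left := isReduced_of_smooth_field G.hom
  haveI : Group.IsSolvable (PT ⟶ B) := ⟨⟨n, hn _⟩⟩
  obtain ⟨T, _, iT, hiT, hmT, hmono, hT, hA, hC⟩ := exists_borelTorus iB hB
  haveI := hiT
  haveI := hmT
  haveI : IsMonHom (AGF.conjBy y⁻¹ iS) := by rw [AGFLib.Borel.conjBy_eq]; infer_instance
  have hle' : rangePts (AGF.conjBy y⁻¹ iS) ≤ rangePts iB := by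
    intro x hx
    rw [rangePts_conjBy, _root_.inv_inv] at hx
    obtain ⟨b, -, hb⟩ := hy _ hx
    have h1 := mul_mem (hle hx) (⟨b, rfl⟩ : b ≫ iB ∈ rangePts iB)
    rw [hb] at h1
    simpa [_root_.mul_assoc] using h1
  obtain ⟨a, ha⟩ := hC S iS hS hle
  obtain ⟨c, hc⟩ := hC S (AGF.conjBy y⁻¹ iS) hS hle'
  refine ⟨(c ≫ iB)⁻¹ * (a ≫ iB), mul_mem (inv_mem ⟨c, rfl⟩) ⟨a, rfl⟩, ?_⟩
  rintro _ ⟨s, rfl⟩
  obtain ⟨b, hbu, hb⟩ := hy _ ⟨s, rfl⟩
  obtain ⟨sB, hsB⟩ := hle (⟨s, rfl⟩ : s ≫ iS ∈ rangePts iS)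
  change sB ≫ iB = s ≫ iS at hsB
  obtain ⟨t₁, ht₁⟩ := ha _ ⟨s, rfl⟩
  obtain ⟨t₂, ht₂⟩ := hc (y⁻¹ * (s ≫ iS) * y) (by
    rw [rangePts_conjBy, _root_.inv_inv]
    exact ⟨s, by group⟩)
  change t₁ ≫ iT ≫ iB = _ at ht₁
  change t₂ ≫ iT ≫ iB = _ at ht₂
  have e₁ : t₁ ≫ iT = a * sB * a⁻¹ := (cancel_mono iB).mp (by
    rw [Category.assoc, ht₁, MonObj.mul_comp, MonObj.mul_comp, GrpObj.inv_comp, hsB])
  have e₂ : t₂ ≫ iT = c * (sB * b) * c⁻¹ := (cancel_mono iB).mp (by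
    rw [Category.assoc, ht₂, MonObj.mul_comp, MonObj.mul_comp, MonObj.mul_comp, GrpObj.inv_comp, hsB, hb,
      mul_inv_cancel_left])
  have e₃ : (t₁⁻¹ * t₂) ≫ iT = ⁅a, sB⁻¹⁆ * (sB⁻¹ * ⁅c, sB⁆ * (sB⁻¹)⁻¹) * (c * b * c⁻¹) := by
    rw [MonObj.mul_comp, GrpObj.inv_comp, e₁, e₂, commutatorElement_def, commutatorElement_def]
    group
  have hcomm : ∀ p q : PT ⟶ B, IsUnipPt ⁅p, q⁆ := fun p q => isUnipPt_of_commutator (by
    rw [commutator_def]
    exact Subgroup.commutator_mem_commutator (Subgroup.mem_top p) (Subgroup.mem_top q))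
  have hu : IsUnipPt ((t₁⁻¹ * t₂) ≫ iT) := e₃ ▸
    isUnipPt_mul_of_solvable (isUnipPt_mul_of_solvable (hcomm _ _) ((hcomm c sB).conj sB⁻¹)) (hbu.conj c)
  have h1 : (t₁⁻¹ * t₂) ≫ iT = 1 := eq_one_of_isSsPt_isUnipPt (isSsPt_of_torus hT iT _) hu
  rw [MonObj.mul_comp, GrpObj.inv_comp, inv_mul_eq_one] at h1
  have h2 : (a ≫ iB) * (s ≫ iS) * (a ≫ iB)⁻¹ = (c ≫ iB) * (y⁻¹ * (s ≫ iS) * y) * (c ≫ iB)⁻¹ := by
    rw [← ht₁, ← ht₂, ← Category.assoc, ← Category.assoc, h1]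
  show y * ((c ≫ iB)⁻¹ * (a ≫ iB)) * (s ≫ iS) = (s ≫ iS) * (y * ((c ≫ iB)⁻¹ * (a ≫ iB)))
  have h3 := congrArg (fun x => y * (c ≫ iB)⁻¹ * x * (a ≫ iB)) h2
  simpa [_root_.mul_assoc] using h3

/-- A Borel subgroup through a torus meets its centraliser in a Borel subgroup. -/
theorem exists_borel_cent {B S Z : Over (Spec (CommRingCat.of k))} [GrpObj B] [GrpObj S] [GrpObj Z]
    (iB : B ⟶ G) [IsMonHom iB] (hB : Red.IsBorelOver k iB) (iS : S ⟶ G) [IsMonHom iS] (hS : Red.IsTorus S)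
    (hle : rangePts iS ≤ rangePts iB) (z : Z ⟶ G) [IsMonHom z] [IsClosedImmersion z.left] [Smooth Z.hom]
    [ConnectedSpace Z.left] (hZ : ∀ g, g ∈ rangePts z ↔ ∀ s ∈ rangePts iS, Commute g s) :
    ∃ (D : Over (Spec (CommRingCat.of k))) (_ : GrpObj D) (d : D ⟶ Z) (_ : IsMonHom d),
      Red.IsBorelOver k d ∧ ∀ x, x ∈ rangePts d ↔ x ≫ z ∈ rangePts iB := by
  obtain ⟨hmon, hcl, hsm, hconn, hsolv, -⟩ := id hB
  haveI := hcl
  haveI := hsm
  haveI := hconn
  obtain ⟨haffB, hlB, hqB, hmonoB, hevB⟩ := sub_props iB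
  haveI := haffB
  haveI := hlB
  haveI := hqB
  haveI := hmonoB
  haveI : IsReduced B.left := isReduced_of_smooth_field B.hom
  haveI : IsReduced G.left := isReduced_of_smooth_field G.hom
  obtain ⟨haffZ, hlZ, hqZ, hmonoZ, -⟩ := sub_props z
  haveI := haffZ
  haveI := hlZ
  haveI := hmonoZ
  obtain ⟨-, hsmS, -, -⟩ := torus_props hS
  haveI := hsmS
  obtain ⟨sB, hmsB, hsB⟩ := exists_fac_sub iB iS hle
  haveI := hmsB
  obtain ⟨D, _, e, he, hce, hsD, hcD, hD⟩ := exists_connSub_torusCent sB hS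
  haveI := he
  haveI := hce
  haveI := hsD
  haveI := hcD
  obtain ⟨haD, hlD, hqD, hmonoD, -⟩ := sub_props e
  haveI := haD
  haveI := hlD
  haveI := hqD
  haveI := hmonoD
  have hsB' : ∀ s : PT ⟶ S, (s ≫ sB) ≫ iB = s ≫ iS := fun s => by rw [Category.assoc, hsB]
  have hDmem : ∀ b : PT ⟶ B, b ∈ rangePts e ↔ b ≫ iB ∈ rangePts z := fun b => by
    rw [hD, hZ]
    constructor
    · rintro h _ ⟨s, rfl⟩
      have h1 := (h _ ⟨s, rfl⟩).map (ptsHom iB)
      show Commute (b ≫ iB) (s ≫ iS)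
      rw [← hsB']
      exact h1
    · rintro h _ ⟨s, rfl⟩
      refine (cancel_mono iB).mp ?_
      rw [MonObj.mul_comp, MonObj.mul_comp, hsB']
      exact (h _ ⟨s, rfl⟩).eq
  obtain ⟨d, hd, hdz⟩ := exists_fac_sub z (e ≫ iB) (by
    rintro _ ⟨x, rfl⟩
    show x ≫ e ≫ iB ∈ rangePts z
    rw [← Category.assoc]
    exact (hDmem _).mp ⟨x, rfl⟩)
  haveI := hd
  haveI : IsClosedImmersion (d.left ≫ z.left) := by
    rw [← Over.comp_left, hdz]; exact inferInstanceAs (IsClosedImmersion (e.left ≫ iB.left))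
  haveI : IsClosedImmersion d.left := IsClosedImmersion.of_comp d.left z.left
  have hmem : ∀ x, x ∈ rangePts d ↔ x ≫ z ∈ rangePts iB := fun x => by
    constructor
    · rintro ⟨w, rfl⟩
      exact ⟨w ≫ e, by show (w ≫ e) ≫ iB = (w ≫ d) ≫ z; rw [Category.assoc, Category.assoc, hdz]⟩
    · rintro ⟨b, hb⟩
      change b ≫ iB = x ≫ z at hb
      obtain ⟨w, hw⟩ := (hDmem b).mpr (hb ▸ ⟨x, rfl⟩)
      refine ⟨w, (cancel_mono z).mp ?_⟩
      show (w ≫ d) ≫ z = x ≫ z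
      rw [Category.assoc, hdz, ← Category.assoc, show w ≫ e = b from hw, hb]
  haveI : Mono d := mono_of_closedImmersion d
  have hsolvD : Red.IsSolvableGrp D :=
    isSolvableGrp_of_mono e hsolv
  refine ⟨D, inferInstance, d, hd, ⟨hd, inferInstance, inferInstance, inferInstance, hsolvD,
    fun D' _ d' _ f hcd' hsD' hcD' hs' hf => ?_⟩, hmem⟩
  haveI := hcd'
  haveI := hsD'
  haveI := hcD'
  obtain ⟨haD', hlD', hqD', hmonoD', -⟩ := sub_props d'
  haveI := haD'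
  haveI := hlD'
  haveI := hqD'
  haveI := hmonoD'
  -- the quotient by the Borel subgroup
  obtain ⟨X, a, o, hl, -, hfl, hsu, hsq⟩ := GrpSchLib.HomogeneousQuot.exists_quot G B iB
  have hX : AGF.IsQuotient iB X a o := ⟨hl, hfl, hsu, hsq⟩
  haveI := hl
  haveI := AGFLib.Borel.isProper_borel iB hB hX
  haveI := hX.2.2.1
  haveI : LocallyOfFiniteType G.hom := inferInstance
  -- the closed set of centralising elements times elements of the Borel subgroup
  obtain ⟨U, _, u, hu, hcu, hsU, -, -, -, hU⟩ := exists_unipRad hsolv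
  haveI := hu
  haveI := hcu
  obtain ⟨-, hlU, hqU, -, -⟩ := sub_props u
  haveI := hlU
  haveI := hqU
  let Y : Set (PT ⟶ G) := {y | ∀ s ∈ rangePts iS, s⁻¹ * (y⁻¹ * s * y) ∈ rangePts (u ≫ iB)}
  have hY : PtsClosed Y := by
    have h1 : Y = ⋂ s : rangePts iS, {y : PT ⟶ G | (s : PT ⟶ G)⁻¹ * (y⁻¹ * s * y) ∈ rangePts (u ≫ iB)} := by
      ext y; simp [Y]
    rw [h1]
    refine PtsClosed.iInter fun s => ?_
    have h2 := (ptsClosed_range (u ≫ iB)).preimage
      ((toUnit G ≫ (s : PT ⟶ G))⁻¹ * ((𝟙 G)⁻¹ * (toUnit G ≫ (s : PT ⟶ G)) * 𝟙 G))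
    convert h2 using 1
    ext y
    show _ ↔ y ≫ _ ∈ rangePts (u ≫ iB)
    rw [MonObj.comp_mul, MonObj.comp_mul, MonObj.comp_mul, GrpObj.comp_inv, GrpObj.comp_inv, Category.comp_id,
      ← Category.assoc, toUnit_unique (y ≫ toUnit G) (𝟙 _), Category.id_comp]
    rfl
  obtain ⟨n, hn⟩ := id hsolv
  haveI : Group.IsSolvable (PT ⟶ B) := ⟨⟨n, hn _⟩⟩
  have hYmul : ∀ y, y ∈ Y ↔ ∃ w : PT ⟶ Z, ∃ b : PT ⟶ B, y = (w ≫ z) * (b ≫ iB) := by
    intro y
    constructor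
    · intro hy
      obtain ⟨b, hb, hcomm⟩ := exists_mul_of_conj iB hB iS hS hle y fun s hs => by
        obtain ⟨x, hx⟩ := hy s hs
        exact ⟨x ≫ u, (hU _).mp ⟨x, rfl⟩, (Category.assoc x u iB).trans hx⟩
      obtain ⟨w, hw⟩ := (hZ _).mpr hcomm
      obtain ⟨b', rfl⟩ := hb
      refine ⟨w, b'⁻¹, ?_⟩
      rw [show w ≫ z = y * (b' ≫ iB) from hw, GrpObj.inv_comp, mul_inv_cancel_right]
    · rintro ⟨w, b, rfl⟩ _ ⟨s, rfl⟩
      have hc : Commute (w ≫ z) (s ≫ iS) := (hZ _).mp ⟨w, rfl⟩ _ ⟨s, rfl⟩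
      obtain ⟨x, hx⟩ := (hU ⁅(s ≫ sB)⁻¹, b⁻¹⁆).mpr (isUnipPt_of_commutator (by
        rw [commutator_def]
        exact Subgroup.commutator_mem_commutator (Subgroup.mem_top _) (Subgroup.mem_top _)))
      refine ⟨x, ?_⟩
      show x ≫ u ≫ iB = _
      rw [← Category.assoc, show x ≫ u = ⁅(s ≫ sB)⁻¹, b⁻¹⁆ from hx, commutatorElement_def, MonObj.mul_comp,
        MonObj.mul_comp, MonObj.mul_comp, GrpObj.inv_comp, GrpObj.inv_comp, GrpObj.inv_comp, GrpObj.inv_comp,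
        GrpObj.inv_comp, hsB', _root_.mul_inv_rev, show ((b ≫ iB))⁻¹ * (w ≫ z)⁻¹ * (s ≫ iS) * ((w ≫ z) * (b ≫ iB)) =
          (b ≫ iB)⁻¹ * ((w ≫ z)⁻¹ * ((s ≫ iS) * (w ≫ z))) * (b ≫ iB) by group, ← hc.eq, inv_mul_cancel_left]
      rw [show ((b⁻¹) ≫ iB) = (b ≫ iB)⁻¹ from GrpObj.inv_comp b iB, _root_.inv_inv]
      group
  obtain ⟨Z₀, hZ₀, hZ₀m⟩ := hY
  let F : Set X.left := ((a.orbitMap o).left '' Z₀ᶜ)ᶜ
  have hopen : IsOpenMap (a.orbitMap o).left := by
    haveI : Flat (a.orbitMap o).left := hfl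
    haveI : LocallyOfFiniteType ((a.orbitMap o).left ≫ X.hom) := by rw [Over.w (a.orbitMap o)]; infer_instance
    haveI : LocallyOfFiniteType (a.orbitMap o).left := locallyOfFiniteType_of_comp (a.orbitMap o).left X.hom
    haveI : IsLocallyNoetherian X.left := LocallyOfFiniteType.isLocallyNoetherian X.hom
    haveI : LocallyOfFinitePresentation (a.orbitMap o).left := inferInstance
    exact (a.orbitMap o).left.isOpenMap
  have hF : IsClosed F := (hopen _ hZ₀.isOpen_compl).isClosed_compl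
  have hstab : ∀ (g g' : PT ⟶ G), g ≫ a.orbitMap o = g' ≫ a.orbitMap o → ∃ b : PT ⟶ B, g * (b ≫ iB) = g' :=
    fun g g' h => exists_mul_eq hX g g' h
  have hFmem : ∀ g : PT ⟶ G, cp (g ≫ a.orbitMap o) ∈ F ↔ g ∈ Y := by
    intro g
    constructor
    · intro h
      by_contra hg
      exact h ⟨cp g, fun hgz => hg ((hZ₀m g).mpr hgz), rfl⟩
    · intro hg hmemI
      obtain ⟨p, hp, hpe⟩ := hmemI
      haveI : JacobsonSpace G.left := LocallyOfFiniteType.jacobsonSpace G.hom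
      obtain ⟨q, hq, hqc⟩ := nonempty_inter_closedPoints
        (Z := Z₀ᶜ ∩ (a.orbitMap o).left ⁻¹' {cp (g ≫ a.orbitMap o)}) ⟨p, hp, hpe⟩
        (hZ₀.isOpen_compl.isLocallyClosed.inter
          ((isClosed_cp (g ≫ a.orbitMap o)).preimage (a.orbitMap o).left.continuous).isLocallyClosed)
      obtain ⟨g', rfl⟩ := exists_cp hqc
      obtain ⟨b, hb⟩ := hstab g g' (cp_injective (show cp (g ≫ a.orbitMap o) = cp (g' ≫ a.orbitMap o) from hq.2.symm))
      obtain ⟨w, b', rfl⟩ := (hYmul g).mp hg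
      refine hq.1 ((hZ₀m g').mp ((hYmul g').mpr ⟨w, b' * b, ?_⟩))
      rw [← hb, MonObj.mul_comp, _root_.mul_assoc]
  -- a fixed point of the larger group
  haveI : IsMonHom (d' ≫ z) := inferInstance
  obtain ⟨act, hact⟩ := exists_restrict a (d' ≫ z)
  obtain ⟨m, hm⟩ := hs'
  have hone : (1 : PT ⟶ G) ∈ Y := (hYmul 1).mpr ⟨1, 1, by rw [MonObj.one_comp, MonObj.one_comp, _root_.one_mul]⟩
  obtain ⟨x, hxF, hx⟩ := exists_fixed_in m (hm _) act F hF ⟨_, (hFmem 1).mpr hone⟩ fun g x hxF => by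
    obtain ⟨h, rfl⟩ := exists_of_mem_range (a.orbitMap o) x ((a.orbitMap o).left.surjective _)
    obtain ⟨w, b, rfl⟩ := (hYmul h).mp ((hFmem h).mp hxF)
    rw [pt_orbitMap, hact, ← Category.assoc, lift_whiskerRight, GrpSchLib.act_mul, ← pt_orbitMap, hFmem]
    refine (hYmul _).mpr ⟨(g ≫ d') * w, b, ?_⟩
    rw [MonObj.mul_comp, Category.assoc, _root_.mul_assoc]
  obtain ⟨h, rfl⟩ := exists_of_mem_range (a.orbitMap o) x ((a.orbitMap o).left.surjective _)
  obtain ⟨w, b, rfl⟩ := (hYmul h).mp ((hFmem h).mp hxF)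
  haveI : IsMonHom (AGF.conjBy w⁻¹ d') := by rw [AGFLib.Borel.conjBy_eq]; infer_instance
  obtain ⟨φ, -, hφ⟩ := exists_fac_sub d (AGF.conjBy w⁻¹ d') (by
    intro q hq
    rw [rangePts_conjBy, _root_.inv_inv] at hq
    obtain ⟨g, hg⟩ := hq
    change g ≫ d' = w * q * w⁻¹ at hg
    have h1 := hx g
    rw [hact, ← Category.assoc, lift_whiskerRight, pt_orbitMap, GrpSchLib.act_mul, ← pt_orbitMap, ← pt_orbitMap,
      ← Category.assoc g d' z, hg, MonObj.mul_comp (w * q) w⁻¹ z, MonObj.mul_comp w q z, GrpObj.inv_comp w z] at h1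
    obtain ⟨c, hc⟩ := hstab _ _ h1.symm
    refine (hmem q).mpr ⟨b * c * b⁻¹, ?_⟩
    show (b * c * b⁻¹) ≫ iB = q ≫ z
    rw [MonObj.mul_comp, MonObj.mul_comp, GrpObj.inv_comp]
    have h2 : (b ≫ iB) * (c ≫ iB) = (q ≫ z) * (b ≫ iB) := by
      have h3 := congrArg (fun e => (w ≫ z)⁻¹ * e) hc
      simpa [_root_.mul_assoc] using h3
    rw [h2, mul_inv_cancel_right])
  haveI : IsClosedImmersion (AGF.conjBy w⁻¹ d').left := by
    rw [AGFLib.Borel.conjBy_eq]
    exact inferInstanceAs (IsClosedImmersion (d'.left ≫ (AGFLib.Borel.conjM w⁻¹).left))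
  haveI : IsClosedImmersion (φ.left ≫ d.left) := by rw [← Over.comp_left, hφ]; infer_instance
  haveI : IsClosedImmersion φ.left := IsClosedImmersion.of_comp φ.left d.left
  haveI : IsClosedImmersion (f.left ≫ d'.left) := by rw [← Over.comp_left, hf]; infer_instance
  haveI : IsClosedImmersion f.left := IsClosedImmersion.of_comp f.left d'.left
  haveI : IsClosedImmersion (φ ≫ f).left := inferInstanceAs (IsClosedImmersion (φ.left ≫ f.left))
  haveI := AGFLib.Borel.isIso_endo (φ ≫ f)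
  haveI : Mono f := mono_of_closedImmersion f
  haveI : IsSplitEpi f := IsSplitEpi.mk' ⟨inv (φ ≫ f) ≫ φ, by simp⟩
  exact isIso_of_mono_of_isSplitEpi f

end Groth.Agent.SolvGrp

namespace Groth.Agent.SolvGrp

open GrpSchLib GrpSchLib.Kunneth GrpSchLib.LineGroups WeilCmp.Unip AGFLib AGFLib.Gen AGFLib.BorelFixed AGFLib.BorelExist

variable {k : Type u} [Field k] [IsAlgClosed k]

local notation "PT" => 𝟙_ (Over (Spec (CommRingCat.of k)))

/-- A subgroup of the centraliser of a torus with the points of the intersection with a smooth subgroup is the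
scheme-theoretic intersection. -/
theorem isPullback_of_pts {G T B C D : Over (Spec (CommRingCat.of k))} [GrpObj G] [GrpObj T] [GrpObj B] [GrpObj C]
    [GrpObj D] [IsAffine G.left] [Smooth G.hom] {iT : T ⟶ G} [IsMonHom iT] (hT : Red.IsTorus T) (iB : B ⟶ G)
    [IsMonHom iB] [IsClosedImmersion iB.left] [Smooth B.hom] (t : T ⟶ B) (ht : t ≫ iB = iT) (c : C ⟶ G)
    (hc : Red.IsCentralizerOf iT c) (dC : D ⟶ C) [IsMonHom dC] [IsClosedImmersion dC.left] [Smooth D.hom]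
    (dB : D ⟶ B) (hD : dC ≫ c = dB ≫ iB)
    (h : ∀ x, x ∈ (haveI := hc.1; rangePts dC) ↔ x ≫ c ∈ rangePts iB) : IsPullback dC dB c iB := by
  haveI := hc.1
  haveI := hc.2.1
  obtain ⟨haB, hlB, -, hmonoB, -⟩ := sub_props iB
  haveI := haB
  haveI := hlB
  haveI := hmonoB
  obtain ⟨hcl, hsC, haC⟩ := centralizer_props hT hc
  haveI := hcl
  haveI := haC
  haveI : LocallyOfFiniteType C.hom := inferInstance
  obtain ⟨-, hlD, -, hmonoD, -⟩ := sub_props dC
  haveI := hlD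
  haveI := hmonoD
  haveI : IsMonHom t := AGFLib.BorelImage.isMonHom_of_comp t iB iT ht
  haveI : IsAffineHom B.hom := isAffineHom_of_isAffine B.hom
  obtain ⟨E, _, e, he, hce, hsE⟩ := Groth.Agent.S5247.result T B (TorusQI.isMultTypeFT_of_isTorus hT) inferInstance
    inferInstance t
  haveI := he.1
  haveI := he.2.1
  haveI := hce
  haveI := hsE
  obtain ⟨q, hq⟩ := (hc.2.2 E (e ≫ iB)).mpr fun X' x h => by
    have h1 := (he.2.2 E e).mp ⟨𝟙 E, Category.id_comp e⟩ X' x h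
    have h2 := congrArg (· ≫ iB) h1
    simp only [MonObj.mul_comp, Category.assoc, ht] at h2
    exact h2
  haveI : IsMonHom (e ≫ iB) := inferInstance
  haveI : IsMonHom q := AGFLib.BorelImage.isMonHom_of_comp q c (e ≫ iB) hq
  obtain ⟨f, -, hf⟩ := exists_fac_sub dC q (by
    rintro _ ⟨x, rfl⟩
    refine (h _).mpr ⟨x ≫ e, ?_⟩
    show (x ≫ e) ≫ iB = (x ≫ q) ≫ c
    rw [Category.assoc, Category.assoc, hq])
  refine ⟨⟨hD⟩, ⟨Limits.PullbackCone.IsLimit.mk _ (fun p => (((he.2.2 p.pt p.snd).mpr ?_).choose) ≫ f)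
    (fun p => ?_) (fun p => ?_) (fun p m h1 _ => ?_)⟩⟩
  · intro X' x u
    refine (cancel_mono iB).mp ?_
    have h2 := (hc.2.2 p.pt (p.fst ≫ c)).mp ⟨p.fst, rfl⟩ X' x u
    rw [MonObj.mul_comp, MonObj.mul_comp, Category.assoc x, Category.assoc u, ht, ← p.condition]
    exact h2
  · generalize_proofs hh
    have hs := hh.choose_spec
    rw [Category.assoc, hf, ← cancel_mono c, Category.assoc, hq, ← Category.assoc, hs, p.condition]
  · generalize_proofs hh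
    have hs := hh.choose_spec
    rw [← cancel_mono iB, Category.assoc, Category.assoc, ← hD, reassoc_of% hf, hq, ← Category.assoc, hs]
  · generalize_proofs hh
    have hs := hh.choose_spec
    rw [← cancel_mono dC, h1, Category.assoc, hf, ← cancel_mono c, Category.assoc, hq, ← Category.assoc, hs,
      p.condition]

/-- Borel subgroups of the centraliser of a torus come from Borel subgroups. -/
theorem exists_borel_of_borelCent {G T C D : Over (Spec (CommRingCat.of k))} [GrpObj G] [GrpObj T] [GrpObj C]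
    [GrpObj D] [IsAffine G.left] [Smooth G.hom] [ConnectedSpace G.left] {iT : T ⟶ G} [IsMonHom iT] [Mono iT]
    (hT : Red.IsTorus T) (c : C ⟶ G) (hc : Red.IsCentralizerOf iT c) (dC : D ⟶ C) (hD : Red.IsBorelOver k dC) :
    ∃ (B : Over (Spec (CommRingCat.of k))) (_ : GrpObj B) (iB : B ⟶ G) (t : T ⟶ B) (dB : D ⟶ B),
      Red.IsBorelOver k iB ∧ t ≫ iB = iT ∧ IsPullback dC dB c iB := by
  haveI := hc.1
  haveI := hc.2.1
  haveI := hD.1
  haveI := hD.2.1
  haveI := hD.2.2.1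
  obtain ⟨hcl, hsC, haC⟩ := centralizer_props hT hc
  haveI := hcl
  haveI := hsC
  haveI := haC
  haveI := connectedSpace_centralizer hT hc
  obtain ⟨hcT, hsmT, hconnT, -, -, -, hsolT⟩ := torus_sub hT iT
  haveI := hcT
  haveI := hsmT
  haveI := hconnT
  obtain ⟨B₀, _, iB₀, hm₀, hB₀, hle₀⟩ := exists_borel_containing iT hsolT
  haveI := hm₀
  obtain ⟨D₀, _, d₀, hd₀, hBd₀, hmem₀⟩ := exists_borel_cent iB₀ hB₀ iT hT hle₀ c (mem_centralizer_pts iT hT hc)
  haveI := hd₀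
  obtain ⟨w, e, he⟩ := AGFLib.Borel.conjugate d₀ dC hBd₀ hD
  haveI : IsMonHom (AGF.conjBy (w ≫ c) iB₀) := by rw [AGFLib.Borel.conjBy_eq]; infer_instance
  haveI : IsMonHom (AGF.conjBy w d₀) := by rw [AGFLib.Borel.conjBy_eq]; infer_instance
  have hB := AGFLib.Borel.isBorel_conj iB₀ hB₀ (w ≫ c)
  haveI := hB.2.1
  haveI := hB.2.2.1
  obtain ⟨-, hlB, -, -, -⟩ := sub_props (AGF.conjBy (w ≫ c) iB₀)
  haveI := hlB
  have hle : rangePts iT ≤ rangePts (AGF.conjBy (w ≫ c) iB₀) := fun s hs => by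
    rw [rangePts_conjBy]
    have h1 := (mem_centralizer_pts iT hT hc _).mp ⟨w, rfl⟩ s hs
    rw [show (w ≫ c)⁻¹ * s * (w ≫ c) = s by rw [_root_.mul_assoc, ← h1.eq, inv_mul_cancel_left]]
    exact hle₀ hs
  obtain ⟨t, -, ht⟩ := exists_fac_sub (AGF.conjBy (w ≫ c) iB₀) iT hle
  have hmem : ∀ x, x ∈ rangePts dC ↔ x ≫ c ∈ rangePts (AGF.conjBy (w ≫ c) iB₀) := fun x => by
    have h1 : x ∈ rangePts dC ↔ x ∈ rangePts (AGF.conjBy w d₀) := by
      constructor
      · rintro ⟨y, rfl⟩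
        exact ⟨y ≫ e.inv, by
          show (y ≫ e.inv) ≫ AGF.conjBy w d₀ = y ≫ dC
          rw [← he, Category.assoc, Iso.inv_hom_id_assoc]⟩
      · rintro ⟨y, rfl⟩
        exact ⟨y ≫ e.hom, by show (y ≫ e.hom) ≫ dC = y ≫ AGF.conjBy w d₀; rw [Category.assoc, he]⟩
    rw [h1, rangePts_conjBy, rangePts_conjBy, hmem₀, MonObj.mul_comp, MonObj.mul_comp, GrpObj.inv_comp]
  obtain ⟨dB, -, hdB⟩ := exists_fac_sub (AGF.conjBy (w ≫ c) iB₀) (dC ≫ c) (by
    rintro _ ⟨y, rfl⟩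
    show y ≫ dC ≫ c ∈ _
    rw [← Category.assoc]
    exact (hmem _).mp ⟨y, rfl⟩)
  exact ⟨B₀, inferInstance, AGF.conjBy (w ≫ c) iB₀, t, dB, hB, ht,
    isPullback_of_pts hT _ t ht c hc dC dB hdB.symm hmem⟩

/-- The centraliser of a maximal torus lies in every Borel subgroup containing the torus. -/
theorem centralizer_le_borel {G T C B : Over (Spec (CommRingCat.of k))} [GrpObj G] [GrpObj T] [GrpObj C] [GrpObj B]
    [IsAffine G.left] [Smooth G.hom] [ConnectedSpace G.left] {iT : T ⟶ G} [IsMonHom iT] (hT : AGF.IsMaxTorus iT)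
    {c : C ⟶ G} [IsMonHom c] (hc : Red.IsCentralizerOf iT c) (iB : B ⟶ G) [IsMonHom iB] (hB : Red.IsBorelOver k iB)
    (hle : rangePts iT ≤ rangePts iB) : rangePts c ≤ rangePts iB := by
  haveI := hT.2.1
  obtain ⟨hcl, hsC, haC⟩ := centralizer_props hT.2.2.1 hc
  haveI := hcl
  haveI := hsC
  haveI := haC
  haveI := connectedSpace_centralizer hT.2.2.1 hc
  obtain ⟨n, hn⟩ := isNilpotentGrp_centralizer hT hc
  haveI : Group.IsNilpotent (PT ⟶ C) := ⟨⟨n, hn _⟩⟩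
  obtain ⟨m, hm⟩ := (inferInstance : Group.IsSolvable (PT ⟶ C)).solvable
  obtain ⟨B', _, iB', hm', hB', hle'⟩ := exists_borel_containing c (AGFLib.ProperSpace.isSolvableGrp_of_pts m hm)
  haveI := hm'
  haveI := hB'.2.1
  haveI := hB.2.1
  haveI := hB.2.2.1
  haveI := hB'.2.2.1
  obtain ⟨hcT, hsmT, -, -, -, -, -⟩ := torus_sub hT.2.2.1 iT
  haveI := hsmT
  obtain ⟨-, hlB, -, -, -⟩ := sub_props iB
  obtain ⟨-, hlB', -, -, -⟩ := sub_props iB'
  haveI := hlB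
  haveI := hlB'
  have hTC : rangePts iT ≤ rangePts c := fun s hs => (mem_centralizer_pts iT hT.2.2.1 hc s).mpr fun r hr => by
    obtain ⟨x, rfl⟩ := hs
    obtain ⟨y, rfl⟩ := hr
    show (x ≫ iT) * (y ≫ iT) = (y ≫ iT) * (x ≫ iT)
    rw [← MonObj.mul_comp, ← MonObj.mul_comp, (torus_commute hT.2.2.1 x y).eq]
  obtain ⟨t, -, ht⟩ := exists_fac_sub iB iT hle
  obtain ⟨t', -, ht'⟩ := exists_fac_sub iB' iT (hTC.trans hle')
  obtain ⟨g, f, φ, hf, hφ⟩ := borelPair_conj iB' iB hB' hB iT iT hT hT t' ht' t ht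
  intro x hx
  have hgx : g⁻¹ * x * g ∈ rangePts c := by
    refine (mem_centralizer_pts iT hT.2.2.1 hc _).mpr fun s hs => ?_
    obtain ⟨s₀, hs₀⟩ := hs
    change s₀ ≫ iT = s at hs₀
    have h1 : g * s * g⁻¹ ∈ rangePts iT :=
      ⟨s₀ ≫ φ.hom, by show (s₀ ≫ φ.hom) ≫ iT = g * s * g⁻¹; rw [Category.assoc, hφ, AGFLib.Borel.conjBy_eq,
        ← Category.assoc, hs₀, comp_conjM_pt]⟩
    have h2 := ((mem_centralizer_pts iT hT.2.2.1 hc x).mp hx _ h1).map (MulAut.conj g⁻¹).toMonoidHom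
    simpa [_root_.mul_assoc] using h2
  obtain ⟨b, hb⟩ := hle' hgx
  change b ≫ iB' = g⁻¹ * x * g at hb
  refine ⟨b ≫ f.hom, ?_⟩
  show (b ≫ f.hom) ≫ iB = x
  rw [Category.assoc, hf, AGFLib.Borel.conjBy_eq, ← Category.assoc, hb, comp_conjM_pt]
  group

end Groth.Agent.SolvGrp

namespace Groth.Agent.SolvGrp

open GrpSchLib GrpSchLib.Kunneth GrpSchLib.LineGroups WeilCmp.Unip AGFLib AGFLib.Gen AGFLib.BorelFixed AGFLib.BorelExist

/-- Borel subgroups are preserved by isomorphisms over the group. -/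
theorem isBorelOver_iso {K : Type u} [Field K] [IsAlgClosed K] {G D D₀ : Over (Spec (CommRingCat.of K))} [GrpObj G] [GrpObj D]
    [GrpObj D₀] {d : D ⟶ G} [IsMonHom d] {d₀ : D₀ ⟶ G} (h : Red.IsBorelOver K d₀) (e : D ≅ D₀)
    (he : e.hom ≫ d₀ = d) : Red.IsBorelOver K d := by
  obtain ⟨hm, hcl, hsm, hconn, hsolv, hmax⟩ := h
  haveI := hm
  haveI := hcl
  haveI := hsm
  haveI := hconn
  haveI : Mono d₀ := mono_of_closedImmersion d₀
  haveI : IsMonHom e.hom := AGFLib.BorelImage.isMonHom_of_comp e.hom d₀ d he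
  haveI : IsIso e.hom.left := inferInstanceAs (IsIso ((Over.forget _).map e.hom))
  haveI : IsIso e.inv.left := ((Over.forget _).mapIso e).isIso_inv
  haveI : IsIso e.inv := e.isIso_inv
  haveI : IsClosedImmersion d.left := by rw [← he, Over.comp_left]; infer_instance
  haveI : Smooth D.hom := by rw [← Over.w e.hom]; infer_instance
  haveI : ConnectedSpace D.left :=
    (e.inv.left.homeomorph).surjective.connectedSpace (e.inv.left.homeomorph).continuous
  refine ⟨inferInstance, inferInstance, inferInstance, inferInstance,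
    isSolvableGrp_of_mono e.hom hsolv, fun B' _ i' _ f h1 h2 h3 h4 h5 => ?_⟩
  have h6 : IsIso (e.inv ≫ f) := hmax B' i' (e.inv ≫ f) h1 h2 h3 h4 (by rw [Category.assoc, h5, ← he, Iso.inv_hom_id_assoc])
  exact IsIso.of_isIso_comp_left e.inv f

end Groth.Agent.SolvGrp
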