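import Groth.Agent.GrpSchLib.LineVec
import Groth.Agent.GrpSchLib.HomogeneousQuot

/-! A vector in a representation of an affine group whose line has a given subgroup as stabiliser. -/

set_option linter.style.haveILetI false

universe u

open CategoryTheory MonoidalCategory CartesianMonoidalCategory AlgebraicGeometry TensorProduct WithConv
open scoped MonObj

namespace Groth.Agent.SolvGrp.StabVec

open GrpSchLib GrpSchLib.Kunneth GrpSchLib.LineGroups GrpSchLib.AffineHopf GrpSchLib.LineVec ComodLib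

variable {k : Type u} [Field k]

/-- Chevalley: a vector in a representation whose line remembers a subgroup. -/
theorem exists_vec_lin {A : Type u} [CommRing A] [HopfAlgebra k A] [Algebra.FiniteType k A] {B : Type u} [CommRing B] [HopfAlgebra k B] (π : A →ₐc[k] B)
    (hπ : Function.Surjective π) :
    ∃ (n : ℕ) (z α : Fin (n + 1) → Fn (sp k A)) (M : Fin (n + 1) → Fin (n + 1) → Fn (sp k A)),
      ∑ l, α l * z l = 1 ∧
      (∀ (T : Over (Spec (CommRingCat.of k))) (g h : T ⟶ sp k A) (x),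
        ev (g * h) (z x) = ∑ s, ev g (M x s) * ev h (z s)) ∧
      ∀ (T : Over (Spec (CommRingCat.of k))) (g g' : T ⟶ sp k A),
        (∀ x q, ev g (z x) * ev g' (z q) = ev g (z q) * ev g' (z x)) ↔
          ∃ h : T ⟶ sp k B, g⁻¹ * g' = h ≫ spMap (π : A →ₐ[k] B) := by
  classical
  obtain ⟨d, e, M, hM, hblock, hkill⟩ := exists_block_matrix π hπ
  let ι₀ : Fin d → Fin d ⊕ Fin e := Sum.inl
  let M₁ := powMatrix M d
  have hM₁ : IsComodMatrix k M₁ := hM.powMatrix d
  let v₁ := minorVec k ι₀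
  have hv₁ : v₁ ι₀ = 1 := minorVec_self Sum.inl_injective
  obtain ⟨χ, -, heig⟩ := orbit_block hM π hblock
  let y := fun x => orbit k M₁ v₁ x
  obtain ⟨α, hα⟩ := exists_sum_mul_orbit_eq_one hM₁ (v := v₁) (t := ι₀) (by rw [hv₁]; exact one_ne_zero)
    (AlgHom.id k A)
  obtain ⟨n, hn⟩ := Nat.exists_eq_succ_of_ne_zero
    (haveI : Nonempty (Fin d → Fin d ⊕ Fin e) := ⟨ι₀⟩; Fintype.card_ne_zero (α := Fin d → Fin d ⊕ Fin e))
  let e' : (Fin d → Fin d ⊕ Fin e) ≃ Fin (n + 1) := Fintype.equivFinOfCardEq hn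
  refine ⟨n, fun l => toFn (k := k) (A := A) (y (e'.symm l)), fun l => toFn (k := k) (A := A) (α (e'.symm l)),
    fun l s => toFn (k := k) (A := A) (M₁ (e'.symm l) (e'.symm s)), ?_, fun T g h l => ?_, fun T g g' => ?_⟩
  · simp only [← map_mul]
    rw [← map_sum, e'.symm.sum_comp (fun x => α x * y x)]
    exact (congrArg _ hα).trans (map_one _)
  · exact (fn_mul_orbit hM₁ g h v₁ (e'.symm l)).trans
      (e'.symm.sum_comp fun s => fn g (M₁ (e'.symm l) s) * fn h (orbit k M₁ v₁ s)).symm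
  have hz : ∀ (s : T ⟶ sp k A) (l), ev s (toFn (k := k) (A := A) (y (e'.symm l))) = fn s (orbit k M₁ v₁ (e'.symm l)) :=
    fun s l => rfl
  simp only [hz]
  let P : (T ⟶ sp k A) → (T ⟶ sp k A) → Prop := fun a b => ∀ x q,
    fn a (orbit k M₁ v₁ x) * fn b (orbit k M₁ v₁ q) = fn a (orbit k M₁ v₁ q) * fn b (orbit k M₁ v₁ x)
  have hP : ∀ c a b : T ⟶ sp k A, P a b → P (c * a) (c * b) := by
    intro c a b h x q
    rw [fn_mul_orbit hM₁, fn_mul_orbit hM₁, fn_mul_orbit hM₁, fn_mul_orbit hM₁]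
    exact prop_of_linear (fun x s => fn c (M₁ x s)) _ _ h x q
  have h1 : (∀ x q, fn g (orbit k M₁ v₁ (e'.symm x)) * fn g' (orbit k M₁ v₁ (e'.symm q)) =
      fn g (orbit k M₁ v₁ (e'.symm q)) * fn g' (orbit k M₁ v₁ (e'.symm x))) ↔ P 1 (g⁻¹ * g') := by
    constructor
    · intro h
      have h' : P g g' := fun x q => by simpa using h (e' x) (e' q)
      simpa using hP g⁻¹ g g' h'
    · intro h x q
      have h' := hP g 1 (g⁻¹ * g') h
      rw [mul_one, mul_inv_cancel_left] at h'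
      exact h' _ _
  rw [h1]
  generalize g⁻¹ * g' = h
  constructor
  · intro hh
    let c := fn h (orbit k M₁ v₁ ι₀)
    have hy : ∀ x, fn h (orbit k M₁ v₁ x) = algebraMap k _ (v₁ x) * c := fun x => by
      have := hh ι₀ x
      rw [fn_one_orbit hM₁, fn_one_orbit hM₁, hv₁, map_one, _root_.one_mul] at this
      exact this
    obtain ⟨β, hβ⟩ := exists_sum_mul_orbit_eq_one hM₁ (v := v₁) (t := ι₀) (by rw [hv₁]; exact one_ne_zero) (fn h)
    have hu : IsUnit c := by
      refine IsUnit.of_mul_eq_one (∑ x, β x * algebraMap k (Fn T) (v₁ x)) ?_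
      rw [← hβ, Finset.mul_sum]
      exact Finset.sum_congr rfl fun x _ => by rw [hy x]; ring
    have hker := hkill (Fn T) (fn h) fun r m => eq_zero_of_minors ((Matrix.of M).map (fn h)) c hu
      (fun i => (map_orbit_minorVec M (fn h) i).symm.trans ((hy i).trans (Algebra.smul_def _ _).symm)) r m
    let f : B →ₐ[k] Fn T := AlgHom.liftOfSurjective (π : A →ₐ[k] B) hπ (fn h) fun a ha => hker a ha
    refine ⟨aff T ≫ spMap f, fn_injective ?_⟩
    rw [Category.assoc, spMap_comp, fn_aff]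
    exact (AlgHom.liftOfSurjective_comp _ _ _ _).symm
  · rintro ⟨h', rfl⟩ x q
    have hy : ∀ x, fn (h' ≫ spMap (π : A →ₐ[k] B)) (orbit k M₁ v₁ x) = algebraMap k _ (v₁ x) * fn h' χ := fun x => by
      rw [← aff_fn h', Category.assoc, spMap_comp, fn_aff, fn_aff]
      show fn h' (π (orbit k M₁ v₁ x)) = _
      rw [heig, map_smul, Algebra.smul_def]
    rw [fn_one_orbit hM₁, fn_one_orbit hM₁, hy, hy]
    ring

/-- An affine group and a subgroup have a vector in a representation whose line remembers the subgroup. -/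
theorem exists_vec_grp (G H : Over (Spec (CommRingCat.of k))) [GrpObj G] [GrpObj H] [IsAffine G.left]
    [LocallyOfFiniteType G.hom] (i : H ⟶ G) [IsMonHom i] [IsClosedImmersion i.left] :
    ∃ (n : ℕ) (z α : Fin (n + 1) → Fn G) (M : Fin (n + 1) → Fin (n + 1) → Fn G), ∑ l, α l * z l = 1 ∧
      (∀ (T : Over (Spec (CommRingCat.of k))) (g h : T ⟶ G) (x),
        ev (g * h) (z x) = ∑ s, ev g (M x s) * ev h (z s)) ∧
      ∀ (T : Over (Spec (CommRingCat.of k))) (g g' : T ⟶ G),
        (∀ x q, ev g (z x) * ev g' (z q) = ev g (z q) * ev g' (z x)) ↔ ∃ h : T ⟶ H, g⁻¹ * g' = h ≫ i := by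
  haveI : IsAffine H.left := isAffine_of_isAffineHom i.left
  obtain ⟨A, _, _, ⟨eG⟩⟩ := AffineHopf.exists_hopf G
  obtain ⟨B, _, _, ⟨eN⟩⟩ := AffineHopf.exists_hopf H
  let a : AffineHopf.sp k A ≅ G := (Grp.forget _).mapIso eG
  let b : AffineHopf.sp k B ≅ H := (Grp.forget _).mapIso eN
  haveI : IsMonHom a.hom := eG.hom.hom.isMonHom_hom
  haveI : IsMonHom a.inv := eG.inv.hom.isMonHom_hom
  haveI : IsMonHom b.hom := eN.hom.hom.isMonHom_hom
  haveI : IsIso a.hom.left := ((Over.forget _).mapIso a).isIso_hom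
  haveI : IsIso a.inv.left := ((Over.forget _).mapIso a).isIso_inv
  haveI : IsIso b.hom.left := ((Over.forget _).mapIso b).isIso_hom
  haveI : Algebra.FiniteType k A := RingHom.finiteType_algebraMap.mp
    ((HasRingHomProperty.Spec_iff (P := @LocallyOfFiniteType)).mp (by
      show LocallyOfFiniteType (AffineHopf.sp k A).hom
      rw [← Over.w a.hom]; infer_instance))
  obtain ⟨π, hπ⟩ := AffineHopf.exists_bialgHom (b.hom ≫ i ≫ a.inv)
  have hsurj : Function.Surjective π := AffineHopf.surjective_of_isClosedImmersion (π : A →ₐ[k] B) (by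
    rw [← hπ, Over.comp_left, Over.comp_left]; infer_instance)
  obtain ⟨n, z, α, M, h1, hlin, hz⟩ := exists_vec_lin π hsurj
  refine ⟨n, fun l => ev a.inv (z l), fun l => ev a.inv (α l), fun l s => ev a.inv (M l s), ?_,
    fun T g h l => ?_, fun T g g' => ?_⟩
  · simp only [← map_mul, ← map_sum, h1, map_one]
  · simp only [ev_ev, MonObj.mul_comp]
    exact hlin T _ _ l
  simp only [ev_ev]
  rw [hz T (g ≫ a.inv) (g' ≫ a.inv), ← hπ]
  constructor
  · rintro ⟨h, hh⟩
    refine ⟨h ≫ b.hom, ?_⟩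
    have h2 := congrArg (· ≫ a.hom) hh
    simpa [MonObj.mul_comp, GrpObj.inv_comp] using h2
  · rintro ⟨h, hh⟩
    refine ⟨h ≫ b.inv, ?_⟩
    rw [← GrpObj.inv_comp, ← MonObj.mul_comp, hh]
    simp

end Groth.Agent.SolvGrp.StabVec
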