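import Groth.Agent.SolvGrp.Conj

/-! Weights of a torus: generic elements and finiteness of the normaliser modulo the centraliser. -/

set_option backward.isDefEq.respectTransparency false
set_option backward.isDefEq.respectTransparency.types false
set_option linter.style.haveILetI false

universe u

open CategoryTheory MonoidalCategory CartesianMonoidalCategory MonObj AlgebraicGeometry

namespace Groth.Agent.SolvGrp

open GrpSchLib GrpSchLib.Kunneth GrpSchLib.LineGroups WeilCmp.Unip AGFLib AGFLib.Gen AGFLib.BorelFixed AGFLib.BorelExist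

variable {k : Type u} [Field k] [IsAlgClosed k]

local notation "PT" => 𝟙_ (Over (Spec (CommRingCat.of k)))

variable {G : Over (Spec (CommRingCat.of k))} [GrpObj G] [IsAffine G.left] [LocallyOfFiniteType G.hom] [IsReduced G.left]

/-- A point is determined by its translation of a generating set of functions. -/
theorem eq_of_rl_eqOn {E : Set (Fn G)} (hE : Algebra.adjoin k E = ⊤) {g h : PT ⟶ G} (heq : ∀ e ∈ E, rl g e = rl h e) :
    g = h :=
  rl_inj (congrArg AlgHom.toLinearMap (AlgHom.ext_of_adjoin_eq_top hE heq : rt g = rt h))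

/-- Commuting semisimple points have a basis of common eigenfunctions in a stable generating space. -/
theorem exists_weightBasis (S : Set (PT ⟶ G)) (hss : ∀ g ∈ S, IsSsPt g) (hcomm : ∀ g ∈ S, ∀ h ∈ S, Commute g h) :
    ∃ (n : ℕ) (w : Fin n → Fn G), LinearIndependent k w ∧ Algebra.adjoin k (Set.range w) = ⊤ ∧
      (∀ (g : PT ⟶ G) a, rl g (w a) ∈ Submodule.span k (Set.range w)) ∧
      ∀ s ∈ S, ∀ a, ∃ c : k, rl s (w a) = c • w a := by
  classical
  obtain ⟨W, hW, hst, hgen⟩ := exists_genSpace (G := G)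
  let f : S → Module.End k W := fun g => (rl (g : PT ⟶ G)).restrict (hst g)
  let E : Set W := {w | ∀ g : S, ∃ c : k, rl (g : PT ⟶ G) w = c • (w : Fn G)}
  have hmax : ∀ (g : S) (c : k) (w : W), w ∈ (f g).maxGenEigenspace c → rl (g : PT ⟶ G) w = c • (w : Fn G) := by
    intro g c w hw
    refine apply_of_isDiag (hss g g.2) ?_
    obtain ⟨m, hm⟩ := (Module.End.mem_maxGenEigenspace _ c w).mp hw
    refine (Module.End.mem_maxGenEigenspace _ c _).mpr ⟨m, ?_⟩
    have key : ∀ (j : ℕ), ((rl (g : PT ⟶ G) - c • 1) ^ j) (w : Fn G) = (((f g - c • 1) ^ j) w : W) := by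
      intro j
      induction j with
      | zero => simp
      | succ j ih => rw [pow_succ', pow_succ', Module.End.mul_apply, Module.End.mul_apply, ih]; rfl
    rw [key, hm]; rfl
  have htop := Module.End.iSup_iInf_maxGenEigenspace_eq_top_of_iSup_maxGenEigenspace_eq_top_of_commute f
    (fun g h _ => LinearMap.ext fun w => Subtype.ext
      (LinearMap.congr_fun (rl_commute (hcomm g g.2 h h.2)) (w : Fn G)))
    (fun g => Module.End.iSup_maxGenEigenspace_eq_top _)
  have hspan : Submodule.span k E = ⊤ := by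
    refine eq_top_iff.mpr (htop.ge.trans (iSup_le fun χ w hw => Submodule.subset_span fun g => ?_))
    exact ⟨χ g, hmax g _ w ((Submodule.mem_iInf _).mp hw g)⟩
  obtain ⟨b, hbE, hbspan, hbli⟩ := exists_linearIndependent k E
  haveI : Finite b := hbli.finite
  let e := (Finite.equivFin b).symm
  let w : Fin (Nat.card b) → Fn G := fun a => ((e a : W) : Fn G)
  have hrange : Set.range w = W.subtype '' b := by
    ext x
    constructor
    · rintro ⟨a, rfl⟩
      exact ⟨_, (e a).2, rfl⟩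
    · rintro ⟨y, hy, rfl⟩
      exact ⟨e.symm ⟨y, hy⟩, by simp [w]⟩
  have hspanw : Submodule.span k (Set.range w) = W := by
    rw [hrange, Submodule.span_image, hbspan, hspan, Submodule.map_top, Submodule.range_subtype]
  refine ⟨_, w, ?_, ?_, fun g a => hspanw.symm ▸ hst g _ (e a : W).2, fun s hs a => hbE (e a).2 ⟨s, hs⟩⟩
  · exact (hbli.map' W.subtype W.ker_subtype).comp e e.injective
  · refine top_le_iff.mp (hgen ▸ Algebra.adjoin_le fun x hx => ?_)
    have : x ∈ Submodule.span k (Set.range w) := hspanw.symm ▸ hx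
    exact Algebra.span_le_adjoin k _ this

variable {T : Over (Spec (CommRingCat.of k))} [GrpObj T] (iT : T ⟶ G) [IsMonHom iT]

/-- The characters of a torus on its weight basis, as functions. -/
theorem exists_weights (hT : Red.IsTorus T) :
    ∃ (n : ℕ) (w : Fin n → Fn G) (χ : Fin n → Fn T), LinearIndependent k w ∧ Algebra.adjoin k (Set.range w) = ⊤ ∧
      (∀ (g : PT ⟶ G) a, rl g (w a) ∈ Submodule.span k (Set.range w)) ∧
      ∀ (t : PT ⟶ T) a, rl (t ≫ iT) (w a) = vl t (χ a) • w a := by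
  obtain ⟨n, w, hli, hgen, hst, heig⟩ := exists_weightBasis (rangePts iT : Set (PT ⟶ G))
    (fun g ⟨t, ht⟩ => (show t ≫ iT = g from ht) ▸ isSsPt_of_torus hT iT t)
    (fun g ⟨s, hs⟩ h ⟨t, ht⟩ => by
      rw [← show s ≫ iT = g from hs, ← show t ≫ iT = h from ht, Commute, SemiconjBy, ← MonObj.mul_comp,
        ← MonObj.mul_comp, (torus_commute hT s t).eq])
  have hx : ∀ a, ∃ x : PT ⟶ G, vl x (w a) ≠ 0 := fun a => by
    by_contra h
    push Not at h
    exact hli.ne_zero a (eq_of_vl fun x => by rw [h, map_zero])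
  choose x hx using hx
  refine ⟨n, w, fun a => (vl (x a) (w a))⁻¹ • ev ((toUnit T ≫ x a) * iT) (w a), hli, hgen, hst, fun t a => ?_⟩
  obtain ⟨c, hc⟩ := heig (t ≫ iT) ⟨t, rfl⟩ a
  have h1 : vl t (ev ((toUnit T ≫ x a) * iT) (w a)) = c * vl (x a) (w a) := by
    rw [vl_ev, MonObj.comp_mul, ← Category.assoc, toUnit_unique (t ≫ toUnit T) (𝟙 _), Category.id_comp, ← vl_rt,
      show rt (t ≫ iT) (w a) = c • w a from hc, map_smul, smul_eq_mul]
  rw [hc, map_smul, h1, smul_eq_mul, mul_comm c, inv_mul_cancel_left₀ (hx a)]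

/-- Some element of a torus has the same centraliser as the torus. -/
theorem exists_generic (hT : Red.IsTorus T) :
    ∃ t₀ : PT ⟶ T, ∀ g : PT ⟶ G, Commute g (t₀ ≫ iT) → ∀ s : PT ⟶ T, Commute g (s ≫ iT) := by
  classical
  obtain ⟨n, w, χ, hli, hgen, hst, hw⟩ := exists_weights iT hT
  obtain ⟨haff, hsm, hconn, -⟩ := torus_props hT
  haveI := haff
  haveI := hsm
  haveI := hconn
  haveI : IsReduced T.left := isReduced_of_smooth_field T.hom
  haveI : IrreducibleSpace T.left := Groth.Agent.S0348.result k T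
  haveI : IsIntegral T.left := isIntegral_of_irreducibleSpace_of_isReduced T.left
  let F : Fn T := ∏ p ∈ Finset.univ.filter (fun p : Fin n × Fin n => χ p.1 ≠ χ p.2), (χ p.1 - χ p.2)
  have hF : F ≠ 0 := Finset.prod_ne_zero_iff.mpr fun p hp => sub_ne_zero.mpr (Finset.mem_filter.mp hp).2
  obtain ⟨t₀, ht₀⟩ : ∃ t₀ : PT ⟶ T, vl t₀ F ≠ 0 := by
    by_contra h
    push Not at h
    exact hF (eq_of_vl fun x => by rw [h, map_zero])
  have hsep : ∀ a b, vl t₀ (χ a) = vl t₀ (χ b) → χ a = χ b := by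
    intro a b hab
    by_contra hne
    refine ht₀ ?_
    rw [map_prod]
    exact Finset.prod_eq_zero (Finset.mem_filter.mpr ⟨Finset.mem_univ (a, b), hne⟩) (by rw [map_sub, hab, sub_self])
  refine ⟨t₀, fun g hg s => eq_of_rl_eqOn hgen ?_⟩
  rintro _ ⟨a, rfl⟩
  rw [rl_mul, rl_mul, Module.End.mul_apply, Module.End.mul_apply, hw, map_smul]
  obtain ⟨c, hc⟩ := (Submodule.mem_span_range_iff_exists_fun k).mp (hst g a)
  have h1 : ∀ b, c b * vl t₀ (χ b) = c b * vl t₀ (χ a) := by
    have h2 := LinearMap.congr_fun (rl_commute hg) (w a)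
    rw [Module.End.mul_apply, Module.End.mul_apply, hw, map_smul, ← hc, map_sum, Finset.smul_sum] at h2
    simp only [map_smul, hw, smul_smul] at h2
    have h3 := Fintype.linearIndependent_iff.mp hli (fun b => c b * vl t₀ (χ b) - c b * vl t₀ (χ a)) (by
      simp only [sub_smul, Finset.sum_sub_distrib]
      rw [sub_eq_zero, ← h2]
      exact Finset.sum_congr rfl fun b _ => by rw [mul_comm])
    exact fun b => sub_eq_zero.mp (h3 b)
  rw [← hc, map_sum, Finset.smul_sum]
  refine Finset.sum_congr rfl fun b _ => ?_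
  rw [map_smul, hw, smul_smul, smul_smul]
  by_cases hcb : c b = 0
  · rw [hcb, zero_mul, mul_zero]
  · rw [hsep b a (mul_left_cancel₀ hcb (h1 b)), mul_comm]

/-- The normaliser of a torus is finite modulo its centraliser. -/
theorem finite_normalizer (hT : Red.IsTorus T) :
    ∃ R : Set (PT ⟶ G), R.Finite ∧ ∀ g : PT ⟶ G, (∀ s ∈ rangePts iT, g⁻¹ * s * g ∈ rangePts iT) →
      ∃ r ∈ R, ∀ s ∈ rangePts iT, Commute (g * r⁻¹) s := by
  classical
  obtain ⟨n, w, χ, hli, hgen, hst, hw⟩ := exists_weights iT hT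
  obtain ⟨haff, hsm, -, -⟩ := torus_props hT
  haveI := haff
  haveI := hsm
  haveI : IsReduced T.left := isReduced_of_smooth_field T.hom
  let N : Set (PT ⟶ G) := {g | ∀ s ∈ rangePts iT, g⁻¹ * s * g ∈ rangePts iT}
  -- the induced permutation of the weights
  let Φ : (PT ⟶ G) → Set (Fin n × Fin n) := fun g =>
    {p | ∀ t t' : PT ⟶ T, t' ≫ iT = g⁻¹ * (t ≫ iT) * g → vl t (χ p.2) = vl t' (χ p.1)}
  have key : ∀ g ∈ N, ∀ a, ∃ b, (a, b) ∈ Φ g := by
    intro g hg a
    obtain ⟨c, hc⟩ := (Submodule.mem_span_range_iff_exists_fun k).mp (hst g a)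
    obtain ⟨b, hb⟩ : ∃ b, c b ≠ 0 := by
      by_contra h
      push Not at h
      refine hli.ne_zero a (rl_injective_fun g ?_)
      rw [← hc, map_zero]
      simp [h]
    refine ⟨b, fun t t' ht => ?_⟩
    have h2 : rl (t ≫ iT) (rl g (w a)) = vl t' (χ a) • rl g (w a) := by
      rw [← map_smul, ← hw, ← Module.End.mul_apply, ← Module.End.mul_apply, ← rl_mul, ← rl_mul, ht,
        ← _root_.mul_assoc, ← _root_.mul_assoc, mul_inv_cancel, _root_.one_mul]
    rw [← hc, map_sum, Finset.smul_sum] at h2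
    simp only [map_smul, hw, smul_smul] at h2
    have h3 := Fintype.linearIndependent_iff.mp hli (fun b => c b * vl t (χ b) - vl t' (χ a) * c b) (by
      simp only [sub_smul, Finset.sum_sub_distrib, sub_eq_zero]
      exact h2) b
    rw [sub_eq_zero, mul_comm] at h3
    exact mul_right_cancel₀ hb h3
  let rep : Set (Fin n × Fin n) → (PT ⟶ G) := fun P => if h : ∃ g ∈ N, Φ g = P then h.choose else 1
  refine ⟨Set.range rep, Set.finite_range rep, fun g hg => ⟨rep (Φ g), ⟨_, rfl⟩, ?_⟩⟩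
  have hex : ∃ g' ∈ N, Φ g' = Φ g := ⟨g, hg, rfl⟩
  obtain ⟨hr, hΦ⟩ : rep (Φ g) ∈ N ∧ Φ (rep (Φ g)) = Φ g := by
    simp only [rep, dif_pos hex]
    exact hex.choose_spec
  intro s hs
  obtain ⟨t, rfl⟩ := id hs
  obtain ⟨t₁, ht₁⟩ := hg _ hs
  obtain ⟨t₂, ht₂⟩ := hr _ hs
  change t₁ ≫ iT = g⁻¹ * (t ≫ iT) * g at ht₁
  change t₂ ≫ iT = (rep (Φ g))⁻¹ * (t ≫ iT) * rep (Φ g) at ht₂
  have he : t₁ ≫ iT = t₂ ≫ iT := eq_of_rl_eqOn hgen (by
    rintro _ ⟨a, rfl⟩
    obtain ⟨b, hb⟩ := key g hg a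
    rw [hw, hw, ← hb t t₁ ht₁]
    rw [← hΦ] at hb
    rw [← hb t t₂ ht₂])
  rw [ht₁, ht₂] at he
  show g * (rep (Φ g))⁻¹ * (t ≫ iT) = (t ≫ iT) * (g * (rep (Φ g))⁻¹)
  have h4 := congrArg (fun x => g * x * (rep (Φ g))⁻¹) he
  simpa [_root_.mul_assoc] using h4.symm

end Groth.Agent.SolvGrp
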