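import Groth.Agent.SolvGrp.BorelCent
import Groth.Agent.SolvGrp.Weights
import Groth.Agent.SolvGrp.StabVec
import Groth.Agent.AGFLib.CentBorel
import Groth.Agent.GrpSchLib.AntiAffineAction
import Mathlib.FieldTheory.IsAlgClosed.Basic
import Mathlib.LinearAlgebra.Matrix.Determinant.Basic

/-! Borel subgroups are their own normalisers. -/

set_option backward.isDefEq.respectTransparency false
set_option backward.isDefEq.respectTransparency.types false
set_option linter.style.haveILetI false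

universe u

open CategoryTheory MonoidalCategory CartesianMonoidalCategory MonObj AlgebraicGeometry

namespace Groth.Agent.SolvGrp

open GrpSchLib GrpSchLib.Kunneth GrpSchLib.LineGroups WeilCmp.Unip AGFLib AGFLib.Gen AGFLib.BorelFixed AGFLib.BorelExist
open AGFLib.QuotProper

variable {k : Type u} [Field k] [IsAlgClosed k]

local notation "PT" => 𝟙_ (Over (Spec (CommRingCat.of k)))

/-- A character takes the value one at unipotent points. -/
theorem char_eq_one {B : Over (Spec (CommRingCat.of k))} [GrpObj B] [IsAffine B.left] [LocallyOfFiniteType B.hom]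
    [IsReduced B.left] (F : Fn B) (hF : ∀ a b : PT ⟶ B, vl (a * b) F = vl a F * vl b F) (h1 : vl 1 F = 1)
    {u : PT ⟶ B} (hu : IsUnipPt u) : vl u F = 1 := by
  have he : rl u F = vl u F • F := eq_of_vl fun x => by
    show vl x (rt u F) = _
    rw [vl_rt, hF, map_smul, smul_eq_mul, _root_.mul_comm]
  have hp : ∀ n : ℕ, ((rl u - 1) ^ n) F = (vl u F - 1) ^ n • F := by
    intro n
    induction n with
    | zero => simp
    | succ n ih =>
      rw [pow_succ', Module.End.mul_apply, ih, map_smul, LinearMap.sub_apply, Module.End.one_apply, he,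
        pow_succ, smul_sub, smul_smul, mul_sub, sub_smul, _root_.mul_one]
  obtain ⟨n, hn⟩ := hu F
  rw [hp] at hn
  have h2 := congrArg (vl (1 : PT ⟶ B)) hn
  rw [map_smul, h1, map_zero, smul_eq_mul, _root_.mul_one] at h2
  exact sub_eq_zero.mp (eq_zero_of_pow_eq_zero h2)

/-- A function on a connected group with values roots of unity is constant. -/
theorem eq_one_of_pow_vl {T : Over (Spec (CommRingCat.of k))} [GrpObj T] [IsAffine T.left] [Smooth T.hom]
    [ConnectedSpace T.left] (F : Fn T) {m : ℕ} (hm : m ≠ 0) (h : ∀ t : PT ⟶ T, vl t F ^ m = 1) (h1 : vl 1 F = 1)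
    (t : PT ⟶ T) : vl t F = 1 := by
  haveI : IsReduced T.left := isReduced_of_smooth_field T.hom
  haveI : IrreducibleSpace T.left := Groth.Agent.S0348.result k T
  haveI : IsIntegral T.left := isIntegral_of_irreducibleSpace_of_isReduced _
  haveI : Nonempty (⊤ : T.left.Opens) := ⟨⟨Classical.arbitrary T.left, trivial⟩⟩
  haveI : IsDomain (Fn T) := inferInstanceAs (IsDomain Γ(T.left, ⊤))
  have hFm : F ^ m = 1 := eq_of_vl fun x => by rw [map_pow, map_one]; exact h x
  let p : Polynomial k := Polynomial.X ^ m - Polynomial.C 1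
  have hs := (IsAlgClosed.splits p).eq_prod_roots
  have h0 : Polynomial.aeval F p = 0 := by simp [p, hFm]
  rw [hs, map_mul, Polynomial.aeval_C, mul_eq_zero] at h0
  rcases h0 with h0 | h0
  · rw [(Polynomial.monic_X_pow_sub_C (1 : k) hm).leadingCoeff, map_one] at h0
    exact absurd h0 one_ne_zero
  · rw [map_multiset_prod, Multiset.prod_eq_zero_iff] at h0
    simp only [Multiset.mem_map] at h0
    obtain ⟨_, ⟨r, -, rfl⟩, hr⟩ := h0
    rw [map_sub, Polynomial.aeval_X, Polynomial.aeval_C, sub_eq_zero] at hr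
    rw [hr, AlgHom.commutes] at h1 ⊢
    exact h1

variable {G : Over (Spec (CommRingCat.of k))} [GrpObj G] [IsAffine G.left] [Smooth G.hom] [ConnectedSpace G.left]

/-- A function invariant under a Borel subgroup is constant. -/
theorem eq_const_of_invariant {B : Over (Spec (CommRingCat.of k))} [GrpObj B] (iB : B ⟶ G) [IsMonHom iB]
    (hB : Red.IsBorelOver k iB) (f : Fn G) (hf : ∀ (g : PT ⟶ G), ∀ b ∈ rangePts iB, vl (g * b) f = vl g f)
    (g : PT ⟶ G) : vl g f = vl 1 f := by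
  haveI := hB.2.1
  haveI := hB.2.2.1
  obtain ⟨haB, hlB, hqB, hmonoB, -⟩ := sub_props iB
  haveI := haB
  haveI := hlB
  haveI := hqB
  haveI := hmonoB
  haveI : IsReduced B.left := isReduced_of_smooth_field B.hom
  haveI : IsReduced G.left := isReduced_of_smooth_field G.hom
  obtain ⟨X, a, o, hl, -, hfl, hsu, hsq⟩ := GrpSchLib.HomogeneousQuot.exists_quot G B iB
  have hX : AGF.IsQuotient iB X a o := ⟨hl, hfl, hsu, hsq⟩
  haveI := hl
  haveI := hfl
  haveI := hsu
  haveI := AGFLib.Borel.isProper_borel iB hB hX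
  haveI : QuasiCompact G.hom := inferInstance
  obtain ⟨_, _⟩ := QuotProper.quot_orbit_qc hX
  haveI : IsLocallyNoetherian X.left := LocallyOfFiniteType.isLocallyNoetherian X.hom
  haveI : LocallyOfFiniteType ((a.orbitMap o).left ≫ X.hom) := by rw [Over.w (a.orbitMap o)]; infer_instance
  haveI : LocallyOfFiniteType (a.orbitMap o).left := locallyOfFiniteType_of_comp (a.orbitMap o).left X.hom
  haveI : LocallyOfFinitePresentation (a.orbitMap o).left := inferInstance
  let ψ : G ⟶ aff k 1 := affPt fun _ => f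
  have hψ : ev ψ (affCoord 0) = f := ev_affPt _ _
  haveI : IsReduced (G ⊗ B).left := GrpSchLib.isReduced_pullback_of_perfectField G.hom B.hom
  haveI : LocallyOfFiniteType (G ⊗ B).hom :=
    inferInstanceAs (LocallyOfFiniteType (Limits.pullback.fst G.hom B.hom ≫ G.hom))
  haveI : IsSeparated (aff k 1).hom := inferInstance
  have hinv : fst G B ≫ ψ = ((G ◁ iB) ≫ μ[G]) ≫ ψ := by
    refine hom_ext_pts fun x => aff_ext fun i => (ProjAct.toK (k := k)).injective ?_
    rw [Fin.eq_zero i]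
    show vl (x ≫ fst G B ≫ ψ) (affCoord 0) = vl (x ≫ ((G ◁ iB) ≫ μ[G]) ≫ ψ) (affCoord 0)
    rw [← Category.assoc, ← Category.assoc x _ ψ, ← QuotProper.mul_eq_comp, ← vl_ev (x ≫ fst G B) ψ,
      ← vl_ev (x ≫ fst G B * x ≫ snd G B ≫ iB) ψ, hψ]
    exact (hf _ _ ⟨x ≫ snd G B, Category.assoc _ _ _⟩).symm
  obtain ⟨e, he⟩ := GrpSchLib.OrbitImmersion.exists_desc hsq ψ hinv
  obtain ⟨c, hc⟩ : ∃ c, algebraMap k (Fn X) c = ev e (affCoord 0) :=
    ((AGFLib.CentBorel.bijective_appTop hX).2.comp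
      (ConcreteCategory.bijective_of_isIso (Scheme.ΓSpecIso (CommRingCat.of k)).inv).2) _
  have key : ∀ h : PT ⟶ G, vl h f = c := fun h => by
    rw [← hψ, ← he, ← ev_ev, ← hc, AlgHom.commutes, AlgHom.commutes]
    rfl
  rw [key, key]

/-- The obstruction to a closed subgroup containing a Borel subgroup being everything is a character. -/
theorem exists_char {B : Over (Spec (CommRingCat.of k))} [GrpObj B] (iB : B ⟶ G) [IsMonHom iB]
    (hB : Red.IsBorelOver k iB) (Γ : Subgroup (PT ⟶ G)) (hΓ : PtsClosed (Γ : Set (PT ⟶ G)))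
    (hle : rangePts iB ≤ Γ) :
    ∃ F : Fn G, vl 1 F = 1 ∧ (∀ a ∈ Γ, ∀ b ∈ Γ, vl (a * b) F = vl a F * vl b F) ∧
      (∀ s ∈ Γ, (∀ g, Commute g s) → vl s F = 1) ∧ ((∀ b ∈ rangePts iB, vl b F = 1) → Γ = ⊤) := by
  classical
  haveI : IsReduced G.left := isReduced_of_smooth_field G.hom
  obtain ⟨D, _, iD, hiD, hciD, hsD, haD, hD⟩ := exists_sub Γ hΓ
  haveI := hiD
  haveI := hciD
  obtain ⟨n, z, α, M, h1, hlin, hz⟩ := StabVec.exists_vec_grp G D iD
  let Φ : (PT ⟶ G) → Fin (n + 1) → k := fun g x => vl g (z x)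
  let L : (PT ⟶ G) → ((Fin (n + 1) → k) →ₗ[k] Fin (n + 1) → k) := fun g =>
    (Matrix.of fun x s => vl g (M x s)).mulVecLin
  have hL : ∀ g h, Φ (g * h) = L g (Φ h) := fun g h => funext fun x => by
    show ProjAct.toK (ev (g * h) (z x)) = _
    rw [hlin PT g h x, map_sum]
    simp only [map_mul]
    rfl
  have hΦ0 : ∀ g, ∃ x, Φ g x ≠ 0 := fun g => by
    by_contra hne
    push Not at hne
    have h2 := congrArg (vl g) h1
    rw [map_sum, map_one] at h2
    simp only [map_mul, show ∀ x, vl g (z x) = 0 from hne, mul_zero, Finset.sum_const_zero] at h2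
    exact zero_ne_one h2
  have hcrit : ∀ g g' : PT ⟶ G, (∀ x q, Φ g x * Φ g' q = Φ g q * Φ g' x) ↔ g⁻¹ * g' ∈ Γ := fun g g' => by
    rw [← hD]
    constructor
    · intro h
      obtain ⟨w, hw⟩ := (hz PT g g').mp fun x q => (ProjAct.toK (k := k)).injective (by
        rw [map_mul, map_mul]; exact h x q)
      exact ⟨w, hw.symm⟩
    · rintro ⟨w, hw⟩ x q
      have h2 := (hz PT g g').mpr ⟨w, hw.symm⟩ x q
      have h3 := congrArg (ProjAct.toK (k := k)) h2
      rwa [map_mul, map_mul] at h3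
  obtain ⟨x₀, hx₀⟩ := hΦ0 1
  let χf : Fn G := (Φ 1 x₀)⁻¹ • z x₀
  have hχ : ∀ h ∈ Γ, ∀ g, Φ (g * h) = vl h χf • Φ g := by
    intro h hh g
    have h2 : Φ h = vl h χf • Φ 1 := funext fun q => by
      have h3 := (hcrit 1 h).mpr (by simpa using hh) x₀ q
      show Φ h q = vl h ((Φ 1 x₀)⁻¹ • z x₀) * Φ 1 q
      rw [map_smul, smul_eq_mul]
      show Φ h q = (Φ 1 x₀)⁻¹ * Φ h x₀ * Φ 1 q
      field_simp
      linear_combination h3
    rw [hL, h2, map_smul, ← hL, _root_.mul_one]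
  have hχmul : ∀ a ∈ Γ, ∀ b ∈ Γ, vl (a * b) χf = vl a χf * vl b χf := fun a ha b hb => by
    have h2 := hχ _ (mul_mem ha hb) 1
    rw [← _root_.mul_assoc, hχ b hb, hχ a ha, smul_smul] at h2
    have h3 := congrFun h2 x₀
    simp only [Pi.smul_apply, smul_eq_mul] at h3
    rw [_root_.mul_comm (vl a χf)]
    exact (mul_right_cancel₀ hx₀ h3).symm
  have hχ1 : vl 1 χf = 1 := by
    show vl 1 ((Φ 1 x₀)⁻¹ • z x₀) = 1
    rw [map_smul, smul_eq_mul]
    exact inv_mul_cancel₀ hx₀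
  -- the determinant of the span of the orbit
  obtain ⟨κ, a, -, hspan, hli⟩ := exists_linearIndependent' k Φ
  haveI : Finite κ := hli.finite
  haveI : Fintype κ := Fintype.ofFinite κ
  obtain ⟨π, hπ⟩ := (Fintype.linearCombination k (Φ ∘ a)).exists_leftInverse_of_injective
    (LinearMap.ker_eq_bot.mpr (linearIndependent_iff_injective_fintypeLinearCombination.mp hli))
  have hπ' : ∀ c, π (Fintype.linearCombination k (Φ ∘ a) c) = c := fun c => LinearMap.congr_fun hπ c
  let C : (PT ⟶ G) → Matrix κ κ k := fun g => Matrix.of fun j i => π (Φ (g * a i)) j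
  have hmemW : ∀ g, ∃ c, Fintype.linearCombination k (Φ ∘ a) c = Φ g := fun g => by
    have h2 : Φ g ∈ Submodule.span k (Set.range (Φ ∘ a)) := hspan ▸ Submodule.subset_span ⟨g, rfl⟩
    obtain ⟨c, hc⟩ := (Submodule.mem_span_range_iff_exists_fun k).mp h2
    exact ⟨c, (Fintype.linearCombination_apply k _ c).trans hc⟩
  have hC : ∀ g i, Φ (g * a i) = ∑ j, C g j i • Φ (a j) := fun g i => by
    obtain ⟨c, hc⟩ := hmemW (g * a i)
    have h2 : ∀ j, C g j i = c j := fun j => by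
      show π (Φ (g * a i)) j = c j
      rw [← hc, hπ']
    simp only [h2]
    exact hc.symm.trans (Fintype.linearCombination_apply k _ c)
  have hCmul : ∀ g h, C (g * h) = C g * C h := fun g h => by
    ext j i
    show π (Φ (g * h * a i)) j = _
    rw [_root_.mul_assoc, hL, hC h i, map_sum, map_sum, Finset.sum_apply, Matrix.mul_apply]
    refine Finset.sum_congr rfl fun l _ => ?_
    rw [map_smul, map_smul, ← hL, Pi.smul_apply, smul_eq_mul, _root_.mul_comm]
    rfl
  have hCone : C 1 = 1 := by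
    ext j i
    show π (Φ (1 * a i)) j = _
    rw [_root_.one_mul, show Φ (a i) = Fintype.linearCombination k (Φ ∘ a) (Pi.single i 1) by
      rw [Fintype.linearCombination_apply_single, one_smul]; rfl, hπ', Matrix.one_apply, Pi.single_apply]
  let δ : Fn G := Matrix.det (Matrix.of fun j i => ∑ x, π (Pi.single x 1) j • rt (a i) (z x))
  have hδ : ∀ g, vl g δ = (C g).det := fun g => by
    rw [AlgHom.map_det]
    congr 1
    ext j i
    show vl g (∑ x, π (Pi.single x 1) j • rt (a i) (z x)) = π (Φ (g * a i)) j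
    rw [map_sum, LinearMap.pi_apply_eq_sum_univ π (Φ (g * a i)), Finset.sum_apply]
    refine Finset.sum_congr rfl fun x _ => ?_
    rw [map_smul, vl_rt, Pi.smul_apply, smul_eq_mul, smul_eq_mul, _root_.mul_comm]
    congr 1
    exact congrArg (fun v => π v j) (funext fun y => by rw [Pi.single_apply]; simp [eq_comm])
  let δi : Fn G := ev ((𝟙 G)⁻¹) δ
  have hδi : ∀ g, vl g δi * (C g).det = 1 := fun g => by
    rw [show vl g δi = (C g⁻¹).det by
      rw [← hδ, show δi = ev ((𝟙 G)⁻¹) δ from rfl, vl_ev, GrpObj.comp_inv, Category.comp_id],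
      ← Matrix.det_mul, ← hCmul, inv_mul_cancel, hCone, Matrix.det_one]
  have hdiMul : ∀ g h, vl (g * h) δi = vl g δi * vl h δi := fun g h => by
    have h2 := hδi (g * h)
    rw [hCmul, Matrix.det_mul] at h2
    calc vl (g * h) δi = vl (g * h) δi * ((vl g δi * (C g).det) * (vl h δi * (C h).det)) := by
          rw [hδi, hδi, _root_.mul_one, _root_.mul_one]
      _ = (vl (g * h) δi * ((C g).det * (C h).det)) * (vl g δi * vl h δi) := by ring
      _ = vl g δi * vl h δi := by rw [h2, _root_.one_mul]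
  have hdi1 : vl 1 δi = 1 := by simpa [hCone] using hδi 1
  refine ⟨χf ^ Fintype.card κ * δi, ?_, fun b hb c hc => ?_, fun s hs hcomm => ?_, fun hFB => ?_⟩
  · rw [map_mul, map_pow, hχ1, hdi1, one_pow, _root_.one_mul]
  · simp only [map_mul, map_pow, hχmul b hb c hc, hdiMul, mul_pow]
    ring
  · have h2 : C s = vl s χf • (1 : Matrix κ κ k) := by
      ext j i
      show π (Φ (s * a i)) j = _
      rw [← (hcomm (a i)).eq, hχ s hs, map_smul, show Φ (a i) = Fintype.linearCombination k (Φ ∘ a) (Pi.single i 1) by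
        rw [Fintype.linearCombination_apply_single, one_smul]; rfl, hπ', Pi.smul_apply, Matrix.smul_apply,
        Matrix.one_apply, Pi.single_apply]
    have h3 := hδi s
    rw [h2, Matrix.det_smul, Matrix.det_one, _root_.mul_one] at h3
    rw [map_mul, map_pow, _root_.mul_comm]
    exact h3
  · haveI : Nonempty κ := by
      by_contra hne
      rw [not_nonempty_iff] at hne
      obtain ⟨c, hc⟩ := hmemW 1
      rw [Fintype.linearCombination_apply, Finset.univ_eq_empty, Finset.sum_empty] at hc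
      exact hx₀ (congrFun hc x₀).symm
    obtain ⟨i₀⟩ := ‹Nonempty κ›
    have key : ∀ (g : PT ⟶ G) (s : κ → Fin (n + 1)), (∏ i, Φ g (s i)) * vl g δi = ∏ i, Φ 1 (s i) := by
      intro g s
      have h2 := eq_const_of_invariant iB hB ((∏ i, z (s i)) * δi) (fun g b hb => by
        simp only [map_mul, map_prod, hdiMul]
        rw [show (∏ i, vl (g * b) (z (s i))) = ∏ i, vl b χf * vl g (z (s i)) from
          Finset.prod_congr rfl fun i _ => congrFun (hχ b (hle hb) g) (s i), Finset.prod_mul_distrib,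
          Finset.prod_const, Finset.card_univ]
        have h3 := hFB b hb
        rw [map_mul, map_pow] at h3
        linear_combination ((∏ i, vl g (z (s i))) * vl g δi) * h3) g
      simp only [map_mul, map_prod, hdi1, _root_.mul_one] at h2
      exact h2
    refine eq_top_iff.mpr fun g _ => ?_
    have hd : Fintype.card κ ≠ 0 := Fintype.card_ne_zero
    have h0 := key g fun _ => x₀
    rw [Finset.prod_const, Finset.prod_const, Finset.card_univ] at h0
    have hgx : Φ g x₀ ≠ 0 := fun e => pow_ne_zero (Fintype.card κ) hx₀ (by rw [← h0, e, zero_pow hd, zero_mul])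
    have hq : ∀ q, Φ g q * Φ 1 x₀ = Φ g x₀ * Φ 1 q := fun q => by
      have h2 := key g (Function.update (fun _ => x₀) i₀ q)
      have e : ∀ v : Fin (n + 1) → k, ∏ i, v (Function.update (fun _ => x₀) i₀ q i) =
          v q * v x₀ ^ (Fintype.card κ - 1) := fun v => by
        rw [show (fun i => v (Function.update (fun _ => x₀) i₀ q i)) = Function.update (fun _ => v x₀) i₀ (v q) from
          funext fun i => by by_cases h : i = i₀ <;> simp [h],
          Finset.prod_update_of_mem (Finset.mem_univ i₀), Finset.prod_const, Finset.card_sdiff]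
        simp
      rw [e, e] at h2
      have h4 : Φ g x₀ ^ (Fintype.card κ - 1) * Φ g x₀ = Φ g x₀ ^ Fintype.card κ := pow_sub_one_mul hd _
      have h5 : Φ 1 x₀ ^ (Fintype.card κ - 1) * Φ 1 x₀ = Φ 1 x₀ ^ Fintype.card κ := pow_sub_one_mul hd _
      refine mul_left_cancel₀ (mul_ne_zero (pow_ne_zero (Fintype.card κ - 1) hgx) (fun e => ?_ : vl g δi ≠ 0)) ?_
      · exact pow_ne_zero (Fintype.card κ) hx₀ (by rw [← h0, e, mul_zero])
      · linear_combination (Φ 1 x₀) * h2 + (Φ 1 q) * (h5 - (vl g δi) * h4 - h0)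
    have h6 : (1 : PT ⟶ G)⁻¹ * g ∈ Γ := (hcrit 1 g).mp fun x q => by
      refine mul_left_cancel₀ hx₀ ?_
      linear_combination (Φ 1 x) * hq q - (Φ 1 q) * hq x
    simpa using h6

/-- The normaliser of a closed subgroup is closed. -/
theorem ptsClosed_normalizer {B : Over (Spec (CommRingCat.of k))} [GrpObj B] (iB : B ⟶ G) [IsMonHom iB]
    [IsClosedImmersion iB.left] :
    PtsClosed {g : PT ⟶ G | ∀ y ∈ rangePts iB, g * y * g⁻¹ ∈ rangePts iB ∧ g⁻¹ * y * g ∈ rangePts iB} := by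
  obtain ⟨-, hlB, hqB, -, -⟩ := sub_props iB
  haveI := hlB
  haveI := hqB
  haveI : QuasiCompact G.hom := inferInstance
  have h1 : {g : PT ⟶ G | ∀ y ∈ rangePts iB, g * y * g⁻¹ ∈ rangePts iB ∧ g⁻¹ * y * g ∈ rangePts iB} =
      ⋂ y : rangePts iB, {g : PT ⟶ G | g ≫ (𝟙 G * (toUnit G ≫ (y : PT ⟶ G)) * (𝟙 G)⁻¹) ∈ rangePts iB} ∩
        {g : PT ⟶ G | g ≫ ((𝟙 G)⁻¹ * (toUnit G ≫ (y : PT ⟶ G)) * 𝟙 G) ∈ rangePts iB} := by
    ext g
    simp only [Set.mem_ofPred_eq, Set.mem_iInter, Set.mem_inter_iff, MonObj.comp_mul, GrpObj.comp_inv,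
      Category.comp_id, Subtype.forall]
    refine forall₂_congr fun y _ => ?_
    rw [← Category.assoc, toUnit_unique (g ≫ toUnit G) (𝟙 _), Category.id_comp]
  rw [h1]
  exact PtsClosed.iInter fun y => ((ptsClosed_range iB).preimage _).inter ((ptsClosed_range iB).preimage _)

/-- The norm of an endomorphism of a torus. -/
theorem exists_norm {T : Over (Spec (CommRingCat.of k))} [GrpObj T] (hT : Red.IsTorus T) (φ : T ⟶ T) [IsMonHom φ]
    {m : ℕ} (hm : ∀ t : PT ⟶ T, (fun s : PT ⟶ T => s ≫ φ)^[m] t = t) :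
    ∃ N : T ⟶ T, IsMonHom N ∧ (∀ t : PT ⟶ T, t ≫ N ≫ φ = t ≫ N) ∧
      ∀ (V : (PT ⟶ T) → k), (∀ a b, V (a * b) = V a * V b) → V 1 = 1 → (∀ t, V (t ≫ φ) = V t) →
        ∀ t, V (t ≫ N) = V t ^ m := by
  obtain ⟨haT, hsT, -, -⟩ := torus_props hT
  haveI := haT
  haveI := hsT
  let σ : ℕ → (PT ⟶ T) → (PT ⟶ T) := fun i t => Nat.rec (motive := fun _ => PT ⟶ T) 1 (fun _ p => t * (p ≫ φ)) i
  have hex : ∀ i, ∃ N : T ⟶ T, IsMonHom N ∧ ∀ t : PT ⟶ T, t ≫ N = σ i t := by
    intro i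
    induction i with
    | zero =>
      exact ⟨1, AGFLib.isMonHom_of_mul _ fun X a b => by simp [MonObj.comp_one], fun t => MonObj.comp_one t⟩
    | succ i ih =>
      obtain ⟨N, hN, hNσ⟩ := ih
      refine ⟨𝟙 T * (N ≫ φ), AGFLib.isMonHom_of_mul _ fun X a b => ?_, fun t => ?_⟩
      · rw [MonObj.comp_mul, MonObj.comp_mul, MonObj.comp_mul, Category.comp_id, Category.comp_id, Category.comp_id,
          MonObj.mul_comp, _root_.mul_assoc a b, ← _root_.mul_assoc b (a ≫ N ≫ φ),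
          mul_comm_of_pts (torus_commute hT) b (a ≫ N ≫ φ), _root_.mul_assoc, _root_.mul_assoc]
      · rw [MonObj.comp_mul, Category.comp_id, ← Category.assoc, hNσ]
  have hs : ∀ i t, σ (i + 1) t = σ i t * (fun s : PT ⟶ T => s ≫ φ)^[i] t := by
    intro i t
    induction i with
    | zero =>
      show t * ((1 : PT ⟶ T) ≫ φ) = 1 * t
      rw [MonObj.one_comp, _root_.mul_one, _root_.one_mul]
    | succ i ih =>
      show t * (σ (i + 1) t ≫ φ) = t * (σ i t ≫ φ) * (fun s : PT ⟶ T => s ≫ φ)^[i + 1] t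
      rw [ih, MonObj.mul_comp, Function.iterate_succ', Function.comp_apply, _root_.mul_assoc]
  obtain ⟨N, hN, hNσ⟩ := hex m
  refine ⟨N, hN, fun t => ?_, fun V hV hV1 hVφ t => ?_⟩
  · have h1 : t * (σ m t ≫ φ) = σ m t * t := (hs m t).trans (by rw [hm])
    rw [(torus_commute hT (σ m t) t).eq] at h1
    rw [← Category.assoc, hNσ]
    exact mul_left_cancel h1
  · rw [hNσ]
    clear hm hNσ
    induction m with
    | zero => exact hV1.trans (pow_zero _).symm
    | succ m ih =>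
      show V (t * (σ m t ≫ φ)) = _
      rw [hV, hVφ, ih, pow_succ']

/-- The inductive step for normalisers of Borel subgroups. -/
theorem normalizer_borel_step
    (IH : ∀ (Z : Over (Spec (CommRingCat.of k))) [GrpObj Z] (z : Z ⟶ G) [IsMonHom z], IsClosedImmersion z.left →
      Smooth Z.hom → ConnectedSpace Z.left → rangePts z ≠ ⊤ → ∀ (B : Over (Spec (CommRingCat.of k))) [GrpObj B]
      (iB : B ⟶ Z) [IsMonHom iB], Red.IsBorelOver k iB → ∀ x : PT ⟶ Z,
      (∀ y ∈ rangePts iB, x * y * x⁻¹ ∈ rangePts iB ∧ x⁻¹ * y * x ∈ rangePts iB) → x ∈ rangePts iB)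
    {B : Over (Spec (CommRingCat.of k))} [GrpObj B] (iB : B ⟶ G) [IsMonHom iB] (hB : Red.IsBorelOver k iB)
    (x : PT ⟶ G) (hx : ∀ y ∈ rangePts iB, x * y * x⁻¹ ∈ rangePts iB ∧ x⁻¹ * y * x ∈ rangePts iB) :
    x ∈ rangePts iB := by
  classical
  haveI := hB.2.1
  haveI := hB.2.2.1
  obtain ⟨haB, hlB, hqB, hmonoB, -⟩ := sub_props iB
  haveI := haB
  haveI := hlB
  haveI := hqB
  haveI : IsReduced B.left := isReduced_of_smooth_field B.hom
  haveI : IsReduced G.left := isReduced_of_smooth_field G.hom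
  obtain ⟨T, _, i, hi, hiT, hmono, hT, hA, hC⟩ := exists_borelTorus iB hB
  haveI := hi
  haveI := hiT
  haveI := hmono
  obtain ⟨hcT, hsT, hconnT, haT, hlT, hqT, -⟩ := torus_sub hT (i ≫ iB)
  haveI := hcT
  haveI := hsT
  haveI := hconnT
  haveI := haT
  haveI := hlT
  haveI := hqT
  have hTB : rangePts (i ≫ iB) ≤ rangePts iB := rangePts_comp iB i
  haveI : IsMonHom (AGF.conjBy x (i ≫ iB)) := by rw [AGFLib.Borel.conjBy_eq]; infer_instance
  obtain ⟨b, hb⟩ := hC T (AGF.conjBy x (i ≫ iB)) hT fun s hs => by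
    rw [rangePts_conjBy] at hs
    have h1 := (hx _ (hTB hs)).1
    rwa [show x * (x⁻¹ * s * x) * x⁻¹ = s by group] at h1
  suffices hy : (b ≫ iB) * x ∈ rangePts iB by
    have h1 := mul_mem (inv_mem (⟨b, rfl⟩ : b ≫ iB ∈ rangePts iB)) hy
    rwa [inv_mul_cancel_left] at h1
  let Γ : Subgroup (PT ⟶ G) :=
    { carrier := {g | ∀ y ∈ rangePts iB, g * y * g⁻¹ ∈ rangePts iB ∧ g⁻¹ * y * g ∈ rangePts iB}
      one_mem' := fun y hy => by simpa using hy
      mul_mem' := fun {g h} hg hh y hy => ⟨by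
        have := (hg _ (hh y hy).1).1
        simpa [_root_.mul_assoc] using this, by
        have := (hh _ (hg y hy).2).2
        simpa [_root_.mul_assoc] using this⟩
      inv_mem' := fun {g} hg y hy => by simpa using ⟨(hg y hy).2, (hg y hy).1⟩ }
  have hBΓ : rangePts iB ≤ Γ := fun g hg y hy =>
    ⟨mul_mem (mul_mem hg hy) (inv_mem hg), mul_mem (mul_mem (inv_mem hg) hy) hg⟩
  have hyΓ : (b ≫ iB) * x ∈ Γ := mul_mem (hBΓ ⟨b, rfl⟩) hx
  generalize hy' : (b ≫ iB) * x = y at hyΓ ⊢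
  have hyT : ∀ s ∈ rangePts (i ≫ iB), y * s * y⁻¹ ∈ rangePts (i ≫ iB) := fun s hs => by
    have h1 := hb (x * s * x⁻¹) (by rw [rangePts_conjBy]; simpa [_root_.mul_assoc] using hs)
    rw [← hy']
    simpa [_root_.mul_assoc] using h1
  have hpow : ∀ (j : ℕ), ∀ s ∈ rangePts (i ≫ iB), y ^ j * s * (y ^ j)⁻¹ ∈ rangePts (i ≫ iB) := by
    intro j
    induction j with
    | zero => intro s hs; simpa using hs
    | succ j ih =>
      intro s hs
      have h1 := hyT _ (ih s hs)
      rw [pow_succ', _root_.mul_inv_rev]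
      simpa [_root_.mul_assoc] using h1
  obtain ⟨R, hR, hRm⟩ := finite_normalizer (i ≫ iB) hT
  choose r hr hrc using fun j : ℕ => hRm (y ^ j)⁻¹ fun s hs => by simpa using hpow j s hs
  obtain ⟨j₁, -, j₂, -, hlt, heq⟩ : ∃ j₁ ∈ (Set.univ : Set ℕ), ∃ j₂ ∈ (Set.univ : Set ℕ), j₁ < j₂ ∧ r j₁ = r j₂ :=
    Set.infinite_univ.exists_lt_map_eq_of_mapsTo (fun j _ => hr j) hR
  have hcomm : ∀ s ∈ rangePts (i ≫ iB), Commute (y ^ (j₂ - j₁)) s := fun s hs => by
    have h1 := (hrc j₁ s hs).mul_left (hrc j₂ s hs).inv_left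
    rwa [heq, _root_.mul_inv_rev, _root_.inv_inv, _root_.inv_inv, _root_.mul_assoc, ← _root_.mul_assoc (r j₂)⁻¹,
      inv_mul_cancel, _root_.one_mul,
      show (y ^ j₁)⁻¹ * y ^ j₂ = y ^ (j₂ - j₁) by
        rw [inv_mul_eq_iff_eq_mul, ← pow_add, Nat.add_sub_cancel' hlt.le]] at h1
  haveI : IsMonHom (AGF.conjBy y (i ≫ iB)) := by rw [AGFLib.Borel.conjBy_eq]; infer_instance
  obtain ⟨φ, hφ, hφe⟩ := exists_fac_sub (i ≫ iB) (AGF.conjBy y (i ≫ iB)) fun s hs => by
    rw [rangePts_conjBy] at hs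
    have h1 := hyT _ hs
    rwa [show y * (y⁻¹ * s * y) * y⁻¹ = s by group] at h1
  haveI := hφ
  have hφpt : ∀ t : PT ⟶ T, (t ≫ φ) ≫ i ≫ iB = y * (t ≫ i ≫ iB) * y⁻¹ := fun t => by
    rw [Category.assoc, hφe, AGFLib.Borel.conjBy_eq, ← Category.assoc, comp_conjM_pt]
  have hφit : ∀ (j : ℕ) (t : PT ⟶ T), ((fun s : PT ⟶ T => s ≫ φ)^[j] t) ≫ i ≫ iB =
      y ^ j * (t ≫ i ≫ iB) * (y ^ j)⁻¹ := by
    intro j t
    induction j with
    | zero => simp
    | succ j ih =>
      rw [Function.iterate_succ', Function.comp_apply, hφpt, ih, pow_succ', _root_.mul_inv_rev]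
      simp only [_root_.mul_assoc]
  obtain ⟨N, hN, hfix, hnorm⟩ := exists_norm hT φ (m := j₂ - j₁) fun t => (cancel_mono (i ≫ iB)).mp (by
    rw [hφit, (hcomm _ ⟨t, rfl⟩).eq, mul_inv_cancel_right])
  haveI := hN
  haveI : IsMonHom (N ≫ i ≫ iB) := inferInstance
  have hSle : rangePts (N ≫ i ≫ iB) ≤ rangePts iB := (rangePts_comp (i ≫ iB) N).trans hTB
  obtain ⟨Z, _, z, hz, hcz, hsZ, hconnZ, hZ⟩ := exists_connSub_torusCent (N ≫ i ≫ iB) hT
  haveI := hz
  haveI := hcz
  haveI := hsZ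
  haveI := hconnZ
  have hyZ : y ∈ rangePts z := (hZ y).mpr (by
    rintro _ ⟨t, rfl⟩
    show y * (t ≫ N ≫ i ≫ iB) = (t ≫ N ≫ i ≫ iB) * y
    have h1 := hφpt (t ≫ N)
    rw [Category.assoc t N φ, hfix, Category.assoc] at h1
    conv_rhs => rw [h1, inv_mul_cancel_right])
  by_cases htop : rangePts z = ⊤
  · obtain ⟨F, hF1, hFmul, hFc, hFtop⟩ := exists_char iB hB Γ (ptsClosed_normalizer iB) hBΓ
    have hFinv : ∀ t : PT ⟶ G, t ∈ Γ → vl (y * t * y⁻¹) F = vl t F := fun t ht => by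
      rw [hFmul _ (mul_mem hyΓ ht) _ (inv_mem hyΓ), hFmul _ hyΓ _ ht, _root_.mul_comm (vl y F), _root_.mul_assoc,
        ← hFmul _ hyΓ _ (inv_mem hyΓ), mul_inv_cancel, hF1, _root_.mul_one]
    have hTΓ : ∀ t : PT ⟶ T, t ≫ i ≫ iB ∈ Γ := fun t => hBΓ (hTB ⟨t, rfl⟩)
    have hFT : ∀ t : PT ⟶ T, vl (t ≫ i ≫ iB) F = 1 := fun t => by
      have h1 : ∀ s : PT ⟶ T, vl s (ev (i ≫ iB) F) ^ (j₂ - j₁) = 1 := fun s => by
        rw [vl_ev]
        have h2 := hnorm (fun s => vl (s ≫ i ≫ iB) F) (fun a c => by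
          rw [MonObj.mul_comp]; exact hFmul _ (hTΓ a) _ (hTΓ c)) (by rw [MonObj.one_comp]; exact hF1)
          (fun s => by rw [hφpt]; exact hFinv _ (hTΓ s)) s
        rw [← h2]
        refine hFc _ (hTΓ _) fun g => ?_
        exact (hZ g).mp (htop ▸ Subgroup.mem_top g) _ ⟨s, (Category.assoc _ _ _).symm⟩
      have h3 := eq_one_of_pow_vl (ev (i ≫ iB) F) (Nat.sub_ne_zero_of_lt hlt) h1
        (by rw [vl_ev, MonObj.one_comp, hF1]) t
      rwa [vl_ev] at h3
    have hFBall : ∀ c ∈ rangePts iB, vl c F = 1 := by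
      rintro _ ⟨c, rfl⟩
      obtain ⟨_, ⟨t, rfl⟩, hu⟩ := hA c
      show vl (c ≫ iB) F = 1
      have h1 := char_eq_one (ev iB F) (fun a e => by
        rw [vl_ev, vl_ev, vl_ev, MonObj.mul_comp]; exact hFmul _ (hBΓ ⟨a, rfl⟩) _ (hBΓ ⟨e, rfl⟩))
        (by rw [vl_ev, MonObj.one_comp, hF1]) hu
      rw [vl_ev] at h1
      rw [show c ≫ iB = (t ≫ i ≫ iB) * (((t ≫ i)⁻¹ * c) ≫ iB) by
        rw [← Category.assoc, ← MonObj.mul_comp, mul_inv_cancel_left],
        hFmul _ (hTΓ t) _ (hBΓ ⟨_, rfl⟩), hFT, h1, _root_.mul_one]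
    have hΓ := hFtop hFBall
    obtain ⟨w, c, hc⟩ := exists_conj_borel iB hB y
    rw [← hc]
    exact ((show w ∈ Γ from hΓ ▸ Subgroup.mem_top w) _ ⟨c, rfl⟩).1
  · obtain ⟨D, _, d, hd, hBd, hdm⟩ := exists_borel_cent iB hB (N ≫ i ≫ iB) hT hSle z hZ
    haveI := hd
    obtain ⟨w, rfl⟩ := hyZ
    refine (hdm w).mp (IH Z z hcz hsZ hconnZ htop D d hBd w fun q hq => ?_)
    have h1 := hyΓ (q ≫ z) ((hdm q).mp hq)
    rw [hdm, hdm, MonObj.mul_comp, MonObj.mul_comp, MonObj.mul_comp, MonObj.mul_comp, GrpObj.inv_comp]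
    exact h1

/-- A Borel subgroup is its own normaliser, on points. -/
theorem normalizer_borel {B : Over (Spec (CommRingCat.of k))} [GrpObj B] (iB : B ⟶ G) [IsMonHom iB]
    (hB : Red.IsBorelOver k iB) (x : PT ⟶ G)
    (hx : ∀ y ∈ rangePts iB, x * y * x⁻¹ ∈ rangePts iB ∧ x⁻¹ * y * x ∈ rangePts iB) : x ∈ rangePts iB := by
  suffices key : ∀ (C : TopologicalSpace.Closeds G.left) (Z : Over (Spec (CommRingCat.of k))) [GrpObj Z] (z : Z ⟶ G)
      [IsMonHom z], IsClosedImmersion z.left → Smooth Z.hom → ConnectedSpace Z.left → Set.range z.left = C →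
      ∀ (B : Over (Spec (CommRingCat.of k))) [GrpObj B] (iB : B ⟶ Z) [IsMonHom iB], Red.IsBorelOver k iB →
      ∀ x : PT ⟶ Z, (∀ y ∈ rangePts iB, x * y * x⁻¹ ∈ rangePts iB ∧ x⁻¹ * y * x ∈ rangePts iB) → x ∈ rangePts iB by
    exact key ⊤ G (𝟙 G) (inferInstanceAs (IsClosedImmersion (𝟙 G.left))) inferInstance inferInstance
      (by simp) B iB hB x hx
  clear! B
  intro C
  haveI : QuasiCompact G.hom := inferInstance
  haveI : IsLocallyNoetherian G.left := LocallyOfFiniteType.isLocallyNoetherian G.hom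
  haveI : CompactSpace G.left := QuasiCompact.compactSpace_of_compactSpace G.hom
  haveI : IsNoetherian G.left := ⟨⟩
  induction C using WellFoundedLT.induction with
  | _ C ih =>
    intro Z _ z _ hcz hsZ hconnZ hrange B _ iB _ hB x hx
    haveI := hcz
    haveI := hsZ
    haveI := hconnZ
    obtain ⟨haZ, hlZ, -, hmz, -⟩ := sub_props z
    haveI := haZ
    haveI := hmz
    refine normalizer_borel_step (G := Z) (fun Z' _ z' _ hcz' hsZ' hconnZ' hne B' _ iB' _ hB' x' hx' => ?_) iB hB x hx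
    haveI := hcz'
    haveI : IsClosedImmersion (z' ≫ z).left := inferInstanceAs (IsClosedImmersion (z'.left ≫ z.left))
    refine ih ⟨Set.range (z' ≫ z).left, (z' ≫ z).left.isClosedEmbedding.isClosed_range⟩ ?_ Z' (z' ≫ z) inferInstance
      hsZ' hconnZ' rfl B' iB' hB' x' hx'
    refine lt_of_le_of_ne ?_ fun he => hne (eq_top_iff.mpr fun w _ => ?_)
    · rintro _ ⟨p, rfl⟩
      show (z' ≫ z).left p ∈ (C : Set G.left)
      rw [← hrange]
      exact ⟨z'.left p, rfl⟩
    · have h1 : cp (w ≫ z) ∈ Set.range (z' ≫ z).left := by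
        have h2 : cp (w ≫ z) ∈ (C : Set G.left) := hrange ▸ ⟨cp w, rfl⟩
        rwa [← he] at h2
      obtain ⟨-, hlZ', -, -, -⟩ := sub_props (z' ≫ z)
      haveI := hlZ'
      obtain ⟨u, hu⟩ := exists_of_mem_range (z' ≫ z) (w ≫ z) h1
      exact ⟨u, (cancel_mono z).mp ((Category.assoc _ _ _).trans hu)⟩

end Groth.Agent.SolvGrp
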