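import Groth.Agent.SolvGrp.Union

/-! Fixed points in stable closed subsets; Borel subgroups through a torus and a centralising point. -/

set_option backward.isDefEq.respectTransparency false
set_option backward.isDefEq.respectTransparency.types false
set_option linter.style.haveILetI false

universe u

open CategoryTheory MonoidalCategory CartesianMonoidalCategory MonObj AlgebraicGeometry

namespace Groth.Agent.SolvGrp

open GrpSchLib GrpSchLib.Kunneth GrpSchLib.LineGroups WeilCmp.Unip AGFLib AGFLib.Gen AGFLib.BorelFixed AGFLib.BorelExist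
open AGFLib.QuotProper

variable {k : Type u} [Field k] [IsAlgClosed k]

local notation "PT" => 𝟙_ (Over (Spec (CommRingCat.of k)))

/-- A connected solvable group fixes a point of every stable nonempty closed subset of a proper scheme. -/
theorem exists_fixed_in {H X : Over (Spec (CommRingCat.of k))} [GrpObj H] [IsAffine H.left] [Smooth H.hom]
    [ConnectedSpace H.left] (n : ℕ) (hn : derivedSeries (PT ⟶ H) n = ⊥) [IsProper X.hom] (a : AlgGrp.Action H X)
    (F : Set X.left) (hF : IsClosed F) (hne : F.Nonempty)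
    (hst : ∀ (g : PT ⟶ H) (x : PT ⟶ X), cp x ∈ F → cp (lift g x ≫ a.act) ∈ F) :
    ∃ x : PT ⟶ X, cp x ∈ F ∧ ∀ g : PT ⟶ H, lift g x ≫ a.act = x := by
  let C : TopologicalSpace.Closeds X.left := ⟨F, hF⟩
  let I := Scheme.IdealSheafData.vanishingIdeal C
  let D : Over (Spec (CommRingCat.of k)) := Over.mk (I.subschemeι ≫ X.hom)
  let i : D ⟶ X := Over.homMk I.subschemeι rfl
  haveI : IsClosedImmersion i.left := inferInstanceAs (IsClosedImmersion I.subschemeι)
  haveI : IsReduced D.left := H23.RedSub.isReduced_vanishingIdeal C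
  haveI : IsProper D.hom := inferInstanceAs (IsProper (I.subschemeι ≫ X.hom))
  have hrange : Set.range i.left = F := H23.RedSub.range_vanishingIdeal C
  haveI : Mono i := mono_of_closedImmersion i
  haveI : Nonempty D.left := by
    obtain ⟨x, hx⟩ := hne
    exact ⟨(hrange.ge hx).choose⟩
  haveI : IsReduced H.left := isReduced_of_smooth_field H.hom
  haveI : IsReduced (H ⊗ D).left := GrpSchLib.isReduced_pullback_of_perfectField H.hom D.hom
  haveI : LocallyOfFiniteType (H ⊗ D).hom :=
    inferInstanceAs (LocallyOfFiniteType (Limits.pullback.fst H.hom D.hom ≫ H.hom))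
  obtain ⟨b, hb⟩ := exists_lift_pts i ((H ◁ i) ≫ a.act) fun t => by
    have h1 : t ≫ (H ◁ i) = lift (t ≫ fst H D) ((t ≫ snd H D) ≫ i) := by
      apply CartesianMonoidalCategory.hom_ext <;> simp
    have h2 : cp (lift (t ≫ fst H D) ((t ≫ snd H D) ≫ i) ≫ a.act) ∈ Set.range i.left := by
      rw [hrange]
      exact hst _ _ (hrange.le ⟨cp (t ≫ snd H D), rfl⟩)
    obtain ⟨z, hz⟩ := exists_of_mem_range i _ h2
    exact ⟨z, by rw [hz, ← h1, Category.assoc]⟩
  let act : AlgGrp.Action H D :=
    { act := b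
      one_act := by
        rw [← cancel_mono i, Category.assoc, hb, ← Category.assoc, ← whisker_exchange, Category.assoc, a.one_act,
          leftUnitor_naturality]
      mul_act := by
        rw [← cancel_mono i]
        simp only [Category.assoc, hb]
        rw [← Category.assoc, ← whisker_exchange, Category.assoc, a.mul_act, ← Category.assoc (H ◁ b),
          ← MonoidalCategory.whiskerLeft_comp, hb, MonoidalCategory.whiskerLeft_comp]
        simp only [Category.assoc]
        rw [← associator_naturality_right_assoc] }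
  obtain ⟨x, hx⟩ := exists_fixed n H hn D act
  refine ⟨x ≫ i, hrange.le ⟨cp x, rfl⟩, fun g => ?_⟩
  conv_rhs => rw [← hx g]
  rw [show act.act = b from rfl, Category.assoc, hb, ← Category.assoc]
  congr 1
  apply CartesianMonoidalCategory.hom_ext <;> simp

variable {G : Over (Spec (CommRingCat.of k))} [GrpObj G] [IsAffine G.left] [Smooth G.hom] [ConnectedSpace G.left]

/-- A torus and a point centralising it lie in a common Borel subgroup. -/
theorem exists_borel_torus_pt {S : Over (Spec (CommRingCat.of k))} [GrpObj S] (iS : S ⟶ G) [IsMonHom iS]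
    (hS : Red.IsTorus S) (c : PT ⟶ G) (hc : ∀ s ∈ rangePts iS, Commute c s) :
    ∃ (B : Over (Spec (CommRingCat.of k))) (_ : GrpObj B) (iB : B ⟶ G) (_ : IsMonHom iB),
      Red.IsBorelOver k iB ∧ rangePts iS ≤ rangePts iB ∧ c ∈ rangePts iB := by
  obtain ⟨haff, hsm, hconn, -⟩ := torus_props hS
  haveI := haff
  haveI := hsm
  haveI := hconn
  obtain ⟨B, _, iB, X, a, o, hB, hX, hprop⟩ := AGFLib.Borel.exists_borel G
  haveI := hB.1
  haveI := hB.2.1
  haveI := hX.1
  haveI := hX.2.2.1
  haveI := hprop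
  haveI := GrpSchLib.AntiAffine.isSeparated_grp G
  obtain ⟨b, hb⟩ := exists_restrict a iS
  obtain ⟨g₀, b₀, hg₀⟩ := exists_conj_borel iB hB c
  have hfix : ∀ (g : PT ⟶ G) (x : PT ⟶ G), lift g (lift x o ≫ a.act) ≫ a.act = lift x o ≫ a.act ↔
      x⁻¹ * g * x ∈ rangePts iB := by
    intro g x
    rw [GrpSchLib.act_mul]
    constructor
    · intro h
      obtain ⟨z, hz⟩ := exists_mul_eq hX x (g * x) (by rw [pt_orbitMap, pt_orbitMap]; exact h.symm)
      exact ⟨z, by show z ≫ iB = _; rw [_root_.mul_assoc, ← hz, inv_mul_cancel_left]⟩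
    · rintro ⟨z, hz⟩
      change z ≫ iB = x⁻¹ * g * x at hz
      rw [show g * x = x * (z ≫ iB) by rw [hz]; group, ← GrpSchLib.act_mul]
      have := stab_of_quot hX z
      rw [toUnit_unique (toUnit PT) (𝟙 _), Category.id_comp] at this
      rw [this]
  let L : X ⟶ X ⊗ X := lift (transX a c).hom (𝟙 X)
  let Δ : X ⟶ X ⊗ X := lift (𝟙 X) (𝟙 X)
  haveI : IsClosedImmersion Δ.left := by
    have : Δ.left = Limits.pullback.diagonal X.hom := by
      apply Limits.pullback.hom_ext <;> simp [Δ, Limits.pullback.diagonal]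
    rw [this]; infer_instance
  haveI : LocallyOfFiniteType (X ⊗ X).hom :=
    inferInstanceAs (LocallyOfFiniteType (Limits.pullback.fst X.hom X.hom ≫ X.hom))
  haveI : IsSeparated (X ⊗ X).hom := inferInstanceAs (IsSeparated (Limits.pullback.fst X.hom X.hom ≫ X.hom))
  let F : Set X.left := L.left ⁻¹' Set.range Δ.left
  have e : ∀ x : PT ⟶ X, x ≫ L = lift (lift c x ≫ a.act) x := fun x => by
    rw [comp_lift, comp_transX, Category.comp_id, toUnit_unit, Category.id_comp]
  have hmemF : ∀ x : PT ⟶ X, cp x ∈ F ↔ lift c x ≫ a.act = x := by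
    intro x
    refine ⟨fun h => ?_, fun h => ?_⟩
    · obtain ⟨w, hw⟩ := exists_of_mem_range Δ (x ≫ L) h
      rw [e] at hw
      have h1 := congrArg (· ≫ fst X X) hw
      have h2 := congrArg (· ≫ snd X X) hw
      simp only [Δ, Category.assoc, lift_fst, lift_snd, Category.comp_id] at h1 h2
      rw [← h1, h2]
    · show cp (x ≫ L) ∈ Set.range Δ.left
      refine ⟨cp x, ?_⟩
      rw [← cp_comp, e, h, comp_lift, Category.comp_id]
  have hx₀ : cp (lift g₀ o ≫ a.act) ∈ F :=
    (hmemF _).mpr ((hfix c g₀).mpr ⟨b₀, by rw [← hg₀]; show b₀ ≫ iB = _; group⟩)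
  haveI : IsReduced G.left := isReduced_of_smooth_field G.hom
  have hn : derivedSeries (PT ⟶ S) 1 = ⊥ := by
    rw [derivedSeries_one, commutator_def, Subgroup.commutator_eq_bot_iff_le_centralizer]
    exact fun x _ => Subgroup.mem_centralizer_iff.mpr fun y _ => (torus_commute hS y x).eq
  obtain ⟨x, hxF, hx⟩ := exists_fixed_in 1 hn b F
    (Δ.left.isClosedEmbedding.isClosed_range.preimage L.left.continuous) ⟨_, hx₀⟩ fun s x hx => by
      rw [hmemF] at hx ⊢
      rw [hb, ← Category.assoc, lift_whiskerRight, GrpSchLib.act_mul, (hc _ ⟨s, rfl⟩).eq, ← GrpSchLib.act_mul, hx]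
  obtain ⟨g, rfl⟩ := exists_of_mem_range (a.orbitMap o) x ((a.orbitMap o).left.surjective _)
  rw [pt_orbitMap] at hxF hx
  haveI : IsMonHom (AGF.conjBy g iB) := by rw [AGFLib.Borel.conjBy_eq]; infer_instance
  refine ⟨B, inferInstance, AGF.conjBy g iB, inferInstance, AGFLib.Borel.isBorel_conj iB hB g, ?_, ?_⟩
  · rintro _ ⟨s, rfl⟩
    rw [rangePts_conjBy]
    have := hx s
    rw [hb, ← Category.assoc, lift_whiskerRight] at this
    exact (hfix _ g).mp this
  · rw [rangePts_conjBy]
    exact (hfix c g).mp ((hmemF _).mp hxF)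

end Groth.Agent.SolvGrp
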