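import Groth.Agent.SolvGrp.Cartan
import Groth.Agent.SolvGrp.Fixed

/-! Centralisers of semisimple elements of connected solvable groups, and of tori, are connected. -/

set_option backward.isDefEq.respectTransparency false
set_option backward.isDefEq.respectTransparency.types false
set_option linter.style.haveILetI false

universe u

open CategoryTheory MonoidalCategory CartesianMonoidalCategory MonObj AlgebraicGeometry
open scoped commutatorElement

namespace Groth.Agent.SolvGrp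

open GrpSchLib GrpSchLib.Kunneth GrpSchLib.LineGroups WeilCmp.Unip AGFLib AGFLib.Gen AGFLib.BorelFixed AGFLib.BorelExist

variable {k : Type u} [Field k] [IsAlgClosed k]

local notation "PT" => 𝟙_ (Over (Spec (CommRingCat.of k)))

/-- The centralising points of a given point. -/
def centPt {G : Over (Spec (CommRingCat.of k))} [GrpObj G] (s : 𝟙_ (Over (Spec (CommRingCat.of k))) ⟶ G) :
    Subgroup (𝟙_ (Over (Spec (CommRingCat.of k))) ⟶ G) where
  carrier := {g | g * s = s * g}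
  one_mem' := by simp
  mul_mem' {a b} ha hb := (Commute.mul_left (show Commute a s from ha) (show Commute b s from hb)).eq
  inv_mem' {a} ha := ((show Commute a s from ha).inv_left).eq

theorem mem_centPt {G : Over (Spec (CommRingCat.of k))} [GrpObj G] {s g : PT ⟶ G} : g ∈ centPt s ↔ Commute g s :=
  Iff.rfl

/-- One step: if all commutators with `s` lie in a kernel, the centraliser of `s` is connected. -/
theorem exists_connSub_cent_of_ext {G : Over (Spec (CommRingCat.of k))} [GrpObj G] [IsAffine G.left] [Smooth G.hom]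
    [ConnectedSpace G.left] {V : Subgroup (PT ⟶ G)} (hV : UKer V) {s : PT ⟶ G} (hs : IsSsPt s)
    (hcom : ∀ g, ⁅s, g⁆ ∈ V) :
    ∃ (D : Over (Spec (CommRingCat.of k))) (_ : GrpObj D) (i : D ⟶ G) (_ : IsMonHom i),
      IsClosedImmersion i.left ∧ Smooth D.hom ∧ ConnectedSpace D.left ∧ rangePts i = centPt s := by
  haveI : IsReduced G.left := isReduced_of_smooth_field G.hom
  have hcom' : ∀ g, ⁅g, s⁆ ∈ V := fun g => by rw [← commutatorElement_inv]; exact V.inv_mem (hcom g)
  obtain ⟨W, hWc, hWn, hWmem⟩ := exists_comImage hV s fun g v hv => hV.comm _ (hcom' g) v hv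
  have hWV : W ≤ V := fun w hw => by
    obtain ⟨v, hv, rfl⟩ := (hWmem w).mp hw
    exact hcom v
  have hW : UKer W := ⟨hWc, hWn, fun a ha b hb => hV.comm a (hWV ha) b (hWV hb), fun v hv => hV.unip v (hWV hv)⟩
  obtain ⟨W₂, hW₂c, hW₂n, hW₂mem⟩ := exists_comImage hW s fun g v hv => hV.comm _ (hcom' g) v (hWV hv)
  -- every element is a product of an element of `W` and a centralising one
  have hdec : ∀ g, ∃ w ∈ W, w⁻¹ * g ∈ centPt s := fun g => by
    have hss : IsSsPt (⁅s, g⁆⁻¹ * s) := by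
      rw [show ⁅s, g⁆⁻¹ * s = g * s * g⁻¹ by rw [commutatorElement_def]; group]
      exact hs.conj g
    have h1 : ⁅s, g⁆⁻¹ ∈ W := mem_of_ss W hWc hWn hs (hV.unip _ (V.inv_mem (hcom g))) hss
      ((hWmem _).mpr ⟨_, V.inv_mem (hcom g), rfl⟩)
    have h2 : ⁅s, g⁆⁻¹ ∈ W₂ := mem_of_ss W₂ hW₂c hW₂n hs (hW.unip _ h1) hss ((hW₂mem _).mpr ⟨_, h1, rfl⟩)
    obtain ⟨w, hw, hws⟩ := (hW₂mem _).mp (inv_inv ⁅s, g⁆ ▸ W₂.inv_mem h2)
    refine ⟨w, hw, ?_⟩
    rw [commutatorElement_def, commutatorElement_def] at hws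
    have h4 := congrArg (fun x => s⁻¹ * x * g) hws
    have h5 : w * s⁻¹ * w⁻¹ * g = g * s⁻¹ := by simpa [_root_.mul_assoc] using h4
    have h6 : Commute (w⁻¹ * g) s⁻¹ := by
      show w⁻¹ * g * s⁻¹ = s⁻¹ * (w⁻¹ * g)
      rw [_root_.mul_assoc, ← h5]; group
    exact mem_centPt.mpr (by simpa using h6.inv_right)
  have hinter : ∀ w ∈ W, w ∈ centPt s → w = 1 := fun w hw hws => by
    obtain ⟨v, hv, hvw⟩ := (hWmem w).mp hw
    have h1 : IsSsPt (w⁻¹ * s) := by
      rw [← hvw, show ⁅s, v⁆⁻¹ * s = v * s * v⁻¹ by rw [commutatorElement_def]; group]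
      exact hs.conj v
    have h2 := jordan_unique (g := w⁻¹ * s) (s := s) (u := w⁻¹) (show Commute w⁻¹ s from (mem_centPt.mp hws).inv_left).eq
      (mem_centPt.mp hws).inv_left.symm hs (hW.unip _ (W.inv_mem hw)) (_root_.mul_one _).symm (Commute.one_right _) h1
      isUnipPt_one
    simpa using h2.2
  obtain ⟨D, _, i, hi, hci, hsm, hconn, -, hle, R, hR, -, hcov⟩ := exists_connSub (centPt s) (ptsClosed_centralizer s)
  haveI := hi
  haveI := hci
  haveI := hsm
  haveI := hconn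
  obtain ⟨-, hlD, hqD, -, -⟩ := sub_props i
  haveI := hlD
  haveI := hqD
  refine ⟨D, inferInstance, i, hi, hci, hsm, hconn, le_antisymm hle fun z hz => ?_⟩
  obtain ⟨Q, _, q, hq, haQ, hsQ, -, hsurj, -, hker⟩ := exists_quot W hWc hWn
  haveI := hq
  haveI := haQ
  haveI := hsQ
  haveI := hsurj
  have htop : rangePts q ≤ rangePts (i ≫ q) := by
    refine rangePts_le_of_finite q _ (ptsClosed_range (i ≫ q)) ((fun r => r ≫ q) '' R) (hR.image _) ?_
    rintro _ ⟨g, rfl⟩
    obtain ⟨w, hw, hwg⟩ := hdec g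
    obtain ⟨r, hr, d, hd⟩ := hcov _ hwg
    refine ⟨r ≫ q, ⟨r, hr, rfl⟩, d, ?_⟩
    show d ≫ i ≫ q = (r ≫ q)⁻¹ * (g ≫ q)
    rw [← Category.assoc, show d ≫ i = r⁻¹ * (w⁻¹ * g) from hd, MonObj.mul_comp, MonObj.mul_comp, GrpObj.inv_comp,
      GrpObj.inv_comp, (hker w).mpr hw, inv_one, _root_.one_mul]
  obtain ⟨d, hd⟩ := htop (⟨z, rfl⟩ : z ≫ q ∈ rangePts q)
  have h1 : (d ≫ i)⁻¹ * z ∈ W := (hker _).mp (by
    rw [MonObj.mul_comp, GrpObj.inv_comp, Category.assoc, show d ≫ i ≫ q = z ≫ q from hd, inv_mul_cancel])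
  have h2 := hinter _ h1 (mul_mem (inv_mem (hle ⟨d, rfl⟩)) hz)
  exact ⟨d, inv_mul_eq_one.mp h2⟩

/-- In a connected solvable group centralisers of semisimple elements are connected. -/
theorem exists_connSub_cent : ∀ (n : ℕ) (G : Over (Spec (CommRingCat.of k))) [GrpObj G] [IsAffine G.left] [Smooth G.hom]
    [ConnectedSpace G.left], derivedSeries (PT ⟶ G) n = ⊥ → ∀ s : PT ⟶ G, IsSsPt s →
    ∃ (D : Over (Spec (CommRingCat.of k))) (_ : GrpObj D) (i : D ⟶ G) (_ : IsMonHom i),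
      IsClosedImmersion i.left ∧ Smooth D.hom ∧ ConnectedSpace D.left ∧ rangePts i = centPt s := by
  intro n
  induction n using Nat.strong_induction_on with
  | _ n ih =>
    intro G _ _ _ _ hn s hs
    haveI : IsReduced G.left := isReduced_of_smooth_field G.hom
    by_cases hab : derivedSeries (PT ⟶ G) 1 = ⊥
    · refine ⟨G, inferInstance, 𝟙 G, inferInstance, inferInstanceAs (IsClosedImmersion (𝟙 G.left)), inferInstance,
        inferInstance, ?_⟩
      refine le_antisymm (fun g _ => mem_centPt.mpr ?_) fun g _ => ⟨g, Category.comp_id g⟩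
      exact commutatorElement_eq_one_iff_commute.mp (Subgroup.mem_bot.mp (hab ▸ (derivedSeries_succ (PT ⟶ G) 0).symm ▸
        Subgroup.commutator_mem_commutator (Subgroup.mem_top g) (Subgroup.mem_top s)))
    obtain ⟨m, rfl⟩ : ∃ m, n = m + 2 := by
      refine ⟨n - 2, ?_⟩
      by_contra hne
      exact hab (le_bot_iff.mp (hn ▸ derivedSeries_antitone (PT ⟶ G) (show n ≤ 1 by omega)))
    haveI : Group.IsSolvable (PT ⟶ G) := (Group.isSolvable_def _).mpr ⟨m + 2, hn⟩
    obtain ⟨N, _, j, hj, hcj, hsj, hconnN, hrN⟩ := exists_derivedSub (G := G) (m + 1)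
    haveI := hj
    haveI := hcj
    haveI := hsj
    haveI := hconnN
    obtain ⟨haffN, hlftN, hqcN, -, -⟩ := sub_props j
    haveI := haffN
    haveI := hlftN
    haveI := hqcN
    let V := derivedSeries (PT ⟶ G) (m + 1)
    have hV : UKer V :=
      { closed := by
          show PtsClosed (derivedSeries (PT ⟶ G) (m + 1) : Set (PT ⟶ G))
          rw [← hrN]
          exact ptsClosed_range j
        normal := derivedSeries_normal _ (m + 1)
        comm := fun a ha b hb => commutatorElement_eq_one_iff_commute.mp (Subgroup.mem_bot.mp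
          (hn ▸ (derivedSeries_succ (PT ⟶ G) (m + 1)).symm ▸ Subgroup.commutator_mem_commutator ha hb))
        unip := fun v hv => isUnipPt_of_commutator
          (derivedSeries_one (PT ⟶ G) ▸ derivedSeries_antitone (PT ⟶ G) (show 1 ≤ m + 1 by omega) hv) }
    obtain ⟨Q, _, q, hq, haQ, hsQ, hrQ, hsurj, hlift, hker⟩ := exists_quot V hV.closed hV.normal
    haveI := hq
    haveI := haQ
    haveI := hsQ
    haveI := hrQ
    haveI := hsurj
    haveI : ConnectedSpace Q.left := q.left.surjective.connectedSpace q.left.continuous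
    have hQn : derivedSeries (PT ⟶ Q) (m + 1) = ⊥ := by
      rw [← map_derivedSeries_eq (f := ptsHom q) (fun x => hlift x) (m + 1), eq_bot_iff]
      rintro _ ⟨v, hv, rfl⟩
      exact Subgroup.mem_bot.mpr ((hker v).mpr hv)
    obtain ⟨Z, _, z, hz, hcz, hsZ, hconnZ, hrZ⟩ := ih (m + 1) (by omega) Q hQn (s ≫ q)
      ((map_isSsPt_isUnipPt q s).1 hs)
    haveI := hz
    haveI := hcz
    haveI := hsZ
    haveI := hconnZ
    obtain ⟨haZ, hlZ, hqZ, -, -⟩ := sub_props z
    haveI := haZ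
    haveI := hlZ
    haveI := hqZ
    let Γ : Subgroup (PT ⟶ G) := (centPt (s ≫ q)).comap (ptsHom q)
    obtain ⟨D, _, iD, hiD, hciD, hsmD, hconnD, haffD, hleD, R, hRf, -, hcov⟩ :=
      exists_connSub Γ (show PtsClosed (Γ : Set (PT ⟶ G)) from (ptsClosed_centralizer (s ≫ q)).preimage q)
    haveI := hiD
    haveI := hciD
    haveI := hsmD
    haveI := hconnD
    haveI := haffD
    obtain ⟨-, hlftD, hqcD, hmonoD, hevD⟩ := sub_props iD
    haveI := hlftD
    haveI := hqcD
    haveI := hmonoD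
    haveI : IsReduced D.left := isReduced_of_smooth_field D.hom
    have hVΓ : V ≤ Γ := fun v hv => by
      show Commute (v ≫ q) (s ≫ q)
      rw [(hker v).mpr hv]
      exact Commute.one_left _
    have hVD : V ≤ rangePts iD := hrN.ge.trans (rangePts_le_of_finite j _ (ptsClosed_range iD) R hRf
      fun x hx => hcov x (hVΓ (hrN.le hx)))
    have hΓD : Γ ≤ rangePts iD := by
      intro g hg
      have hzle : rangePts z ≤ rangePts (iD ≫ q) := rangePts_le_of_finite z _ (ptsClosed_range (iD ≫ q))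
        ((fun r => r ≫ q) '' R) (hRf.image _) fun y hy => by
          obtain ⟨x, rfl⟩ := hlift y
          obtain ⟨r, hr, d, hd⟩ := hcov x (show x ≫ q ∈ centPt (s ≫ q) from hrZ ▸ hy)
          refine ⟨r ≫ q, ⟨r, hr, rfl⟩, d, ?_⟩
          show d ≫ iD ≫ q = (r ≫ q)⁻¹ * (x ≫ q)
          rw [← Category.assoc, show d ≫ iD = r⁻¹ * x from hd, MonObj.mul_comp, GrpObj.inv_comp]
      obtain ⟨d, hd⟩ := hzle (hrZ ▸ hg : g ≫ q ∈ rangePts z)
      have h1 : (d ≫ iD)⁻¹ * g ∈ V := (hker _).mp (by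
        rw [MonObj.mul_comp, GrpObj.inv_comp, Category.assoc, show d ≫ iD ≫ q = g ≫ q from hd, inv_mul_cancel])
      have := (rangePts iD).mul_mem ⟨d, rfl⟩ (hVD h1)
      simpa using this
    obtain ⟨s', hs'⟩ : s ∈ rangePts iD := hΓD (show Commute (s ≫ q) (s ≫ q) from Commute.refl _)
    change s' ≫ iD = s at hs'
    have hinj : ∀ a b : PT ⟶ D, a ≫ iD = b ≫ iD → a = b := fun a b h => (cancel_mono iD).mp h
    have hVD' : UKer (V.comap (ptsHom iD)) :=
      { closed := hV.closed.preimage iD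
        normal := hV.normal.comap _
        comm := fun a ha b hb => hinj _ _ (by rw [MonObj.mul_comp, MonObj.mul_comp]; exact hV.comm _ ha _ hb)
        unip := fun v hv => (hV.unip _ hv).map iD hevD }
    obtain ⟨E, _, e, he, hce, hsE, hcE, hrE⟩ := exists_connSub_cent_of_ext hVD' (s := s')
      (IsSsPt.map iD hevD (hs'.symm ▸ hs)) fun d => by
        show ptsHom iD ⁅s', d⁆ ∈ V
        refine (hker _).mp ?_
        show ptsHom q (ptsHom iD ⁅s', d⁆) = 1
        rw [map_commutatorElement, map_commutatorElement, commutatorElement_eq_one_iff_commute]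
        show Commute ((s' ≫ iD) ≫ q) ((d ≫ iD) ≫ q)
        rw [hs']
        exact (hleD ⟨d, rfl⟩ : Commute ((d ≫ iD) ≫ q) (s ≫ q)).symm
    haveI := he
    haveI := hce
    refine ⟨E, inferInstance, e ≫ iD, inferInstance, inferInstanceAs (IsClosedImmersion (e.left ≫ iD.left)), hsE, hcE,
      le_antisymm ?_ ?_⟩
    · rintro _ ⟨x, rfl⟩
      have h1 : Commute (x ≫ e) s' := hrE.le (⟨x, rfl⟩ : x ≫ e ∈ rangePts e)
      have h2 := h1.map (ptsHom iD)
      show Commute (x ≫ e ≫ iD) s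
      rw [← hs', ← Category.assoc]
      exact h2
    · intro g hg
      obtain ⟨d, rfl⟩ := hΓD (show Commute (g ≫ q) (s ≫ q) from (mem_centPt.mp hg).map (ptsHom q))
      obtain ⟨x, hx⟩ : d ∈ rangePts e := hrE.symm ▸ (show Commute d s' from hinj _ _ (by
        rw [MonObj.mul_comp, MonObj.mul_comp, hs']
        exact (mem_centPt.mp hg).eq))
      exact ⟨x, (Category.assoc x e iD).symm.trans (congrArg (· ≫ iD) hx)⟩

variable {G : Over (Spec (CommRingCat.of k))} [GrpObj G] [IsAffine G.left] [Smooth G.hom] [ConnectedSpace G.left]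

/-- The points centralising a torus form a connected subgroup. -/
theorem exists_connSub_torusCent {S : Over (Spec (CommRingCat.of k))} [GrpObj S] (iS : S ⟶ G) [IsMonHom iS]
    (hS : Red.IsTorus S) :
    ∃ (C : Over (Spec (CommRingCat.of k))) (_ : GrpObj C) (i : C ⟶ G) (_ : IsMonHom i),
      IsClosedImmersion i.left ∧ Smooth C.hom ∧ ConnectedSpace C.left ∧
        ∀ g, g ∈ rangePts i ↔ ∀ s ∈ rangePts iS, Commute g s := by
  haveI : IsReduced G.left := isReduced_of_smooth_field G.hom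
  obtain ⟨t₀, ht₀⟩ := exists_generic iS hS
  obtain ⟨C, _, i, hi, hci, hsm, hconn, -, hle, R, hR, -, hcov⟩ :=
    exists_connSub (centPt (t₀ ≫ iS)) (ptsClosed_centralizer (t₀ ≫ iS))
  haveI := hi
  haveI := hci
  obtain ⟨-, hlC, hqC, -, -⟩ := sub_props i
  haveI := hlC
  haveI := hqC
  refine ⟨C, inferInstance, i, hi, hci, hsm, hconn, fun g => ⟨fun hg => ?_, fun hg => ?_⟩⟩
  · rintro _ ⟨s, rfl⟩
    exact ht₀ g (hle hg) s
  obtain ⟨B, _, iB, hmB, hB, hSB, hgB⟩ := exists_borel_torus_pt iS hS g hg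
  obtain ⟨-, hcl, hsmB, hconnB, ⟨n, hn⟩, -⟩ := id hB
  haveI := hmB
  haveI := hcl
  haveI := hsmB
  haveI := hconnB
  obtain ⟨haffB, hlB, hqB, hmonoB, hevB⟩ := sub_props iB
  haveI := haffB
  haveI := hlB
  haveI := hqB
  haveI := hmonoB
  obtain ⟨t₁, ht₁⟩ := hSB (⟨t₀, rfl⟩ : t₀ ≫ iS ∈ rangePts iS)
  change t₁ ≫ iB = t₀ ≫ iS at ht₁
  obtain ⟨D, _, d, hd, hcd, hsD, hcD, hrD⟩ := exists_connSub_cent n B (hn _) t₁
    (IsSsPt.map iB hevB (ht₁.symm ▸ isSsPt_of_torus hS iS t₀))
  haveI := hd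
  haveI := hcd
  haveI := hsD
  haveI := hcD
  obtain ⟨haD, -, -, -, -⟩ := sub_props d
  haveI := haD
  obtain ⟨b, rfl⟩ := hgB
  have hb : b ∈ rangePts d := hrD.symm ▸ (show Commute b t₁ from (cancel_mono iB).mp (by
    rw [MonObj.mul_comp, MonObj.mul_comp, ht₁]
    exact (hg _ ⟨t₀, rfl⟩).eq))
  obtain ⟨x, hx⟩ := hb
  refine rangePts_le_of_finite (d ≫ iB) _ (ptsClosed_range i) R hR ?_
    ⟨x, (Category.assoc x d iB).symm.trans (congrArg (· ≫ iB) hx)⟩
  rintro _ ⟨y, rfl⟩
  refine hcov _ ?_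
  have h1 : Commute (y ≫ d) t₁ := hrD.le (⟨y, rfl⟩ : y ≫ d ∈ rangePts d)
  have h2 := h1.map (ptsHom iB)
  show Commute (y ≫ d ≫ iB) (t₀ ≫ iS)
  rw [← ht₁, ← Category.assoc]
  exact h2

end Groth.Agent.SolvGrp
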