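import Groth.Agent.SolvGrp.Pt
import Groth.Agent.S15601
import Groth.Agent.ComodLib.Basic
import Groth.Agent.S0348

/-! In a connected solvable group the commutators are unipotent. -/

set_option backward.isDefEq.respectTransparency false
set_option backward.isDefEq.respectTransparency.types false
set_option linter.style.haveILetI false

universe u

open CategoryTheory MonoidalCategory CartesianMonoidalCategory MonObj AlgebraicGeometry WithConv TensorProduct

namespace Groth.Agent.SolvGrp

open GrpSchLib GrpSchLib.Kunneth GrpSchLib.LineGroups WeilCmp.Unip AGFLib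

variable {k : Type u} [Field k] [IsAlgClosed k]

local notation "PT" => 𝟙_ (Over (Spec (CommRingCat.of k)))

theorem isUnipPt_of_commutator {G : Over (Spec (CommRingCat.of k))} [GrpObj G] [IsAffine G.left] [Smooth G.hom]
    [ConnectedSpace G.left] [Group.IsSolvable (PT ⟶ G)] {g : PT ⟶ G} (hg : g ∈ commutator (PT ⟶ G)) :
    IsUnipPt g := by
  classical
  haveI : IsReduced G.left := isReduced_of_smooth_field G.hom
  haveI : IrreducibleSpace G.left := Groth.Agent.S0348.result k G
  haveI : IsIntegral G.left := isIntegral_of_irreducibleSpace_of_isReduced G.left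
  obtain ⟨A, _, _, ⟨eG⟩⟩ := AffineHopf.exists_hopf G
  let a : AffineHopf.sp k A ≅ G := (Grp.forget _).mapIso eG
  haveI : IsMonHom a.hom := eG.hom.hom.isMonHom_hom
  haveI : IsMonHom a.inv := eG.inv.hom.isMonHom_hom
  let φ : A ≃ₐ[k] Fn G := (LineVec.toFn (k := k) (A := A)).trans (fnEquiv a.symm)
  haveI : IsDomain A := φ.toMulEquiv.isDomain
  haveI : Algebra.FiniteType k A := by
    haveI := finiteType_fn G
    exact (inferInstance : Algebra.FiniteType k (Fn G)).equiv φ.symm
  have hconn : ∀ e : A, IsIdempotentElem e → e = 0 ∨ e = 1 := fun e he => IsIdempotentElem.iff_eq_zero_or_one.mp he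
  have hmul : ∀ (g h : PT ⟶ G) (x : A),
      vl (g * h) (φ x) = vl g (φ (HopfRep.Comod.act k A A ((vl h).comp φ.toAlgHom) x)) := by
    intro g h x
    show ProjAct.toK (LineVec.fn ((g * h) ≫ a.inv) x) = _
    rw [MonObj.mul_comp, LineVec.fn_mul]
    show ProjAct.toK ((toConv (LineVec.fn (g ≫ a.inv)) * toConv (LineVec.fn (h ≫ a.inv))) x) = _
    rw [AlgHom.convMul_apply, HopfRep.Comod.act, LinearMap.comp_apply, LinearMap.comp_apply]
    show _ = vl g (φ ((TensorProduct.rid k A) (LinearMap.lTensor A _ (Coalgebra.comul (R := k) x))))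
    induction Coalgebra.comul (R := k) x using TensorProduct.induction_on with
    | zero => simp
    | tmul b c =>
      simp only [Algebra.TensorProduct.map_tmul, Algebra.TensorProduct.lift_tmul,
        Algebra.TensorProduct.lmul'_apply_tmul, LinearMap.lTensor_tmul, TensorProduct.rid_tmul, map_smul, map_mul,
        smul_eq_mul]
      exact _root_.mul_comm _ _
    | add b c hb hc => simp only [map_add, hb, hc]
  let Φ : (PT ⟶ G) →* WithConv (A →ₐ[k] k) :=
    MonoidHom.mk' (fun g => toConv ((vl g).comp φ.toAlgHom)) fun g h => WithConv.ext (AlgHom.ext fun x => by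
      show vl (g * h) (φ x) = (toConv ((vl g).comp φ.toAlgHom) * toConv ((vl h).comp φ.toAlgHom)) x
      rw [hmul, AlgHom.convMul_apply, HopfRep.Comod.act, LinearMap.comp_apply, LinearMap.comp_apply]
      show vl g (φ ((TensorProduct.rid k A) (LinearMap.lTensor A _ (Coalgebra.comul (R := k) x)))) = _
      induction Coalgebra.comul (R := k) x using TensorProduct.induction_on with
      | zero => simp
      | tmul b c =>
        simp only [Algebra.TensorProduct.map_tmul, Algebra.TensorProduct.lift_tmul,
          Algebra.TensorProduct.lmul'_apply_tmul, LinearMap.lTensor_tmul, TensorProduct.rid_tmul, map_smul,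
          smul_eq_mul]
        exact _root_.mul_comm _ _
      | add b c hb hc => simp only [map_add, hb, hc])
  have hsurj : Function.Surjective Φ := fun ψ => by
    obtain ⟨g, hg⟩ := exists_pt (U := G) (ψ.ofConv.comp φ.symm.toAlgHom)
    exact ⟨g, WithConv.ext (AlgHom.ext fun x => by show vl g (φ x) = _; rw [hg]; simp)⟩
  haveI : Group.IsSolvable (WithConv (A →ₐ[k] k)) := solvable_of_surjective hsurj
  have hgA : Φ g ∈ commutator (WithConv (A →ₐ[k] k)) := by
    have h := Subgroup.mem_map_of_mem Φ hg
    rw [commutator_def, Subgroup.map_commutator, Subgroup.map_top_of_surjective Φ hsurj] at h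
    exact h
  have hrt : ∀ x : A, rl g (φ x) = φ (HopfRep.Comod.act k A A (Φ g).ofConv x) := fun x =>
    eq_of_vl fun y => by
      show vl y (rt g (φ x)) = _
      rw [vl_rt, hmul]
      rfl
  intro v
  obtain ⟨x, rfl⟩ := φ.surjective v
  obtain ⟨U, hUf, hxU, hU⟩ := ComodLib.exists_finite_subcomod_le (k := k) (C := A) (V := A)
    (Set.finite_singleton x)
  haveI := hUf
  letI cU : HopfRep.Comod k A U := ComodSub.Comod.restr (HopfRep.Comod.regular k A) U hU
  have hcoe : ∀ u : U, (HopfRep.Comod.act k A U (Φ g).ofConv u : A) = HopfRep.Comod.act k A A (Φ g).ofConv u := by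
    intro u
    have h1 := ComodSub.restr_coact_coe (HopfRep.Comod.regular k A) U hU u
    simp only [HopfRep.Comod.act, LinearMap.comp_apply]
    show _ = (TensorProduct.rid k A) (LinearMap.lTensor A _ ((HopfRep.Comod.regular k A).coact (u : A)))
    rw [← h1]
    induction cU.coact u using TensorProduct.induction_on with
    | zero => simp
    | tmul b c => simp
    | add b c hb hc => simp only [map_add, Submodule.coe_add, hb, hc]
  obtain ⟨n, hn⟩ := Groth.Agent.S15601.result k A hconn (Φ g) hgA U
  refine ⟨n, ?_⟩
  have key : ∀ m : ℕ, ((rl g - 1) ^ m) (φ x) =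
      φ ((((HopfRep.Comod.act k A U (Φ g).ofConv : Module.End k U) - 1) ^ m) ⟨x, hxU rfl⟩ : U) := by
    intro m
    induction m with
    | zero => simp
    | succ m ih =>
      rw [pow_succ', pow_succ', Module.End.mul_apply, Module.End.mul_apply, ih, LinearMap.sub_apply,
        Module.End.one_apply, hrt, LinearMap.sub_apply, Module.End.one_apply, Submodule.coe_sub, map_sub, hcoe]
  rw [key, hn]
  simp

end Groth.Agent.SolvGrp
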