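import Groth.Agent.SolvGrp.FrobDescend
import Groth.Agent.SolvGrp.CentralIsogeny
import Groth.Agent.SolvGrp.BorelNorm
import Groth.Agent.SolvGrp.CentConn
import Groth.Agent.SolvGrp.BorelCent
import Groth.Agent.SolvGrp.Reductive4
import Groth.Agent.SolvGrp.Derived

/-! Borel pairs over finite fields. -/

set_option backward.isDefEq.respectTransparency false
set_option backward.isDefEq.respectTransparency.types false
set_option linter.style.haveILetI false

universe u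

open CategoryTheory MonoidalCategory CartesianMonoidalCategory MonObj AlgebraicGeometry

namespace Groth.Agent.SolvGrp.Frob

open GrpSchLib GrpSchLib.Kunneth GrpSchLib.LineGroups WeilCmp.Unip AGFLib AGFLib.Gen AGFLib.BorelFixed AGFLib.BorelExist

variable {k : Type u} [Field k] [Finite k] {K : Type u} [Field K] [IsAlgClosed K] (φ : k →+* K)

local notation "σ" => Spec.map (CommRingCat.ofHom φ)
local notation "PT" => 𝟙_ (Over (Spec (CommRingCat.of k)))
local notation "PK" => 𝟙_ (Over (Spec (CommRingCat.of K)))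

omit [Finite k] [IsAlgClosed K] in
/-- Conjugation by a rational point after base change, on points. -/
theorem map_conjM_pt {G : Over (Spec (CommRingCat.of k))} [GrpObj G] (r : PT ⟶ G) (y : PK ⟶ Red.bc σ G) :
    y ≫ (Over.pullback σ).map (AGFLib.Borel.conjM r) = extPt σ r * y * (extPt σ r)⁻¹ := by
  obtain ⟨v, rfl⟩ := (AVTors.bcPts σ PK G).surjective y
  rw [← AVTors.bcPts_comp, AGFLib.Borel.comp_conjM, map_mul, map_mul, map_inv]
  rfl

omit [IsAlgClosed K] in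
/-- The Frobenius fixes the extended rational points. -/
theorem extPt_frK {G : Over (Spec (CommRingCat.of k))} [IsAffine G.left] (r : PT ⟶ G) :
    extPt σ r ≫ frK φ G = extPt σ r := by
  haveI : IsAffine (PT).left := inferInstanceAs (IsAffine (Spec (CommRingCat.of k)))
  rw [← extPt_map, fr_comp, fr_unit, Category.id_comp]

variable {G : Over (Spec (CommRingCat.of k))} [GrpObj G] [IsAffine G.left] [Smooth G.hom] [ConnectedSpace G.left]

omit [Finite k] in
theorem bcG_props : IsAffine (Red.bc σ G).left ∧ Smooth (Red.bc σ G).hom ∧ ConnectedSpace (Red.bc σ G).left :=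
  ⟨inferInstanceAs (IsAffine (Limits.pullback G.hom σ)), inferInstanceAs (Smooth (Limits.pullback.snd G.hom σ)),
    AntiAffine.connectedSpace_bc G φ⟩

/-- The Frobenius is surjective. -/
theorem surjective_frK : Surjective (frK φ G).left := by
  obtain ⟨hA, hS, hC⟩ := bcG_props φ (G := G)
  haveI := hA
  haveI := hS
  haveI := hC
  haveI : LocallyOfFiniteType (Red.bc σ G).hom := inferInstance
  haveI : QuasiCompact (Red.bc σ G).hom := inferInstance
  exact surjective_of_rangePts (frK φ G) fun y => exists_frK_eq φ y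

/-- A subgroup whose Frobenius image lies in a conjugate has a conjugate defined over the finite field. -/
theorem exists_descend_conj (hφ : φ.IsIntegral) {H : Over (Spec (CommRingCat.of K))} [GrpObj H] (iH : H ⟶ Red.bc σ G)
    [IsMonHom iH] [IsClosedImmersion iH.left] [IsReduced H.left] (g : PK ⟶ Red.bc σ G)
    (hg : ∀ y ∈ rangePts iH, g⁻¹ * (y ≫ frK φ G) * g ∈ rangePts iH) :
    ∃ (h : PK ⟶ Red.bc σ G) (Z : Over (Spec (CommRingCat.of k))) (_ : GrpObj Z) (i : Z ⟶ G) (e : Red.bc σ Z ≅ H),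
      IsMonHom i ∧ IsClosedImmersion i.left ∧ IsMonHom e.hom ∧ e.hom ≫ AGF.conjBy h iH = (Over.pullback σ).map i := by
  obtain ⟨hA, hS, hC⟩ := bcG_props φ (G := G)
  haveI := hA
  haveI := hS
  haveI := hC
  obtain ⟨d, hd⟩ := exists_lang φ g⁻¹
  haveI : IsMonHom (AGF.conjBy d⁻¹ iH) := by rw [AGFLib.Borel.conjBy_eq]; infer_instance
  haveI : IsClosedImmersion (AGF.conjBy d⁻¹ iH).left := by
    rw [AGFLib.Borel.conjBy_eq]
    haveI : IsIso (AGFLib.Borel.conjM d⁻¹).left :=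
      inferInstanceAs (IsIso ((Over.forget _).map (AGFLib.Borel.conjM d⁻¹)))
    exact inferInstanceAs (IsClosedImmersion (iH.left ≫ (AGFLib.Borel.conjM d⁻¹).left))
  obtain ⟨Z, str, i, e, hi, hci, he, hcomp⟩ := exists_sub_of_frobStable φ hφ (AGF.conjBy d⁻¹ iH) fun y hy => by
    rw [rangePts_conjBy] at hy ⊢
    obtain ⟨z, hz⟩ : ∃ z : PK ⟶ H, z ≫ iH = d⁻¹⁻¹ * (y * d⁻¹) := by
      obtain ⟨z, hz⟩ := hy
      exact ⟨z, hz.trans (_root_.mul_assoc _ _ _)⟩
    have h1 := hg _ ⟨z, rfl⟩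
    change g⁻¹ * ((z ≫ iH) ≫ frK φ G) * g ∈ rangePts iH at h1
    rw [hz, _root_.inv_inv, MonObj.mul_comp, MonObj.mul_comp, GrpObj.inv_comp] at h1
    have e1 : d * (y ≫ frK φ G) * d⁻¹ = g⁻¹ * ((d ≫ frK φ G) * ((y ≫ frK φ G) * (d ≫ frK φ G)⁻¹)) * g := by
      have e2 : g = (d ≫ frK φ G) * d⁻¹ := by rw [← _root_.inv_inv g, ← hd]; group
      rw [e2]; group
    show d⁻¹⁻¹ * (y ≫ frK φ G) * d⁻¹ ∈ rangePts iH
    rw [_root_.inv_inv, e1]
    exact h1
  exact ⟨d⁻¹, Z, str, i, e, hi, hci, he, hcomp⟩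

/-- A Borel subgroup defined over the finite field. -/
theorem exists_borel_finite (hφ : φ.IsIntegral) :
    ∃ (B : Over (Spec (CommRingCat.of k))) (_ : GrpObj B) (iB : B ⟶ G), IsMonHom iB ∧ IsClosedImmersion iB.left ∧
      Smooth B.hom ∧ ConnectedSpace B.left ∧ Red.IsBorelOver K ((Over.pullback σ).map iB) := by
  obtain ⟨hA, hS, hC⟩ := bcG_props φ (G := G)
  haveI := hA
  haveI := hS
  haveI := hC
  haveI : IsReduced (Red.bc σ G).left := isReduced_of_smooth_field (Red.bc σ G).hom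
  obtain ⟨B₀, _, iB₀, -, -, -, hB₀, -, -⟩ := AGFLib.Borel.exists_borel (Red.bc σ G)
  haveI := hB₀.1
  haveI := hB₀.2.1
  haveI := hB₀.2.2.1
  haveI : IsReduced B₀.left := isReduced_of_smooth_field B₀.hom
  haveI := surjective_frK φ (G := G)
  obtain ⟨B₁, _, iB₁, p, hm, hci, hsm, hp⟩ := AGFLib.BorelImage.exists_image (frK φ G) iB₀
  haveI := hm
  haveI := hci
  haveI := hsm
  obtain ⟨hps, hpc⟩ := hp inferInstance
  haveI := hps
  have hB₁ : Red.IsBorelOver K iB₁ := AGFLib.BorelImage.isBorel_image (frK φ G) iB₀ hB₀ iB₁ p hpc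
  obtain ⟨g, f, hf⟩ := AGFLib.Borel.conjugate iB₀ iB₁ hB₀ hB₁
  obtain ⟨h, B, str, iB, e, hiB, hciB, hem, he⟩ := exists_descend_conj φ hφ iB₀ g fun y hy => by
    obtain ⟨z, rfl⟩ := hy
    refine ⟨z ≫ p ≫ f.inv, ?_⟩
    have h1 : f.inv ≫ iB₀ = iB₁ ≫ AGFLib.Borel.conjM g⁻¹ := by
      rw [← cancel_epi f.hom, Iso.hom_inv_id_assoc, ← Category.assoc, hf, AGFLib.Borel.conjBy_eq, Category.assoc,
        AGFLib.Borel.conjM_comp, inv_mul_cancel, AGFLib.Borel.conjM_one, Category.comp_id]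
    show (z ≫ p ≫ f.inv) ≫ iB₀ = g⁻¹ * ((z ≫ iB₀) ≫ frK φ G) * g
    rw [Category.assoc, Category.assoc, h1, reassoc_of% hpc, ← Category.assoc, ← Category.assoc, comp_conjM_pt,
      _root_.inv_inv]
  haveI := hiB
  haveI := hciB
  haveI := hem
  haveI : (Over.pullback σ).IsRightAdjoint := (Over.mapPullbackAdj σ).isRightAdjoint
  have hB : Red.IsBorelOver K ((Over.pullback σ).map iB) :=
    isBorelOver_iso (AGFLib.Borel.isBorel_conj iB₀ hB₀ h) e he
  haveI : IsIso e.hom.left := ((Over.forget _).mapIso e).isIso_hom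
  haveI : Smooth (Red.bc σ B).hom := hB.2.2.1
  haveI : Flat σ := GrpSchLib.flat_spec_map_field φ
  haveI : Surjective σ := GrpSchLib.surjective_spec_map_field φ
  haveI : LocallyOfFiniteType B.hom := by rw [← Over.w iB]; infer_instance
  haveI : Smooth B.hom := MorphismProperty.of_pullback_snd_of_descendsAlong (Q := @Surjective ⊓ @Flat ⊓ @QuasiCompact)
    (g := σ) ⟨⟨inferInstance, inferInstance⟩, inferInstance⟩ (inferInstanceAs (Smooth (Red.bc σ B).hom))
  haveI : ConnectedSpace ↥(Limits.pullback B.hom σ) := hB.2.2.2.1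
  haveI : Surjective (Limits.pullback.fst B.hom σ) := inferInstance
  exact ⟨B, str, iB, hiB, hciB, inferInstance,
    (Limits.pullback.fst B.hom σ).surjective.connectedSpace (Limits.pullback.fst B.hom σ).continuous, hB⟩

/-- A maximal torus defined over the finite field. -/
theorem exists_maxTorus_finite (hφ : φ.IsIntegral) :
    ∃ (T : Over (Spec (CommRingCat.of k))) (_ : GrpObj T) (iT : T ⟶ G), IsMonHom iT ∧ IsClosedImmersion iT.left ∧
      Red.IsTorus T ∧ AGF.IsMaxTorus ((Over.pullback σ).map iT) := by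
  obtain ⟨hA, hS, hC⟩ := bcG_props φ (G := G)
  haveI := hA
  haveI := hS
  haveI := hC
  haveI : IsReduced (Red.bc σ G).left := isReduced_of_smooth_field (Red.bc σ G).hom
  obtain ⟨B₀, _, iB₀, -, -, -, hB₀, -, -⟩ := AGFLib.Borel.exists_borel (Red.bc σ G)
  haveI := hB₀.1
  obtain ⟨S₀, _, i₀, hi₀, hm₀, hmono₀, hS₀, -, -⟩ := exists_borelTorus iB₀ hB₀
  haveI := hm₀
  obtain ⟨T₀, _, iT₀, hmT, hT₀, -⟩ := exists_maxTorus_containing (i₀ ≫ iB₀) hS₀
  haveI := hT₀.2.1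
  obtain ⟨hcT, hsT, hconT, haT, hlT, hqT, -⟩ := torus_sub hT₀.2.2.1 iT₀
  haveI := hcT
  haveI := hsT
  haveI := hconT
  haveI := haT
  haveI : IsReduced T₀.left := isReduced_of_smooth_field T₀.hom
  haveI := surjective_frK φ (G := G)
  obtain ⟨T₁, _, iT₁, p, hm, hci, hsm, hp⟩ := AGFLib.BorelImage.exists_image (frK φ G) iT₀
  haveI := hm
  haveI := hci
  haveI := hsm
  obtain ⟨hps, hpc⟩ := hp inferInstance
  haveI := hps
  haveI : Mono iT₁ := mono_of_closedImmersion iT₁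
  haveI : IsMonHom p := AGFLib.BorelImage.isMonHom_of_comp p iT₁ (iT₀ ≫ frK φ G) hpc
  haveI : IsAffine T₁.left := isAffine_of_isAffineHom iT₁.left
  haveI : ConnectedSpace T₁.left := p.left.surjective.connectedSpace p.left.continuous
  have hT₁ : Red.IsTorus T₁ := isTorus_of_surjective hT₀.2.2.1 p
  obtain ⟨T₂, _, iT₂, hmT₂, hT₂, hle⟩ := exists_maxTorus_containing iT₁ hT₁
  obtain ⟨g, f, hf⟩ := Groth.Agent.S3901.result K (Red.bc σ G) T₀ T₂ iT₀ iT₂ hT₀ hT₂
  obtain ⟨h, T, str, iT, e, hiT, hciT, hem, he⟩ := exists_descend_conj φ hφ iT₀ g fun y hy => by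
    obtain ⟨z, rfl⟩ := hy
    obtain ⟨u, hu⟩ := hle ⟨z ≫ p, rfl⟩
    change u ≫ iT₂ = (z ≫ p) ≫ iT₁ at hu
    refine ⟨u ≫ f.inv, ?_⟩
    have h1 : f.inv ≫ iT₀ = iT₂ ≫ AGFLib.Borel.conjM g⁻¹ := by
      rw [← cancel_epi f.hom, Iso.hom_inv_id_assoc, ← Category.assoc, hf, AGFLib.Borel.conjBy_eq, Category.assoc,
        AGFLib.Borel.conjM_comp, inv_mul_cancel, AGFLib.Borel.conjM_one, Category.comp_id]
    show (u ≫ f.inv) ≫ iT₀ = g⁻¹ * ((z ≫ iT₀) ≫ frK φ G) * g
    rw [Category.assoc, h1, ← Category.assoc, hu, comp_conjM_pt, _root_.inv_inv, Category.assoc z, hpc, ← Category.assoc]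
  haveI := hiT
  haveI := hciT
  haveI := hem
  haveI : (Over.pullback σ).IsRightAdjoint := (Over.mapPullbackAdj σ).isRightAdjoint
  let ge : Grp.mk (Red.bc σ T) ≅ Grp.mk T₀ :=
    ⟨Grp.ofHom e.hom, Grp.ofHom e.inv, by ext : 1; exact e.hom_inv_id, by ext : 1; exact e.inv_hom_id⟩
  have hTor : Red.IsTorus (Red.bc σ T) := isTorus_of_iso ge hT₀.2.2.1
  haveI : Mono iT := (Over.forget _).mono_of_mono_map (inferInstanceAs (Mono iT.left))
  refine ⟨T, str, iT, hiT, hciT, GrpSchLib.IsogTorus.isTorus_of_bc φ hTor, inferInstance, inferInstance, hTor,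
    fun W _ j _ _ w hW hw => ?_⟩
  haveI : IsMonHom (AGF.conjBy h⁻¹ j) := by rw [AGFLib.Borel.conjBy_eq]; infer_instance
  haveI : Mono (AGF.conjBy h⁻¹ j) := by rw [AGFLib.Borel.conjBy_eq]; exact mono_comp j _
  haveI := hT₀.2.2.2 W (AGF.conjBy h⁻¹ j) (e.inv ≫ w) hW (by
    rw [AGFLib.Borel.conjBy_eq, Category.assoc, reassoc_of% hw, ← he, AGFLib.Borel.conjBy_eq, Category.assoc,
      Category.assoc, AGFLib.Borel.conjM_comp, inv_mul_cancel, AGFLib.Borel.conjM_one, Category.comp_id,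
      Iso.inv_hom_id_assoc])
  exact IsIso.of_isIso_comp_left e.inv w

/-- A maximal torus of a Borel subgroup is one of the group. -/
theorem isMaxTorus_comp {G B T : Over (Spec (CommRingCat.of K))} [GrpObj G] [GrpObj B] [GrpObj T] [IsAffine G.left]
    [Smooth G.hom] [ConnectedSpace G.left] (iB : B ⟶ G) [IsMonHom iB] (hB : Red.IsBorelOver K iB) (t : T ⟶ B)
    (ht : AGF.IsMaxTorus t) : AGF.IsMaxTorus (t ≫ iB) := by
  haveI := ht.1
  haveI := ht.2.1
  haveI := hB.2.1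
  haveI := hB.2.2.1
  haveI := hB.2.2.2.1
  obtain ⟨haB, hlB, -, hmB, hevB⟩ := sub_props iB
  haveI := haB
  haveI := hlB
  haveI := hmB
  haveI : IsReduced B.left := isReduced_of_smooth_field B.hom
  haveI : IsReduced G.left := isReduced_of_smooth_field G.hom
  haveI : Mono (t ≫ iB) := mono_comp t iB
  obtain ⟨T₀, _, i₀, hi₀, hm₀, hmono₀, hT₀, hA, hC⟩ := exists_borelTorus iB hB
  haveI := hi₀
  haveI := hmono₀
  haveI : Mono i₀ := mono_of_mono i₀ iB
  obtain ⟨T₁, _, i₁, hm₁, hT₁, hle₁⟩ := exists_maxTorus_containing i₀ hT₀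
  obtain ⟨b, f, hf⟩ := Groth.Agent.S3901.result K B T T₁ t i₁ ht hT₁
  obtain ⟨haT, hsT, -, -⟩ := torus_props ht.2.2.1
  refine isMaxTorus_of_borel iB (t ≫ iB) hB ht.2.2.1 ?_ ?_
  · rintro _ ⟨x, rfl⟩
    exact ⟨x ≫ t, Category.assoc _ _ _⟩
  · rintro _ ⟨x, rfl⟩
    obtain ⟨_, ⟨τ, rfl⟩, hu⟩ := hA (b * x * b⁻¹)
    obtain ⟨τ₁, hτ₁⟩ := hle₁ ⟨τ, rfl⟩
    change τ₁ ≫ i₁ = τ ≫ i₀ at hτ₁
    refine ⟨(τ₁ ≫ f.inv) ≫ t ≫ iB, ⟨τ₁ ≫ f.inv, rfl⟩, ?_⟩
    have h1 : f.inv ≫ t = i₁ ≫ AGFLib.Borel.conjM b⁻¹ := by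
      rw [← cancel_epi f.hom, Iso.hom_inv_id_assoc, ← Category.assoc, hf, AGFLib.Borel.conjBy_eq, Category.assoc,
        AGFLib.Borel.conjM_comp, inv_mul_cancel, AGFLib.Borel.conjM_one, Category.comp_id]
    have h2 := (map_isSsPt_isUnipPt iB _).2 (hu.conj b⁻¹)
    change IsUnipPt ((((τ₁ ≫ f.inv) ≫ t ≫ iB))⁻¹ * (x ≫ iB))
    rw [← Category.assoc (τ₁ ≫ f.inv), Category.assoc τ₁, h1, ← Category.assoc, hτ₁, comp_conjM_pt]
    simp only [MonObj.mul_comp, GrpObj.inv_comp] at h2 ⊢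
    convert h2 using 1
    group

end Groth.Agent.SolvGrp.Frob
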