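import Groth.Agent.SolvGrp.GrothCaseA
import Groth.Agent.S3922

/-! Grothendieck's theorem: a smooth connected affine group over a field has a torus maximal over the closure. -/

set_option backward.isDefEq.respectTransparency false
set_option backward.isDefEq.respectTransparency.types false
set_option linter.style.haveILetI false
set_option synthInstance.maxHeartbeats 1000000

universe u

open CategoryTheory MonoidalCategory CartesianMonoidalCategory MonObj GrpObj AlgebraicGeometry

noncomputable section

namespace Groth.Agent.SolvGrp.Groth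

variable {k : Type u} [Field k]

/-- Over an infinite field there is a torus which is maximal over any algebraically closed extension. -/
theorem hasTorus_of_infinite [Infinite k] (K : Type u) [Field K] [Algebra k K] [IsAlgClosed K]
    (G : Over (Spec (CommRingCat.of k))) [GrpObj G] [IsAffine G.left] [Smooth G.hom] [ConnectedSpace G.left] :
    HasTorus (algebraMap k K) G := by
  classical
  obtain ⟨p, hp⟩ := CharP.exists K
  suffices main : ∀ (d : ℕ) (G : Over (Spec (CommRingCat.of k))) [GrpObj G] [IsAffine G.left] [Smooth G.hom]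
      [ConnectedSpace G.left], topologicalKrullDim ↥G.left = d → HasTorus (algebraMap k K) G by
    obtain ⟨d, hd⟩ := exists_dim (G := G)
    exact main d G hd
  intro d
  induction d using Nat.strong_induction_on with
  | _ d IH =>
  have hsmall : ∀ (C : Over (Spec (CommRingCat.of k))) [GrpObj C] [IsAffine C.left] [Smooth C.hom]
      [ConnectedSpace C.left], topologicalKrullDim ↥C.left < (d : WithBot ℕ∞) → HasTorus (algebraMap k K) C := by
    intro C _ _ _ _ hC
    obtain ⟨d', hd'⟩ := exists_dim (G := C)
    rw [hd'] at hC
    exact IH d' (by exact_mod_cast hC) C hd'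
  have hlevel : ∀ (n : ℕ) (G : Over (Spec (CommRingCat.of k))) [GrpObj G] [IsAffine G.left] [Smooth G.hom]
      [ConnectedSpace G.left], topologicalKrullDim ↥G.left = d → NonCen K G p n → HasTorus (algebraMap k K) G := by
    intro n
    induction n with
    | zero =>
      intro G _ _ _ _ _ hN
      obtain ⟨D⟩ := exists_adj G
      exact absurd hN (Adj.not_nonCen_zero p D)
    | succ n ihn =>
      intro G _ _ _ _ hG hN
      obtain ⟨D⟩ := exists_adj G
      by_cases hall : ∀ X : CartDual.D k D.A, IsDer X → IsTopNilp (pull D.ψ X)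
      · obtain ⟨-, hQ⟩ := D.central_or_step p hall hN
        refine hasTorus_of_quot (algebraMap k K) D.i D.q D.hZ D.hk ?_
        haveI : LocallyOfFiniteType D.Q.hom := inferInstance
        have hle := dim_le (G := G) D.q
        rcases hle.lt_or_eq with hlt | heq
        · exact hsmall D.Q (hlt.trans_le hG.le)
        · exact ihn D.Q (heq.trans hG) hQ
      · push Not at hall
        obtain ⟨X, hX, hn⟩ := hall
        exact D.hasTorus_of_not_nilp hX hn fun C _ _ _ _ hC => hsmall C (hC.trans_le hG.le)
  intro G _ _ _ _ hG
  obtain ⟨D⟩ := exists_adj G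
  by_cases hcen : ∀ (T : Over (Spec (CommRingCat.of K))) [GrpObj T]
      (v : T ⟶ Red.bc (Spec.map (CommRingCat.ofHom (algebraMap k K))) G) [IsMonHom v],
      Red.IsTorus T → v ≫ (Over.pullback (Spec.map (CommRingCat.ofHom (algebraMap k K)))).map D.q = 1
  · exact hasTorus_of_central (algebraMap k K) D.i D.q D.hZ D.hk hcen
  · push Not at hcen
    obtain ⟨T, _, v, _, hT, hv⟩ := hcen
    obtain ⟨n, hn⟩ := Adj.exists_nonCen p (CharP.char_ne_one K p) D hT v hv
    exact hlevel n G hG hn

theorem isMaxTorus_congr {S S' : Scheme.{u}} {σ σ' : S' ⟶ S} {G T : Over S} [GrpObj G] [GrpObj T] (i : T ⟶ G)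
    (h : σ = σ') (hmax : AGF.IsMaxTorus ((Over.pullback σ).map i)) : AGF.IsMaxTorus ((Over.pullback σ').map i) := by
  subst h; exact hmax

/-- Every smooth connected affine group over a field has a maximal torus. -/
theorem exists_isMaximalTorus (G : Over (Spec (CommRingCat.of k))) [GrpObj G] [IsAffine G.left] [Smooth G.hom]
    [ConnectedSpace G.left] :
    ∃ (T : Over (Spec (CommRingCat.of k))) (_ : GrpObj T) (i : T ⟶ G),
      IsClosedImmersion i.left ∧ Red.IsMaximalTorus i := by
  rcases finite_or_infinite k with hfin | hinf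
  · obtain ⟨B, _, iB, T, _, t, -, h⟩ := Groth.Agent.S3922.result k G
    haveI := h.1
    haveI := h.2.1
    exact ⟨T, inferInstance, t ≫ iB, (torus_sub_field (t ≫ iB) h.2.2.1).1, h⟩
  · let s₀ := AGFLib.GeomBC.pt k
    obtain ⟨φ₀, hφ₀⟩ := Spec.map_surjective (Red.geomPt s₀)
    letI : Algebra k (AlgebraicClosure ((Spec (CommRingCat.of k)).residueField s₀)) := φ₀.hom.toAlgebra
    obtain ⟨T, _, i, him, himono, hT, hmax⟩ :=
      hasTorus_of_infinite (AlgebraicClosure ((Spec (CommRingCat.of k)).residueField s₀)) G
    haveI := him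
    haveI := himono
    refine ⟨T, inferInstance, i, (torus_sub_field i hT).1, him, himono, hT, fun s => ?_⟩
    obtain rfl : s = s₀ := Subsingleton.elim (α := ↥(Spec (CommRingCat.of k))) _ _
    exact (isMaxTorus_congr i (show Spec.map (CommRingCat.ofHom φ₀.hom) = Red.geomPt _ by
      rw [CommRingCat.ofHom_hom, hφ₀]) hmax).2.2.2

end Groth.Agent.SolvGrp.Groth
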