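import Groth.Agent.GrpSchLib.AlphaPCoord
import Groth.Agent.SolvGrp.TorusPts
import Groth.Prelude.Def_ConstGrp
import Mathlib.RingTheory.Coalgebra.GroupLike
import Mathlib.RingTheory.Bialgebra.TensorProduct
import Mathlib.LinearAlgebra.Dimension.Constructions

/-! `α_p` and `ℤ/p` have no nontrivial homomorphism to a torus. -/

set_option backward.isDefEq.respectTransparency false
set_option backward.isDefEq.respectTransparency.types false
set_option linter.style.haveILetI false

universe u

open CategoryTheory MonoidalCategory CartesianMonoidalCategory MonObj AlgebraicGeometry WithConv TensorProduct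

namespace Groth.Agent.SolvGrp.PFinite

open GrpSchLib

section Alpha

variable (p : ℕ) [Fact p.Prime] {K : Type u} [Field K] [CharP K p]

/-- The only group-like element of `α_p` is `1`. -/
theorem groupLike_alphaP (a : AlphaP.A p K) (ha : IsGroupLikeElem K a) : a = 1 := by
  have hp : p.Prime := Fact.out
  let c : ℕ → K := fun i => if h : i < p then αCoord p K ⟨i, h⟩ a else 0
  have hD : αDeriv p K a = δ₁ p K a • a := by
    simp [αDeriv, ha.comul_eq_tmul_self]
  have hcd : ∀ i (h : i < p), αCoord p K ⟨i, h⟩ (αDeriv p K a) = ((i + 1 : ℕ) : K) * c (i + 1) := by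
    intro i hi
    conv_lhs => rw [← α_sum_coord p K a, map_sum, map_sum]
    simp only [map_smul, αDeriv_pow, αCoord_pow, smul_eq_mul]
    by_cases h1 : i + 1 < p
    · rw [Finset.sum_eq_single (⟨i + 1, h1⟩ : Fin p)]
      · simp [c, h1, _root_.mul_comm]
      · intro b _ hb
        by_cases hb0 : (b : ℕ) = 0
        · simp [hb0]
        · rw [if_neg (fun h => hb (Fin.ext (by show (b : ℕ) = i + 1; omega))), mul_zero, mul_zero]
      · simp
    · rw [show c (i + 1) = 0 from dif_neg h1, mul_zero]
      refine Finset.sum_eq_zero fun b _ => ?_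
      by_cases hb0 : (b : ℕ) = 0
      · simp [hb0]
      · have := b.2
        rw [if_neg (by omega), mul_zero, mul_zero]
  have hrec : ∀ i, i < p → ((i + 1 : ℕ) : K) * c (i + 1) = c 1 * c i := by
    intro i hi
    rw [← hcd i hi, hD, map_smul, smul_eq_mul]
    simp only [c, dif_pos hi, dif_pos hp.one_lt]
    rfl
  have hc0 : c 0 = 1 := by
    have h1 := ha.counit_eq_one
    rw [← α_sum_coord p K a, map_sum, Finset.sum_eq_single (⟨0, hp.pos⟩ : Fin p)] at h1
    · simpa [c, hp.pos, Bialgebra.counit_one] using h1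
    · intro b _ hb
      rw [map_smul, show Coalgebra.counit (R := K) (AlphaP.x p K ^ (b : ℕ)) = 0 from ?_, smul_zero]
      rw [Bialgebra.counit_pow, AlphaP.counit_x, zero_pow (fun h => hb (Fin.ext h))]
    · simp
  have hfac : ∀ i, i < p → (i.factorial : K) * c i = c 1 ^ i := by
    intro i
    induction i with
    | zero => intro _; simp [hc0]
    | succ i ih =>
      intro h
      rw [Nat.factorial_succ, Nat.mul_comm, Nat.cast_mul, _root_.mul_assoc, hrec i (by omega), pow_succ, ← ih (by omega)]
      ring
  have hc1 : c 1 = 0 := by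
    have h1 := hrec (p - 1) (by have := hp.pos; omega)
    rw [show c (p - 1 + 1) = 0 from dif_neg (by have := hp.pos; omega), mul_zero, eq_comm] at h1
    have h2 := hfac (p - 1) (by have := hp.pos; omega)
    rcases mul_eq_zero.mp h1 with h | h
    · exact h
    · rw [h, mul_zero] at h2
      exact pow_eq_zero_iff (n := p - 1) (by have := hp.two_le; omega) |>.mp h2.symm
  refine αCoord_ext p K fun i => ?_
  have h1 : αCoord p K i a = c i := by simp [c, i.2]
  have h2 : αCoord p K i (1 : AlphaP.A p K) = if (i : ℕ) = 0 then 1 else 0 := by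
    simpa [eq_comm] using αCoord_pow p K i 0
  rw [h1, h2]
  split
  · rename_i h; rw [h, hc0]
  · rename_i h
    have h3 := hfac i i.2
    rw [hc1, zero_pow h] at h3
    exact (mul_eq_zero.mp h3).resolve_left (isUnit_factorial_of_lt p K i.2).ne_zero

variable {k : Type u} [Field k] [CharP k p] [Algebra k K]

/-- The same after extension of the field. -/
theorem groupLike_alphaP_bc (u : K ⊗[k] AlphaP.A p k) (hu : IsGroupLikeElem K u) : u = 1 := by
  let b : K ⊗[k] AlphaP.A p k := 1 ⊗ₜ AlphaP.x p k
  have hb : b ^ p = 0 := by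
    show ((1 : K) ⊗ₜ[k] AlphaP.x p k) ^ p = 0
    rw [Algebra.TensorProduct.tmul_pow, AlphaP.x_pow, TensorProduct.tmul_zero]
  let iA : AlphaP.A p K →ₐ[K] K ⊗[k] AlphaP.A p k := AlphaP.lift p K b hb
  have hsurj : Function.Surjective iA := by
    intro z
    induction z using TensorProduct.induction_on with
    | zero => exact ⟨0, map_zero _⟩
    | add x y hx hy =>
      obtain ⟨a, rfl⟩ := hx
      obtain ⟨c, rfl⟩ := hy
      exact ⟨a + c, map_add _ _ _⟩
    | tmul r a =>
      refine ⟨r • ∑ i, algebraMap k K (αCoord p k i a) • AlphaP.x p K ^ (i : ℕ), ?_⟩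
      conv_rhs => rw [← α_sum_coord p k a, TensorProduct.tmul_sum]
      simp only [map_smul, map_sum, map_pow, iA, AlphaP.lift_x, b, Finset.smul_sum, smul_smul,
        Algebra.TensorProduct.tmul_pow, one_pow, TensorProduct.smul_tmul', smul_eq_mul, _root_.mul_one]
      exact Finset.sum_congr rfl fun i _ => by
        rw [← TensorProduct.smul_tmul, Algebra.smul_def, _root_.mul_comm]
  have hinj : Function.Injective iA := by
    haveI : Nontrivial k := inferInstance
    refine (LinearMap.injective_iff_surjective_of_finrank_eq_finrank (f := iA.toLinearMap) ?_).mpr hsurj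
    rw [Module.finrank_baseChange, AlphaP.finrank_eq, AlphaP.finrank_eq]
  let e : AlphaP.A p K ≃ₐc[K] K ⊗[k] AlphaP.A p k := BialgEquiv.ofAlgEquiv (AlgEquiv.ofBijective iA ⟨hinj, hsurj⟩)
    (AlphaP.algHom_ext (by simp [iA, b, AlphaP.counit_x]))
    (AlphaP.algHom_ext (by simp [iA, b, AlphaP.comul_x, Algebra.TensorProduct.one_def, TensorProduct.comul_tmul,
      TensorProduct.tmul_add]))
  have h1 := groupLike_alphaP p (e.symm u) (hu.map (e.symm : K ⊗[k] AlphaP.A p k →ₐc[K] AlphaP.A p K))
  simpa using congrArg e h1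

end Alpha

section Const

variable {p : ℕ} [Fact p.Prime] {k K : Type u} [Field k] [Field K] [CharP K p] [Algebra k K]

/-- The only group-like function on `ℤ/p` in characteristic `p` is `1`. -/
theorem groupLike_const_bc (u : K ⊗[k] ConstGrp.F k (Multiplicative (ZMod p))) (hu : IsGroupLikeElem K u) : u = 1 := by
  let G := Multiplicative (ZMod p)
  let E : G → K ⊗[k] ConstGrp.F k G →ₐ[K] K := fun g =>
    Algebra.TensorProduct.lift (Algebra.ofId K K) ((Algebra.ofId k K).comp (ConstGrp.ev k g)) fun _ _ => Commute.all _ _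
  have hE : ∀ g r f, E g (r ⊗ₜ f) = r * algebraMap k K (f g) := fun g r f => by simp [E]
  have hsum : ∀ z : K ⊗[k] ConstGrp.F k G, z = ∑ g, E g z • ((1 : K) ⊗ₜ[k] ConstGrp.e k g) := by
    intro z
    induction z using TensorProduct.induction_on with
    | zero => simp
    | add x y hx hy =>
      simp only [map_add, add_smul, Finset.sum_add_distrib]
      rw [← hx, ← hy]
    | tmul r f =>
      conv_lhs => rw [ConstGrp.eq_sum_smul_e f, TensorProduct.tmul_sum]
      refine Finset.sum_congr rfl fun g _ => ?_
      rw [hE, TensorProduct.smul_tmul', smul_eq_mul, _root_.mul_one, ← TensorProduct.smul_tmul, Algebra.smul_def,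
        _root_.mul_comm]
  have hmul : ∀ a b : G, (toConv (E a) * toConv (E b)).ofConv = E (a * b) := by
    intro a b
    refine Algebra.TensorProduct.ext' fun r f => ?_
    rw [show r ⊗ₜ[k] f = r • ((1 : K) ⊗ₜ[k] f) by rw [TensorProduct.smul_tmul', smul_eq_mul, _root_.mul_one],
      map_smul, map_smul]
    congr 1
    rw [ConstGrp.eq_sum_smul_e f, TensorProduct.tmul_sum, map_sum, map_sum]
    refine Finset.sum_congr rfl fun g _ => ?_
    rw [hE, TensorProduct.tmul_smul, ← algebraMap_smul K (f g), map_smul, AlgHom.convMul_apply,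
      TensorProduct.comul_tmul, ConstGrp.comul_e, TensorProduct.tmul_sum]
    simp only [CommSemiring.comul_apply, map_sum, Algebra.TensorProduct.lift_tmul, TensorProduct.AlgebraTensorModule.tensorTensorTensorComm_tmul,
      Algebra.TensorProduct.map_tmul, Algebra.TensorProduct.lmul'_apply_tmul, hE, _root_.one_mul, smul_eq_mul,
      ConstGrp.e_apply]
    rw [Finset.sum_eq_single a (fun c _ hc => by rw [if_neg (Ne.symm hc), map_zero, zero_mul]) (by simp)]
    rw [if_pos rfl, map_one, _root_.one_mul, ← map_mul]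
    congr 1
    rw [ConstGrp.smul_apply, ConstGrp.e_apply]
    congr 1
    exact if_congr ⟨fun h => by rw [h, mul_inv_cancel_left], fun h => by rw [← h, inv_mul_cancel_left]⟩ rfl rfl
  let χ : G →* K :=
    { toFun := fun g => E g u
      map_one' := by
        have h1 := DFunLike.congr_fun (hmul 1 1) u
        rw [AlgHom.convMul_apply, hu.comul_eq_tmul_self] at h1
        simp only [Algebra.TensorProduct.map_tmul, Algebra.TensorProduct.lmul'_apply_tmul, _root_.mul_one] at h1
        exact (mul_eq_left₀ (hu.isUnit.map (E 1)).ne_zero).mp h1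
      map_mul' := fun a b => by
        have h1 := DFunLike.congr_fun (hmul a b) u
        rw [AlgHom.convMul_apply, hu.comul_eq_tmul_self] at h1
        simp only [Algebra.TensorProduct.map_tmul, Algebra.TensorProduct.lmul'_apply_tmul] at h1
        exact h1.symm }
  have h1 : ∀ g, E g u = 1 := fun g => by
    have hpow : g ^ p = 1 := by
      refine Multiplicative.toAdd.injective ?_
      rw [toAdd_pow, toAdd_one, nsmul_eq_mul, ZMod.natCast_self, zero_mul]
    refine sub_eq_zero.mp ((pow_eq_zero_iff (n := p) (Fact.out : p.Prime).ne_zero).mp ?_)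
    rw [sub_pow_char, one_pow]
    show χ g ^ p - 1 = 0
    rw [← map_pow, hpow, map_one, sub_self]
  rw [hsum u, hsum 1]
  simp [h1]

end Const

/-- A homomorphism to a torus from a group whose coordinate algebra has only the trivial group-like element is trivial. -/
theorem hom_torus_eq_one {K : Type u} [Field K] [IsAlgClosed K] {A : Type u} [CommRing A] [HopfAlgebra K A]
    (h : ∀ a : A, IsGroupLikeElem K a → a = 1) {X T : Over (Spec (CommRingCat.of K))} [GrpObj X] [GrpObj T]
    (e : Grp.mk X ≅ Grp.mk (AffineHopf.sp K A)) (hT : Red.IsTorus T) (t : X ⟶ T) [IsMonHom t] : t = 1 := by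
  obtain ⟨r, ⟨eT⟩⟩ := exists_iso_sp hT
  let a : AffineHopf.sp K A ≅ X := (Grp.forget _).mapIso e.symm
  let b : T ≅ AffineHopf.sp K (MonoidAlgebra K (Multiplicative (Fin r → ℤ))) := (Grp.forget _).mapIso eT
  haveI : IsMonHom a.hom := e.inv.hom.isMonHom_hom
  haveI : IsMonHom b.hom := eT.hom.hom.isMonHom_hom
  haveI : IsMonHom b.inv := eT.inv.hom.isMonHom_hom
  obtain ⟨f, hf⟩ := AffineHopf.exists_bialgHom (a.hom ≫ t ≫ b.hom)
  have h1 : (f : MonoidAlgebra K (Multiplicative (Fin r → ℤ)) →ₐ[K] A) =
      (1 : WithConv (MonoidAlgebra K (Multiplicative (Fin r → ℤ)) →ₐ[K] A)).ofConv :=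
    MonoidAlgebra.algHom_ext (fun m => by
      show f (MonoidAlgebra.single m 1) = _
      have hm : IsGroupLikeElem K (MonoidAlgebra.single m (1 : K) : MonoidAlgebra K (Multiplicative (Fin r → ℤ))) := ⟨by simp, by simp⟩
      rw [h _ (hm.map f), AlgHom.convOne_apply]
      simp) (by ext)
  have h2 : a.hom ≫ t ≫ b.hom = 1 := by
    rw [hf, h1, AffineHopf.spMap_eq_mapMulEquiv]
    exact map_one Spec.mapMulEquiv
  rw [← cancel_epi a.hom, ← cancel_mono b.hom, Category.assoc, h2, MonObj.comp_one, MonObj.one_comp]

end Groth.Agent.SolvGrp.PFinite
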