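import Groth.Agent.SolvGrp.Bridge
import Groth.Agent.SolvGrp.Unip
import Groth.Agent.SolvGrp.Fibre
import Groth.Agent.SolvGrp.PFinite
import Groth.Agent.S7951
import Groth.Agent.S5422
import Groth.Agent.MultTypeLib.SubgroupTransporter

/-! Absence of subtori is stable under extensions of algebraically closed fields. -/

set_option backward.isDefEq.respectTransparency false
set_option backward.isDefEq.respectTransparency.types false
set_option linter.style.haveILetI false

universe u

open CategoryTheory MonoidalCategory CartesianMonoidalCategory MonObj AlgebraicGeometry TensorProduct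

namespace Groth.Agent.SolvGrp.UnipBC

open GrpSchLib GrpSchLib.Kunneth GrpSchLib.LineGroups AGFLib

/-- A unipotent Hopf algebra has no group-like element but `1`. -/
theorem groupLike_eq_one {k : Type u} [Field k] {A : Type u} [CommRing A] [HopfAlgebra k A]
    (hA : HopfRep.IsUnipotent k A) (a : A) (ha : IsGroupLikeElem k a) : a = 1 := by
  letI : HopfRep.Comod k A k :=
    { coact := LinearMap.toSpanSingleton k (k ⊗[k] A) ((1 : k) ⊗ₜ[k] a)
      coassoc := by
        ext
        simp [ha.comul_eq_tmul_self]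
      counit_comp := by
        ext
        simp [ha.counit_eq_one] }
  obtain ⟨v, hv, hv0⟩ := (Submodule.ne_bot_iff _).1 (hA k inferInstance inferInstance)
  have h : (v • ((1 : k) ⊗ₜ[k] a)) = v ⊗ₜ[k] (1 : A) := hv
  have h1 := congrArg (TensorProduct.lid k A) h
  simp only [map_smul, TensorProduct.lid_tmul, one_smul] at h1
  exact smul_right_injective A hv0 h1

/-- A unipotent group has no subtorus. -/
theorem hasNoSubtorus_of_isUnipotent {K : Type u} [Field K] [IsAlgClosed K] {A : Type u} [CommRing A] [HopfAlgebra K A]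
    [Algebra.FiniteType K A] (hA : HopfRep.IsUnipotent K A) {X : Over (Spec (CommRingCat.of K))} [GrpObj X]
    (e : Grp.mk X ≅ Grp.mk (AffineHopf.sp K A)) : Red.HasNoSubtorus K X := by
  intro T _ j _ _ hT
  obtain ⟨r, ⟨eT⟩⟩ := exists_iso_sp hT
  let b : T ≅ AffineHopf.sp K (MonoidAlgebra K (Multiplicative (Fin r → ℤ))) := (Grp.forget _).mapIso eT
  let a : AffineHopf.sp K A ≅ X := (Grp.forget _).mapIso e.symm
  haveI : IsMonHom a.inv := e.hom.hom.isMonHom_hom
  haveI : IsMonHom b.hom := eT.hom.hom.isMonHom_hom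
  haveI : IsMonHom b.inv := eT.inv.hom.isMonHom_hom
  haveI : IsAffine X.left := .of_isIso a.inv.left
  haveI := MultTypeLib.SubgroupTransporter.isClosedImmersion_of_mono (TorusQI.isMultTypeFT_of_isTorus hT) j
  haveI : IsMonHom (b.inv ≫ j ≫ a.inv) := inferInstance
  obtain ⟨f, hf⟩ := AffineHopf.exists_bialgHom (b.inv ≫ j ≫ a.inv)
  haveI : IsClosedImmersion (Spec.map (CommRingCat.ofHom
      (f : A →ₐ[K] MonoidAlgebra K (Multiplicative (Fin r → ℤ))).toRingHom)) := by
    change IsClosedImmersion (AffineHopf.spMap (R := K) (f : A →ₐ[K] MonoidAlgebra K (Multiplicative (Fin r → ℤ)))).left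
    rw [← hf, Over.comp_left, Over.comp_left]
    infer_instance
  have hsurj : Function.Surjective f := by
    let φ := CommRingCat.ofHom (f : A →ₐ[K] MonoidAlgebra K (Multiplicative (Fin r → ℤ))).toRingHom
    have h1 := (IsClosedImmersion.isAffine_surjective_of_isAffine (Spec.map φ)).2
    intro y
    obtain ⟨z, hz⟩ := h1 ((Scheme.ΓSpecIso _).inv y)
    refine ⟨(Scheme.ΓSpecIso _).hom z, ?_⟩
    have h2 := congrArg (fun g => g z) (Scheme.ΓSpecIso_naturality φ)
    refine h2.symm.trans ?_
    show (Scheme.ΓSpecIso _).hom ((Spec.map φ).appTop z) = y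
    rw [hz]
    exact CategoryTheory.Iso.inv_hom_id_apply (Scheme.ΓSpecIso (CommRingCat.of (MonoidAlgebra K (Multiplicative (Fin r → ℤ))))) y
  have hM : HopfRep.IsUnipotent K (MonoidAlgebra K (Multiplicative (Fin r → ℤ))) :=
    (Groth.Agent.S5422.result K A).1 _ f hsurj hA
  have h1 : ∀ m : Multiplicative (Fin r → ℤ), m = 1 := fun m => by
    have := groupLike_eq_one hM (MonoidAlgebra.single m 1) ⟨by simp, by simp⟩
    exact MonoidAlgebra.single_left_injective one_ne_zero this
  have hbij : Function.Bijective (algebraMap K (MonoidAlgebra K (Multiplicative (Fin r → ℤ)))) := by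
    haveI : Unique (Multiplicative (Fin r → ℤ)) := ⟨⟨1⟩, h1⟩
    exact (MonoidAlgebra.uniqueRingEquiv (Multiplicative (Fin r → ℤ))).symm.bijective
  haveI : IsIso (AffineHopf.sp K (MonoidAlgebra K (Multiplicative (Fin r → ℤ)))).hom := by
    haveI : IsIso (CommRingCat.ofHom (algebraMap K (MonoidAlgebra K (Multiplicative (Fin r → ℤ))))) :=
      (ConcreteCategory.isIso_iff_bijective _).2 hbij
    exact inferInstanceAs (IsIso (Spec.map _))
  show IsIso T.hom
  rw [← Over.w b.hom]
  infer_instance

variable {k : Type u} [Field k] [IsAlgClosed k]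

/-- A smooth connected group without subtori keeps this property over every algebraically closed extension. -/
theorem hasNoSubtorus_bc_algClosed {K : Type u} [Field K] [IsAlgClosed K]
    (σ : Spec (CommRingCat.of K) ⟶ Spec (CommRingCat.of k)) {U : Over (Spec (CommRingCat.of k))} [GrpObj U]
    [IsAffine U.left] [Smooth U.hom] [ConnectedSpace U.left] (h : Red.HasNoSubtorus k U) :
    Red.HasNoSubtorus K (Red.bc σ U) := by
  obtain ⟨φ, rfl⟩ := Spec.map_surjective σ
  letI : Algebra k K := φ.hom.toAlgebra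
  haveI : IsReduced U.left := isReduced_of_smooth_field U.hom
  obtain ⟨A, _, _, ⟨e⟩⟩ := AffineHopf.exists_hopf U
  haveI : Algebra.FiniteType k A := by
    haveI := finiteType_fn U
    exact (inferInstance : Algebra.FiniteType k (Fn U)).equiv (coordEquiv e).symm
  haveI : _root_.IsReduced A := isReduced_of_injective (coordEquiv e) (coordEquiv e).injective
  have hA : HopfRep.IsUnipotent K (K ⊗[k] A) :=
    (Groth.Agent.S7951.result k K A).1 (isUnipotent_of_pts e (isUnipPt_of_hasNoSubtorus h))
  obtain ⟨e'⟩ := AffineHopf.nonempty_bc_sp (R := k) K A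
  exact hasNoSubtorus_of_isUnipotent hA ((Functor.mapGrp (Over.pullback (Spec.map φ))).mapIso e.symm ≪≫ e')

omit [IsAlgClosed k] in
/-- Geometric connectedness and absence of geometric subtori give the same over every algebraically closed field. -/
theorem bc_algClosed_props {k : Type u} [Field k] {U : Over (Spec (CommRingCat.of k))} [GrpObj U] [IsAffine U.left]
    [Smooth U.hom] (s : Spec (CommRingCat.of k)) (hc : ConnectedSpace (Red.geomFibre s U).left)
    (h : Red.HasNoSubtorus (AlgebraicClosure ((Spec (CommRingCat.of k)).residueField s)) (Red.geomFibre s U))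
    {K : Type u} [Field K] [IsAlgClosed K] (σ : Spec (CommRingCat.of K) ⟶ Spec (CommRingCat.of k)) :
    Red.HasNoSubtorus K (Red.bc σ U) := by
  let L := AlgebraicClosure ((Spec (CommRingCat.of k)).residueField s)
  obtain ⟨φ₀, hφ₀⟩ := Spec.map_surjective (Red.geomPt s)
  obtain ⟨φ, rfl⟩ := Spec.map_surjective σ
  letI : Algebra k L := φ₀.hom.toAlgebra
  letI : Algebra k K := φ.hom.toAlgebra
  haveI hint : Algebra.IsIntegral k L := by
    have h := AGFLib.GeomBC.isIntegralHom_geomPt s
    rw [← hφ₀, IsIntegralHom.SpecMap_iff] at h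
    exact algebraMap_isIntegral_iff.mp h
  haveI : Algebra.IsAlgebraic k L := inferInstance
  let ψ : L →ₐ[k] K := IsAlgClosed.lift
  have e : Spec.map φ = Spec.map (CommRingCat.ofHom (ψ : L →+* K)) ≫ Red.geomPt s := by
    rw [← hφ₀, ← Spec.map_comp]
    congr 1
    ext x
    exact (ψ.commutes x).symm
  haveI : IsAffine (Red.geomFibre s U).left :=
    inferInstanceAs (IsAffine (Limits.pullback U.hom (Red.geomPt s)))
  haveI : Smooth (Red.geomFibre s U).hom := inferInstanceAs (Smooth (Limits.pullback.snd U.hom (Red.geomPt s)))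
  have h1 := hasNoSubtorus_bc_algClosed (Spec.map (CommRingCat.ofHom (ψ : L →+* K))) h
  obtain ⟨e₁⟩ := MultTypeBC.bc_bc (Spec.map (CommRingCat.ofHom (ψ : L →+* K))) (Red.geomPt s) U
  obtain ⟨e₂⟩ := MultTypeBC.bc_congr e U
  intro T _ j _ _ hT
  let w : Red.bc (Spec.map φ) U ≅ Red.bc (Spec.map (CommRingCat.ofHom (ψ : L →+* K))) (Red.geomFibre s U) :=
    (Grp.forget _).mapIso (e₂ ≪≫ e₁.symm)
  haveI : IsMonHom w.hom := (e₂ ≪≫ e₁.symm).hom.hom.isMonHom_hom
  exact h1 T (j ≫ w.hom) hT

omit [IsAlgClosed k] in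
/-- The geometric fibres of a base change inherit the absence of subtori. -/
theorem geomFibre_bc {k K : Type u} [Field k] [Field K] (φ : k →+* K) {U : Over (Spec (CommRingCat.of k))} [GrpObj U]
    [IsAffine U.left] [Smooth U.hom] [ConnectedSpace U.left]
    (h : ∀ s : Spec (CommRingCat.of k),
      Red.HasNoSubtorus (AlgebraicClosure ((Spec (CommRingCat.of k)).residueField s)) (Red.geomFibre s U))
    (t : Spec (CommRingCat.of K)) :
    Red.HasNoSubtorus (AlgebraicClosure ((Spec (CommRingCat.of K)).residueField t))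
      (Red.geomFibre t (Red.bc (Spec.map (CommRingCat.ofHom φ)) U)) := by
  let s := AGFLib.GeomBC.pt k
  obtain ⟨φ₀, hφ₀⟩ := Spec.map_surjective (Red.geomPt s)
  have hc : ConnectedSpace (Red.geomFibre s U).left := by
    show ConnectedSpace (Red.bc (Red.geomPt s) U).left
    rw [← hφ₀]
    exact AntiAffine.connectedSpace_bc U φ₀.hom
  have h1 := bc_algClosed_props s hc (h s) (Red.geomPt t ≫ Spec.map (CommRingCat.ofHom φ))
  obtain ⟨e₁⟩ := MultTypeBC.bc_bc (Red.geomPt t) (Spec.map (CommRingCat.ofHom φ)) U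
  intro T _ j _ _ hT
  let w : Red.geomFibre t (Red.bc (Spec.map (CommRingCat.ofHom φ)) U) ≅
      Red.bc (Red.geomPt t ≫ Spec.map (CommRingCat.ofHom φ)) U := (Grp.forget _).mapIso e₁
  haveI : IsMonHom w.hom := e₁.hom.hom.isMonHom_hom
  exact h1 T (j ≫ w.hom) hT

end Groth.Agent.SolvGrp.UnipBC
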