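import Groth.Agent.SolvGrp.Pt
import Groth.Agent.AGFLib.BorelExist
import Groth.Agent.AGFLib.GenSubgroup
import Groth.Agent.GrpSchLib.HomClosedRange
import Groth.Agent.S0348

/-! Subgroups described by their rational points. -/

set_option backward.isDefEq.respectTransparency false
set_option backward.isDefEq.respectTransparency.types false
set_option linter.style.haveILetI false

universe u

open CategoryTheory MonoidalCategory CartesianMonoidalCategory MonObj AlgebraicGeometry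
open scoped commutatorElement

namespace Groth.Agent.SolvGrp

open GrpSchLib GrpSchLib.Kunneth GrpSchLib.LineGroups WeilCmp.Unip AGFLib AGFLib.Gen AGFLib.BorelFixed
  AGFLib.BorelExist

variable {k : Type u} [Field k]

local notation "PT" => 𝟙_ (Over (Spec (CommRingCat.of k)))

/-- A set of rational points cut out by a closed set. -/
def PtsClosed {X : Over (Spec (CommRingCat.of k))} (S : Set (𝟙_ (Over (Spec (CommRingCat.of k))) ⟶ X)) : Prop :=
  ∃ Z : Set X.left, IsClosed Z ∧ ∀ g, g ∈ S ↔ cp g ∈ Z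

theorem PtsClosed.preimage {X Y : Over (Spec (CommRingCat.of k))} {S : Set (PT ⟶ Y)} (hS : PtsClosed S)
    (f : X ⟶ Y) : PtsClosed {x : PT ⟶ X | x ≫ f ∈ S} := by
  obtain ⟨Z, hZ, h⟩ := hS
  exact ⟨f.left ⁻¹' Z, hZ.preimage f.left.continuous, fun g => h _⟩

theorem PtsClosed.inter {X : Over (Spec (CommRingCat.of k))} {S T : Set (PT ⟶ X)} (hS : PtsClosed S)
    (hT : PtsClosed T) : PtsClosed (S ∩ T) := by
  obtain ⟨Z, hZ, h⟩ := hS
  obtain ⟨Z', hZ', h'⟩ := hT
  exact ⟨Z ∩ Z', hZ.inter hZ', fun g => and_congr (h g) (h' g)⟩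

theorem PtsClosed.biUnion {X : Over (Spec (CommRingCat.of k))} {ι₀ : Type*} {s : Set ι₀} (hs : s.Finite)
    {S : ι₀ → Set (PT ⟶ X)} (h : ∀ a ∈ s, PtsClosed (S a)) : PtsClosed (⋃ a ∈ s, S a) := by
  choose Z hZ hmem using h
  haveI := hs.to_subtype
  refine ⟨⋃ a : s, Z a a.2, isClosed_iUnion_of_finite fun a => hZ a a.2, fun g => ?_⟩
  simp only [Set.mem_iUnion]
  exact ⟨fun ⟨a, ha, hg⟩ => ⟨⟨a, ha⟩, (hmem a ha g).mp hg⟩, fun ⟨a, hg⟩ => ⟨a, a.2, (hmem a a.2 g).mpr hg⟩⟩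

/-- A locus of zeros of functions is closed. -/
theorem ptsClosed_zero {X : Over (Spec (CommRingCat.of k))} (F : Set (Fn X)) :
    PtsClosed {g : PT ⟶ X | ∀ f ∈ F, vl g f = 0} := by
  refine ⟨⋂ f ∈ F, (X.left.basicOpen f : Set X.left)ᶜ, isClosed_biInter fun f _ => (X.left.basicOpen f).isOpen.isClosed_compl,
    fun g => ?_⟩
  simp only [Set.mem_iInter₂, Set.mem_compl_iff, SetLike.mem_coe, Set.mem_ofPred_eq]
  refine forall₂_congr fun f _ => ?_
  have hpre : g.left ⁻¹ᵁ X.left.basicOpen f = (PT).left.basicOpen (ev g f) := Scheme.preimage_basicOpen_top _ _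
  constructor
  · intro h hc
    have h1 : (IsLocalRing.closedPoint k : (PT).left) ∈ g.left ⁻¹ᵁ X.left.basicOpen f := hc
    rw [hpre, show ev g f = 0 from (ProjAct.toK (k := k)).injective (h.trans (map_zero _).symm),
      Scheme.basicOpen_zero] at h1
    exact h1
  · intro h
    by_contra h0
    refine h ?_
    show (IsLocalRing.closedPoint k : (PT).left) ∈ g.left ⁻¹ᵁ X.left.basicOpen f
    rw [hpre, Scheme.basicOpen_of_isUnit]
    · trivial
    · rw [← ProjAct.algebraMap_toK (k := k) (ev g f)]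
      exact (IsUnit.mk0 _ h0).map _

variable [IsAlgClosed k]

/-- Morphisms from a reduced scheme to a separated one agreeing on points agree. -/
theorem isTrivialGrp_of_pts {H : Over (Spec (CommRingCat.of k))} [GrpObj H] [LocallyOfFiniteType H.hom]
    [IsReduced H.left] (h : ∀ x : PT ⟶ H, x = 1) : Red.IsTrivialGrp H := by
  haveI := GrpSchLib.AntiAffine.isSeparated_grp H
  have h2 : toUnit H ≫ (1 : PT ⟶ H) = 𝟙 H := hom_ext_pts (fun x => by
    rw [Category.comp_id, h x, ← Category.assoc, toUnit_unique ((1 : PT ⟶ H) ≫ toUnit H) (𝟙 _), Category.id_comp])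
  let j : H ≅ PT := ⟨toUnit H, 1, h2, toUnit_unique _ _⟩
  show IsIso H.hom
  have : H.hom = j.hom.left ≫ (PT).hom := (Over.w j.hom).symm
  rw [this]
  haveI : IsIso (PT).hom := inferInstanceAs (IsIso (𝟙 _))
  haveI : IsIso j.hom.left := ((Over.forget _).mapIso j).isIso_hom
  infer_instance

variable {G : Over (Spec (CommRingCat.of k))} [GrpObj G]

/-- Translates of closed sets of points are closed. -/
theorem PtsClosed.mul_left {S : Set (PT ⟶ G)} (hS : PtsClosed S) (s : PT ⟶ G) :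
    PtsClosed {g : PT ⟶ G | s⁻¹ * g ∈ S} := by
  have e : {g : PT ⟶ G | s⁻¹ * g ∈ S} = {g : PT ⟶ G | g ≫ ((toUnit G ≫ s⁻¹) * 𝟙 G) ∈ S} := by
    ext g
    show s⁻¹ * g ∈ S ↔ g ≫ _ ∈ S
    rw [MonObj.comp_mul, Category.comp_id, ← Category.assoc, toUnit_unique (g ≫ toUnit G) (𝟙 _), Category.id_comp]
  show PtsClosed {g : PT ⟶ G | s⁻¹ * g ∈ S}
  rw [e]
  exact hS.preimage _

variable [LocallyOfFiniteType G.hom] [QuasiCompact G.hom]

theorem ptsClosed_one : PtsClosed ({1} : Set (PT ⟶ G)) := by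
  haveI := GrpSchLib.AntiAffine.isSeparated_grp G
  exact ⟨{cp (1 : PT ⟶ G)}, isClosed_cp _, fun g => ⟨fun h => congrArg cp (Set.mem_singleton_iff.mp h),
    fun h => cp_injective h⟩⟩

/-- The rational points of a closed subgroup, as a subgroup. -/
noncomputable def rangePts {H : Over (Spec (CommRingCat.of k))} [GrpObj H] (i : H ⟶ G) [IsMonHom i] :
    Subgroup (𝟙_ (Over (Spec (CommRingCat.of k))) ⟶ G) where
  carrier := Set.range fun x : PT ⟶ H => x ≫ i
  one_mem' := ⟨1, MonObj.one_comp i⟩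
  mul_mem' := by
    rintro _ _ ⟨a, rfl⟩ ⟨b, rfl⟩
    exact ⟨a * b, MonObj.mul_comp a b i⟩
  inv_mem' := by
    rintro _ ⟨a, rfl⟩
    exact ⟨a⁻¹, GrpObj.inv_comp a i⟩

theorem ptsClosed_range {H : Over (Spec (CommRingCat.of k))} [GrpObj H] [LocallyOfFiniteType H.hom]
    [QuasiCompact H.hom] (i : H ⟶ G) [IsMonHom i] : PtsClosed (rangePts i : Set (PT ⟶ G)) := by
  haveI := GrpSchLib.AntiAffine.isSeparated_grp G
  haveI : QuasiCompact i.left := by
    haveI : QuasiCompact (i.left ≫ G.hom) := by rw [Over.w i]; infer_instance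
    exact QuasiCompact.of_comp i.left G.hom
  refine ⟨_, GrpSchLib.HomClosedRange.isClosed_range i, fun g => ⟨?_, fun h => exists_of_mem_range i g h⟩⟩
  rintro ⟨x, rfl⟩
  exact ⟨cp x, rfl⟩

/-- A closed subgroup of points comes from a smooth closed subgroup scheme. -/
theorem exists_sub [IsAffine G.left] (Γ : Subgroup (PT ⟶ G)) (hΓ : PtsClosed (Γ : Set (PT ⟶ G))) :
    ∃ (D : Over (Spec (CommRingCat.of k))) (_ : GrpObj D) (i : D ⟶ G) (_ : IsMonHom i),
      IsClosedImmersion i.left ∧ Smooth D.hom ∧ IsAffine D.left ∧ rangePts i = Γ := by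
  obtain ⟨Z, hZ, hmem⟩ := hΓ
  obtain ⟨D, _, i, hi, hci, hsm, -, -, hr⟩ := exists_subgroup Z hZ ((hmem _).mp Γ.one_mem)
    (fun g h hg hh => (hmem _).mp (Γ.mul_mem ((hmem g).mpr hg) ((hmem h).mpr hh)))
    (fun g hg => (hmem _).mp (Γ.inv_mem ((hmem g).mpr hg)))
  haveI := hci
  haveI := hsm
  refine ⟨D, inferInstance, i, hi, hci, hsm, isAffine_of_isAffineHom i.left, SetLike.ext fun g => ⟨?_, fun hg => ?_⟩⟩
  · rintro ⟨x, rfl⟩
    exact (hmem _).mpr (hr ▸ ⟨cp x, rfl⟩)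
  · exact exists_of_mem_range i g (hr.symm ▸ (hmem g).mp hg)

/-- A closed subgroup of points contains a connected one of finite index. -/
theorem exists_connSub [IsAffine G.left] (Γ : Subgroup (PT ⟶ G)) (hΓ : PtsClosed (Γ : Set (PT ⟶ G))) :
    ∃ (D : Over (Spec (CommRingCat.of k))) (_ : GrpObj D) (i : D ⟶ G) (_ : IsMonHom i),
      IsClosedImmersion i.left ∧ Smooth D.hom ∧ ConnectedSpace D.left ∧ IsAffine D.left ∧ rangePts i ≤ Γ ∧
      ∃ S : Set (PT ⟶ G), S.Finite ∧ S ⊆ Γ ∧ ∀ g ∈ Γ, ∃ s ∈ S, s⁻¹ * g ∈ rangePts i := by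
  obtain ⟨D, _, i, hi, hci, hsm, haff, hr⟩ := exists_sub Γ hΓ
  haveI := hi
  haveI := hci
  haveI := hsm
  haveI := haff
  haveI : QuasiCompact D.hom := by rw [← Over.w i]; infer_instance
  obtain ⟨D0, _, r, hr0, hrc, hs0, hc0, -, S, hSf, hS⟩ := exists_idComp (P := D)
  haveI := hr0
  haveI := hrc
  haveI : IsClosedImmersion (r ≫ i).left := inferInstanceAs (IsClosedImmersion (r.left ≫ i.left))
  refine ⟨D0, inferInstance, r ≫ i, inferInstance, inferInstance, hs0, hc0, isAffine_of_isAffineHom r.left, ?_,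
    (fun s => s ≫ i) '' S, hSf.image _, ?_, fun g hg => ?_⟩
  · rintro _ ⟨x, rfl⟩
    exact hr ▸ ⟨x ≫ r, Category.assoc _ _ _⟩
  · rintro _ ⟨s, -, rfl⟩
    exact hr ▸ ⟨s, rfl⟩
  · obtain ⟨p, rfl⟩ := hr.symm ▸ hg
    obtain ⟨s, hs, q, rfl⟩ := hS p
    refine ⟨s ≫ i, ⟨s, hs, rfl⟩, q, ?_⟩
    show q ≫ r ≫ i = _
    show q ≫ r ≫ i = (s ≫ i)⁻¹ * ((s * q ≫ r) ≫ i)
    rw [MonObj.mul_comp, inv_mul_cancel_left, Category.assoc]

/-- A connected group is not covered by finitely many cosets of a proper closed subgroup. -/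
theorem eq_top_of_finite [ConnectedSpace G.left] (Γ : Subgroup (PT ⟶ G))
    (hΓ : PtsClosed (Γ : Set (PT ⟶ G))) (S : Set (PT ⟶ G)) (hS : S.Finite)
    (hcov : ∀ g, ∃ s ∈ S, s⁻¹ * g ∈ Γ) : Γ = ⊤ := by
  haveI : IsLocallyNoetherian G.left := LocallyOfFiniteType.isLocallyNoetherian G.hom
  have hS' : {s ∈ S | s ∉ Γ}.Finite := hS.subset fun s hs => hs.1
  obtain ⟨Z, hZ, hmem⟩ := hΓ
  obtain ⟨W, hW, hmemW⟩ := PtsClosed.biUnion hS' (S := fun s => {g : PT ⟶ G | s⁻¹ * g ∈ (Γ : Set (PT ⟶ G))})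
    fun s _ => PtsClosed.mul_left ⟨Z, hZ, hmem⟩ s
  simp only [Set.mem_iUnion, SetLike.mem_coe, Set.mem_ofPred_eq] at hmemW hmem
  have hcovU : Z ∪ W = Set.univ := eq_univ_of_forall_cp (hZ.union hW) fun g => by
    obtain ⟨s, hs, hsg⟩ := hcov g
    by_cases h : s ∈ Γ
    · exact Or.inl ((hmem g).mp (by simpa using Γ.mul_mem h hsg))
    · exact Or.inr ((hmemW g).mp ⟨s, ⟨hs, h⟩, hsg⟩)
  have hdis : Z ∩ W = ∅ := by
    by_contra hne
    haveI : JacobsonSpace G.left := LocallyOfFiniteType.jacobsonSpace G.hom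
    obtain ⟨c, hc, hcc⟩ := nonempty_inter_closedPoints (Set.nonempty_iff_ne_empty.mpr hne)
      (hZ.inter hW).isLocallyClosed
    obtain ⟨g, rfl⟩ := exists_cp hcc
    obtain ⟨s, ⟨-, hs⟩, hsg⟩ := (hmemW g).mpr hc.2
    refine hs ?_
    have := Γ.mul_mem ((hmem g).mpr hc.1) (Γ.inv_mem hsg)
    simpa using this
  have hclopen : IsClopen Z := ⟨hZ, by
    rw [← isClosed_compl_iff, show Zᶜ = W from (compl_unique hdis hcovU)]
    exact hW⟩
  rcases isClopen_iff.mp hclopen with h | h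
  · exact ((h ▸ (hmem 1).mp Γ.one_mem : cp (1 : PT ⟶ G) ∈ (∅ : Set G.left))).elim
  · exact eq_top_iff.mpr fun g _ => (hmem g).mpr (h ▸ Set.mem_univ _)

/-- A connected group with finitely many points has one point. -/
theorem eq_one_of_finite [ConnectedSpace G.left] (hfin : Finite (PT ⟶ G)) (g : PT ⟶ G) : g = 1 := by
  have := eq_top_of_finite (⊥ : Subgroup (PT ⟶ G)) (by rw [Subgroup.coe_bot]; exact ptsClosed_one) Set.univ
    Set.finite_univ fun g => ⟨g, trivial, by rw [inv_mul_cancel]; exact one_mem _⟩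
  exact Subgroup.mem_bot.mp (this ▸ Subgroup.mem_top g)

/-- Commutators with a connected normal subgroup generate a closed connected subgroup. -/
theorem exists_commutatorSub [IsAffine G.left] [ConnectedSpace G.left] {N : Over (Spec (CommRingCat.of k))} [GrpObj N]
    [LocallyOfFiniteType N.hom] [QuasiCompact N.hom] [ConnectedSpace N.left] (j : N ⟶ G) [IsMonHom j] :
    ∃ (D : Over (Spec (CommRingCat.of k))) (_ : GrpObj D) (i : D ⟶ G) (_ : IsMonHom i),
      IsClosedImmersion i.left ∧ Smooth D.hom ∧ ConnectedSpace D.left ∧ IsAffine D.left ∧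
      rangePts i = ⁅(⊤ : Subgroup (PT ⟶ G)), rangePts j⁆ := by
  haveI : IrreducibleSpace G.left := Groth.Agent.S0348.result k G
  haveI : IrreducibleSpace N.left := Groth.Agent.S0348.result k N
  haveI : LocallyOfFiniteType (G ⊗ N).hom :=
    inferInstanceAs (LocallyOfFiniteType (Limits.pullback.fst G.hom N.hom ≫ G.hom))
  haveI : QuasiCompact (G ⊗ N).hom := inferInstanceAs (QuasiCompact (Limits.pullback.fst G.hom N.hom ≫ G.hom))
  haveI : IrreducibleSpace (G ⊗ N).left := by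
    haveI := GrpSchLib.geometricallyIrreducible_of_isAlgClosed G.hom
    exact inferInstanceAs (IrreducibleSpace ↥(Limits.pullback G.hom N.hom))
  let W := (G ⊗ N) ⊗ (G ⊗ N)
  haveI : LocallyOfFiniteType W.hom :=
    inferInstanceAs (LocallyOfFiniteType (Limits.pullback.fst (G ⊗ N).hom (G ⊗ N).hom ≫ (G ⊗ N).hom))
  haveI : QuasiCompact W.hom :=
    inferInstanceAs (QuasiCompact (Limits.pullback.fst (G ⊗ N).hom (G ⊗ N).hom ≫ (G ⊗ N).hom))
  haveI : IrreducibleSpace W.left := by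
    haveI := GrpSchLib.geometricallyIrreducible_of_isAlgClosed (G ⊗ N).hom
    exact inferInstanceAs (IrreducibleSpace ↥(Limits.pullback (G ⊗ N).hom (G ⊗ N).hom))
  let c : G ⊗ N ⟶ G := fst G N * (snd G N ≫ j) * (fst G N)⁻¹ * (snd G N ≫ j)⁻¹
  have hc : ∀ (g : PT ⟶ G) (x : PT ⟶ N), lift g x ≫ c = ⁅g, x ≫ j⁆ := fun g x => by
    simp [c, MonObj.comp_mul, GrpObj.comp_inv, commutatorElement_def]
  let φ : W ⟶ G := (fst (G ⊗ N) (G ⊗ N) ≫ c) * (snd (G ⊗ N) (G ⊗ N) ≫ c)⁻¹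
  have hφ : ∀ w : PT ⟶ W, w ≫ φ = ((w ≫ fst _ _) ≫ c) * ((w ≫ snd _ _) ≫ c)⁻¹ := fun w => by
    simp [φ, MonObj.comp_mul, GrpObj.comp_inv]
  have hsplit : ∀ z : PT ⟶ G ⊗ N, z ≫ c = ⁅z ≫ fst G N, (z ≫ snd G N) ≫ j⁆ := fun z => by
    rw [← hc]
    congr 1
    apply CartesianMonoidalCategory.hom_ext <;> simp
  obtain ⟨D, _, i, hi, hci, hsm, -, hirr, -, hr⟩ := exists_generated φ
    ⟨lift (lift 1 1) (lift 1 1), by rw [hφ, lift_fst, lift_snd, mul_inv_cancel]⟩
    (fun w => ⟨lift (w ≫ snd _ _) (w ≫ fst _ _), by rw [hφ, hφ, lift_fst, lift_snd, _root_.mul_inv_rev, _root_.inv_inv]⟩)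
  haveI := hci
  haveI := hi
  haveI := hirr
  refine ⟨D, inferInstance, i, hi, hci, hsm, inferInstance, isAffine_of_isAffineHom i.left,
    SetLike.coe_injective (hr.trans ?_)⟩
  refine congrArg SetLike.coe (le_antisymm ((Subgroup.closure_le _).mpr ?_) (Subgroup.commutator_le.mpr ?_))
  · rintro _ ⟨w, rfl⟩
    show w ≫ φ ∈ _
    rw [hφ, hsplit, hsplit]
    exact Subgroup.mul_mem _ (Subgroup.commutator_mem_commutator (Subgroup.mem_top _) ⟨_, rfl⟩)
      (Subgroup.inv_mem _ (Subgroup.commutator_mem_commutator (Subgroup.mem_top _) ⟨_, rfl⟩))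
  · rintro g - _ ⟨x, rfl⟩
    refine Subgroup.subset_closure ⟨lift (lift g x) (lift 1 1), ?_⟩
    show _ ≫ φ = _
    rw [hφ, lift_fst, lift_snd, hc, hc, MonObj.one_comp, commutatorElement_def 1 1]
    simp

end Groth.Agent.SolvGrp
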