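import Groth.Agent.SolvGrp.SemisimpleExt
import Groth.Agent.SolvGrp.Reductive4
import Groth.Agent.SolvGrp.UnipBC
import Groth.Agent.GrpSchLib.LargestNormalSep
import Groth.Agent.GrpSchLib.Neutral
import Groth.Agent.WeilCmp.UnipOrbit

/-! The unipotent radical over an algebraically closed field stays the radical after extension. -/

set_option backward.isDefEq.respectTransparency false
set_option backward.isDefEq.respectTransparency.types false
set_option linter.style.haveILetI false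

universe u

open CategoryTheory MonoidalCategory CartesianMonoidalCategory MonObj AlgebraicGeometry

namespace Groth.Agent.SolvGrp.UnipRadExt

open GrpSchLib GrpSchLib.Kunneth GrpSchLib.LineGroups AGFLib AGFLib.Gen AGFLib.BorelFixed AGFLib.BorelExist
open AGFLib.QuotProper

variable {k : Type u} [Field k] [IsAlgClosed k] {K : Type u} [Field K] [IsAlgClosed K] (φ : k →+* K)

local notation "σ" => Spec.map (CommRingCat.ofHom φ)
local notation "PT" => 𝟙_ (Over (Spec (CommRingCat.of k)))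
local notation "PK" => 𝟙_ (Over (Spec (CommRingCat.of K)))

/-- A morphism to an affine scheme of finite type, surjective on rational points, is surjective. -/
theorem surjective_of_forall_pt {U X : Over (Spec (CommRingCat.of k))} [GrpObj X] [IsAffine X.left]
    [LocallyOfFiniteType X.hom] [IsReduced X.left] [LocallyOfFiniteType U.hom] [QuasiCompact U.hom] (m : U ⟶ X)
    (h : ∀ t : PT ⟶ X, ∃ g, g ≫ m = t) : Surjective m.left := by
  obtain ⟨A, _, _, ⟨e⟩⟩ := AffineHopf.exists_hopf X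
  haveI : Algebra.FiniteType k A := by
    haveI := finiteType_fn X
    exact (inferInstance : Algebra.FiniteType k (Fn X)).equiv (coordEquiv e).symm
  have h1 := WeilCmp.Unip.surjective_of_pts A (m ≫ (coordIso e).inv) fun t => by
    obtain ⟨g, hg⟩ := h (t ≫ (coordIso e).hom)
    exact ⟨g, by rw [← Category.assoc, hg, Category.assoc, Iso.hom_inv_id, Category.comp_id]⟩
  refine ⟨fun x => ?_⟩
  obtain ⟨u, hu⟩ := h1 ((coordIso e).inv.left x)
  haveI : IsIso (coordIso e).inv.left := ((Over.forget _).mapIso (coordIso e).symm).isIso_hom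
  exact ⟨u, (coordIso e).inv.left.homeomorph.injective hu⟩

/-- A connected normal unipotent subgroup over the extension lies over the radical. -/
theorem range_le {G : Over (Spec (CommRingCat.of k))} [GrpObj G] [IsAffine G.left] [Smooth G.hom] [ConnectedSpace G.left]
    {R : Over (Spec (CommRingCat.of k))} [GrpObj R] (r : R ⟶ G) [IsMonHom r] [IsClosedImmersion r.left]
    (hmax : ∀ (U : Over (Spec (CommRingCat.of k))) [GrpObj U] (u : U ⟶ G) [IsMonHom u], IsClosedImmersion u.left →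
      Smooth U.hom → ConnectedSpace U.left → (rangePts u).Normal → Red.HasNoSubtorus k U → rangePts u ≤ rangePts r)
    {U : Over (Spec (CommRingCat.of K))} [GrpObj U] (u : U ⟶ Red.bc σ G) [IsMonHom u] [IsClosedImmersion u.left]
    [Smooth U.hom] [ConnectedSpace U.left] (hn : AlgGrp.IsNormalHom u) (hu : Red.HasNoSubtorus K U) :
    Set.range u.left ⊆ Set.range ((Over.pullback σ).map r).left := by
  haveI : IsReduced G.left := isReduced_of_smooth_field G.hom
  haveI : IsAffine (Red.bc σ G).left := inferInstanceAs (IsAffine (Limits.pullback G.hom σ))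
  haveI : Smooth (Red.bc σ G).hom := inferInstanceAs (Smooth (Limits.pullback.snd G.hom σ))
  haveI : IsReduced (Red.bc σ G).left := isReduced_of_smooth_field (Red.bc σ G).hom
  haveI := GrpSchLib.AntiAffine.isSeparated_grp (Red.bc σ G)
  obtain ⟨haU, hlU, hqU, hmU, -⟩ := sub_props u
  haveI := haU
  haveI := hlU
  haveI := hmU
  haveI : IsReduced U.left := isReduced_of_smooth_field U.hom
  obtain ⟨B₀, _, iB, -, -, -, hB, -, -⟩ := AGFLib.Borel.exists_borel G
  haveI := hB.1
  haveI := hB.2.1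
  haveI := hB.2.2.1
  haveI := hB.2.2.2.1
  obtain ⟨haB, hlB, hqB, hmB, -⟩ := sub_props iB
  haveI := haB
  haveI := hlB
  haveI := hqB
  haveI := hmB
  haveI : IsReduced B₀.left := isReduced_of_smooth_field B₀.hom
  obtain ⟨X, a, o, hl, -, hfl, hsu, hsq⟩ := GrpSchLib.HomogeneousQuot.exists_quot G B₀ iB
  have hX : AGF.IsQuotient iB X a o := ⟨hl, hfl, hsu, hsq⟩
  haveI := AGFLib.Borel.isProper_borel iB hB hX
  haveI := hl
  let F := Over.pullback σ
  let aK := AGFLib.GeomBC.bcAction σ a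
  let oK := AGFLib.GeomBC.bcPt σ o
  have hXK : AGF.IsQuotient (F.map iB) (Red.bc σ X) aK oK := AGFLib.GeomBC.isQuotient_bc σ iB a o hX
  haveI : IsProper (Red.bc σ X).hom := inferInstanceAs (IsProper (Limits.pullback.snd X.hom σ))
  haveI : LocallyOfFiniteType (Red.bc σ X).hom := hXK.1
  haveI : Surjective (aK.orbitMap oK).left := hXK.2.2.1
  haveI : Nonempty (Red.bc σ G).left := ⟨cp (1 : PK ⟶ Red.bc σ G)⟩
  haveI : Nonempty (Red.bc σ X).left := ⟨(aK.orbitMap oK).left (cp (1 : PK ⟶ Red.bc σ G))⟩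
  have hUpts : ∀ z : PK ⟶ U, IsUnipPt z := isUnipPt_of_hasNoSubtorus hu
  haveI : Group.IsNilpotent (PK ⟶ U) := isNilpotent_pts hUpts
  obtain ⟨n, hsn⟩ := (inferInstance : Group.IsSolvable (PK ⟶ U)).solvable
  obtain ⟨y, hy⟩ := exists_fixed n U hsn (Red.bc σ X) (resAct u aK)
  obtain ⟨x, rfl⟩ := exists_of_mem_range (aK.orbitMap oK) y ((aK.orbitMap oK).left.surjective _)
  have hfix : ∀ z : PK ⟶ U, ∃ b : PK ⟶ Red.bc σ B₀, b ≫ F.map iB = x⁻¹ * (z ≫ u) * x := fun z => by
    have h1 := hy z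
    change lift z _ ≫ (u ▷ Red.bc σ X) ≫ aK.act = _ at h1
    rw [lift_whiskerRight_assoc, pt_orbitMap, GrpSchLib.act_mul] at h1
    obtain ⟨b, hb⟩ := AGFLib.QuotProper.exists_mul_eq hXK x ((z ≫ u) * x) (by
      rw [pt_orbitMap, pt_orbitMap]; exact h1.symm)
    refine ⟨b, ?_⟩
    rw [_root_.mul_assoc, ← hb, inv_mul_cancel_left]
  -- the unipotent part of the Borel subgroup
  have hsolv := hB.2.2.2.2.1
  obtain ⟨V, _, v, hv, hcv, hsV, hcV, haV, -, hV⟩ := exists_unipRad hsolv
  haveI := hv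
  haveI := hcv
  haveI := hsV
  haveI := hcV
  haveI := haV
  obtain ⟨-, hlV, hqV, hmV, hevV⟩ := sub_props v
  haveI := hlV
  haveI := hqV
  haveI : IsReduced V.left := isReduced_of_smooth_field V.hom
  have hVnt : Red.HasNoSubtorus k V := hasNoSubtorus_of_isUnipPt fun w => IsUnipPt.map v hevV ((hV _).mp ⟨w, rfl⟩)
  obtain ⟨nB, hnB⟩ := id hsolv
  obtain ⟨T, _, t, ht, hct, hT, hA, -⟩ := exists_torus_of_derivedSeries nB B₀ (hnB _)
  haveI := ht
  haveI := hct
  obtain ⟨haT, hlT, hqT, hmT, -⟩ := sub_props t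
  haveI := haT
  haveI := hlT
  haveI := hqT
  let m : T ⊗ V ⟶ B₀ := (fst T V ≫ t) * (snd T V ≫ v)
  haveI : LocallyOfFiniteType (T ⊗ V).hom :=
    inferInstanceAs (LocallyOfFiniteType (Limits.pullback.fst T.hom V.hom ≫ T.hom))
  haveI : QuasiCompact (T ⊗ V).hom := inferInstanceAs (QuasiCompact (Limits.pullback.fst T.hom V.hom ≫ T.hom))
  haveI : Surjective m.left := surjective_of_forall_pt m fun b => by
    obtain ⟨_, ⟨τ, rfl⟩, hu'⟩ := hA b
    obtain ⟨ν, hν⟩ := (hV _).mpr hu'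
    refine ⟨lift τ ν, ?_⟩
    change ν ≫ v = (τ ≫ t)⁻¹ * b at hν
    show lift τ ν ≫ ((fst T V ≫ t) * (snd T V ≫ v)) = b
    rw [MonObj.comp_mul, lift_fst_assoc, lift_snd_assoc, hν, mul_inv_cancel_left]
  haveI : Surjective (F.map m).left := MorphismProperty.baseChange_map (P := @Surjective) σ m ‹_›
  haveI : IsAffine (Red.bc σ B₀).left := inferInstanceAs (IsAffine (Limits.pullback B₀.hom σ))
  haveI : Smooth (Red.bc σ B₀).hom := inferInstanceAs (Smooth (Limits.pullback.snd B₀.hom σ))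
  haveI : IsReduced (Red.bc σ B₀).left := isReduced_of_smooth_field (Red.bc σ B₀).hom
  haveI : IsAffine (Red.bc σ V).left := inferInstanceAs (IsAffine (Limits.pullback V.hom σ))
  haveI : Smooth (Red.bc σ V).hom := inferInstanceAs (Smooth (Limits.pullback.snd V.hom σ))
  haveI : ConnectedSpace (Red.bc σ V).left := AntiAffine.connectedSpace_bc V φ
  haveI : IsReduced (Red.bc σ V).left := isReduced_of_smooth_field (Red.bc σ V).hom
  haveI : ConnectedSpace (Red.bc σ B₀).left := AntiAffine.connectedSpace_bc B₀ φ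
  haveI : LocallyOfFiniteType (F.obj (T ⊗ V)).hom :=
    inferInstanceAs (LocallyOfFiniteType (Limits.pullback.snd (T ⊗ V).hom σ))
  haveI : IsClosedImmersion (F.map iB).left := MorphismProperty.baseChange_map (P := @IsClosedImmersion) σ iB hB.2.1
  obtain ⟨-, -, -, -, hevBK⟩ := sub_props (F.map iB)
  obtain ⟨nK, hnK⟩ := isSolvableGrp_bc σ hsolv
  haveI : Group.IsSolvable (PK ⟶ Red.bc σ B₀) := ⟨⟨nK, hnK _⟩⟩
  have hVK : ∀ b : PK ⟶ Red.bc σ B₀, IsUnipPt b → ∃ ν : PK ⟶ Red.bc σ V, ν ≫ F.map v = b := by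
    intro b hb
    obtain ⟨w, hw⟩ := exists_pt_of_surjective (F.map m) b
    let τ := w ≫ F.map (fst T V)
    let ν := w ≫ F.map (snd T V)
    have hb' : b = (τ ≫ F.map t) * (ν ≫ F.map v) := by
      rw [← hw]
      show w ≫ F.map ((fst T V ≫ t) * (snd T V ≫ v)) = _
      rw [show F.map ((fst T V ≫ t) * (snd T V ≫ v)) = F.map (fst T V ≫ t) * F.map (snd T V ≫ v) from
        map_mul F.homMonoidHom _ _, F.map_comp, F.map_comp, MonObj.comp_mul]
      simp only [τ, ν, Category.assoc]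
    have hν : IsUnipPt (ν ≫ F.map v) :=
      (map_isSsPt_isUnipPt (F.map v) ν).2 (isUnipPt_of_hasNoSubtorus (UnipBC.hasNoSubtorus_bc_algClosed σ hVnt) ν)
    have hτu : IsUnipPt (τ ≫ F.map t) := by
      have := isUnipPt_mul_of_solvable hb (IsUnipPt.inv' hν)
      rwa [hb', mul_inv_cancel_right] at this
    have hτ : τ ≫ F.map t = 1 := eq_one_of_isSsPt_isUnipPt (isSsPt_of_torus (isTorus_bc σ hT) (F.map t) τ) hτu
    exact ⟨ν, by rw [hb', hτ, _root_.one_mul]⟩
  -- every point lies over the intersection of the conjugates of the unipotent part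
  let C : Set G.left := ⋂ g : PT ⟶ G, (AGFLib.Borel.conjM g).left ⁻¹' Set.range (v ≫ iB).left
  haveI : IsClosedImmersion (v ≫ iB).left := inferInstanceAs (IsClosedImmersion (v.left ≫ iB.left))
  have hC : IsClosed C := isClosed_iInter fun g =>
    (v ≫ iB).left.isClosedEmbedding.isClosed_range.preimage (AGFLib.Borel.conjM g).left.continuous
  have hz : ∀ z : PK ⟶ U, Limits.pullback.fst G.hom σ ((z ≫ u).left (IsLocalRing.closedPoint K)) ∈ C := by
    intro z
    refine Set.mem_iInter.mpr fun g => ?_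
    show (AGFLib.Borel.conjM g).left _ ∈ Set.range (v ≫ iB).left
    obtain ⟨z', hz'⟩ := hn _ (x * extPt σ g) z
    obtain ⟨b, hb⟩ := hfix z'
    have h2 : (z ≫ u) ≫ F.map (AGFLib.Borel.conjM g) = b ≫ F.map iB := by
      rw [hb, ← hz', comp_map_conjM]
      group
    have hbu : IsUnipPt b := IsUnipPt.map (F.map iB) hevBK (by
      rw [hb]
      have := ((map_isSsPt_isUnipPt u z').2 (hUpts z')).conj x⁻¹
      rwa [_root_.inv_inv] at this)
    obtain ⟨ν, hν⟩ := hVK b hbu
    refine ⟨Limits.pullback.fst V.hom σ (ν.left (IsLocalRing.closedPoint K)), ?_⟩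
    rw [← fst_map, ← fst_map, h2, ← hν, Category.assoc, ← F.map_comp]
  -- whose rational points lie in finitely many cosets of the radical
  let Γ : Subgroup (PT ⟶ G) := ⨅ g : PT ⟶ G, (rangePts (v ≫ iB)).comap (MulAut.conj g).toMonoidHom
  have hmem : ∀ z, z ∈ Γ ↔ ∀ g, g * z * g⁻¹ ∈ rangePts (v ≫ iB) := fun z => by
    simp [Γ, Subgroup.mem_iInf]
  have hΓ : PtsClosed (Γ : Set (PT ⟶ G)) := by
    have e : (Γ : Set (PT ⟶ G)) = ⋂ g, {w | w ≫ AGFLib.Borel.conjM g ∈ (rangePts (v ≫ iB) : Set (PT ⟶ G))} := by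
      ext w
      simp only [SetLike.mem_coe, hmem, Set.mem_iInter, Set.mem_setOf_eq, comp_conjM_pt]
    rw [e]
    exact PtsClosed.iInter fun g => (ptsClosed_range (v ≫ iB)).preimage _
  have hΓn : ∀ g, ∀ z ∈ (Γ : Set (PT ⟶ G)), g * z * g⁻¹ ∈ (Γ : Set (PT ⟶ G)) := fun g z hz => (hmem _).mpr fun h => by
    rw [show h * (g * z * g⁻¹) * h⁻¹ = h * g * z * (h * g)⁻¹ by group]
    exact (hmem z).mp hz _
  obtain ⟨D, _, iD, hiD, hcD, hsD, hconnD, hnD, hDle, hDmax⟩ := exists_normalSub (Γ : Set (PT ⟶ G)) hΓn Γ hΓ subset_rfl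
  haveI := hiD
  haveI := hcD
  haveI := hsD
  haveI := hconnD
  obtain ⟨haD, hlD, -, -, hevD⟩ := sub_props iD
  haveI := haD
  haveI := hlD
  haveI : IsReduced D.left := isReduced_of_smooth_field D.hom
  have hDr : rangePts iD ≤ rangePts r := hmax D iD hcD hsD hconnD hnD (hasNoSubtorus_of_isUnipPt fun w =>
    IsUnipPt.map iD hevD (by
      obtain ⟨p, hp⟩ : w ≫ iD ∈ rangePts (v ≫ iB) := by simpa using (hmem _).mp (hDle ⟨w, rfl⟩) 1
      rw [← hp]
      show IsUnipPt (p ≫ v ≫ iB)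
      rw [← Category.assoc]
      exact (map_isSsPt_isUnipPt iB _).2 ((hV _).mp ⟨p, rfl⟩)))
  obtain ⟨D', _, i', hi', hci', hsm', hconn', ha', hle', S, hS, -, hcov⟩ := exists_connSub Γ hΓ
  haveI := hi'
  haveI := hsm'
  haveI := hconn'
  haveI := ha'
  let Ls : (PT ⟶ G) → (G ⟶ G) := fun s => (toUnit G ≫ s⁻¹) * 𝟙 G
  have hLs : ∀ (s z : PT ⟶ G), z ≫ Ls s = s⁻¹ * z := fun s z => by
    simp only [Ls, MonObj.comp_mul, ← Category.assoc, toUnit_unique (z ≫ toUnit G) (𝟙 _), Category.id_comp,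
      Category.comp_id]
  let 𝒯 : Set (Set G.left) := (fun s => (Ls s).left ⁻¹' Set.range r.left) '' S
  have h𝒯c : ∀ Z ∈ 𝒯, IsClosed Z := by
    rintro _ ⟨s, -, rfl⟩
    exact r.left.isClosedEmbedding.isClosed_range.preimage (Ls s).left.continuous
  have hCle : C ⊆ ⋃₀ 𝒯 := by
    haveI : JacobsonSpace G.left := LocallyOfFiniteType.jacobsonSpace G.hom
    rw [← JacobsonSpace.closure_inter_closedPoints hC]
    refine closure_minimal (fun q hq => ?_) ?_
    · obtain ⟨z, hz'⟩ := exists_cp hq.2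
      have hzΓ : z ∈ Γ := (hmem z).mpr fun g => by
        obtain ⟨b, hb⟩ := exists_of_mem_range (v ≫ iB) (z ≫ AGFLib.Borel.conjM g) (by
          have := Set.mem_iInter.mp hq.1 g
          rw [← hz'] at this
          exact this)
        exact ⟨b, hb.trans (comp_conjM_pt _ _)⟩
      obtain ⟨s, hs, hsz⟩ := hcov z hzΓ
      obtain ⟨w, hw⟩ := hDr (hDmax D' i' (fun w hw => hle' hw) hsz)
      refine ⟨_, ⟨s, hs, rfl⟩, ?_⟩
      show (Ls s).left q ∈ Set.range r.left
      refine ⟨cp w, ?_⟩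
      rw [← hz', ← cp_comp w r, ← cp_comp z (Ls s), hLs]
      exact congrArg cp hw
    · rw [Set.sUnion_eq_biUnion]
      exact (hS.image _).isClosed_biUnion h𝒯c
  -- the subgroup is irreducible and passes through the identity
  let p : U.left ⟶ G.left := u.left ≫ Limits.pullback.fst G.hom σ
  have hpC : Set.range p ⊆ C := by
    have h1 : p ⁻¹' C = Set.univ := eq_univ_of_forall_cp (hC.preimage p.continuous) fun z => hz z
    rintro _ ⟨q, rfl⟩
    exact h1.ge (Set.mem_univ q)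
  haveI : IrreducibleSpace U.left := Groth.Agent.S0348.result K U
  have hirr : IsIrreducible (Set.range p) := by
    rw [← Set.image_univ]
    exact (IrreducibleSpace.isIrreducible_univ _).image _ p.continuous.continuousOn
  obtain ⟨Z, hZ, hpZ⟩ := (isIrreducible_iff_sUnion_isClosed.mp hirr) (hS.image _).toFinset
    (fun Z hZ => h𝒯c Z ((hS.image _).mem_toFinset.mp hZ)) (by rw [Set.Finite.coe_toFinset]; exact hpC.trans hCle)
  obtain ⟨s, hs, rfl⟩ := (hS.image _).mem_toFinset.mp hZ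
  have h1 : cp (1 : PT ⟶ G) ∈ (Ls s).left ⁻¹' Set.range r.left := by
    refine hpZ ⟨cp (1 : PK ⟶ U), ?_⟩
    show Limits.pullback.fst G.hom σ (((1 : PK ⟶ U) ≫ u).left (IsLocalRing.closedPoint K)) = _
    rw [MonObj.one_comp, ← MonObj.one_eq_one (M := Red.bc σ G), ← MonObj.one_eq_one (M := G)]
    refine (Neutral.bc_unit G σ _).trans ?_
    exact congrArg (η[G].left) (@Subsingleton.elim (PrimeSpectrum k) inferInstance _ _)
  haveI : LocallyOfFiniteType R.hom := (sub_props r).2.1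
  obtain ⟨w, hw⟩ := exists_of_mem_range r ((1 : PT ⟶ G) ≫ Ls s) h1
  rw [hLs, _root_.mul_one] at hw
  rw [show ((Over.pullback σ).map r).left = (F.map r).left from rfl, LargestNormalSep.range_map]
  rintro _ ⟨q, rfl⟩
  show Limits.pullback.fst G.hom σ (u.left q) ∈ Set.range r.left
  have hq := hpZ ⟨q, rfl⟩
  -- translation by an element of the radical preserves it
  let Rs : R ⟶ R := (toUnit R ≫ w⁻¹) * 𝟙 R
  obtain ⟨q', hq'⟩ := hq
  refine ⟨Rs.left q', ?_⟩
  have e : Rs ≫ r = r ≫ ((toUnit G ≫ s) * 𝟙 G) := by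
    simp only [Rs, MonObj.mul_comp, MonObj.comp_mul, Category.id_comp, Category.comp_id, ← Category.assoc,
      comp_toUnit]
    rw [Category.assoc, GrpObj.inv_comp, hw, _root_.inv_inv]
  have e' : Ls s ≫ ((toUnit G ≫ s) * 𝟙 G) = 𝟙 G := by
    simp only [Ls, MonObj.comp_mul, Category.comp_id, ← Category.assoc, comp_toUnit]
    rw [GrpObj.comp_inv, mul_inv_cancel_left]
  calc r.left (Rs.left q') = (Rs ≫ r).left q' := rfl
    _ = ((toUnit G ≫ s) * 𝟙 G : G ⟶ G).left (r.left q') := by rw [e]; rfl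
    _ = ((toUnit G ≫ s) * 𝟙 G : G ⟶ G).left ((Ls s).left (p q)) := by rw [hq']
    _ = (Ls s ≫ ((toUnit G ≫ s) * 𝟙 G)).left (p q) := rfl
    _ = p q := by rw [e']; rfl

end Groth.Agent.SolvGrp.UnipRadExt
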