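import Groth.Agent.GrpSchLib.LargestNormalSep
import Groth.Agent.AGFLib.Semi

/-! Galois descent of the largest normal subgroup with a property invariant under field automorphisms. -/

set_option backward.isDefEq.respectTransparency false
set_option backward.isDefEq.respectTransparency.types false
set_option linter.style.haveILetI false
set_option maxHeartbeats 1000000

universe u

open CategoryTheory Limits AlgebraicGeometry MonoidalCategory CartesianMonoidalCategory MonObj GrpObj

namespace Groth.Agent.SolvGrp.Galois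

open GrpSchLib GrpSchLib.LargestNormalSep

variable {k K Ω : Type u} [Field k] [Field K] [Field Ω]

/-- Transport of subgroups along a further extension of the field. -/
theorem exists_transport_bc (G : Over (Spec (CommRingCat.of k))) [GrpObj G]
    (g : Spec (CommRingCat.of K) ⟶ Spec (CommRingCat.of k)) (φ : K →+* Ω)
    (h : Spec (CommRingCat.of Ω) ⟶ Spec (CommRingCat.of k)) (e : Spec.map (CommRingCat.ofHom φ) ≫ g = h)
    (ρ : (Red.bc h G).left ⟶ (Red.bc g G).left) (hρ1 : ρ ≫ pullback.fst G.hom g = pullback.fst G.hom h)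
    (hρ2 : ρ ≫ pullback.snd G.hom g = pullback.snd G.hom h ≫ Spec.map (CommRingCat.ofHom φ))
    (H : Over (Spec (CommRingCat.of K))) [GrpObj H] (j : H ⟶ Red.bc g G) [IsMonHom j] [IsClosedImmersion j.left]
    [Smooth H.hom] [ConnectedSpace H.left] [IsAffine H.left] (hn : AlgGrp.IsNormalHom j) :
    Surjective ρ ∧ ∃ (j' : Red.bc (Spec.map (CommRingCat.ofHom φ)) H ⟶ Red.bc h G),
      IsMonHom j' ∧ IsClosedImmersion j'.left ∧ Smooth (Red.bc (Spec.map (CommRingCat.ofHom φ)) H).hom ∧
      ConnectedSpace (Red.bc (Spec.map (CommRingCat.ofHom φ)) H).left ∧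
      IsAffine (Red.bc (Spec.map (CommRingCat.ofHom φ)) H).left ∧
      AlgGrp.IsNormalHom j' ∧ Set.range j'.left = ρ ⁻¹' Set.range j.left := by
  subst e
  let τ := Spec.map (CommRingCat.ofHom φ)
  let ψ : Red.bc τ (Red.bc g G) ⟶ Red.bc (τ ≫ g) G := (H23.BcComp.iso τ g rfl).inv.app G
  haveI : IsMonHom ψ := H23.BcComp.isMonHom_inv τ g rfl G
  haveI : IsIso ψ := inferInstanceAs (IsIso ((H23.BcComp.iso τ g rfl).inv.app G))
  haveI : IsIso ψ.left := (Over.forget _).map_isIso ψ
  have hψ : ψ.left ≫ ρ = pullback.fst (Red.bc g G).hom τ := by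
    apply pullback.hom_ext
    · rw [Category.assoc, hρ1]
      simp only [ψ, H23.BcComp.inv_app, eqToHom_refl, Category.comp_id]
      exact pullbackComp_inv_fst τ g G
    · rw [Category.assoc, hρ2, ← Category.assoc, show ψ.left ≫ pullback.snd G.hom (τ ≫ g) =
        pullback.snd (Red.bc g G).hom τ from Over.w ψ]
      exact pullback.condition.symm
  haveI : Surjective τ := GrpSchLib.surjective_spec_map_field φ
  haveI : Surjective (pullback.fst (Red.bc g G).hom τ) := inferInstance
  haveI : Surjective (ψ.left ≫ ρ) := hψ ▸ inferInstance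
  refine ⟨Surjective.of_comp ψ.left ρ, ?_⟩
  let m : Red.bc τ H ⟶ Red.bc τ (Red.bc g G) := (Over.pullback τ).map j
  haveI : IsMonHom m := H23.BcComp.isMonHom_bc_map τ j
  haveI : IsClosedImmersion m.left := MorphismProperty.baseChange_map (P := @IsClosedImmersion) τ j inferInstance
  haveI : IsClosedImmersion (m ≫ ψ).left := inferInstanceAs (IsClosedImmersion (m.left ≫ ψ.left))
  haveI : IsAffineHom H.hom := isAffineHom_of_isAffine H.hom
  haveI : IsAffineHom (Red.bc τ H).hom := MorphismProperty.pullback_snd (P := @IsAffineHom) H.hom τ inferInstance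
  refine ⟨m ≫ ψ, inferInstance, inferInstance,
    MorphismProperty.pullback_snd (P := @Smooth) H.hom τ inferInstance,
    AntiAffine.connectedSpace_bc H φ, isAffine_of_isAffineHom (Red.bc τ H).hom,
    isNormalHom_comp_iso m ψ (isNormalHom_map τ j hn), ?_⟩
  show Set.range (m.left ≫ ψ.left) = _
  rw [Scheme.Hom.comp_base, TopCat.coe_comp, Set.range_comp]
  rw [show Set.range m.left = pullback.fst (Red.bc g G).hom τ ⁻¹' Set.range j.left from range_map τ j, ← hψ]
  ext x
  obtain ⟨y, rfl⟩ := ψ.left.surjective x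
  constructor
  · rintro ⟨z, hz, hzy⟩
    obtain rfl : z = y := ψ.left.homeomorph.injective hzy
    exact hz
  · exact fun hy => ⟨y, hy, rfl⟩

/-- The largest subgroup with an invariant property is defined over the ground field. -/
theorem exists_descend_largest [Algebra k Ω] [Algebra.IsSeparable k Ω] [Normal k Ω]
    (G : Over (Spec (CommRingCat.of k))) [GrpObj G]
    (P : ∀ (E : Over (Spec (CommRingCat.of Ω))) [GrpObj E], Prop)
    (hP : ∀ (σ : Ω ≃ₐ[k] Ω) (E : Over (Spec (CommRingCat.of Ω))) [GrpObj E], P E →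
      P (Red.bc (Spec.map (CommRingCat.ofHom (σ : Ω →ₐ[k] Ω).toRingHom)) E))
    (g : Spec (CommRingCat.of Ω) ⟶ Spec (CommRingCat.of k)) (hg : g = Spec.map (CommRingCat.ofHom (algebraMap k Ω)))
    (N : Over (Spec (CommRingCat.of Ω))) [GrpObj N] (jN : N ⟶ Red.bc g G) [IsMonHom jN] [IsClosedImmersion jN.left]
    [Smooth N.hom] [ConnectedSpace N.left] [IsAffine N.left] (hnN : AlgGrp.IsNormalHom jN) (hNP : P N)
    (hmaxN : ∀ (N' : Over (Spec (CommRingCat.of Ω))) [GrpObj N'] (j' : N' ⟶ Red.bc g G) [IsMonHom j'],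
      IsClosedImmersion j'.left → Smooth N'.hom → ConnectedSpace N'.left → IsAffine N'.left → AlgGrp.IsNormalHom j' →
      P N' → ∃ f : N' ⟶ N, f ≫ jN = j') :
    ∃ (Z : Over (Spec (CommRingCat.of k))) (_ : GrpObj Z) (z : Z ⟶ G), IsMonHom z ∧ IsClosedImmersion z.left ∧
      Smooth Z.hom ∧ ConnectedSpace Z.left ∧ IsAffine Z.left ∧ AlgGrp.IsNormalHom z ∧
      ∃ e : Red.bc g Z ≅ N, IsMonHom e.hom ∧ e.hom ≫ jN = (Over.pullback g).map z := by
  subst hg
  let h := Spec.map (CommRingCat.ofHom (algebraMap k Ω))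
  -- its image is Galois invariant
  letI : G.left.Over (Spec (CommRingCat.of k)) := ⟨G.hom⟩
  obtain ⟨R, hR⟩ : ∃ R : Set (Curv2.bc k G.left Ω), R = Set.range jN.left := ⟨_, rfl⟩
  have hgal : ∀ (σ : Ω ≃ₐ[k] Ω) (x : Curv2.bc k G.left Ω), Curv2.galAct k G.left Ω σ x ∈ R → x ∈ R := by
    intro σ x hx
    have e : Spec.map (CommRingCat.ofHom (σ : Ω →ₐ[k] Ω).toRingHom) ≫ h = h := by
      rw [← Spec.map_comp, ← CommRingCat.ofHom_comp, AlgHom.toRingHom_eq_coe, AlgHom.comp_algebraMap]
    obtain ⟨-, j', _, h1, h2, h3, h4, h5, h6⟩ := exists_transport_bc G h (σ : Ω →ₐ[k] Ω).toRingHom h e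
      (Curv2.galAct k G.left Ω σ) ((pullback.lift_fst _ _ _).trans (Category.comp_id _)) (pullback.lift_snd _ _ _)
      N jN hnN
    obtain ⟨f, hf⟩ := hmaxN _ j' h1 h2 h3 h4 h5 (hP σ N hNP)
    rw [hR] at hx
    obtain ⟨y, hy⟩ : x ∈ Set.range j'.left := by rw [h6]; exact hx
    rw [hR]
    refine ⟨f.left y, ?_⟩
    rw [← hy, ← hf]
    rfl
  have hid : ∀ (σ : Ω ≃ₐ[k] Ω) (x : Curv2.bc k G.left Ω),
      Curv2.galAct k G.left Ω σ (Curv2.galAct k G.left Ω σ.symm x) = x := by
    intro σ x
    have : Curv2.galAct k G.left Ω σ.symm ≫ Curv2.galAct k G.left Ω σ = 𝟙 _ := by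
      apply pullback.hom_ext
      · simp [Curv2.galAct]
      · simp only [Curv2.galAct, Category.assoc, pullback.lift_snd, pullback.lift_snd_assoc, Category.id_comp]
        rw [← Spec.map_comp, ← CommRingCat.ofHom_comp]
        rw [show ((σ.symm : Ω →ₐ[k] Ω).toRingHom.comp (σ : Ω →ₐ[k] Ω).toRingHom) = RingHom.id Ω from
          RingHom.ext fun y => σ.symm_apply_apply y, CommRingCat.ofHom_id, Spec.map_id, Category.comp_id]
    exact (Scheme.Hom.comp_apply _ _ _).symm.trans (congrArg (fun q => q x) this)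
  have hgal2 : ∀ σ : Ω ≃ₐ[k] Ω, Curv2.galAct k G.left Ω σ '' R = R := by
    intro σ
    refine Set.Subset.antisymm ?_ fun x hx => ⟨Curv2.galAct k G.left Ω σ.symm x, hgal σ _ (by rw [hid]; exact hx), hid σ x⟩
    rintro _ ⟨x, hx, rfl⟩
    refine hgal σ.symm _ ?_
    have := hid σ.symm x
    rw [show σ.symm.symm = σ from rfl] at this
    rw [this]
    exact hx
  obtain ⟨T, hT, hTN⟩ := GeomField.exists_preimage_eq_of_invariant (k := k) (X := G.left) Ω R
    (by rw [hR]; exact jN.left.isClosedEmbedding.isClosed_range) hgal2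
  rw [hR] at hTN
  obtain ⟨Z, _, z, hz, hz1, hz2, hz3, hz4, hz5, hzT⟩ := exists_descend G N jN hnN T hT hTN
  haveI := hz
  haveI := hz1
  haveI := hz2
  let F := Over.pullback h
  haveI : IsClosedImmersion (F.map z).left := MorphismProperty.baseChange_map (P := @IsClosedImmersion) h z inferInstance
  haveI : Smooth (F.obj Z).hom := MorphismProperty.pullback_snd (P := @Smooth) Z.hom h inferInstance
  haveI : IsReduced (F.obj Z).left := isReduced_of_smooth_field (F.obj Z).hom
  haveI : IsReduced N.left := isReduced_of_smooth_field N.hom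
  obtain ⟨e, he⟩ := H23.RedSub.exists_iso_of_range_eq (F.map z).left jN.left
    ((range_map h z).trans (by rw [hzT]; exact hTN))
  let φ : F.obj Z ≅ N := Over.isoMk e (by rw [← Over.w jN, reassoc_of% he, Over.w (F.map z)])
  have hφ : φ.hom ≫ jN = F.map z := Over.OverMorphism.ext he
  haveI : Mono jN := (Over.forget _).mono_of_mono_map (inferInstanceAs (Mono jN.left))
  have hφm : IsMonHom φ.hom := AGFLib.isMonHom_of_mul φ.hom fun X a b => by
    rw [← cancel_mono jN]
    simp only [MonObj.mul_comp, Category.assoc, hφ]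
  exact ⟨Z, inferInstance, z, hz, hz1, hz2, hz3, hz4, hz5, φ, hφm, hφ⟩

end Groth.Agent.SolvGrp.Galois
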