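import Groth.Agent.SolvGrp.DerivedPts
import Groth.Agent.GrpSchLib.GeomRedDense
import Groth.Agent.S7795
import Groth.Agent.FBaseLib.Product

/-! The subgroup generated over an arbitrary field by a symmetric, conjugation stable family. -/

set_option backward.isDefEq.respectTransparency false
set_option backward.isDefEq.respectTransparency.types false
set_option linter.style.haveILetI false

universe u

open CategoryTheory MonoidalCategory CartesianMonoidalCategory MonObj AlgebraicGeometry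

namespace Groth.Agent.SolvGrp.GenField

open GrpSchLib GrpSchLib.Kunneth GrpSchLib.LineGroups AGFLib.Gen

variable {k : Type u} [Field k]

variable {G W : Over (Spec (CommRingCat.of k))} [GrpObj G] (φ : W ⟶ G)

/-- Products of `n` members of the family over `T`. -/
def IsProd (n : ℕ) {T : Over (Spec (CommRingCat.of k))} (g : T ⟶ G) : Prop :=
  ∃ w : T ⟶ Wn W n, w ≫ fn φ n = g

theorem isProd_zero_iff {T : Over (Spec (CommRingCat.of k))} (g : T ⟶ G) : IsProd φ 0 g ↔ g = 1 := by
  constructor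
  · rintro ⟨w, rfl⟩
    show w ≫ η[G] = 1
    rw [Hom.one_def, show (w : T ⟶ 𝟙_ (Over (Spec (CommRingCat.of k)))) = toUnit T from toUnit_unique _ _]
  · rintro rfl
    exact ⟨toUnit T, (Hom.one_def (M := G)).symm⟩

theorem isProd_succ_iff {T : Over (Spec (CommRingCat.of k))} {n : ℕ} (g : T ⟶ G) :
    IsProd φ (n + 1) g ↔ ∃ (a : T ⟶ W) (h : T ⟶ G), IsProd φ n h ∧ (a ≫ φ) * h = g := by
  constructor
  · rintro ⟨w, rfl⟩
    refine ⟨(w : T ⟶ W ⊗ Wn W n) ≫ fst _ _, _, ⟨(w : T ⟶ W ⊗ Wn W n) ≫ snd _ _, rfl⟩, ?_⟩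
    show _ = (w : T ⟶ W ⊗ Wn W n) ≫ ((fst _ _ ≫ φ) * (snd _ _ ≫ fn φ n))
    rw [MonObj.comp_mul, Category.assoc, Category.assoc]
  · rintro ⟨a, h, ⟨v, rfl⟩, rfl⟩
    refine ⟨lift a v, ?_⟩
    show lift a v ≫ ((fst _ _ ≫ φ) * (snd _ _ ≫ fn φ n)) = _
    rw [MonObj.comp_mul, lift_fst_assoc, lift_snd_assoc]

variable {φ}

theorem IsProd.mul {T : Over (Spec (CommRingCat.of k))} {a b : ℕ} {g h : T ⟶ G} (hg : IsProd φ a g)
    (hh : IsProd φ b h) : IsProd φ (a + b) (g * h) := by
  induction a generalizing g with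
  | zero => rw [(isProd_zero_iff φ g).mp hg, _root_.one_mul, zero_add]; exact hh
  | succ a ih =>
    obtain ⟨x, g', hg', rfl⟩ := (isProd_succ_iff φ g).mp hg
    rw [Nat.add_right_comm, _root_.mul_assoc _ g' h]
    exact (isProd_succ_iff φ _).mpr ⟨x, _, ih hg', rfl⟩

theorem isProd_comp {T : Over (Spec (CommRingCat.of k))} (a : T ⟶ W) : IsProd φ 1 (a ≫ φ) :=
  (isProd_succ_iff φ _).mpr ⟨a, 1, (isProd_zero_iff φ _).mpr rfl, _root_.mul_one _⟩

theorem IsProd.inv (hinv : ∀ {T : Over (Spec (CommRingCat.of k))} (w : T ⟶ W), ∃ w' : T ⟶ W, w' ≫ φ = (w ≫ φ)⁻¹)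
    {T : Over (Spec (CommRingCat.of k))} {a : ℕ} {g : T ⟶ G} (hg : IsProd φ a g) : IsProd φ a g⁻¹ := by
  induction a generalizing g with
  | zero => rw [(isProd_zero_iff φ g).mp hg, _root_.inv_one]; exact (isProd_zero_iff φ _).mpr rfl
  | succ a ih =>
    obtain ⟨x, g', hg', rfl⟩ := (isProd_succ_iff φ g).mp hg
    obtain ⟨x', hx'⟩ := hinv x
    rw [_root_.mul_inv_rev, ← hx']
    exact (ih hg').mul (isProd_comp x')

theorem IsProd.conj
    (hconj : ∀ {T : Over (Spec (CommRingCat.of k))} (w : T ⟶ W) (c : T ⟶ G), ∃ w' : T ⟶ W, w' ≫ φ = c * (w ≫ φ) * c⁻¹)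
    {T : Over (Spec (CommRingCat.of k))} {a : ℕ} {g : T ⟶ G} (hg : IsProd φ a g) (c : T ⟶ G) :
    IsProd φ a (c * g * c⁻¹) := by
  induction a generalizing g with
  | zero => rw [(isProd_zero_iff φ g).mp hg, _root_.mul_one, mul_inv_cancel]; exact (isProd_zero_iff φ _).mpr rfl
  | succ a ih =>
    obtain ⟨x, g', hg', rfl⟩ := (isProd_succ_iff φ g).mp hg
    obtain ⟨x', hx'⟩ := hconj x c
    exact (isProd_succ_iff φ _).mpr ⟨x', _, ih hg', by rw [hx']; group⟩

variable [IsAffine W.left] [LocallyOfFiniteType W.hom] [GeometricallyReduced W.hom] [GeometricallyIrreducible W.hom]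

omit [LocallyOfFiniteType W.hom] [GeometricallyReduced W.hom] [GeometricallyIrreducible W.hom] in
theorem wn_isAffine : ∀ n, IsAffine (Wn W n).left
  | 0 => inferInstanceAs (IsAffine (Spec (CommRingCat.of k)))
  | n + 1 => by
    haveI := wn_isAffine n
    exact inferInstanceAs (IsAffine (Limits.pullback W.hom (Wn W n).hom))

omit [IsAffine W.left] in
theorem wn_geom : ∀ n, GeometricallyIrreducible (Wn W n).hom ∧ GeometricallyReduced (Wn W n).hom ∧
    LocallyOfFiniteType (Wn W n).hom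
  | 0 => ⟨⟨geometrically_iff_of_isClosedUnderIsomorphisms.mpr fun K _ x =>
      (Scheme.Hom.homeomorph (Limits.pullback.snd (𝟙 (Spec (CommRingCat.of k))) x)).irreducibleSpace_iff.mpr inferInstance⟩,
      ⟨geometrically_iff_of_isClosedUnderIsomorphisms.mpr fun K _ x =>
        isReduced_of_isOpenImmersion (Limits.pullback.snd (𝟙 (Spec (CommRingCat.of k))) x)⟩,
      inferInstanceAs (LocallyOfFiniteType (𝟙 (Spec (CommRingCat.of k))))⟩
  | n + 1 => by
    obtain ⟨_, hr, _⟩ := wn_geom n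
    haveI := hr
    refine ⟨GeometricallyIrreducible.comp (Limits.pullback.fst W.hom (Wn W n).hom) W.hom, ?_,
      inferInstanceAs (LocallyOfFiniteType (Limits.pullback.fst W.hom (Wn W n).hom ≫ W.hom))⟩
    show GeometricallyReduced (Limits.pullback.fst W.hom (Wn W n).hom ≫ W.hom)
    rw [Limits.pullback.condition]
    refine ⟨geometrically_iff_of_isClosedUnderIsomorphisms.mpr fun K _ y => ?_⟩
    haveI : IsReduced (Limits.pullback (Wn W n).hom y) :=
      pullback_of_geometrically (GeometricallyReduced.geometrically_isReduced (f := (Wn W n).hom)) K y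
    haveI := FBaseLib.isReduced_pullback W.hom (Limits.pullback.fst (Wn W n).hom y ≫ (Wn W n).hom)
    haveI : IsReduced (Limits.pullback (Limits.pullback.snd W.hom (Wn W n).hom) (Limits.pullback.fst (Wn W n).hom y)) :=
      isReduced_of_isOpenImmersion
        (Limits.pullbackLeftPullbackSndIso W.hom (Wn W n).hom (Limits.pullback.fst (Wn W n).hom y)).hom
    exact isReduced_of_isOpenImmersion
      (Limits.pullbackRightPullbackFstIso (Wn W n).hom y (Limits.pullback.snd W.hom (Wn W n).hom)).inv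

omit [IsAffine W.left] in
theorem wn_integral (n : ℕ) : IsIntegral (Wn W n).left := by
  obtain ⟨_, hr, _⟩ := wn_geom (W := W) n
  haveI := hr
  haveI : IrreducibleSpace (Wn W n).left :=
    GeometricallyIrreducible.irreducibleSpace_of_subsingleton (Wn W n).hom
  haveI : IsReduced (Wn W n).left :=
    GeometricallyReduced.isReduced_of_flat_of_isLocallyNoetherian (Wn W n).hom
  exact isIntegral_of_irreducibleSpace_of_isReduced _

variable [IsAffine G.left] [Smooth G.hom]

/-- The kernels of the product maps are prime, so the descending chain stabilises. -/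
theorem exists_stable (φ : W ⟶ G) (h1 : ∀ T : Over (Spec (CommRingCat.of k)), ∃ w : T ⟶ W, w ≫ φ = 1) :
    ∃ n, ∀ m x, ev (fn φ n) x = 0 → ev (fn φ m) x = 0 := by
  haveI : QuasiCompact G.hom := inferInstance
  haveI : ∀ n, IsAffine (Wn W n).left := wn_isAffine
  haveI := AGFLib.finiteType_fn G
  haveI : IsNoetherianRing (Fn G) := Algebra.FiniteType.isNoetherianRing k (Fn G)
  have hmono : ∀ m n, m ≤ n → ∀ x, ev (fn φ n) x = 0 → ev (fn φ m) x = 0 := by
    intro m n hmn
    induction hmn with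
    | refl => exact fun _ h => h
    | @step n _ ih =>
      intro x hx
      refine ih x ?_
      obtain ⟨w₀, hw₀⟩ := h1 (Wn W n)
      let j : Wn W n ⟶ Wn W (n + 1) := lift w₀ (𝟙 _)
      have e : j ≫ fn φ (n + 1) = fn φ n := by
        show lift w₀ (𝟙 _) ≫ ((fst _ _ ≫ φ) * (snd _ _ ≫ fn φ n)) = _
        rw [MonObj.comp_mul, lift_fst_assoc, lift_snd_assoc, hw₀, _root_.one_mul, Category.id_comp]
      rw [← e, ← ev_ev, hx, map_zero]
  haveI hint : ∀ n, IsIntegral (Wn W n).left := wn_integral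
  have hp : ∀ n, (RingHom.ker (ev (fn φ n))).IsPrime := fun n => by
    haveI := hint n
    exact RingHom.ker_isPrime _
  let P : ℕ → PrimeSpectrum (Fn G) := fun n => ⟨_, hp n⟩
  have hP : Antitone P := fun m n h x hx => hmono m n h x hx
  obtain ⟨_, ⟨n, rfl⟩, hmin⟩ := (wellFounded_lt (α := ℕ∞)).has_min
    (Set.range fun m => (P m).asIdeal.height) ⟨_, 0, rfl⟩
  refine ⟨n, fun m x hx => hmono m (max m n) (le_max_left m n) x ?_⟩
  have e : P (max m n) = P n := by
    refine ((hP (le_max_right m n)).lt_or_eq).resolve_left ?_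
    intro hlt
    haveI := (P (max m n)).isPrime
    haveI := (P n).isPrime
    exact hmin _ ⟨_, rfl⟩ (Ideal.height_strict_mono_of_isPrime hlt)
  have : x ∈ (P n).asIdeal := hx
  rwa [← e] at this

/-- The generated subgroup: smooth, connected, closed and normal, dominated by products of members. -/
theorem exists_generated_field (φ : W ⟶ G) (h1 : ∀ T : Over (Spec (CommRingCat.of k)), ∃ w : T ⟶ W, w ≫ φ = 1)
    (hinv : ∀ {T : Over (Spec (CommRingCat.of k))} (w : T ⟶ W), ∃ w' : T ⟶ W, w' ≫ φ = (w ≫ φ)⁻¹)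
    (hconj : ∀ {T : Over (Spec (CommRingCat.of k))} (w : T ⟶ W) (c : T ⟶ G), ∃ w' : T ⟶ W, w' ≫ φ = c * (w ≫ φ) * c⁻¹) :
    ∃ (D : Over (Spec (CommRingCat.of k))) (_ : GrpObj D) (i : D ⟶ G) (n : ℕ) (f : Wn W n ⟶ D),
      IsMonHom i ∧ IsClosedImmersion i.left ∧ Smooth D.hom ∧ ConnectedSpace D.left ∧ AlgGrp.IsNormalHom i ∧
      f ≫ i = fn φ n ∧ DenseRange f.left ∧ ∃ c : W ⟶ D, c ≫ i = φ := by
  haveI : ∀ n, IsAffine (Wn W n).left := wn_isAffine
  obtain ⟨n, hn⟩ := exists_stable φ h1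
  obtain ⟨D, i, f, haD, hci, hf, hinj, hlift⟩ := DerField.exists_image (fn φ n)
  haveI := haD
  haveI := hci
  haveI : IsAffine (D ⊗ D).left := inferInstanceAs (IsAffine (Limits.pullback D.hom D.hom))
  haveI : IsAffine (G ⊗ D).left := inferInstanceAs (IsAffine (Limits.pullback G.hom D.hom))
  haveI : IsAffine (G ⊗ Wn W n).left := inferInstanceAs (IsAffine (Limits.pullback G.hom (Wn W n).hom))
  haveI : IsAffine (Wn W n ⊗ Wn W n).left :=
    inferInstanceAs (IsAffine (Limits.pullback (Wn W n).hom (Wn W n).hom))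
  haveI : Mono i.left := inferInstance
  haveI : Mono i := (Over.forget _).mono_of_mono_map (inferInstanceAs (Mono i.left))
  have hprod : ∀ {T : Over (Spec (CommRingCat.of k))} (g : T ⟶ G) (m : ℕ), IsProd φ m g → ∃ g' : T ⟶ D, g' ≫ i = g := by
    rintro T g m ⟨w, rfl⟩
    exact hlift _ fun x hx => by rw [← ev_ev, hn m x hx, map_zero]
  have hdesc : ∀ {W' D' : Over (Spec (CommRingCat.of k))} [IsAffine D'.left] (p : W' ⟶ D') (h : D' ⟶ G) (m : ℕ),
      Function.Injective (ev p) → IsProd φ m (p ≫ h) → ∃ g : D' ⟶ D, g ≫ i = h := by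
    intro W' D' _ p h m hp hm
    obtain ⟨w, hw⟩ := hm
    refine hlift h fun x hx => hp ?_
    rw [map_zero, ev_ev, ← hw, ← ev_ev, hn m x hx, map_zero]
  have hfp : IsProd φ n (f ≫ i) := ⟨𝟙 _, by rw [Category.id_comp, hf]⟩
  obtain ⟨e, he⟩ := hprod (η[G]) 0 ((isProd_zero_iff φ _).mpr (MonObj.one_eq_one (M := G)))
  obtain ⟨v, hv⟩ := hdesc f i⁻¹ n hinj (by rw [GrpObj.comp_inv]; exact hfp.inv hinv)
  obtain ⟨μ', hμ'⟩ := hdesc (f ⊗ₘ f) ((fst D D ≫ i) * (snd D D ≫ i)) (n + n)
    (DerField.ev_tensorHom_injective f f hinj hinj) (by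
      rw [MonObj.comp_mul, tensorHom_fst_assoc, tensorHom_snd_assoc, hf]
      exact IsProd.mul ⟨fst _ _, rfl⟩ ⟨snd _ _, rfl⟩)
  obtain ⟨str, hmi⟩ := GrpSchLib.exists_grpObj_of_mono i e he μ' hμ' v hv
  obtain ⟨c', hc'⟩ := hdesc (𝟙 G ⊗ₘ f) (fst G D * (snd G D ≫ i) * (fst G D)⁻¹) n
    (DerField.ev_tensorHom_injective (𝟙 G) f (fun a b h => h) hinj) (by
      simp only [MonObj.comp_mul, GrpObj.comp_inv, tensorHom_fst, tensorHom_snd_assoc, Category.comp_id, hf]
      exact IsProd.conj hconj ⟨snd _ _, rfl⟩ _)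
  obtain ⟨c, hc⟩ := hprod φ 1 (by simpa using isProd_comp (φ := φ) (𝟙 W))
  obtain ⟨_, hsW, _⟩ := wn_geom (W := W) n
  haveI := hsW
  haveI := wn_integral (W := W) n
  have hd : DenseRange f.left := DerField.denseRange_of_ev_injective f hinj
  haveI : Nonempty D.left := hd.nonempty_iff.mp inferInstance
  haveI : IsDomain Γ(D.left, ⊤) := Function.Injective.isDomain (ev f).toRingHom hinj
  haveI : IsIntegral D.left := isIntegral_of_isAffine_of_isDomain D.left
  haveI : LocallyOfFiniteType D.hom := by rw [← Over.w i]; infer_instance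
  haveI : LocallyOfFinitePresentation D.hom := inferInstance
  haveI : Flat D.hom := inferInstance
  haveI : GeometricallyReduced D.hom := by
    letI : D.left.Over (Spec (CommRingCat.of k)) := ⟨D.hom⟩
    letI : (Wn W n).left.Over (Spec (CommRingCat.of k)) := ⟨(Wn W n).hom⟩
    exact GeomRedDense.geometricallyReduced_of_dense (k := k) (fun _ : Unit => (Wn W n).left) (fun _ => f.left)
      (fun _ => Over.w f) (fun _ => hsW)
      (by rw [Set.iUnion_const]; exact hd)
  have hsD : Smooth D.hom := Groth.Agent.S7795.result D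
  exact ⟨D, str, i, n, f, hmi, hci, hsD, inferInstance, fun X g d => ⟨lift g d ≫ c', by
    rw [Category.assoc, hc']
    simp only [MonObj.comp_mul, GrpObj.comp_inv, lift_fst, lift_snd_assoc]⟩, hf, hd, c, hc⟩

/-- After a field extension the generated subgroup lies in every subgroup containing the family. -/
theorem range_subset_of_fac {K : Type u} [Field K] (σ : Spec (CommRingCat.of K) ⟶ Spec (CommRingCat.of k))
    {φ : W ⟶ G} {D : Over (Spec (CommRingCat.of k))} {i : D ⟶ G} {n : ℕ} {f : Wn W n ⟶ D}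
    (hf : f ≫ i = fn φ n) (hd : DenseRange f.left) {N : Over (Spec (CommRingCat.of K))} [GrpObj N]
    (j : N ⟶ Red.bc σ G) [IsMonHom j] [IsClosedImmersion j.left]
    (h : ∃ q, q ≫ j = (Over.pullback σ).map φ) :
    Set.range ((Over.pullback σ).map i).left ⊆ Set.range j.left := by
  let F := Over.pullback σ
  obtain ⟨q, hq⟩ := h
  have key : ∀ m, ∃ y, y ≫ j = F.map (fn φ m) := by
    intro m
    induction m with
    | zero =>
      refine ⟨1, ?_⟩
      rw [MonObj.one_comp, show fn φ 0 = (1 : _ ⟶ G) from MonObj.one_eq_one (M := G), F.map_one]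
    | succ m ih =>
      obtain ⟨y, hy⟩ := ih
      refine ⟨(F.map (fst W (Wn W m)) ≫ q) * (F.map (snd W (Wn W m)) ≫ y), ?_⟩
      rw [MonObj.mul_comp, Category.assoc, Category.assoc, hq, hy, ← F.map_comp, ← F.map_comp,
        show fn φ (m + 1) = (fst W (Wn W m) ≫ φ) * (snd W (Wn W m) ≫ fn φ m) from rfl, F.map_mul]
  obtain ⟨y, hy⟩ := key n
  rw [← hf, F.map_comp] at hy
  have hd' : DenseRange (F.map f).left := DerField.denseRange_bc σ f hd
  have hsub : Set.univ ⊆ (F.map i).left ⁻¹' Set.range j.left := by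
    rw [← hd'.closure_range]
    refine closure_minimal ?_ (j.left.isClosedEmbedding.isClosed_range.preimage (F.map i).left.continuous)
    rintro _ ⟨w, rfl⟩
    exact ⟨y.left w, congrArg (fun m => m.left w) hy⟩
  rintro _ ⟨p, rfl⟩
  exact hsub (Set.mem_univ p)

end Groth.Agent.SolvGrp.GenField
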