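import Groth.Agent.SolvGrp.GenField
import Groth.Agent.SolvGrp.PerfectRad
import Groth.Agent.SolvGrp.TorusSepClosed

/-! Solvable normal subgroups are trivial as soon as the commutative ones are. -/

set_option backward.isDefEq.respectTransparency false
set_option backward.isDefEq.respectTransparency.types false
set_option linter.style.haveILetI false

universe u

open CategoryTheory MonoidalCategory CartesianMonoidalCategory MonObj AlgebraicGeometry

namespace Groth.Agent.SolvGrp

open GrpSchLib GrpSchLib.Kunneth GrpSchLib.LineGroups AGFLib AGFLib.Gen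

variable {k : Type u} [Field k]

/-- A group with trivial base change to a field extension is trivial. -/
theorem isTrivialGrp_of_bc {K : Type u} [Field K] (φ : k →+* K) {H : Over (Spec (CommRingCat.of k))}
    (h : IsIso (Red.bc (Spec.map (CommRingCat.ofHom φ)) H).hom) : Red.IsTrivialGrp H := by
  haveI : Flat (Spec.map (CommRingCat.ofHom φ)) := GrpSchLib.flat_spec_map_field φ
  haveI : Surjective (Spec.map (CommRingCat.ofHom φ)) := GrpSchLib.surjective_spec_map_field φ
  have h1 : MorphismProperty.isomorphisms Scheme (Limits.pullback.snd H.hom (Spec.map (CommRingCat.ofHom φ))) := h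
  exact MorphismProperty.of_pullback_snd_of_descendsAlong
    (P := MorphismProperty.isomorphisms Scheme) (Q := @Surjective ⊓ @Flat ⊓ @QuasiCompact)
    ⟨⟨inferInstance, inferInstance⟩, inferInstance⟩ h1

theorem bcProps {K : Type u} [Field K] (φ : k →+* K) (G : Over (Spec (CommRingCat.of k))) [GrpObj G] [IsAffine G.left]
    [Smooth G.hom] [ConnectedSpace G.left] :
    IsAffine (Red.bc (Spec.map (CommRingCat.ofHom φ)) G).left ∧ Smooth (Red.bc (Spec.map (CommRingCat.ofHom φ)) G).hom ∧
      ConnectedSpace (Red.bc (Spec.map (CommRingCat.ofHom φ)) G).left :=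
  ⟨inferInstanceAs (IsAffine (Limits.pullback G.hom (Spec.map (CommRingCat.ofHom φ)))),
    inferInstanceAs (Smooth (Limits.pullback.snd G.hom (Spec.map (CommRingCat.ofHom φ)))),
    AntiAffine.connectedSpace_bc G φ⟩

/-- If the smooth connected commutative normal subgroups inside a solvable normal one are trivial, so is the latter. -/
theorem trivial_of_solvable_normal {K : Type u} [Field K] [IsAlgClosed K] (φ : k →+* K)
    {G : Over (Spec (CommRingCat.of k))} [GrpObj G] [IsAffine G.left] [Smooth G.hom] :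
    ∀ (n : ℕ) (Z : Over (Spec (CommRingCat.of k))) [GrpObj Z] (z : Z ⟶ G) [IsMonHom z],
    IsClosedImmersion z.left → Smooth Z.hom → ConnectedSpace Z.left → AlgGrp.IsNormalHom z →
    (∀ (H : Over (Spec (CommRingCat.of k))) [GrpObj H] [IsCommMonObj H] (i : H ⟶ G) [IsMonHom i] (f : H ⟶ Z),
      f ≫ z = i → IsClosedImmersion i.left → Smooth H.hom → ConnectedSpace H.left → AlgGrp.IsNormalHom i →
      Red.IsTrivialGrp H) →
    derivedSeries (𝟙_ (Over (Spec (CommRingCat.of K))) ⟶ Red.bc (Spec.map (CommRingCat.ofHom φ)) Z) n = ⊥ →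
    Red.IsTrivialGrp Z := by
  intro n
  induction n with
  | zero =>
    intro Z _ z _ hci hsZ hcZ hn hA h0
    haveI := hci
    haveI := hsZ
    haveI := hcZ
    haveI : IsAffine Z.left := isAffine_of_isAffineHom z.left
    obtain ⟨haK, hsK, hcK⟩ := bcProps φ Z
    haveI := haK
    haveI := hsK
    haveI := hcK
    haveI : IsReduced (Red.bc (Spec.map (CommRingCat.ofHom φ)) Z).left :=
      isReduced_of_smooth_field (Red.bc (Spec.map (CommRingCat.ofHom φ)) Z).hom
    rw [derivedSeries_zero] at h0
    exact isTrivialGrp_of_bc φ (isTrivialGrp_of_pts fun x => Subgroup.mem_bot.mp (h0 ▸ Subgroup.mem_top x))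
  | succ n ih =>
    intro Z _ z _ hci hsZ hcZ hn hA hder
    haveI := hci
    haveI := hsZ
    haveI := hcZ
    haveI : IsAffine Z.left := isAffine_of_isAffineHom z.left
    haveI : QuasiCompact Z.hom := inferInstance
    haveI : Mono z := (Over.forget _).mono_of_mono_map (inferInstanceAs (Mono z.left))
    haveI : IsAffine (Z ⊗ Z).left := inferInstanceAs (IsAffine (Limits.pullback Z.hom Z.hom))
    haveI := GrpSchLib.Adjoint.geometricallyIrreducible (G := Z)
    haveI : GeometricallyIrreducible (Z ⊗ Z).hom :=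
      GeometricallyIrreducible.comp (Limits.pullback.fst Z.hom Z.hom) Z.hom
    haveI : Smooth (Z ⊗ Z).hom := inferInstanceAs (Smooth (Limits.pullback.fst Z.hom Z.hom ≫ Z.hom))
    let Φ : Z ⊗ Z ⟶ G := DerField.comm Z ≫ z
    have hΦ : ∀ {T : Over (Spec (CommRingCat.of k))} (a b : T ⟶ Z),
        lift a b ≫ Φ = (a ≫ z) * (b ≫ z) * (a ≫ z)⁻¹ * (b ≫ z)⁻¹ := fun a b => by
      show lift a b ≫ DerField.comm Z ≫ z = _
      rw [← Category.assoc, DerField.lift_comm]
      simp only [MonObj.mul_comp, GrpObj.inv_comp]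
    have hΦ' : ∀ {T : Over (Spec (CommRingCat.of k))} (w : T ⟶ Z ⊗ Z),
        w ≫ Φ = ((w ≫ fst _ _) ≫ z) * ((w ≫ snd _ _) ≫ z) * ((w ≫ fst _ _) ≫ z)⁻¹ * ((w ≫ snd _ _) ≫ z)⁻¹ := by
      intro T w
      rw [← hΦ]
      congr 1
      apply CartesianMonoidalCategory.hom_ext <;> simp
    haveI : GeometricallyReduced (Z ⊗ Z).hom := GrpSchLib.geometricallyReduced_of_smooth (Z ⊗ Z).hom
    obtain ⟨D, _, iD, m, f, hiD, hcD, hsD, hconD, hnD, hf, hd, c, hc⟩ :=
      GenField.exists_generated_field Φ (fun T => ⟨lift 1 1, by rw [hΦ]; simp⟩)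
        (fun w => ⟨lift (w ≫ snd _ _) (w ≫ fst _ _), by rw [hΦ, hΦ']; group⟩)
        (fun w x => by
          obtain ⟨a, ha⟩ := hn _ x (w ≫ fst _ _)
          obtain ⟨b, hb⟩ := hn _ x (w ≫ snd _ _)
          exact ⟨lift a b, by rw [hΦ, hΦ', ← ha, ← hb]; group⟩)
    haveI := hiD
    haveI := hcD
    haveI := hsD
    haveI := hconD
    haveI : IsReduced D.left := isReduced_of_smooth_field D.hom
    have hfz : fn (DerField.comm Z) m ≫ z = fn Φ m := by
      clear hf f hd
      induction m with
      | zero =>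
        show η[Z] ≫ z = η[G]
        exact IsMonHom.one_hom z
      | succ m ihm =>
        show ((fst _ _ ≫ DerField.comm Z) * (snd _ _ ≫ fn (DerField.comm Z) m)) ≫ z =
          (fst _ _ ≫ Φ) * (snd _ _ ≫ fn Φ m)
        rw [MonObj.mul_comp, Category.assoc, Category.assoc, ihm]
    have hsub : Set.range iD.left ⊆ Set.range z.left := by
      have h1 : Set.univ ⊆ iD.left ⁻¹' Set.range z.left := by
        rw [← hd.closure_range]
        refine closure_minimal ?_ (z.left.isClosedEmbedding.isClosed_range.preimage iD.left.continuous)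
        rintro _ ⟨w, rfl⟩
        exact ⟨(fn (DerField.comm Z) m).left w, (congrArg (fun e => e.left w) hfz).trans (congrArg (fun e => e.left w) hf).symm⟩
      rintro _ ⟨p, rfl⟩
      exact h1 (Set.mem_univ p)
    obtain ⟨d₀, hd₀⟩ := H23.RedSub.exists_lift_closed iD.left z.left hsub
    let d : D ⟶ Z := Over.homMk d₀ (by rw [← Over.w z, reassoc_of% hd₀, Over.w iD])
    have hdz : d ≫ z = iD := Over.OverMorphism.ext hd₀
    haveI : Mono iD := (Over.forget _).mono_of_mono_map (inferInstanceAs (Mono iD.left))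
    haveI : IsMonHom d := ⟨(cancel_mono z).mp (by rw [Category.assoc, hdz, IsMonHom.one_hom, IsMonHom.one_hom]),
      (cancel_mono z).mp (by
        rw [Category.assoc, hdz, Category.assoc, IsMonHom.mul_hom, IsMonHom.mul_hom, ← Category.assoc, tensorHom_comp_tensorHom,
          hdz])⟩
    have hfd : f ≫ d = fn (DerField.comm Z) m := (cancel_mono z).mp (by rw [Category.assoc, hdz, hf, hfz])
    -- the derived series drops on geometric points
    let F := Over.pullback (Spec.map (CommRingCat.ofHom φ))
    obtain ⟨haK, hsK, hcK⟩ := bcProps φ Z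
    haveI := haK
    haveI := hsK
    haveI := hcK
    haveI : LocallyOfFiniteType (Wn (Z ⊗ Z) m).hom := (GenField.wn_geom (W := Z ⊗ Z) m).2.2
    haveI : LocallyOfFiniteType (F.obj (Wn (Z ⊗ Z) m)).hom :=
      inferInstanceAs (LocallyOfFiniteType (Limits.pullback.snd (Wn (Z ⊗ Z) m).hom (Spec.map (CommRingCat.ofHom φ))))
    have hle : ∀ y : 𝟙_ (Over (Spec (CommRingCat.of K))) ⟶ F.obj D,
        y ≫ F.map d ∈ _root_.commutator (𝟙_ (Over (Spec (CommRingCat.of K))) ⟶ Red.bc (Spec.map (CommRingCat.ofHom φ)) Z) := by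
      intro y
      refine DerField.mem_of_denseRange (F.map f) (DerField.denseRange_bc _ f hd)
        ((DerField.ptsClosed_commutator (Red.bc (Spec.map (CommRingCat.ofHom φ)) Z)).preimage (F.map d)) (fun w => ?_) y
      show (w ≫ F.map f) ≫ F.map d ∈
        _root_.commutator (𝟙_ (Over (Spec (CommRingCat.of K))) ⟶ Red.bc (Spec.map (CommRingCat.ofHom φ)) Z)
      rw [Category.assoc, ← F.map_comp, hfd]
      clear hfd hfz hf hd f
      induction m with
      | zero =>
        rw [show fn (DerField.comm Z) 0 = (1 : _ ⟶ Z) from MonObj.one_eq_one (M := Z), F.map_one, MonObj.comp_one]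
        exact one_mem _
      | succ m ihm =>
        haveI : LocallyOfFiniteType (Wn (Z ⊗ Z) m).hom := (GenField.wn_geom (W := Z ⊗ Z) m).2.2
        haveI : LocallyOfFiniteType (F.obj (Wn (Z ⊗ Z) m)).hom :=
          inferInstanceAs (LocallyOfFiniteType (Limits.pullback.snd (Wn (Z ⊗ Z) m).hom (Spec.map (CommRingCat.ofHom φ))))
        rw [show fn (DerField.comm Z) (m + 1) = (fst _ _ ≫ DerField.comm Z) * (snd _ _ ≫ fn (DerField.comm Z) m) from rfl,
          F.map_mul, MonObj.comp_mul]
        refine mul_mem ?_ (by rw [F.map_comp, ← Category.assoc]; exact ihm inferInstance inferInstance _)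
        rw [F.map_comp, ← Category.assoc]
        generalize w ≫ F.map (fst (Z ⊗ Z) (Wn (Z ⊗ Z) m)) = v
        have e : F.map (DerField.comm Z) = F.map (fst Z Z) * F.map (snd Z Z) * (F.map (fst Z Z))⁻¹ * (F.map (snd Z Z))⁻¹ := by
          show F.homMonoidHom (fst Z Z * snd Z Z * (fst Z Z)⁻¹ * (snd Z Z)⁻¹) = _
          simp only [map_mul, map_inv]
          rfl
        rw [e]
        simp only [MonObj.comp_mul, GrpObj.comp_inv]
        rw [← commutatorElement_def, _root_.commutator_def]
        exact Subgroup.commutator_mem_commutator (Subgroup.mem_top _) (Subgroup.mem_top _)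
    haveI : F.IsRightAdjoint := (Over.mapPullbackAdj (Spec.map (CommRingCat.ofHom φ))).isRightAdjoint
    haveI : Mono d := mono_of_mono_fac hdz
    haveI : IsMonHom (F.map d) := inferInstance
    have hser : ∀ j, (derivedSeries (𝟙_ (Over (Spec (CommRingCat.of K))) ⟶ F.obj D) j).map (ptsHom (F.map d)) ≤
        derivedSeries (𝟙_ (Over (Spec (CommRingCat.of K))) ⟶ Red.bc (Spec.map (CommRingCat.ofHom φ)) Z) (j + 1) := by
      intro j
      induction j with
      | zero =>
        rintro _ ⟨y, -, rfl⟩
        rw [derivedSeries_one]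
        exact hle y
      | succ j ihj =>
        rw [derivedSeries_succ _ j, derivedSeries_succ _ (j + 1), Subgroup.map_commutator]
        exact Subgroup.commutator_mono ihj ihj
    have hDtriv : Red.IsTrivialGrp D := ih D iD hcD hsD hconD hnD
      (fun H _ _ i _ g hg => hA H i (g ≫ d) (by rw [Category.assoc, hdz, hg]))
      (eq_bot_iff.mpr fun x hx => by
        have h1 := hser n ⟨x, hx, rfl⟩
        rw [hder, Subgroup.mem_bot] at h1
        exact Subgroup.mem_bot.mpr ((cancel_mono (F.map d)).mp (by rw [MonObj.one_comp]; exact h1)))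
    haveI : IsIso D.hom := hDtriv
    have hc1 : c = 1 := Over.OverMorphism.ext
      ((cancel_mono D.hom).mp ((Over.w c).trans (Over.w (1 : Z ⊗ Z ⟶ D)).symm))
    have hcomm : fst Z Z * snd Z Z = snd Z Z * fst Z Z := by
      have h1 : DerField.comm Z = 1 := (cancel_mono z).mp (by
        show Φ = _
        rw [← hc, hc1, MonObj.one_comp, MonObj.one_comp])
      exact mul_inv_eq_iff_eq_mul.mp (mul_inv_eq_one.mp h1)
    haveI : IsCommMonObj Z := ⟨by
      rw [show μ[Z] = fst Z Z * snd Z Z by rw [Hom.mul_def, lift_fst_snd, Category.id_comp], MonObj.comp_mul,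
        braiding_hom_fst, braiding_hom_snd, hcomm]⟩
    exact hA Z z (𝟙 Z) (Category.id_comp z) hci hsZ hcZ hn

/-- A solvable smooth connected normal subgroup is trivial if the commutative ones are. -/
theorem trivial_of_isSolvableGrp {K : Type u} [Field K] [IsAlgClosed K] (φ : k →+* K)
    {G : Over (Spec (CommRingCat.of k))} [GrpObj G] [IsAffine G.left] [Smooth G.hom]
    {Z : Over (Spec (CommRingCat.of k))} [GrpObj Z] (z : Z ⟶ G) [IsMonHom z] (hci : IsClosedImmersion z.left)
    (hsZ : Smooth Z.hom) (hcZ : ConnectedSpace Z.left) (hn : AlgGrp.IsNormalHom z)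
    (hA : ∀ (H : Over (Spec (CommRingCat.of k))) [GrpObj H] [IsCommMonObj H] (i : H ⟶ G) [IsMonHom i] (f : H ⟶ Z),
      f ≫ z = i → IsClosedImmersion i.left → Smooth H.hom → ConnectedSpace H.left → AlgGrp.IsNormalHom i →
      Red.IsTrivialGrp H)
    (hsolv : Red.IsSolvableGrp (Red.bc (Spec.map (CommRingCat.ofHom φ)) Z)) : Red.IsTrivialGrp Z :=
  trivial_of_solvable_normal φ hsolv.choose Z z hci hsZ hcZ hn hA (hsolv.choose_spec _)

end Groth.Agent.SolvGrp
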