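import Groth.Agent.SolvGrp.Reductive4
import Groth.Agent.SolvGrp.GenField
import Groth.Agent.SolvGrp.UnipBC
import Groth.Agent.AGFLib.LargestNormal
import Groth.Agent.GrpSchLib.Neutral
import Groth.Agent.SolvGrp.Descent

/-! The largest normal subgroup with unipotent geometric fibre exists over every field. -/

set_option backward.isDefEq.respectTransparency false
set_option backward.isDefEq.respectTransparency.types false
set_option linter.style.haveILetI false

universe u

open CategoryTheory MonoidalCategory CartesianMonoidalCategory MonObj AlgebraicGeometry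

namespace Groth.Agent.SolvGrp.UnipRadSep

open GrpSchLib GrpSchLib.Kunneth GrpSchLib.LineGroups AGFLib AGFLib.Gen

variable {k : Type u} [Field k]

/-- A connected scheme through the identity maps into every open subgroup. -/
theorem exists_fac_openSubgroup {G G₀ A : Over (Spec (CommRingCat.of k))} [GrpObj G] [GrpObj G₀] (j : G₀ ⟶ G)
    [IsMonHom j] [IsOpenImmersion j.left] (f : A ⟶ G) [ConnectedSpace A.left]
    (e : 𝟙_ (Over (Spec (CommRingCat.of k))) ⟶ A) (he : e ≫ f = η[G]) : ∃ f' : A ⟶ G₀, f' ≫ j = f := by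
  have hsub : Set.range f.left ⊆ Set.range j.left := by
    refine subset_trans ?_ (Neutral.openSubgroup G G₀ j).1
    intro x hx
    rw [Neutral.mem_neutralSet_iff]
    let s : Spec (CommRingCat.of k) := G.hom x
    have hu : Neutral.unit G s = f.left (e.left s) :=
      (congrArg (fun m : 𝟙_ (Over (Spec (CommRingCat.of k))) ⟶ G => m.left s) he).symm
    refine (isConnected_range f.left.continuous).isPreconnected.subset_connectedComponentIn
      ⟨_, hu.symm⟩ (fun y _ => @Subsingleton.elim (PrimeSpectrum k) inferInstance _ _) hx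
  exact ⟨Over.homMk (IsOpenImmersion.lift j.left f.left hsub) (by
      rw [← Over.w j, IsOpenImmersion.lift_fac_assoc, Over.w f]),
    Over.OverMorphism.ext (IsOpenImmersion.lift_fac _ _ _)⟩

/-- There is a largest smooth connected normal subgroup without subtori over an algebraically closed extension. -/
theorem exists_largest_bc {L : Type u} [Field L] [IsAlgClosed L]
    (σ : Spec (CommRingCat.of L) ⟶ Spec (CommRingCat.of k))
    (G : Over (Spec (CommRingCat.of k))) [GrpObj G] [IsAffine G.left] [Smooth G.hom] :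
    ∃ (H : Over (Spec (CommRingCat.of k))) (_ : GrpObj H) (j : H ⟶ G), IsMonHom j ∧ IsClosedImmersion j.left ∧
      Smooth H.hom ∧ ConnectedSpace H.left ∧ AlgGrp.IsNormalHom j ∧ Red.HasNoSubtorus L (Red.bc σ H) ∧
      ∀ (H' : Over (Spec (CommRingCat.of k))) [GrpObj H'] (j' : H' ⟶ G) [IsMonHom j'],
        IsClosedImmersion j'.left → Smooth H'.hom → ConnectedSpace H'.left → AlgGrp.IsNormalHom j' →
        Red.HasNoSubtorus L (Red.bc σ H') → ∃ f : H' ⟶ H, f ≫ j = j' := by
  let F := Over.pullback σ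
  haveI : QuasiCompact G.hom := inferInstance
  haveI : IsAffine (Red.bc σ G).left := inferInstanceAs (IsAffine (Limits.pullback G.hom σ))
  haveI : Smooth (Red.bc σ G).hom := inferInstanceAs (Smooth (Limits.pullback.snd G.hom σ))
  haveI : IsReduced (Red.bc σ G).left := isReduced_of_smooth_field (Red.bc σ G).hom
  obtain ⟨R, _, r, hr, hrc, hrs, hrcon, -, hru, hrmax⟩ := exists_unipRadPts (Red.bc σ G)
  haveI := hr
  haveI := hrc
  haveI := hrs
  haveI := hrcon
  haveI : IsAffine R.left := isAffine_of_isAffineHom r.left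
  haveI : IsReduced R.left := isReduced_of_smooth_field R.hom
  haveI : LocallyOfFiniteType R.hom := inferInstance
  obtain ⟨φ, hφ⟩ := Spec.map_surjective σ
  -- an admissible subgroup maps to the geometric radical
  have hfac : ∀ (N : Over (Spec (CommRingCat.of k))) [GrpObj N] (i : N ⟶ G) [IsMonHom i],
      IsClosedImmersion i.left → Smooth N.hom → ConnectedSpace N.left → AlgGrp.IsNormalHom i →
      Red.HasNoSubtorus L (Red.bc σ N) → ∃ q, q ≫ r = F.map i := by
    intro N _ i _ h1 h2 h3 h4 h5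
    haveI := h1
    haveI := h2
    haveI := h3
    haveI : IsClosedImmersion (F.map i).left := MorphismProperty.baseChange_map (P := @IsClosedImmersion) σ i h1
    haveI : Smooth (F.obj N).hom := inferInstanceAs (Smooth (Limits.pullback.snd N.hom σ))
    haveI : ConnectedSpace (F.obj N).left := by
      show ConnectedSpace (Red.bc σ N).left
      rw [← hφ]
      exact AntiAffine.connectedSpace_bc N φ.hom
    have hn := isNormalHom_bc σ i h4
    obtain ⟨q, -, hq⟩ := exists_fac_sub r (F.map i) (hrmax (F.obj N) (F.map i) inferInstance inferInstance inferInstance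
      ⟨fun z hz g => by
        obtain ⟨x, rfl⟩ := hz
        obtain ⟨y, hy⟩ := hn _ g x
        exact ⟨y, hy.symm⟩⟩ h5)
    exact ⟨q, hq⟩
  haveI : CompactSpace G.left := (quasiCompact_iff_compactSpace G.hom).mp inferInstance
  haveI : Nonempty G.left := ⟨η[G].left (IsLocalRing.closedPoint k)⟩
  obtain ⟨η₀, -, hdeg, -⟩ := VarDim.exists_deg_eq_topologicalKrullDim (p := G.hom)
  let D : Set ℕ := {d | ∃ (E : Over (Spec (CommRingCat.of k))) (_ : GrpObj E) (j : E ⟶ G) (x : E.left),
    IsMonHom j ∧ IsClosedImmersion j.left ∧ Smooth E.hom ∧ ConnectedSpace E.left ∧ AlgGrp.IsNormalHom j ∧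
      Red.HasNoSubtorus L (Red.bc σ E) ∧ VarDim.deg G.hom (j.left x) = d}
  have hD : D.Finite := (Set.finite_Iic (VarDim.deg G.hom η₀)).subset
    (by rintro d ⟨_, _, _, _, _, _, _, _, _, _, rfl⟩; exact hdeg _)
  have hDne : D.Nonempty := by
    let E : Over (Spec (CommRingCat.of k)) := 𝟙_ _
    let j : E ⟶ G := η[G]
    haveI : IsMonHom j := ⟨by simp [j, E], by
      simp [j, E, MonObj.one_eq_one, MonObj.one_mul, toUnit_unique μ[𝟙_ (Over (Spec (CommRingCat.of k)))] (toUnit _)]
      rw [show ((1 : 𝟙_ (Over (Spec (CommRingCat.of k))) ⟶ G) ⊗ₘ (1 : 𝟙_ (Over (Spec (CommRingCat.of k))) ⟶ G)) = lift 1 1 by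
        apply CartesianMonoidalCategory.hom_ext <;> simp, ← Hom.mul_def, _root_.mul_one]⟩
    refine ⟨_, E, inferInstance, j, IsLocalRing.closedPoint k, inferInstance,
      inferInstanceAs (IsClosedImmersion η[G].left), inferInstanceAs (Smooth (𝟙 _)),
      inferInstanceAs (ConnectedSpace ↥(Spec (CommRingCat.of k))),
      fun T g n => ⟨n, by simp only [j, MonObj.one_eq_one, MonObj.comp_one]; group⟩, ?_, rfl⟩
    intro T _ t _ _ hT
    haveI : IsIso (Red.bc σ E).hom := inferInstanceAs (IsIso (Limits.pullback.snd (𝟙 (Spec (CommRingCat.of k))) σ))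
    have h1 : t.left ≫ (Red.bc σ E).hom = T.hom := Over.w t
    show IsIso T.hom
    refine ⟨η[T].left, ?_, Over.w η[T]⟩
    have e : (𝟙 T : T ⟶ T) = toUnit T ≫ η[T] := (cancel_mono t).mp (Over.OverMorphism.ext
      ((cancel_mono (Red.bc σ E).hom).mp (by rw [Over.w, Over.w])))
    have h2 := congrArg (·.left) e
    rw [Over.comp_left] at h2
    have h3 : (toUnit T).left = T.hom := (Category.comp_id _).symm.trans (Over.w (toUnit T))
    rw [h3] at h2
    exact h2.symm
  obtain ⟨d, ⟨H, _, j, x, hjm, hjc, hHs, hHc, hn, hH, hd⟩, hdmax⟩ := hD.exists_maximal hDne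
  refine ⟨H, inferInstance, j, hjm, hjc, hHs, hHc, hn, hH, ?_⟩
  intro H' _ j' _ hcl hsm hco hn' hH'
  haveI := hjm
  haveI := hjc
  haveI := hHs
  haveI := hHc
  haveI := hcl
  haveI := hsm
  haveI := hco
  obtain ⟨a, ha⟩ := hfac H j hjc hHs hHc hn hH
  obtain ⟨a', ha'⟩ := hfac H' j' hcl hsm hco hn' hH'
  haveI : IsAffine H.left := isAffine_of_isAffineHom j.left
  haveI : IsAffine H'.left := isAffine_of_isAffineHom j'.left
  haveI : QuasiCompact H.hom := inferInstance
  haveI : QuasiCompact H'.hom := inferInstance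
  haveI : IsAffine (H ⊗ H').left := inferInstanceAs (IsAffine (Limits.pullback H.hom H'.hom))
  haveI := GrpSchLib.Adjoint.geometricallyIrreducible (G := H)
  haveI := GrpSchLib.Adjoint.geometricallyIrreducible (G := H')
  haveI : GeometricallyIrreducible (H ⊗ H').hom :=
    GeometricallyIrreducible.comp (Limits.pullback.fst H.hom H'.hom) H.hom
  haveI : Smooth (H ⊗ H').hom := inferInstanceAs (Smooth (Limits.pullback.fst H.hom H'.hom ≫ H.hom))
  haveI : GeometricallyReduced (H ⊗ H').hom := GrpSchLib.geometricallyReduced_of_smooth (H ⊗ H').hom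
  let Φ : H ⊗ H' ⟶ G := (fst _ _ ≫ j) * (snd _ _ ≫ j')
  have hΦ : ∀ {T : Over (Spec (CommRingCat.of k))} (u : T ⟶ H) (v : T ⟶ H'),
      lift u v ≫ Φ = (u ≫ j) * (v ≫ j') := fun u v => by
    simp only [Φ, MonObj.comp_mul, lift_fst_assoc, lift_snd_assoc]
  have hΦ' : ∀ {T : Over (Spec (CommRingCat.of k))} (w : T ⟶ H ⊗ H'),
      w ≫ Φ = ((w ≫ fst _ _) ≫ j) * ((w ≫ snd _ _) ≫ j') := fun w => by
    simp only [Φ, MonObj.comp_mul, Category.assoc]
  obtain ⟨M, _, iM, n, f, hiM, hcM, hsM, hconM, hnM, hf, hdn, c, hc⟩ :=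
    GenField.exists_generated_field Φ
      (fun T => ⟨lift 1 1, by rw [hΦ, MonObj.one_comp, MonObj.one_comp, _root_.mul_one]⟩)
      (fun w => by
        obtain ⟨b, hb⟩ := hn _ ((w ≫ snd _ _) ≫ j')⁻¹ (w ≫ fst _ _)⁻¹
        refine ⟨lift b (w ≫ snd _ _)⁻¹, ?_⟩
        rw [hΦ, hΦ', ← hb, GrpObj.inv_comp, GrpObj.inv_comp, _root_.inv_inv]
        group)
      (fun w g => by
        obtain ⟨b, hb⟩ := hn _ g (w ≫ fst _ _)
        obtain ⟨b', hb'⟩ := hn' _ g (w ≫ snd _ _)
        exact ⟨lift b b', by rw [hΦ, hΦ', ← hb, ← hb']; group⟩)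
  haveI := hiM
  haveI := hcM
  haveI := hsM
  haveI := hconM
  have hq : ∃ q, q ≫ r = F.map Φ := by
    refine ⟨(F.map (fst H H') ≫ a) * (F.map (snd H H') ≫ a'), ?_⟩
    rw [MonObj.mul_comp, Category.assoc, Category.assoc, ha, ha', ← F.map_comp, ← F.map_comp]
    exact (map_mul F.homMonoidHom _ _).symm
  have hle := GenField.range_subset_of_fac σ hf hdn r hq
  haveI : IsClosedImmersion (F.map iM).left := MorphismProperty.baseChange_map (P := @IsClosedImmersion) σ iM hcM
  haveI : Smooth (F.obj M).hom := inferInstanceAs (Smooth (Limits.pullback.snd M.hom σ))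
  obtain ⟨q, hqm, hq'⟩ := exists_fac_sub r (F.map iM) (by
    rintro _ ⟨p, rfl⟩
    exact exists_of_mem_range r (p ≫ F.map iM) (hle ⟨cp p, rfl⟩))
  haveI := hqm
  haveI : Mono (F.map iM) := (Over.forget _).mono_of_mono_map (inferInstanceAs (Mono (F.map iM).left))
  haveI : Mono q := mono_of_mono_fac hq'
  have hMu : Red.HasNoSubtorus L (Red.bc σ M) := fun T _ t _ _ hT =>
    hasNoSubtorus_of_isUnipPt hru T (t ≫ q) hT
  -- so both lie in the generated group, which has no larger dimension
  haveI : Mono iM.left := inferInstance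
  haveI : IsIso (lift (𝟙 H) (1 : H ⟶ H') ≫ c) := by
    set f₁ := lift (𝟙 H) (1 : H ⟶ H') ≫ c with hf₁
    have hf₁' : f₁ ≫ iM = j := by
      rw [hf₁, Category.assoc, hc, hΦ, MonObj.one_comp, _root_.mul_one, Category.id_comp]
    haveI : IsClosedImmersion f₁.left := by
      haveI : IsClosedImmersion (f₁.left ≫ iM.left) := by rw [← Over.comp_left, hf₁']; infer_instance
      exact IsClosedImmersion.of_comp f₁.left iM.left
    haveI : LocallyOfFiniteType M.hom := inferInstance
    haveI : IrreducibleSpace H.left := Groth.Agent.S0348.result k H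
    haveI : IrreducibleSpace M.left := Groth.Agent.S0348.result k M
    haveI : IsReduced M.left := isReduced_of_smooth_field M.hom
    refine LargestNormal.isIso_of_deg f₁ ?_
    rw [← LargestNormal.deg_sub iM, ← LargestNormal.deg_sub iM]
    have h1 : VarDim.deg G.hom (j.left (genericPoint H.left)) ∈ D :=
      ⟨H, inferInstance, j, _, hjm, hjc, hHs, hHc, hn, hH, rfl⟩
    have h2 : VarDim.deg G.hom (iM.left (genericPoint M.left)) ∈ D :=
      ⟨M, inferInstance, iM, _, hiM, hcM, hsM, hconM, hnM, hMu, rfl⟩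
    have hxle : d ≤ VarDim.deg G.hom (j.left (genericPoint H.left)) :=
      hd ▸ VarDim.deg_le_of_specializes G.hom ((genericPoint_specializes x).map j.left.continuous)
    rw [show iM.left (f₁.left (genericPoint H.left)) = j.left (genericPoint H.left) from
      congrArg (fun g : H ⟶ G => g.left (genericPoint H.left)) hf₁']
    by_contra hlt
    have := hdmax h2 (by omega)
    omega
  refine ⟨lift (1 : H' ⟶ H) (𝟙 H') ≫ c ≫ inv (lift (𝟙 H) (1 : H ⟶ H') ≫ c), ?_⟩
  have e : (lift (𝟙 H) (1 : H ⟶ H') ≫ c) ≫ iM = j := by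
    rw [Category.assoc, hc, hΦ, MonObj.one_comp, _root_.mul_one, Category.id_comp]
  have e' : inv (lift (𝟙 H) (1 : H ⟶ H') ≫ c) ≫ j = iM := by rw [IsIso.inv_comp_eq, e]
  rw [Category.assoc, Category.assoc, e']
  rw [hc, hΦ, MonObj.one_comp, _root_.one_mul, Category.id_comp]

end Groth.Agent.SolvGrp.UnipRadSep
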