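import Groth.Agent.SolvGrp.Radical
import Groth.Agent.SolvGrp.Fibre
import Groth.Prelude.Def_Par

/-! Maximal connected unipotent subgroups are unipotent radicals of Borel subgroups. -/

set_option backward.isDefEq.respectTransparency false
set_option backward.isDefEq.respectTransparency.types false
set_option linter.style.haveILetI false

universe u

open CategoryTheory MonoidalCategory CartesianMonoidalCategory MonObj AlgebraicGeometry
open scoped commutatorElement

namespace Groth.Agent.SolvGrp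

open GrpSchLib GrpSchLib.Kunneth GrpSchLib.LineGroups WeilCmp.Unip AGFLib AGFLib.Gen AGFLib.BorelFixed AGFLib.BorelExist

variable {k : Type u} [Field k] [IsAlgClosed k]

local notation "PT" => 𝟙_ (Over (Spec (CommRingCat.of k)))

variable {G : Over (Spec (CommRingCat.of k))} [GrpObj G] [IsAffine G.left] [Smooth G.hom]

/-- A closed subgroup whose points are stable under conjugation is normal. -/
theorem isNormalHom_of_pts {N : Over (Spec (CommRingCat.of k))} [GrpObj N] [Smooth N.hom] (i : N ⟶ G) [IsMonHom i]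
    [IsClosedImmersion i.left] (h : (rangePts i).Normal) : AlgGrp.IsNormalHom i := by
  intro T g n
  haveI : IsReduced G.left := isReduced_of_smooth_field G.hom
  haveI : IsReduced N.left := isReduced_of_smooth_field N.hom
  haveI : IsReduced (G ⊗ N).left := GrpSchLib.isReduced_pullback_of_perfectField G.hom N.hom
  haveI : LocallyOfFiniteType (G ⊗ N).hom :=
    inferInstanceAs (LocallyOfFiniteType (Limits.pullback.fst G.hom N.hom ≫ G.hom))
  obtain ⟨c, hc⟩ := exists_lift_pts i (fst G N * (snd G N ≫ i) * (fst G N)⁻¹) fun t => by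
    obtain ⟨z, hz⟩ := h.conj_mem ((t ≫ snd G N) ≫ i) ⟨t ≫ snd G N, rfl⟩ (t ≫ fst G N)
    refine ⟨z, (show z ≫ i = (t ≫ fst G N) * ((t ≫ snd G N) ≫ i) * (t ≫ fst G N)⁻¹ from hz).trans ?_⟩
    rw [MonObj.comp_mul, MonObj.comp_mul, GrpObj.comp_inv, Category.assoc]
  refine ⟨lift g n ≫ c, ?_⟩
  rw [Category.assoc, hc, MonObj.comp_mul, MonObj.comp_mul, GrpObj.comp_inv, lift_fst, lift_snd_assoc]

variable [ConnectedSpace G.left]

/-- A maximal connected subgroup without subtori consists of the unipotent points of a Borel subgroup. -/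
theorem exists_borel_of_maxUnip {U : Over (Spec (CommRingCat.of k))} [GrpObj U] (iU : U ⟶ G) [IsMonHom iU]
    [IsClosedImmersion iU.left] [Smooth U.hom] [ConnectedSpace U.left] (nU : Red.HasNoSubtorus k U)
    (maxU : ∀ (V : Over (Spec (CommRingCat.of k))) [GrpObj V] (j : V ⟶ G) [IsMonHom j] (f : U ⟶ V),
      IsClosedImmersion j.left → Smooth V.hom → ConnectedSpace V.left → Red.HasNoSubtorus k V → f ≫ j = iU → IsIso f) :
    ∃ (B : Over (Spec (CommRingCat.of k))) (_ : GrpObj B) (iB : B ⟶ G) (_ : IsMonHom iB) (_ : Red.IsBorelOver k iB)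
      (u : U ⟶ B) (_ : IsMonHom u), u ≫ iB = iU ∧ IsClosedImmersion u.left ∧ (rangePts u).Normal ∧
        ∀ b : PT ⟶ B, b ∈ rangePts u ↔ IsUnipPt b := by
  obtain ⟨haffU, hlU, -, -, -⟩ := sub_props iU
  haveI := haffU
  haveI := hlU
  haveI : IsReduced U.left := isReduced_of_smooth_field U.hom
  haveI : Group.IsNilpotent (PT ⟶ U) := isNilpotent_pts (isUnipPt_of_hasNoSubtorus nU)
  obtain ⟨n, hn⟩ := (inferInstance : Group.IsSolvable (PT ⟶ U)).solvable
  obtain ⟨B, _, iB, hmB, hB, hle⟩ := exists_borel_containing iU (AGFLib.ProperSpace.isSolvableGrp_of_pts n hn)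
  obtain ⟨-, hcl, hsm, hconn, hsolv, -⟩ := id hB
  haveI := hmB
  haveI := hcl
  haveI := hsm
  haveI := hconn
  obtain ⟨haffB, hlB, -, hmonoB, hevB⟩ := sub_props iB
  haveI := haffB
  haveI := hlB
  haveI := hmonoB
  haveI : IsReduced B.left := isReduced_of_smooth_field B.hom
  obtain ⟨D, _, i, hi, hci, hsD, hcD, haD, hnorm, hD⟩ := exists_unipRad hsolv
  haveI := hi
  haveI := hci
  haveI := hsD
  haveI := hcD
  haveI := haD
  obtain ⟨-, hlD, -, -, hevD⟩ := sub_props i
  haveI := hlD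
  haveI : IsReduced D.left := isReduced_of_smooth_field D.hom
  obtain ⟨u, hu, hui⟩ := exists_fac_sub iB iU hle
  haveI := hu
  haveI : IsReduced U.left := isReduced_of_smooth_field U.hom
  obtain ⟨f, hf, hfi⟩ := exists_fac_sub i u (by
    rintro _ ⟨x, rfl⟩
    exact (hD _).mpr ((map_isSsPt_isUnipPt u x).2 (isUnipPt_of_hasNoSubtorus nU x)))
  haveI : IsClosedImmersion (i ≫ iB).left := inferInstanceAs (IsClosedImmersion (i.left ≫ iB.left))
  haveI : IsIso f := maxU D (i ≫ iB) f inferInstance inferInstance inferInstance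
    (hasNoSubtorus_of_isUnipPt fun x => IsUnipPt.map i hevD ((hD _).mp ⟨x, rfl⟩))
    (by rw [← Category.assoc, hfi, hui])
  haveI : IsIso f.left := ((Over.forget _).mapIso (asIso f)).isIso_hom
  have heq : rangePts u = rangePts i := by
    refine le_antisymm ?_ ?_
    · rintro _ ⟨x, rfl⟩
      exact ⟨x ≫ f, (Category.assoc x f i).trans (congrArg (x ≫ ·) hfi)⟩
    · rintro _ ⟨x, rfl⟩
      refine ⟨x ≫ inv f, ?_⟩
      show (x ≫ inv f) ≫ u = x ≫ i
      rw [← hfi, Category.assoc, IsIso.inv_hom_id_assoc]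
  refine ⟨B, inferInstance, iB, hmB, hB, u, hu, hui, ?_, heq ▸ hnorm, fun b => heq ▸ hD b⟩
  rw [← hfi]
  exact inferInstanceAs (IsClosedImmersion (f.left ≫ i.left))

/-- A maximal connected subgroup without subtori is the unipotent radical of a Borel subgroup. -/
theorem isUnipotentRadical_of_pts {U B : Over (Spec (CommRingCat.of k))} [GrpObj U] [GrpObj B] [IsAffine B.left]
    [Smooth B.hom] [Smooth U.hom] [ConnectedSpace U.left] (nU : Red.HasNoSubtorus k U) (u : U ⟶ B) [IsMonHom u]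
    [IsClosedImmersion u.left] (hn : (rangePts u).Normal) (h : ∀ b : PT ⟶ B, IsUnipPt b → b ∈ rangePts u) :
    Par.IsUnipotentRadical u := by
  obtain ⟨-, hlU, hqU, -, -⟩ := sub_props u
  haveI := hlU
  have hnor : AlgGrp.IsNormalHom u := isNormalHom_of_pts u hn
  unfold Par.IsUnipotentRadical
  refine ⟨‹IsMonHom u›, ?_⟩
  refine ⟨‹IsClosedImmersion u.left›, ?_⟩
  refine ⟨hnor, ?_⟩
  refine ⟨‹Smooth U.hom›, ?_⟩
  refine ⟨hqU, ?_⟩
  constructor
  · intro s
    constructor
    · exact (geomFibre_props nU s).1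
    · exact (geomFibre_props nU s).2
  intro U' _ u' _ hcu' _ hsU' _ hU'
  haveI := hcu'
  haveI := hsU'
  haveI : IsReduced B.left := isReduced_of_smooth_field B.hom
  haveI : IsReduced U'.left := isReduced_of_smooth_field U'.hom
  obtain ⟨haU', -, -, -, -⟩ := sub_props u'
  haveI := haU'
  obtain ⟨hc', hn'⟩ := hU' (IsLocalRing.closedPoint k)
  haveI : ConnectedSpace U'.left := connectedSpace_of_geomFibre _ hc'
  obtain ⟨f, -, hf⟩ := exists_fac_sub u u' (by
    rintro _ ⟨x, rfl⟩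
    exact h _ ((map_isSsPt_isUnipPt u' x).2 (isUnipPt_of_hasNoSubtorus (hasNoSubtorus_of_geomFibre _ hn') x)))
  exact ⟨f, hf⟩

/-- The points of a subgroup given as the unipotent points of a Borel subgroup. -/
theorem mem_rangePts_maxUnip {U B : Over (Spec (CommRingCat.of k))} [GrpObj U] [GrpObj B] (iU : U ⟶ G) [IsMonHom iU]
    (iB : B ⟶ G) [IsMonHom iB] [IsClosedImmersion iB.left] [Smooth B.hom] (u : U ⟶ B) [IsMonHom u] (hui : u ≫ iB = iU)
    (h : ∀ b : PT ⟶ B, b ∈ rangePts u ↔ IsUnipPt b) (g : PT ⟶ G) :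
    g ∈ rangePts iU ↔ g ∈ rangePts iB ∧ IsUnipPt g := by
  obtain ⟨haffB, hlB, -, -, hevB⟩ := sub_props iB
  haveI := haffB
  haveI := hlB
  haveI : IsReduced B.left := isReduced_of_smooth_field B.hom
  haveI : IsReduced G.left := isReduced_of_smooth_field G.hom
  constructor
  · rintro ⟨x, rfl⟩
    show x ≫ iU ∈ rangePts iB ∧ IsUnipPt (x ≫ iU)
    rw [← hui, ← Category.assoc]
    exact ⟨⟨x ≫ u, rfl⟩, (map_isSsPt_isUnipPt iB (x ≫ u)).2 ((h _).mp ⟨x, rfl⟩)⟩
  · rintro ⟨⟨b, rfl⟩, hb⟩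
    obtain ⟨x, hx⟩ := (h b).mpr (IsUnipPt.map iB hevB hb)
    refine ⟨x, ?_⟩
    show x ≫ iU = b ≫ iB
    rw [← hui, ← Category.assoc, show x ≫ u = b from hx]

/-- Maximal connected subgroups without subtori are conjugate. -/
theorem maxUnip_conj {U U' B B' : Over (Spec (CommRingCat.of k))} [GrpObj U] [GrpObj U'] [GrpObj B] [GrpObj B']
    [Smooth U.hom] [Smooth U'.hom] (iU : U ⟶ G) (iU' : U' ⟶ G) [IsMonHom iU] [IsMonHom iU']
    [IsClosedImmersion iU.left] [IsClosedImmersion iU'.left] (iB : B ⟶ G) (iB' : B' ⟶ G) [IsMonHom iB] [IsMonHom iB']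
    (hB : Red.IsBorelOver k iB) (hB' : Red.IsBorelOver k iB')
    (h : ∀ g, g ∈ rangePts iU ↔ g ∈ rangePts iB ∧ IsUnipPt g)
    (h' : ∀ g, g ∈ rangePts iU' ↔ g ∈ rangePts iB' ∧ IsUnipPt g) :
    ∃ (g : PT ⟶ G) (e : U ≅ U'), e.hom ≫ iU' = AGF.conjBy g iU := by
  obtain ⟨g, φ, hφ⟩ := AGFLib.Borel.conjugate iB iB' hB hB'
  haveI : IsMonHom (AGF.conjBy g iU) := by rw [AGFLib.Borel.conjBy_eq]; infer_instance
  haveI : IsMonHom (AGF.conjBy g iB) := by rw [AGFLib.Borel.conjBy_eq]; infer_instance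
  haveI : IsClosedImmersion (AGF.conjBy g iU).left := by
    rw [AGFLib.Borel.conjBy_eq]
    exact inferInstanceAs (IsClosedImmersion (iU.left ≫ (AGFLib.Borel.conjM g).left))
  obtain ⟨-, hlU, -, -, -⟩ := sub_props iU
  obtain ⟨-, hlU', -, -, -⟩ := sub_props iU'
  haveI := hlU
  haveI := hlU'
  have hB2 : ∀ x, x ∈ rangePts iB' ↔ g⁻¹ * x * g ∈ rangePts iB := fun x => by
    rw [← rangePts_conjBy g iB]
    constructor
    · rintro ⟨y, rfl⟩
      exact ⟨y ≫ φ.inv, by show (y ≫ φ.inv) ≫ AGF.conjBy g iB = y ≫ iB'; rw [← hφ, Category.assoc, Iso.inv_hom_id_assoc]⟩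
    · rintro ⟨y, rfl⟩
      exact ⟨y ≫ φ.hom, by show (y ≫ φ.hom) ≫ iB' = y ≫ AGF.conjBy g iB; rw [Category.assoc, hφ]⟩
  have heq : rangePts (AGF.conjBy g iU) = rangePts iU' := SetLike.ext fun x => by
    rw [rangePts_conjBy, h, h', hB2]
    refine and_congr_right fun _ => ⟨fun hu => ?_, fun hu => ?_⟩
    · have := hu.conj g; simpa [_root_.mul_assoc] using this
    · have := hu.conj g⁻¹; simpa [_root_.mul_assoc] using this
  obtain ⟨a, -, ha⟩ := exists_fac_sub iU' (AGF.conjBy g iU) heq.le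
  obtain ⟨b, -, hb⟩ := exists_fac_sub (AGF.conjBy g iU) iU' heq.ge
  haveI : Mono iU' := mono_of_closedImmersion iU'
  haveI : Mono (AGF.conjBy g iU) := mono_of_closedImmersion _
  exact ⟨g, ⟨a, b, by rw [← cancel_mono (AGF.conjBy g iU), Category.assoc, hb, ha, Category.id_comp],
    by rw [← cancel_mono iU', Category.assoc, ha, hb, Category.id_comp]⟩, ha⟩

end Groth.Agent.SolvGrp
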