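import Groth.Agent.SolvGrp.Crit
import Groth.Agent.AGFLib.Semi

/-! Elementary facts on smooth closed subgroups and on commutative groups given by their points. -/

set_option backward.isDefEq.respectTransparency false
set_option backward.isDefEq.respectTransparency.types false
set_option linter.style.haveILetI false

universe u

open CategoryTheory MonoidalCategory CartesianMonoidalCategory MonObj AlgebraicGeometry

namespace Groth.Agent.SolvGrp

open GrpSchLib GrpSchLib.Kunneth GrpSchLib.LineGroups WeilCmp.Unip AGFLib AGFLib.Gen AGFLib.BorelFixed AGFLib.BorelExist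

variable {k : Type u} [Field k] [IsAlgClosed k]

local notation "PT" => 𝟙_ (Over (Spec (CommRingCat.of k)))

variable {G H : Over (Spec (CommRingCat.of k))}

/-- A closed subscheme of an affine finite type scheme is one. -/
theorem sub_props [IsAffine G.left] [LocallyOfFiniteType G.hom] (i : H ⟶ G) [IsClosedImmersion i.left] :
    IsAffine H.left ∧ LocallyOfFiniteType H.hom ∧ QuasiCompact H.hom ∧ Mono i ∧ Function.Surjective (ev i) := by
  haveI : IsAffine H.left := isAffine_of_isAffineHom i.left
  haveI : LocallyOfFiniteType H.hom := by rw [← Over.w i]; infer_instance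
  haveI : QuasiCompact H.hom := by rw [← Over.w i]; infer_instance
  exact ⟨inferInstance, inferInstance, inferInstance, mono_of_closedImmersion i,
    (IsClosedImmersion.isAffine_surjective_of_isAffine i.left).2⟩

variable [GrpObj G] [GrpObj H]

theorem mem_rangePts {i : H ⟶ G} [IsMonHom i] {g : PT ⟶ G} : g ∈ rangePts i ↔ ∃ h : PT ⟶ H, h ≫ i = g := Iff.rfl

theorem rangePts_comp {K : Over (Spec (CommRingCat.of k))} [GrpObj K] (i : H ⟶ G) [IsMonHom i] (j : K ⟶ H)
    [IsMonHom j] : rangePts (j ≫ i) ≤ rangePts i := by
  rintro _ ⟨x, rfl⟩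
  exact ⟨x ≫ j, Category.assoc _ _ _⟩

theorem ptsClosed_map {K : Over (Spec (CommRingCat.of k))} [LocallyOfFiniteType G.hom] [QuasiCompact G.hom]
    [GrpObj K] [LocallyOfFiniteType K.hom] [QuasiCompact K.hom] (f : K ⟶ G) [IsMonHom f] :
    PtsClosed (Set.range fun x : PT ⟶ K => x ≫ f) := ptsClosed_range f

/-- A smooth subgroup with smaller points factors. -/
theorem exists_fac_sub {K : Over (Spec (CommRingCat.of k))} [GrpObj K] [Smooth K.hom] [LocallyOfFiniteType H.hom]
    (i : H ⟶ G) [IsMonHom i] [IsClosedImmersion i.left] (j : K ⟶ G) [IsMonHom j] (h : rangePts j ≤ rangePts i) :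
    ∃ f : K ⟶ H, IsMonHom f ∧ f ≫ i = j := by
  haveI : IsReduced K.left := isReduced_of_smooth_field K.hom
  obtain ⟨f, hf⟩ := exists_lift_pts i j fun x => h ⟨x, rfl⟩
  haveI := mono_of_closedImmersion i
  refine ⟨f, AGFLib.isMonHom_of_mul f fun T a b => ?_, hf⟩
  rw [← cancel_mono i, Category.assoc, hf, MonObj.mul_comp, MonObj.mul_comp, Category.assoc, Category.assoc, hf]

/-- A smooth affine group with commuting points is commutative. -/
theorem mul_comm_of_pts [IsAffine G.left] [Smooth G.hom] (h : ∀ a b : PT ⟶ G, Commute a b)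
    {T : Over (Spec (CommRingCat.of k))} (a b : T ⟶ G) : a * b = b * a := by
  haveI : IsReduced G.left := isReduced_of_smooth_field G.hom
  haveI : IsReduced (G ⊗ G).left := GrpSchLib.isReduced_pullback_of_perfectField G.hom G.hom
  haveI : LocallyOfFiniteType (G ⊗ G).hom :=
    inferInstanceAs (LocallyOfFiniteType (Limits.pullback.fst G.hom G.hom ≫ G.hom))
  haveI := GrpSchLib.AntiAffine.isSeparated_grp G
  have key : (fst G G) * (snd G G) = (snd G G) * (fst G G) := hom_ext_pts fun x => by
    rw [MonObj.comp_mul, MonObj.comp_mul]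
    exact h _ _
  have := congrArg (lift a b ≫ ·) key
  simpa [MonObj.comp_mul] using this

end Groth.Agent.SolvGrp
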