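import Groth.Agent.SolvGrp.Weights
import Groth.Agent.SolvGrp.Radical

/-! The connected centraliser of a maximal torus is nilpotent. -/

set_option backward.isDefEq.respectTransparency false
set_option backward.isDefEq.respectTransparency.types false
set_option linter.style.haveILetI false

universe u

open CategoryTheory MonoidalCategory CartesianMonoidalCategory MonObj AlgebraicGeometry

namespace Groth.Agent.SolvGrp

open GrpSchLib GrpSchLib.Kunneth GrpSchLib.LineGroups WeilCmp.Unip AGFLib AGFLib.Gen AGFLib.BorelFixed AGFLib.BorelExist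

variable {k : Type u} [Field k] [IsAlgClosed k]

local notation "PT" => 𝟙_ (Over (Spec (CommRingCat.of k)))

variable {G : Over (Spec (CommRingCat.of k))} [GrpObj G]

/-- A connected subgroup covered by finitely many cosets of a closed subgroup lies in it. -/
theorem rangePts_le_of_finite {E : Over (Spec (CommRingCat.of k))} [GrpObj E] [IsAffine E.left] [Smooth E.hom]
    [ConnectedSpace E.left] (e : E ⟶ G) [IsMonHom e] (Γ : Subgroup (PT ⟶ G)) (hΓ : PtsClosed (Γ : Set (PT ⟶ G)))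
    (S : Set (PT ⟶ G)) (hS : S.Finite) (hcov : ∀ x ∈ rangePts e, ∃ s ∈ S, s⁻¹ * x ∈ Γ) : rangePts e ≤ Γ := by
  classical
  let Δ : Subgroup (PT ⟶ E) := Γ.comap (ptsHom e)
  let pick : (PT ⟶ G) → (PT ⟶ E) := fun s => if h : ∃ x : PT ⟶ E, s⁻¹ * (x ≫ e) ∈ Γ then h.choose else 1
  have htop : Δ = ⊤ := by
    refine eq_top_of_finite Δ (hΓ.preimage e) (pick '' S) (hS.image _) fun x => ?_
    obtain ⟨s, hs, hx⟩ := hcov _ ⟨x, rfl⟩
    have hex : ∃ x : PT ⟶ E, s⁻¹ * (x ≫ e) ∈ Γ := ⟨x, hx⟩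
    refine ⟨pick s, ⟨s, hs, rfl⟩, ?_⟩
    have hp : s⁻¹ * (pick s ≫ e) ∈ Γ := by
      simp only [pick, dif_pos hex]
      exact hex.choose_spec
    show ((pick s)⁻¹ * x) ≫ e ∈ Γ
    have h2 := mul_mem (inv_mem hp) hx
    simpa [MonObj.mul_comp, GrpObj.inv_comp, _root_.mul_assoc] using h2
  rintro _ ⟨x, rfl⟩
  exact (htop ▸ Subgroup.mem_top x : x ∈ Δ)

variable [IsAffine G.left] [Smooth G.hom] [ConnectedSpace G.left]

/-- A connected group with a central maximal torus is nilpotent, and its points are points of the torus times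
unipotent ones. -/
theorem nilpotent_of_central {T : Over (Spec (CommRingCat.of k))} [GrpObj T] (iT : T ⟶ G) [IsMonHom iT]
    (hT : AGF.IsMaxTorus iT) (hc : ∀ (g : PT ⟶ G) (s : PT ⟶ T), Commute g (s ≫ iT)) :
    Group.IsNilpotent (PT ⟶ G) ∧ ∀ g : PT ⟶ G, ∃ t ∈ rangePts iT, IsUnipPt (t⁻¹ * g) := by
  haveI : IsReduced G.left := isReduced_of_smooth_field G.hom
  haveI := hT.2.1
  obtain ⟨B, _, iB, tB, hB, htB⟩ := exists_borel_maxTorus iT hT
  obtain ⟨hmB, hcl, hsm, hconn, hsolv, -⟩ := id hB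
  haveI := hmB
  haveI := hcl
  haveI := hsm
  haveI := hconn
  obtain ⟨haffB, hlB, -, hmonoB, hevB⟩ := sub_props iB
  haveI := haffB
  haveI := hlB
  haveI := hmonoB
  haveI : IsReduced B.left := isReduced_of_smooth_field B.hom
  haveI : IsMonHom tB := AGFLib.BorelImage.isMonHom_of_comp tB iB iT htB
  have hle : rangePts iT ≤ rangePts iB := by
    rintro _ ⟨x, rfl⟩
    exact ⟨x ≫ tB, (Category.assoc x tB iB).trans (congrArg (x ≫ ·) htB)⟩
  obtain ⟨U, _, i, hi, hci, hsU, hcU, haU, -, hU⟩ := exists_unipRad hsolv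
  haveI := hi
  haveI := hci
  haveI := hsU
  haveI := haU
  obtain ⟨-, hlU, -, -, hevU⟩ := sub_props i
  haveI := hlU
  haveI : IsReduced U.left := isReduced_of_smooth_field U.hom
  haveI : Group.IsNilpotent (PT ⟶ U) := isNilpotent_pts fun x => IsUnipPt.map i hevU ((hU _).mp ⟨x, rfl⟩)
  haveI : Group.IsNilpotent (PT ⟶ T) := by
    refine ⟨⟨1, eq_top_iff.mpr fun x _ => ?_⟩⟩
    rw [Subgroup.upperCentralSeries_one, Subgroup.mem_center_iff]
    exact fun y => (torus_commute hT.2.2.1 y x).eq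
  have hcB : ∀ (s : PT ⟶ T) (b : PT ⟶ B), Commute b (s ≫ tB) := fun s b => (cancel_mono iB).mp (by
    rw [MonObj.mul_comp, MonObj.mul_comp, Category.assoc, htB, (hc (b ≫ iB) s).eq])
  let Ψ : (PT ⟶ T) × (PT ⟶ U) →* (PT ⟶ B) :=
    MonoidHom.noncommCoprod (ptsHom tB) (ptsHom i) fun s u => ((hcB s (u ≫ i)).symm)
  have hΨ : Function.Surjective Ψ := fun b => by
    obtain ⟨_, ⟨s, rfl⟩, hu⟩ := maxTorus_complement iB iT hB hT hle (b := b ≫ iB) ⟨b, rfl⟩
    have hu' : IsUnipPt ((s ≫ tB)⁻¹ * b) := by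
      refine IsUnipPt.map iB hevB ?_
      rw [MonObj.mul_comp, GrpObj.inv_comp, Category.assoc, htB]
      exact hu
    obtain ⟨u, hu⟩ := (hU _).mpr hu'
    refine ⟨(s, u), ?_⟩
    show (s ≫ tB) * (u ≫ i) = b
    rw [show u ≫ i = (s ≫ tB)⁻¹ * b from hu, mul_inv_cancel_left]
  haveI : Group.IsNilpotent (PT ⟶ B) := nilpotent_of_surjective Ψ hΨ
  obtain ⟨c, hcc⟩ := Subgroup.nilpotent_iff_lowerCentralSeries.mp (inferInstance : Group.IsNilpotent (PT ⟶ B))
  have htop := borel_unip_eq_top c G B iB hB (by simpa using hcc)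
  refine ⟨?_, fun g => maxTorus_complement iB iT hB hT hle (htop ▸ Subgroup.mem_top g)⟩
  exact nilpotent_of_surjective (ptsHom iB) fun g => by
    obtain ⟨b, hb⟩ : g ∈ rangePts iB := htop ▸ Subgroup.mem_top g
    exact ⟨b, hb⟩

/-- The connected centraliser of a maximal torus. -/
theorem exists_cartan {T : Over (Spec (CommRingCat.of k))} [GrpObj T] (iT : T ⟶ G) [IsMonHom iT]
    (hT : AGF.IsMaxTorus iT) :
    ∃ (C : Over (Spec (CommRingCat.of k))) (_ : GrpObj C) (i : C ⟶ G) (_ : IsMonHom i),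
      IsClosedImmersion i.left ∧ Smooth C.hom ∧ ConnectedSpace C.left ∧ IsAffine C.left ∧
      rangePts iT ≤ rangePts i ∧ (∀ g ∈ rangePts i, ∀ s ∈ rangePts iT, Commute g s) ∧
      Group.IsNilpotent (PT ⟶ C) ∧ (∀ g ∈ rangePts i, ∃ t ∈ rangePts iT, IsUnipPt (t⁻¹ * g)) ∧
      ∃ R : Set (PT ⟶ G), R.Finite ∧
        ∀ g : PT ⟶ G, (∀ s ∈ rangePts iT, Commute g s) → ∃ r ∈ R, r⁻¹ * g ∈ rangePts i := by
  haveI : IsReduced G.left := isReduced_of_smooth_field G.hom
  haveI := hT.2.1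
  obtain ⟨haffT, hsmT, hconnT, -⟩ := torus_props hT.2.2.1
  haveI := haffT
  haveI := hsmT
  haveI := hconnT
  obtain ⟨t₀, ht₀⟩ := exists_generic iT hT.2.2.1
  let Γ : Subgroup (PT ⟶ G) :=
    { carrier := {g | g * (t₀ ≫ iT) = (t₀ ≫ iT) * g}
      one_mem' := by simp
      mul_mem' := fun {a b} ha hb =>
        (Commute.mul_left (show Commute a _ from ha) (show Commute b _ from hb)).eq
      inv_mem' := fun {a} ha => ((show Commute a _ from ha).inv_left).eq }
  have hΓ : ∀ g ∈ Γ, ∀ s ∈ rangePts iT, Commute g s := by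
    rintro g hg _ ⟨s, rfl⟩
    exact ht₀ g hg s
  have hΓ' : ∀ g, (∀ s ∈ rangePts iT, Commute g s) → g ∈ Γ := fun g h => (h _ ⟨t₀, rfl⟩).eq
  obtain ⟨C, _, i, hi, hci, hsC, hcC, haC, hle, R, hRf, -, hcov⟩ := exists_connSub Γ (ptsClosed_centralizer (t₀ ≫ iT))
  haveI := hi
  haveI := hci
  haveI := hsC
  haveI := hcC
  haveI := haC
  obtain ⟨-, hlC, hqC, hmono, hev⟩ := sub_props i
  haveI := hlC
  haveI := hqC
  haveI := hmono
  haveI : IsReduced C.left := isReduced_of_smooth_field C.hom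
  have hTC : rangePts iT ≤ rangePts i := rangePts_le_of_finite iT _ (ptsClosed_range i) R hRf (by
    rintro _ ⟨x, rfl⟩
    exact hcov _ (hΓ' _ (by
      rintro _ ⟨s, rfl⟩
      show Commute (x ≫ iT) (s ≫ iT)
      rw [Commute, SemiconjBy, ← MonObj.mul_comp, ← MonObj.mul_comp, (torus_commute hT.2.2.1 x s).eq])))
  obtain ⟨f, hf, hfi⟩ := exists_fac_sub i iT hTC
  haveI := hf
  haveI : Mono (f ≫ i) := hfi ▸ inferInstance
  haveI : Mono f := mono_of_mono f i
  have hmax : AGF.IsMaxTorus f := by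
    refine ⟨hf, inferInstance, hT.2.2.1, fun T' _ j _ _ φ hT' hφ => ?_⟩
    haveI : Mono (j ≫ i) := mono_comp j i
    exact hT.2.2.2 T' (j ≫ i) φ hT' (by rw [← Category.assoc, hφ, hfi])
  obtain ⟨hnil, hdec⟩ := nilpotent_of_central f hmax fun g s => (cancel_mono i).mp (by
    rw [MonObj.mul_comp, MonObj.mul_comp, Category.assoc, hfi, (hΓ _ (hle ⟨g, rfl⟩) _ ⟨s, rfl⟩).eq])
  refine ⟨C, inferInstance, i, hi, hci, hsC, hcC, haC, hTC, fun g hg => hΓ g (hle hg), hnil, ?_, R, hRf,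
    fun g hg => hcov g (hΓ' g hg)⟩
  rintro _ ⟨x, rfl⟩
  obtain ⟨_, ⟨s, rfl⟩, hu⟩ := hdec x
  refine ⟨s ≫ iT, ⟨s, rfl⟩, ?_⟩
  have := (map_isSsPt_isUnipPt i _).2 hu
  rwa [MonObj.mul_comp, GrpObj.inv_comp, Category.assoc, hfi] at this

/-- The semisimple points of the connected centraliser of a maximal torus lie in the torus. -/
theorem mem_torus_of_ss {T C : Over (Spec (CommRingCat.of k))} [GrpObj T] [GrpObj C] (iT : T ⟶ G) [IsMonHom iT]
    (hT : Red.IsTorus T) (i : C ⟶ G) [IsMonHom i] (hc : ∀ g ∈ rangePts i, ∀ s ∈ rangePts iT, Commute g s)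
    (hd : ∀ g ∈ rangePts i, ∃ t ∈ rangePts iT, IsUnipPt (t⁻¹ * g)) {g : PT ⟶ G} (hg : g ∈ rangePts i)
    (hs : IsSsPt g) : g ∈ rangePts iT := by
  haveI : IsReduced G.left := isReduced_of_smooth_field G.hom
  obtain ⟨t, ht, hu⟩ := hd g hg
  obtain ⟨x, hx⟩ := id ht
  have hts : IsSsPt t := (show x ≫ iT = t from hx) ▸ isSsPt_of_torus hT iT x
  have h1 := eq_one_of_isSsPt_isUnipPt (hts.inv.mul hs ((hc g hg t ht).symm.inv_left)) hu
  rwa [← inv_mul_eq_one.mp h1]

end Groth.Agent.SolvGrp
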