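import Groth.Agent.SolvGrp.BorelNorm
import Groth.Agent.S5257
import Groth.Agent.S5260
import Mathlib.AlgebraicGeometry.Sites.Fpqc

/-! Borel subgroups are their own normalisers, scheme-theoretically. -/

set_option backward.isDefEq.respectTransparency false
set_option backward.isDefEq.respectTransparency.types false
set_option linter.style.haveILetI false

universe u

open CategoryTheory MonoidalCategory CartesianMonoidalCategory MonObj AlgebraicGeometry
open Groth.Agent.AVTors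

namespace Groth.Agent.SolvGrp

open GrpSchLib GrpSchLib.Kunneth GrpSchLib.LineGroups WeilCmp.Unip AGFLib AGFLib.Gen AGFLib.BorelFixed AGFLib.BorelExist

variable {k : Type u} [Field k] [IsAlgClosed k]

local notation "PT" => 𝟙_ (Over (Spec (CommRingCat.of k)))

/-- The normaliser of a smooth subgroup with the rational points of the subgroup is contained in it, once the subgroup
contains the centraliser of one of its tori. -/
theorem exists_fac_normalizer_of {G B N T C : Over (Spec (CommRingCat.of k))} [GrpObj G] [GrpObj B] [GrpObj N]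
    [GrpObj T] [GrpObj C] [IsAffine G.left] [Smooth G.hom] (iB : B ⟶ G) [IsMonHom iB] [IsClosedImmersion iB.left]
    [Smooth B.hom] (i : T ⟶ B) [IsMonHom i] (hT : Red.IsTorus T) (c : C ⟶ G)
    (hc : Red.IsCentralizerOf (i ≫ iB) c) (fC : C ⟶ B) (hfC : fC ≫ iB = c) (n : N ⟶ G)
    (hn : Red.IsNormalizerOf iB n) (hcn : IsClosedImmersion n.left)
    (hpts : ∀ p : PT ⟶ N, p ≫ n ∈ rangePts iB) :
    ∃ f : N ⟶ B, f ≫ iB = n := by
  haveI := hn.1
  haveI := hn.2.1
  haveI := hc.1
  haveI := hcn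
  obtain ⟨haB, hlB, hqB, hmonoB, -⟩ := sub_props iB
  haveI := haB
  haveI := hlB
  haveI := hmonoB
  obtain ⟨haN, hlN, hqN, -, -⟩ := sub_props n
  haveI := haN
  haveI := hlN
  haveI : IsMonHom (i ≫ iB) := inferInstance
  -- everything over the normaliser
  let σ : N.left ⟶ Spec (CommRingCat.of k) := N.hom
  let F := Over.pullback σ
  haveI : F.IsRightAdjoint := (Over.mapPullbackAdj σ).isRightAdjoint
  let P : Over N.left := 𝟙_ (Over N.left)
  let eN : (Over.map σ).obj P ≅ N := Over.isoMk (Iso.refl N.left) (by simp; rfl)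
  let g' : P ⟶ F.obj G := bcPts σ P G (eN.hom ≫ n)
  have hcond : ∀ (X' : Over N.left) (x : X' ⟶ P) (h : X' ⟶ F.obj B),
      (∃ h' : X' ⟶ F.obj B, (x ≫ g') * (h ≫ F.map iB) * (x ≫ g')⁻¹ = h' ≫ F.map iB) ∧
      (∃ h' : X' ⟶ F.obj B, (x ≫ g')⁻¹ * (h ≫ F.map iB) * (x ≫ g') = h' ≫ F.map iB) :=
    ((isNormalizerOf_bc σ iB n hn).2.2 P g').mp ⟨bcPts σ P N eN.hom, (bcPts_comp σ eN.hom n).symm⟩
  haveI : IsMonHom (AGF.conjBy g' (F.map (i ≫ iB))) := AGFLib.isMonHom_of_mul _ fun X a b => by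
    simp only [AGF.conjBy, MonObj.comp_mul, GrpObj.comp_inv, ← Category.assoc,
      toUnit_unique ((a * b) ≫ toUnit _) (toUnit X), toUnit_unique (a ≫ toUnit _) (toUnit X),
      toUnit_unique (b ≫ toUnit _) (toUnit X), MonObj.mul_comp a b (F.map (i ≫ iB))]
    group
  haveI : Mono (F.map iB) := inferInstance
  obtain ⟨u, hu⟩ : ∃ u : F.obj T ⟶ F.obj B, u ≫ F.map iB = AGF.conjBy g' (F.map (i ≫ iB)) := by
    obtain ⟨⟨h', hh'⟩, -⟩ := hcond (F.obj T) (toUnit _) (F.map i)
    refine ⟨h', hh'.symm.trans ?_⟩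
    simp only [AGF.conjBy, Functor.map_comp]
  haveI : IsMonHom u := AGFLib.isMonHom_of_mul u fun X a b => by
    rw [← cancel_mono (F.map iB), Category.assoc, hu, MonObj.mul_comp, MonObj.mul_comp, Category.assoc,
      Category.assoc, hu]
  haveI : IsAffineHom B.hom := isAffineHom_of_isAffine B.hom
  haveI : IsAffineHom (F.obj B).hom := inferInstanceAs (IsAffineHom (Limits.pullback.snd B.hom σ))
  haveI : Smooth (F.obj B).hom := inferInstanceAs (Smooth (Limits.pullback.snd B.hom σ))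
  obtain ⟨Tr, j, hj, hsTr, hTr⟩ := Groth.Agent.S5257.result (F.obj T) (F.obj B)
    (TorusQI.isMultTypeFT_of_isTorus (isTorus_bc σ hT)) inferInstance inferInstance (F.map i) u
  haveI := hj
  haveI := hsTr
  haveI : IsAffineHom Tr.hom := by rw [← Over.w j]; infer_instance
  -- the transporter covers the normaliser
  haveI : Surjective Tr.hom := ⟨fun x => by
    by_contra hx
    have hne : ((Set.range Tr.hom)ᶜ : Set N.left).Nonempty := ⟨x, fun ⟨t, ht⟩ => hx ⟨t, ht⟩⟩
    haveI : JacobsonSpace N.left := LocallyOfFiniteType.jacobsonSpace N.hom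
    haveI : LocallyOfFinitePresentation Tr.hom := inferInstance
    obtain ⟨q, hq, hqc⟩ := nonempty_inter_closedPoints hne Tr.hom.isOpenMap.isOpen_range.isClosed_compl.isLocallyClosed
    obtain ⟨p, rfl⟩ := exists_cp hqc
    obtain ⟨b, hb⟩ := hpts p
    change b ≫ iB = p ≫ n at hb
    let Y : Over N.left := Over.mk p.left
    let eY : (Over.map σ).obj Y ≅ PT := Over.isoMk (Iso.refl _) (by simp; exact (Over.w p).symm)
    let b' : Y ⟶ F.obj B := bcPts σ Y B (eY.hom ≫ b)
    have hb' : b' ≫ F.map iB = toUnit Y ≫ g' := by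
      rw [← bcPts_comp σ (eY.hom ≫ b) iB, Category.assoc, hb, ← bcPts_comp_left σ (toUnit Y) (eN.hom ≫ n)]
      congr 1
    obtain ⟨t, ht⟩ := (hTr Y b').mpr fun X' x h => (cancel_mono (F.map iB)).mp (by
      rw [MonObj.mul_comp, MonObj.mul_comp, GrpObj.inv_comp, Category.assoc, hb', Category.assoc h u, hu,
        Category.assoc h (F.map i), ← Functor.map_comp, ← Category.assoc x, toUnit_unique (x ≫ toUnit Y) (toUnit X'),
        AGF.conjBy, MonObj.comp_mul, MonObj.comp_mul, GrpObj.comp_inv, ← Category.assoc h,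
        toUnit_unique (h ≫ toUnit _) (toUnit X')])
    exact hq ⟨t.left (IsLocalRing.closedPoint k),
      congrArg (fun m : Y.left ⟶ N.left => m (IsLocalRing.closedPoint k)) (Over.w t)⟩⟩
  -- over the transporter the normalising point lies in the Borel subgroup
  have hj' := (hTr Tr j).mp ⟨𝟙 Tr, Category.id_comp j⟩
  obtain ⟨z, hz⟩ := ((isCentralizerOf_bc σ (i ≫ iB) c hc).2.2 Tr ((j ≫ F.map iB)⁻¹ * (toUnit Tr ≫ g'))).mpr
    fun X' x h => by
      have h1 := congrArg (· ≫ F.map iB) (hj' X' x h)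
      simp only [MonObj.mul_comp, GrpObj.inv_comp, Category.assoc, hu, AGF.conjBy, MonObj.comp_mul, GrpObj.comp_inv,
        ← Functor.map_comp] at h1
      rw [← Category.assoc h (toUnit _) g', toUnit_unique (h ≫ toUnit _) (toUnit X')] at h1
      show (x ≫ _) * (h ≫ F.map (i ≫ iB)) = (h ≫ F.map (i ≫ iB)) * (x ≫ _)
      rw [MonObj.comp_mul, GrpObj.comp_inv, ← Category.assoc x (toUnit Tr), toUnit_unique (x ≫ toUnit Tr) (toUnit X')]
      generalize x ≫ j ≫ F.map iB = A at h1 ⊢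
      generalize h ≫ F.map (i ≫ iB) = H at h1 ⊢
      generalize toUnit X' ≫ g' = g₁ at h1 ⊢
      have h2 := congrArg (fun e => A⁻¹ * e * g₁) h1
      simpa [_root_.mul_assoc] using h2.symm
  have hkey : (j * (z ≫ F.map fC)) ≫ F.map iB = toUnit Tr ≫ g' := by
    rw [MonObj.mul_comp, Category.assoc, ← Functor.map_comp, hfC, hz, mul_inv_cancel_left]
  obtain ⟨w, hw⟩ := (bcPts σ Tr B).surjective (j * (z ≫ F.map fC))
  rw [← hw, ← bcPts_comp σ w iB, ← bcPts_comp_left σ (toUnit Tr) (eN.hom ≫ n)] at hkey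
  have hsq := congrArg Over.Hom.left ((bcPts σ Tr G).injective hkey)
  haveI : Mono iB.left := inferInstance
  haveI : EffectiveEpi Tr.hom := inferInstance
  haveI : StrongEpi Tr.hom := inferInstance
  have sq : CommSq w.left Tr.hom iB.left n.left := ⟨by
    refine (Over.comp_left _ _ _ w iB).symm.trans ?_
    rw [hsq]
    simp [eN, P]⟩
  exact ⟨Over.homMk sq.lift ((congrArg (sq.lift ≫ ·) (Over.w iB).symm).trans ((Category.assoc _ _ _).symm.trans
    ((congrArg (· ≫ G.hom) sq.fac_right).trans (Over.w n)))), Over.OverMorphism.ext sq.fac_right⟩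


/-- The normaliser of a Borel subgroup is contained in it. -/
theorem exists_fac_normalizer {G B N : Over (Spec (CommRingCat.of k))} [GrpObj G] [GrpObj B] [GrpObj N]
    [IsAffine G.left] [Smooth G.hom] [ConnectedSpace G.left] (iB : B ⟶ G) [IsMonHom iB]
    (hB : Red.IsBorelOver k iB) (n : N ⟶ G) (hn : Red.IsNormalizerOf iB n) (hcn : IsClosedImmersion n.left) :
    ∃ f : N ⟶ B, f ≫ iB = n := by
  classical
  haveI := hn.1
  haveI := hn.2.1
  haveI := hcn
  haveI := hB.2.1
  haveI := hB.2.2.1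
  haveI := hB.2.2.2.1
  obtain ⟨haB, hlB, hqB, hmonoB, -⟩ := sub_props iB
  haveI := haB
  haveI := hlB
  haveI := hmonoB
  haveI : IsReduced G.left := isReduced_of_smooth_field G.hom
  haveI : IsReduced B.left := isReduced_of_smooth_field B.hom
  -- the rational points
  have hpts : ∀ p : PT ⟶ N, p ≫ n ∈ rangePts iB := fun p => by
    refine normalizer_borel iB hB _ fun y hy => ?_
    obtain ⟨w, rfl⟩ := hy
    obtain ⟨⟨u, hu⟩, v, hv⟩ := (hn.2.2 PT (p ≫ n)).mp ⟨p, rfl⟩ PT (𝟙 _) w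
    rw [Category.id_comp] at hu hv
    exact ⟨⟨u, hu.symm⟩, ⟨v, hv.symm⟩⟩
  -- a maximal torus of the Borel subgroup and its centraliser
  obtain ⟨T, _, i, hi, hiT, hmono, hT, hA, -⟩ := exists_borelTorus iB hB
  haveI := hi
  haveI := hiT
  haveI := hmono
  obtain ⟨-, hsT, -, -, hlT, -, -⟩ := torus_sub hT (i ≫ iB)
  haveI := hsT
  haveI := hlT
  have hmax : AGF.IsMaxTorus (i ≫ iB) := isMaxTorus_of_borel iB (i ≫ iB) hB hT (rangePts_comp iB i) (by
    rintro _ ⟨c, rfl⟩
    obtain ⟨_, ⟨t, rfl⟩, hu⟩ := hA c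
    refine ⟨_, ⟨t, rfl⟩, ?_⟩
    show IsUnipPt ((t ≫ i ≫ iB)⁻¹ * (c ≫ iB))
    rw [← Category.assoc, ← GrpObj.inv_comp, ← MonObj.mul_comp]
    exact (map_isSsPt_isUnipPt iB _).2 hu)
  obtain ⟨C, _, c, hc, hcc, hsC⟩ := Groth.Agent.S5247.result T G (TorusQI.isMultTypeFT_of_isTorus hT) inferInstance
    inferInstance (i ≫ iB)
  haveI := hc.1
  haveI := hcc
  haveI := hsC
  obtain ⟨fC, -, hfC⟩ := exists_fac_sub iB c (centralizer_le_borel hmax hc iB hB (rangePts_comp iB i))
  exact exists_fac_normalizer_of iB i hT c hc fC hfC n hn hcn hpts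

end Groth.Agent.SolvGrp
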