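import Groth.Agent.SolvGrp.Density
import Groth.Agent.SolvGrp.MaxTorus

/-! Every element lies in a conjugate of a given Borel subgroup; centralisers of maximal tori. -/

set_option backward.isDefEq.respectTransparency false
set_option backward.isDefEq.respectTransparency.types false
set_option linter.style.haveILetI false

universe u

open CategoryTheory MonoidalCategory CartesianMonoidalCategory MonObj AlgebraicGeometry

namespace Groth.Agent.SolvGrp

open GrpSchLib GrpSchLib.Kunneth GrpSchLib.LineGroups WeilCmp.Unip AGFLib AGFLib.Gen AGFLib.BorelFixed AGFLib.BorelExist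
open AGFLib.QuotProper

variable {k : Type u} [Field k] [IsAlgClosed k]

local notation "PT" => 𝟙_ (Over (Spec (CommRingCat.of k)))

variable {G : Over (Spec (CommRingCat.of k))} [GrpObj G] [IsAffine G.left] [Smooth G.hom]

/-- A point commuting with all points of a torus centralises it. -/
theorem commute_univ {T : Over (Spec (CommRingCat.of k))} [GrpObj T] (iT : T ⟶ G) [IsMonHom iT] (hT : Red.IsTorus T)
    (g : PT ⟶ G) (h : ∀ s ∈ rangePts iT, Commute g s) (X : Over (Spec (CommRingCat.of k))) (x : X ⟶ T) :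
    (toUnit X ≫ g) * (x ≫ iT) = (x ≫ iT) * (toUnit X ≫ g) := by
  obtain ⟨haff, hsm, -, -⟩ := torus_props hT
  haveI := hsm
  haveI : IsReduced T.left := isReduced_of_smooth_field T.hom
  haveI := GrpSchLib.AntiAffine.isSeparated_grp G
  have key : (toUnit T ≫ g) * iT = iT * (toUnit T ≫ g) := hom_ext_pts fun y => by
    rw [MonObj.comp_mul, MonObj.comp_mul, ← Category.assoc, toUnit_unique (y ≫ toUnit T) (𝟙 _), Category.id_comp]
    exact h _ ⟨y, rfl⟩
  have h2 := congrArg (x ≫ ·) key
  simp only [MonObj.comp_mul, ← Category.assoc, toUnit_unique (x ≫ toUnit T) (toUnit X)] at h2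
  exact h2

/-- The rational points of the centraliser of a torus. -/
theorem mem_centralizer_pts {T Z : Over (Spec (CommRingCat.of k))} [GrpObj T] [GrpObj Z] (iT : T ⟶ G) [IsMonHom iT]
    (hT : Red.IsTorus T) {c : Z ⟶ G} [IsMonHom c] (hc : Red.IsCentralizerOf iT c) (g : PT ⟶ G) :
    g ∈ rangePts c ↔ ∀ s ∈ rangePts iT, Commute g s := by
  constructor
  · rintro ⟨z, rfl⟩ _ ⟨s, rfl⟩
    have := (hc.2.2 PT (z ≫ c)).mp ⟨z, rfl⟩ PT (𝟙 _) s
    rwa [Category.id_comp] at this
  · intro h
    obtain ⟨z, hz⟩ := (hc.2.2 PT g).mpr fun X x t => by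
      rw [toUnit_unique x (toUnit X)]
      exact commute_univ iT hT g h X t
    exact ⟨z, hz⟩

/-- The set of points fixing some point of a proper homogeneous space is closed. -/
theorem ptsClosed_hasFixed {X : Over (Spec (CommRingCat.of k))} (a : AlgGrp.Action G X) [IsProper X.hom] :
    PtsClosed {g : PT ⟶ G | ∃ x : PT ⟶ X, lift g x ≫ a.act = x} := by
  haveI := GrpSchLib.AntiAffine.isSeparated_grp G
  haveI : LocallyOfFiniteType (X ⊗ G).hom :=
    inferInstanceAs (LocallyOfFiniteType (Limits.pullback.fst X.hom G.hom ≫ X.hom))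
  haveI : LocallyOfFiniteType (X ⊗ X).hom :=
    inferInstanceAs (LocallyOfFiniteType (Limits.pullback.fst X.hom X.hom ≫ X.hom))
  haveI : IsSeparated (X ⊗ X).hom := inferInstanceAs (IsSeparated (Limits.pullback.fst X.hom X.hom ≫ X.hom))
  haveI : IsSeparated (X ⊗ G).hom := inferInstanceAs (IsSeparated (Limits.pullback.fst X.hom G.hom ≫ X.hom))
  let L : X ⊗ G ⟶ X ⊗ X := lift (lift (snd X G) (fst X G) ≫ a.act) (fst X G)
  let Δ : X ⟶ X ⊗ X := lift (𝟙 X) (𝟙 X)
  haveI : IsClosedImmersion Δ.left := by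
    haveI : IsClosedImmersion (Δ.left ≫ (fst X X).left) := by
      rw [← Over.comp_left, lift_fst]
      exact inferInstanceAs (IsClosedImmersion (𝟙 X.left))
    haveI : IsSeparated (fst X X).left := by
      haveI : IsSeparated ((fst X X).left ≫ X.hom) := by rw [Over.w (fst X X)]; infer_instance
      exact IsSeparated.of_comp (fst X X).left X.hom
    exact IsClosedImmersion.of_comp Δ.left (fst X X).left
  haveI : JacobsonSpace (X ⊗ G).left := LocallyOfFiniteType.jacobsonSpace (X ⊗ G).hom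
  let F : Set (X ⊗ G).left := L.left ⁻¹' Set.range Δ.left
  have hF : IsClosed F := Δ.left.isClosedEmbedding.isClosed_range.preimage L.left.continuous
  have hmemF : ∀ w : PT ⟶ X ⊗ G, cp w ∈ F ↔ lift (w ≫ snd X G) (w ≫ fst X G) ≫ a.act = w ≫ fst X G := by
    intro w
    constructor
    · intro hw
      obtain ⟨v, hv⟩ := exists_of_mem_range Δ (w ≫ L) hw
      have e1 := congrArg (· ≫ fst X X) hv
      have e2 := congrArg (· ≫ snd X X) hv
      simp only [Δ, L, Category.assoc, lift_fst, lift_snd, Category.comp_id] at e1 e2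
      rw [← comp_lift, Category.assoc, ← e1, e2]
    · intro h
      refine ⟨cp (w ≫ fst X G), congrArg cp (show (w ≫ fst X G) ≫ Δ = w ≫ L from ?_)⟩
      simp only [Δ, L, comp_lift, Category.comp_id, ← Category.assoc, h]
  have hclosed : IsClosedMap (snd X G).left := by
    haveI : UniversallyClosed (Limits.pullback.snd X.hom G.hom) :=
      MorphismProperty.pullback_snd (P := @UniversallyClosed) X.hom G.hom inferInstance
    exact (Limits.pullback.snd X.hom G.hom).isClosedMap
  refine ⟨(snd X G).left '' F, hclosed _ hF, fun g => ?_⟩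
  constructor
  · rintro ⟨x, hx⟩
    exact ⟨cp (lift x g), (hmemF _).mpr (by rw [lift_fst, lift_snd]; exact hx),
      congrArg cp (lift_snd x g)⟩
  · rintro ⟨z, hz, hzg⟩
    obtain ⟨z', hz', hz'c⟩ := nonempty_inter_closedPoints (Z := F ∩ (snd X G).left ⁻¹' {cp g})
      ⟨z, hz, hzg⟩ (hF.inter ((isClosed_cp g).preimage (snd X G).left.continuous)).isLocallyClosed
    obtain ⟨w, rfl⟩ := exists_cp hz'c
    have h1 := (hmemF w).mp hz'.1
    have h2 : w ≫ snd X G = g := cp_injective hz'.2
    exact ⟨w ≫ fst X G, h2 ▸ h1⟩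

variable [ConnectedSpace G.left]

/-- Every point is conjugate into a given Borel subgroup. -/
theorem exists_conj_borel {B : Over (Spec (CommRingCat.of k))} [GrpObj B] (iB : B ⟶ G) [IsMonHom iB]
    (hB : Red.IsBorelOver k iB) (g : PT ⟶ G) : ∃ (x : PT ⟶ G) (b : PT ⟶ B), x * (b ≫ iB) * x⁻¹ = g := by
  haveI : IsReduced G.left := isReduced_of_smooth_field G.hom
  haveI : IrreducibleSpace G.left := Groth.Agent.S0348.result k G
  haveI : JacobsonSpace G.left := LocallyOfFiniteType.jacobsonSpace G.hom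
  haveI := hB.2.1
  haveI := hB.2.2.1
  haveI : LocallyOfFiniteType B.hom := by rw [← Over.w iB]; infer_instance
  haveI : QuasiCompact B.hom := by rw [← Over.w iB]; infer_instance
  haveI : Mono iB := mono_of_closedImmersion iB
  obtain ⟨X, a, o, hl, -, hfl, hsu, hsq⟩ := GrpSchLib.HomogeneousQuot.exists_quot G B iB
  have hX : AGF.IsQuotient iB X a o := ⟨hl, hfl, hsu, hsq⟩
  haveI := AGFLib.Borel.isProper_borel iB hB hX
  haveI := hX.1
  haveI := hsu
  have key : ∀ g : PT ⟶ G, (∃ x : PT ⟶ X, lift g x ≫ a.act = x) ↔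
      ∃ (x : PT ⟶ G) (b : PT ⟶ B), x * (b ≫ iB) * x⁻¹ = g := by
    intro g
    constructor
    · rintro ⟨y, hy⟩
      obtain ⟨x, rfl⟩ := exists_of_mem_range (a.orbitMap o) y ((a.orbitMap o).left.surjective _)
      rw [pt_orbitMap, GrpSchLib.act_mul] at hy
      obtain ⟨b, hb⟩ := exists_mul_eq hX x (g * x) (by rw [pt_orbitMap, pt_orbitMap]; exact hy.symm)
      exact ⟨x, b, by rw [hb, mul_inv_cancel_right]⟩
    · rintro ⟨x, b, rfl⟩
      refine ⟨lift x o ≫ a.act, ?_⟩
      rw [GrpSchLib.act_mul, inv_mul_cancel_right, ← GrpSchLib.act_mul]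
      have := stab_of_quot hX b
      rw [toUnit_unique (toUnit PT) (𝟙 _), Category.id_comp] at this
      rw [this]
  obtain ⟨T, _, iT, hiT, hm, hmono, hT, hA, hC⟩ := exists_borelTorus iB hB
  haveI := hiT
  haveI := hm
  haveI := hmono
  have hmax : AGF.IsMaxTorus (iT ≫ iB) := isMaxTorus_of_borel iB (iT ≫ iB) hB hT (rangePts_comp iB iT) (by
    rintro _ ⟨b, rfl⟩
    obtain ⟨_, ⟨t, rfl⟩, hu⟩ := hA b
    refine ⟨t ≫ iT ≫ iB, ⟨t, rfl⟩, ?_⟩
    obtain ⟨haB, hlB, -, -, -⟩ := sub_props iB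
    haveI := haB
    haveI : IsReduced B.left := isReduced_of_smooth_field B.hom
    have := (map_isSsPt_isUnipPt iB _).2 hu
    rwa [MonObj.mul_comp, GrpObj.inv_comp, Category.assoc] at this)
  obtain ⟨C, _, i, hi, hci, hsC, hcC, haC, hTC, hc, hnil, hd, R, hR, hcov⟩ := exists_cartan (iT ≫ iB) hmax
  haveI := hi
  haveI := hci
  haveI := hsC
  haveI := hcC
  haveI := haC
  obtain ⟨V, hV, hVi⟩ := exists_open_conj (iT ≫ iB) hT i hTC hc hd R hR hcov
  -- the connected centraliser is conjugate into the Borel subgroup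
  obtain ⟨n, hn⟩ := (inferInstance : Group.IsSolvable (PT ⟶ C)).solvable
  obtain ⟨B', _, iB', hmB', hB', hle⟩ := exists_borel_containing i (AGFLib.ProperSpace.isSolvableGrp_of_pts n hn)
  haveI := hmB'
  obtain ⟨z, e, he⟩ := AGFLib.Borel.conjugate iB' iB hB' hB
  obtain ⟨Z, hZc, hZ⟩ := ptsClosed_hasFixed (G := G) a
  have hVZ : (V : Set G.left) ⊆ Z := by
    have h1 : (V : Set G.left) ∩ closedPoints G.left ⊆ Z := by
      rintro p ⟨hpV, hpc⟩
      obtain ⟨x, rfl⟩ := exists_cp hpc
      refine (hZ x).mp ((key x).mpr ?_)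
      obtain ⟨h, y, rfl⟩ := hVi x hpV
      obtain ⟨b, hb⟩ := hle ⟨y, rfl⟩
      change b ≫ iB' = y ≫ i at hb
      refine ⟨h * z⁻¹, b ≫ e.hom, ?_⟩
      rw [Category.assoc, he, AGFLib.Borel.conjBy_eq, ← Category.assoc, hb, comp_conjM_pt]
      group
    refine fun p hp => ?_
    by_contra hpZ
    obtain ⟨q, hq, hqc⟩ := nonempty_inter_closedPoints (Z := (V : Set G.left) ∩ Zᶜ) ⟨p, hp, hpZ⟩
      (V.2.inter hZc.isOpen_compl).isLocallyClosed
    exact hq.2 (h1 ⟨hq.1, hqc⟩)
  have hZtop : Z = Set.univ := by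
    rw [← hZc.closure_eq]
    exact Set.eq_univ_of_univ_subset ((V.2.dense hV).closure_eq.ge.trans (closure_mono hVZ))
  exact (key g).mp ((hZ g).mpr (hZtop ▸ Set.mem_univ _))

end Groth.Agent.SolvGrp
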