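import Groth.Agent.SolvGrp.TorusSepClosed
import Groth.Agent.SolvGrp.Reductive4

/-! Maximal tori over separably closed fields have dense rational points in a reductive group. -/

set_option backward.isDefEq.respectTransparency false
set_option backward.isDefEq.respectTransparency.types false
set_option linter.style.haveILetI false

universe u

open CategoryTheory MonoidalCategory CartesianMonoidalCategory MonObj AlgebraicGeometry

namespace Groth.Agent.SolvGrp

open GrpSchLib GrpSchLib.Kunneth GrpSchLib.LineGroups WeilCmp.Unip AGFLib AGFLib.Gen AGFLib.BorelFixed AGFLib.BorelExist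

variable {k : Type u} [Field k]

local notation "PT" => 𝟙_ (Over (Spec (CommRingCat.of k)))

/-- Reductivity is invariant under isomorphisms of groups. -/
theorem isReductiveOver_congr₀ {K : Type u} [Field K] {G G' : Over (Spec (CommRingCat.of K))} [GrpObj G] [GrpObj G'] (e : Grp.mk G ≅ Grp.mk G') (h : Red.IsReductiveOver K G) :
    Red.IsReductiveOver K G' := by
  obtain ⟨haff, hsm, hconn, hrad⟩ := h
  haveI := haff
  haveI := hsm
  haveI := hconn
  let j : G ≅ G' := (Grp.forget _).mapIso e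
  haveI : IsMonHom j.inv := e.inv.hom.isMonHom_hom
  haveI : IsMonHom j.hom := e.hom.hom.isMonHom_hom
  haveI : IsIso j.hom.left := ((Over.forget _).mapIso j).isIso_hom
  haveI : IsIso j.inv.left := ((Over.forget _).mapIso j).isIso_inv
  refine ⟨IsAffine.of_isIso j.inv.left, ?_, j.hom.left.homeomorph.surjective.connectedSpace
    j.hom.left.homeomorph.continuous, ?_⟩
  · rw [← Over.w j.inv]
    infer_instance
  · intro U _ i _ hci hsmU hcU hn hU
    haveI := hci
    haveI : IsClosedImmersion (i ≫ j.inv).left := inferInstanceAs (IsClosedImmersion (i.left ≫ j.inv.left))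
    refine hrad U (i ≫ j.inv) inferInstance hsmU hcU ?_ hU
    intro T g n
    obtain ⟨n', hn'⟩ := hn T (g ≫ j.hom) n
    refine ⟨n', ?_⟩
    have h2 := congrArg (· ≫ j.inv) hn'
    simp only [MonObj.mul_comp, GrpObj.inv_comp, Category.assoc, Iso.hom_inv_id, Category.comp_id] at h2
    exact h2

/-- A conjugate of a maximal torus by a rational point is a maximal torus. -/
theorem isMaximalTorus_conj {G T : Over (Spec (CommRingCat.of k))} [GrpObj G] [GrpObj T] {iT : T ⟶ G}
    (hT : Red.IsMaximalTorus iT) (g : PT ⟶ G) : Red.IsMaximalTorus (iT ≫ AGFLib.Borel.conjM g) := by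
  haveI := hT.1
  haveI := hT.2.1
  refine ⟨inferInstance, mono_comp iT _, hT.2.2.1, fun s W _ j _ _ f hW hf => ?_⟩
  let F := Over.pullback (Red.geomPt s)
  haveI : F.IsRightAdjoint := (Over.mapPullbackAdj (Red.geomPt s)).isRightAdjoint
  haveI : IsMonHom (F.map (AGFLib.Borel.conjM g⁻¹)) := inferInstance
  haveI : Mono (F.map (AGFLib.Borel.conjM g⁻¹)) := inferInstance
  haveI : Mono (j ≫ F.map (AGFLib.Borel.conjM g⁻¹)) := mono_comp j _
  exact hT.2.2.2 s W (j ≫ F.map (AGFLib.Borel.conjM g⁻¹)) f hW (by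
    rw [← Category.assoc, hf, ← F.map_comp, Category.assoc, AGFLib.Borel.conjM_comp, inv_mul_cancel,
      AGFLib.Borel.conjM_one, Category.comp_id])

/-- The subgroup generated by the rational points of the maximal tori. -/
noncomputable def torusPts (G : Over (Spec (CommRingCat.of k))) [GrpObj G] : Subgroup (PT ⟶ G) :=
  Subgroup.closure {d | ∃ (T : Over (Spec (CommRingCat.of k))) (_ : GrpObj T) (iT : T ⟶ G),
    Red.IsMaximalTorus iT ∧ ∃ t : PT ⟶ T, t ≫ iT = d}

variable [IsSepClosed k]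

/-- A maximal torus exists over a separably closed field. -/
theorem exists_isMaximalTorus (G : Over (Spec (CommRingCat.of k))) [GrpObj G] [IsAffine G.left] [Smooth G.hom]
    [ConnectedSpace G.left] :
    ∃ (T : Over (Spec (CommRingCat.of k))) (_ : GrpObj T) (iT : T ⟶ G),
      IsClosedImmersion iT.left ∧ Red.IsMaximalTorus iT := by
  let s₀ := AGFLib.GeomBC.pt k
  obtain ⟨φ₀, hφ₀⟩ := Spec.map_surjective (Red.geomPt s₀)
  obtain ⟨T, _, iT, hm, hci, hT, hmax⟩ := exists_torus_sepClosed φ₀.hom G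
  haveI := hci
  refine ⟨T, inferInstance, iT, hci, hm, (Over.forget _).mono_of_mono_map (inferInstanceAs (Mono iT.left)), hT, fun s => ?_⟩
  obtain rfl : s = s₀ := Subsingleton.elim (α := ↥(Spec (CommRingCat.of k))) _ _
  rw [CommRingCat.ofHom_hom, hφ₀] at hmax
  exact hmax.2.2.2

/-- The rational points of the maximal tori of a reductive group are dense. -/
theorem dense_torusPts {G : Over (Spec (CommRingCat.of k))} [GrpObj G] [IsAffine G.left] [Smooth G.hom]
    [ConnectedSpace G.left] (hG : Red.IsReductive G) (C : Set G.left) (hC : IsClosed C)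
    (h : ∀ d ∈ torusPts G, d.left (IsLocalRing.closedPoint k) ∈ C) : C = Set.univ := by
  let s := AGFLib.GeomBC.pt k
  let K := AlgebraicClosure ((Spec (CommRingCat.of k)).residueField s)
  obtain ⟨φ, hφ⟩ := Spec.map_surjective (Red.geomPt s)
  let σ : Spec (CommRingCat.of K) ⟶ Spec (CommRingCat.of k) := Spec.map (CommRingCat.ofHom φ.hom)
  have hσ : σ = Red.geomPt s := by simp only [σ, CommRingCat.ofHom_hom, hφ]
  have hGK : Red.IsReductiveOver K (Red.bc σ G) := by
    obtain ⟨e⟩ := MultTypeBC.bc_congr hσ.symm G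
    exact isReductiveOver_congr₀ e (hG.2.2 s)
  haveI := hGK.1
  haveI := hGK.2.1
  haveI := hGK.2.2.1
  haveI : IsReduced (Red.bc σ G).left := isReduced_of_smooth_field (Red.bc σ G).hom
  haveI := GrpSchLib.AntiAffine.isSeparated_grp (Red.bc σ G)
  obtain ⟨T, _, iT, hciT, hT⟩ := exists_isMaximalTorus G
  haveI := hT.1
  haveI := hT.2.1
  obtain ⟨-, hsT, hcT⟩ := torus_sub_field iT hT.2.2.1
  haveI : IsAffine T.left := isAffine_of_isAffineHom iT.left
  haveI : (Over.pullback σ).IsRightAdjoint := (Over.mapPullbackAdj σ).isRightAdjoint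
  have hTK : AGF.IsMaxTorus ((Over.pullback σ).map iT) := by
    have h1 := isMaxTorus_geomFibre hT s
    rw [hσ]
    exact h1
  haveI := hTK.1
  haveI := hTK.2.1
  -- the closure of the extended points is a subgroup
  let D : Subgroup (𝟙_ (Over (Spec (CommRingCat.of K))) ⟶ Red.bc σ G) := (torusPts G).map (extHom σ G)
  let P : Set (𝟙_ (Over (Spec (CommRingCat.of K))) ⟶ Red.bc σ G) :=
    {y | ∀ A : Set (Red.bc σ G).left, IsClosed A → (∀ d ∈ D, cp d ∈ A) → cp y ∈ A}
  have hmul : ∀ a ∈ P, ∀ b ∈ P, a * b ∈ P := by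
    have h1 : ∀ d ∈ D, ∀ b ∈ P, d * b ∈ P := fun d hd b hb A hA hAD => by
      let m : Red.bc σ G ⟶ Red.bc σ G := (toUnit _ ≫ d) * 𝟙 _
      have hm : ∀ z : 𝟙_ _ ⟶ Red.bc σ G, z ≫ m = d * z := fun z => by
        simp only [m, MonObj.comp_mul, ← Category.assoc, comp_toUnit, toUnit_unique (toUnit (𝟙_ (Over (Spec (CommRingCat.of K))))) (𝟙 _),
          Category.id_comp, Category.comp_id]
      have := hb (m.left ⁻¹' A) (hA.preimage m.left.continuous) fun e he => by
        show m.left (cp e) ∈ A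
        rw [← cp_comp, hm]
        exact hAD _ (mul_mem hd he)
      rw [← hm]
      exact this
    intro a ha b hb A hA hAD
    let m : Red.bc σ G ⟶ Red.bc σ G := 𝟙 _ * (toUnit _ ≫ b)
    have hm : ∀ z : 𝟙_ _ ⟶ Red.bc σ G, z ≫ m = z * b := fun z => by
      simp only [m, MonObj.comp_mul, ← Category.assoc, comp_toUnit, toUnit_unique (toUnit (𝟙_ (Over (Spec (CommRingCat.of K))))) (𝟙 _),
        Category.id_comp, Category.comp_id]
    have := ha (m.left ⁻¹' A) (hA.preimage m.left.continuous) fun e he => by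
      show m.left (cp e) ∈ A
      rw [← cp_comp, hm]
      exact h1 e he b hb A hA hAD
    rw [← hm]
    exact this
  let PS : Subgroup (𝟙_ (Over (Spec (CommRingCat.of K))) ⟶ Red.bc σ G) :=
    { carrier := P
      one_mem' := fun A _ hAD => hAD 1 (one_mem D)
      mul_mem' := fun {a b} ha hb => hmul a ha b hb
      inv_mem' := fun {a} ha A hA hAD => by
        let m : Red.bc σ G ⟶ Red.bc σ G := (𝟙 _)⁻¹
        have hm : ∀ z : 𝟙_ _ ⟶ Red.bc σ G, z ≫ m = z⁻¹ := fun z => by
          simp only [m, GrpObj.comp_inv, Category.comp_id]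
        have := ha (m.left ⁻¹' A) (hA.preimage m.left.continuous) fun e he => by
          show m.left (cp e) ∈ A
          rw [← cp_comp, hm]
          exact hAD _ (inv_mem he)
        rw [← hm]
        exact this }
  -- it contains the conjugates of the torus
  have hconj : ∀ (y : 𝟙_ _ ⟶ Red.bc σ G) (t : 𝟙_ _ ⟶ Red.bc σ T),
      y * (t ≫ (Over.pullback σ).map iT) * y⁻¹ ∈ P := by
    intro y t A hA hAD
    let m : Red.bc σ G ⟶ Red.bc σ G := 𝟙 _ * (toUnit _ ≫ t ≫ (Over.pullback σ).map iT) * (𝟙 _)⁻¹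
    have hm : ∀ z : 𝟙_ _ ⟶ Red.bc σ G, z ≫ m = z * (t ≫ (Over.pullback σ).map iT) * z⁻¹ := fun z => by
      simp only [m, MonObj.comp_mul, GrpObj.comp_inv, ← Category.assoc, comp_toUnit, toUnit_unique (toUnit (𝟙_ (Over (Spec (CommRingCat.of K))))) (𝟙 _),
        Category.id_comp, Category.comp_id]
    have hy := (eq_univ_of_pts σ (Set.univ : Set (PT ⟶ G)) eq_zero_of_allPts (m.left ⁻¹' A)
      (hA.preimage m.left.continuous) fun g _ => by
      show m.left (cp (extPt σ g)) ∈ A
      rw [← cp_comp, hm]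
      let n : Red.bc σ T ⟶ Red.bc σ G := (Over.pullback σ).map (iT ≫ AGFLib.Borel.conjM g)
      have hn : ∀ z : 𝟙_ _ ⟶ Red.bc σ T, z ≫ n = extPt σ g * (z ≫ (Over.pullback σ).map iT) * (extPt σ g)⁻¹ := fun z => by
        obtain ⟨v, rfl⟩ := (AVTors.bcPts σ _ T).surjective z
        rw [← AVTors.bcPts_comp, ← AVTors.bcPts_comp, ← Category.assoc, AGFLib.Borel.comp_conjM, map_mul, map_mul, map_inv]
        rfl
      have ht := (eq_univ_of_pts σ (Set.univ : Set (PT ⟶ T)) eq_zero_of_allPts (n.left ⁻¹' A)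
        (hA.preimage n.left.continuous) fun r _ => by
        show n.left (cp (extPt σ r)) ∈ A
        rw [← cp_comp, ← extPt_map]
        refine hAD _ ⟨r ≫ iT ≫ AGFLib.Borel.conjM g, Subgroup.subset_closure
          ⟨T, inferInstance, iT ≫ AGFLib.Borel.conjM g, isMaximalTorus_conj hT g, r, rfl⟩, rfl⟩).ge (Set.mem_univ (cp t))
      rw [← hn]
      exact ht).ge (Set.mem_univ (cp y))
    rw [← hm]
    exact hy
  have hPS : PtsClosed (PS : Set (𝟙_ (Over (Spec (CommRingCat.of K))) ⟶ Red.bc σ G)) := by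
    refine ⟨closure (cp '' (D : Set (𝟙_ (Over (Spec (CommRingCat.of K))) ⟶ Red.bc σ G))), isClosed_closure, fun y => ⟨fun hy => hy _ isClosed_closure
      fun d hd => subset_closure ⟨d, hd, rfl⟩, fun hy A hA hAD => closure_minimal ?_ hA hy⟩⟩
    rintro _ ⟨d, hd, rfl⟩
    exact hAD d hd
  let N : Subgroup (𝟙_ (Over (Spec (CommRingCat.of K))) ⟶ Red.bc σ G) := ⨅ x, PS.comap (MulAut.conj x).toMonoidHom
  have hNmem : ∀ z, z ∈ N ↔ ∀ x, x * z * x⁻¹ ∈ PS := fun z => by simp [N, Subgroup.mem_iInf]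
  have hN : N = ⊤ := by
    refine eq_top_of_ss hGK N ?_ ⟨fun z hz g => (hNmem _).mpr fun x => ?_⟩ fun g hg => (hNmem g).mpr fun x => ?_
    · have e : (N : Set (𝟙_ (Over (Spec (CommRingCat.of K))) ⟶ Red.bc σ G)) =
          ⋂ x, {w | w ≫ AGFLib.Borel.conjM x ∈ (PS : Set (𝟙_ (Over (Spec (CommRingCat.of K))) ⟶ Red.bc σ G))} := by
        ext w
        simp only [SetLike.mem_coe, hNmem, Set.mem_iInter, Set.mem_setOf_eq, comp_conjM_pt]
      rw [e]
      exact PtsClosed.iInter fun x => hPS.preimage _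
    · rw [show x * (g * z * g⁻¹) * x⁻¹ = x * g * z * (x * g)⁻¹ by group]
      exact (hNmem z).mp hz _
    · obtain ⟨a, t, ht⟩ := exists_conj_maxTorus _ hTK g hg
      change t ≫ _ = a * g * a⁻¹ at ht
      show x * g * x⁻¹ ∈ P
      rw [show x * g * x⁻¹ = (x * a⁻¹) * (t ≫ (Over.pullback σ).map iT) * (x * a⁻¹)⁻¹ by rw [ht]; group]
      exact hconj _ t
  haveI : Surjective σ := GrpSchLib.surjective_spec_map_field φ.hom
  haveI : Surjective (Limits.pullback.fst G.hom σ) := inferInstance
  let A : Set (Red.bc σ G).left := Limits.pullback.fst G.hom σ ⁻¹' C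
  have hA : A = Set.univ := eq_univ_of_forall_cp (hC.preimage (Limits.pullback.fst G.hom σ).continuous) fun y => by
    have hy : y ∈ PS := by
      have := (hNmem y).mp (hN.ge (Subgroup.mem_top y)) 1
      simpa using this
    refine hy A (hC.preimage (Limits.pullback.fst G.hom σ).continuous) ?_
    rintro _ ⟨d, hd, rfl⟩
    show Limits.pullback.fst G.hom σ ((extPt σ d).left (IsLocalRing.closedPoint K)) ∈ C
    rw [← fst_extPt, extPt_point]
    exact h d hd
  refine Set.eq_univ_of_forall fun p => ?_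
  obtain ⟨q, rfl⟩ := (Limits.pullback.fst G.hom σ).surjective p
  exact (hA.ge (Set.mem_univ q) : q ∈ A)

end Groth.Agent.SolvGrp
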