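import Groth.Agent.SolvGrp.BorelNorm
import Groth.Agent.AGFLib.ProjAct

/-! Matrix representations, their duals and fixed lines. -/

set_option backward.isDefEq.respectTransparency false
set_option backward.isDefEq.respectTransparency.types false
set_option linter.style.haveILetI false

universe u

open CategoryTheory MonoidalCategory CartesianMonoidalCategory MonObj AlgebraicGeometry
open scoped Matrix

namespace Groth.Agent.SolvGrp

open GrpSchLib GrpSchLib.Kunneth GrpSchLib.LineGroups GrpSchLib.ProjLine WeilCmp.Unip AGFLib AGFLib.Gen AGFLib.BorelFixed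
open AGFLib.ProjAct

variable {k : Type u} [Field k]

local notation "PT" => 𝟙_ (Over (Spec (CommRingCat.of k)))

variable {G : Over (Spec (CommRingCat.of k))} [GrpObj G]

omit [GrpObj G] in
theorem valM_apply {m : ℕ} (M : Matrix (Fin m) (Fin m) (Fn G)) (g : PT ⟶ G) (i j : Fin m) :
    valM M g i j = vl g (M i j) := rfl

/-- Membership in a basic open is non-vanishing of the value. -/
theorem mem_basicOpen_iff_vl {X : Over (Spec (CommRingCat.of k))} (g : PT ⟶ X) (f : Fn X) :
    cp g ∈ X.left.basicOpen f ↔ vl g f ≠ 0 := by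
  have hpre : g.left ⁻¹ᵁ X.left.basicOpen f = (PT).left.basicOpen (ev g f) := Scheme.preimage_basicOpen_top _ _
  have e : cp g ∈ X.left.basicOpen f ↔
      (IsLocalRing.closedPoint k : (PT).left) ∈ (PT).left.basicOpen (ev g f) := by
    rw [← hpre]; rfl
  rw [e]
  constructor
  · intro h h0
    rw [show ev g f = 0 from (ProjAct.toK (k := k)).injective (h0.trans (map_zero _).symm),
      Scheme.basicOpen_zero] at h
    exact h
  · intro h
    rw [Scheme.basicOpen_of_isUnit]
    · trivial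
    · rw [← ProjAct.algebraMap_toK (k := k) (ev g f)]
      exact (IsUnit.mk0 _ h).map _

/-- The dual of a matrix representation. -/
noncomputable def dualRep {m : ℕ} (N : Matrix (Fin m) (Fin m) (Fn G)) : Matrix (Fin m) (Fin m) (Fn G) :=
  Matrix.of fun i j => ev (𝟙 G)⁻¹ (N j i)

theorem valM_dualRep {m : ℕ} (N : Matrix (Fin m) (Fin m) (Fn G)) (g : PT ⟶ G) :
    valM (dualRep N) g = (valM N g⁻¹)ᵀ := by
  ext i j
  show vl g (ev (𝟙 G)⁻¹ (N j i)) = vl g⁻¹ (N j i)
  rw [vl_ev, GrpObj.comp_inv, Category.comp_id]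

variable [IsAlgClosed k] [IsAffine G.left] [LocallyOfFiniteType G.hom] [IsReduced G.left]

/-- A matrix of functions multiplicative on rational points is a representation. -/
theorem isRepMatrix_of_pts {m : ℕ} (M : Matrix (Fin m) (Fin m) (Fn G))
    (hmul : ∀ g h : 𝟙_ (Over (Spec (CommRingCat.of k))) ⟶ G, valM M (g * h) = valM M g * valM M h)
    (hone : valM M (1 : PT ⟶ G) = 1) : IsRepMatrix M := by
  haveI : IsAffine (G ⊗ G).left := inferInstanceAs (IsAffine (Limits.pullback G.hom G.hom))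
  haveI : IsReduced (G ⊗ G).left := isReduced_pullback_of_perfectField G.hom G.hom
  haveI : LocallyOfFiniteType (G ⊗ G).hom :=
    inferInstanceAs (LocallyOfFiniteType (Limits.pullback.fst G.hom G.hom ≫ G.hom))
  have huniv : ∀ i j, ev (fst G G * snd G G) (M i j) = ∑ l, ev (fst G G) (M i l) * ev (snd G G) (M l j) := by
    intro i j
    refine eq_of_vl fun w => ?_
    rw [vl_ev, MonObj.comp_mul, map_sum]
    refine (congrFun (congrFun (hmul _ _) i) j).trans ?_
    rw [Matrix.mul_apply]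
    refine Finset.sum_congr rfl fun l _ => ?_
    rw [map_mul, vl_ev, vl_ev]
    rfl
  constructor
  · intro T g h
    ext i j
    have h1 := congrArg (ev (lift g h)) (huniv i j)
    rw [ev_ev, MonObj.comp_mul, lift_fst, lift_snd, map_sum] at h1
    rw [Matrix.map_apply, h1, Matrix.mul_apply]
    exact Finset.sum_congr rfl fun l _ => by rw [map_mul, ev_ev, ev_ev, lift_fst, lift_snd]; rfl
  · intro T
    ext i j
    rw [Matrix.map_apply, ← MonObj.comp_one (toUnit T), ← ev_ev, ← algebraMap_toK (ev (1 : PT ⟶ G) (M i j)),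
      AlgHom.commutes, show toK (ev (1 : PT ⟶ G) (M i j)) = (1 : Matrix (Fin m) (Fin m) k) i j from
        congrFun (congrFun hone i) j, Matrix.one_apply, Matrix.one_apply]
    split_ifs <;> simp

theorem isRepMatrix_dualRep {m : ℕ} {N : Matrix (Fin m) (Fin m) (Fn G)} (hN : IsRepMatrix N) :
    IsRepMatrix (dualRep N) := by
  refine isRepMatrix_of_pts _ (fun g h => ?_) ?_
  · rw [valM_dualRep, valM_dualRep, valM_dualRep, mul_inv_rev, valM_mul hN, Matrix.transpose_mul]
  · rw [valM_dualRep, inv_one, valM_one hN, Matrix.transpose_one]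

/-- The pairing of a representation and its dual is invariant. -/
theorem dot_dualRep {m : ℕ} {N : Matrix (Fin m) (Fin m) (Fn G)} (hN : IsRepMatrix N)
    (g : 𝟙_ (Over (Spec (CommRingCat.of k))) ⟶ G) (c v : Fin m → k) :
    (valM (dualRep N) g).mulVec c ⬝ᵥ (valM N g).mulVec v = c ⬝ᵥ v := by
  rw [valM_dualRep, Matrix.mulVec_transpose, ← Matrix.dotProduct_mulVec, Matrix.mulVec_mulVec, ← valM_mul hN,
    inv_mul_cancel, valM_one hN, Matrix.one_mulVec]

omit [IsAlgClosed k] [IsAffine G.left] [LocallyOfFiniteType G.hom] [IsReduced G.left] in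
/-- Restricting a representation. -/
theorem valM_restrict {H : Over (Spec (CommRingCat.of k))} [GrpObj H] (i : H ⟶ G) {m : ℕ}
    (N : Matrix (Fin m) (Fin m) (Fn G)) (h : PT ⟶ H) : valM (N.map (ev i)) h = valM N (h ≫ i) := by
  ext a b
  exact vl_ev h i (N a b)

omit [IsAlgClosed k] [IsAffine G.left] [LocallyOfFiniteType G.hom] [IsReduced G.left] in
theorem isRepMatrix_restrict {H : Over (Spec (CommRingCat.of k))} [GrpObj H] (i : H ⟶ G) [IsMonHom i] {m : ℕ}
    {N : Matrix (Fin m) (Fin m) (Fn G)} (hN : IsRepMatrix N) : IsRepMatrix (N.map (ev i)) := by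
  constructor
  · intro T g h
    ext a b
    have h1 := congrFun (congrFun (hN.mul T (g ≫ i) (h ≫ i)) a) b
    simp only [← MonObj.mul_comp, Matrix.map_apply, Matrix.mul_apply] at h1
    simp only [Matrix.map_apply, Matrix.mul_apply, ev_ev]
    exact h1
  · intro T
    ext a b
    have h1 := congrFun (congrFun (hN.one T) a) b
    rw [← MonObj.one_comp i, Matrix.map_apply] at h1
    rw [Matrix.map_apply, Matrix.map_apply, ev_ev, h1]

omit [GrpObj G] [IsAffine G.left] [LocallyOfFiniteType G.hom] [IsReduced G.left] [IsAlgClosed k] in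
/-- Equal lines are spanned by proportional vectors. -/
theorem exists_smul_of_lineP_eq {n : ℕ} {v w : Fin (n + 1) → k} (hv : v ≠ 0) (hw : w ≠ 0)
    (h : lineP v hv = lineP w hw) : ∃ c : k, c ≠ 0 ∧ v = c • w := by
  rw [lineP_eq_iff] at h
  obtain ⟨q, hq⟩ := Function.ne_iff.mp hw
  have e : v = (v q / w q) • w := funext fun x => by
    rw [Pi.smul_apply, smul_eq_mul, div_mul_eq_mul_div]
    exact (eq_div_iff hq).mpr (h x q)
  refine ⟨v q / w q, fun h0 => hv ?_, e⟩
  rw [e, h0, zero_smul]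

omit [GrpObj G] [IsAffine G.left] [LocallyOfFiniteType G.hom] [IsReduced G.left] [IsAlgClosed k] in
theorem lineP_smul {n : ℕ} {v : Fin (n + 1) → k} (c : k) (hv : v ≠ 0) (hcv : c • v ≠ 0) :
    lineP (c • v) hcv = lineP v hv := by
  rw [lineP_eq_iff]
  intro x q
  simp only [Pi.smul_apply, smul_eq_mul]
  ring

omit [GrpObj G] [IsAffine G.left] [LocallyOfFiniteType G.hom] [IsReduced G.left] [IsAlgClosed k] in
/-- A rational point in a chart, through its coordinates. -/
theorem exists_chart_coords {n : ℕ} (v : Fin (n + 1) → k) (hv : v ≠ 0) (i : Fin (n + 1))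
    (hi : cp (lineP v hv) ∈ Set.range (ZetaLib.chart n k i)) :
    ∃ (d : PT ⟶ D k n i) (c : k), d ≫ dι i = lineP v hv ∧ c ≠ 0 ∧ ∀ l, v l = c * vl d (crdFn i l) := by
  obtain ⟨d, hd⟩ := exists_factor (lineP v hv) i (by
    rintro _ ⟨t, rfl⟩
    rwa [Subsingleton.elim (α := Spec (CommRingCat.of k)) t (IsLocalRing.closedPoint k)])
  have hu : IsUnit (crdFn (k := k) i i) := crdFn_self (k := k) i ▸ isUnit_one
  let w : Fin (n + 1) → k := fun l => vl d (crdFn i l)
  have hwi : w i = 1 := by simp [w, crdFn_self]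
  have hw : w ≠ 0 := fun h => one_ne_zero (hwi.symm.trans (congrFun h i))
  have hline : lineP v hv = lineP w hw := by
    rw [← hd, dι_eq_pv i hu, comp_pv,
      ← pv_eq_lineP w i ((isUnit_iff_ne_zero.mpr (hwi.symm ▸ one_ne_zero)).map _) hw, pv_eq_iff]
    intro x q
    simp only [w, vl]
    show ev d (crdFn i x) * algebraMap k _ (toK (ev d (crdFn i q))) =
      ev d (crdFn i q) * algebraMap k _ (toK (ev d (crdFn i x)))
    rw [algebraMap_toK, algebraMap_toK, _root_.mul_comm]
  obtain ⟨c, hc, e⟩ := exists_smul_of_lineP_eq hv hw hline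
  exact ⟨d, c, hd, hc, fun l => congrFun e l⟩

omit [GrpObj G] [IsAffine G.left] [LocallyOfFiniteType G.hom] [IsReduced G.left] in
/-- Hyperplanes are closed. -/
theorem exists_hyperplane {n : ℕ} (q : Fin (n + 1) → k) :
    ∃ F : Set (Pn k n).left, IsClosed F ∧ ∀ (v : Fin (n + 1) → k) (hv : v ≠ 0), cp (lineP v hv) ∈ F ↔ q ⬝ᵥ v = 0 := by
  let f : ∀ i, Fn (D k n i) := fun i => ∑ l, q l • crdFn i l
  let O : Set (Pn k n).left := ⋃ i, (dι i).left '' ((D k n i).left.basicOpen (f i) : Set (D k n i).left)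
  refine ⟨Oᶜ, IsOpen.isClosed_compl (isOpen_iUnion fun i => ?_), fun v hv => ?_⟩
  · haveI : IsOpenImmersion (dι (k := k) (n := n) i).left := inferInstanceAs (IsOpenImmersion (ZetaLib.chart n k i))
    exact (dι (k := k) (n := n) i).left.isOpenEmbedding.isOpenMap _ ((D k n i).left.basicOpen (f i)).isOpen
  have key : ∀ i, cp (lineP v hv) ∈ Set.range (ZetaLib.chart n k i) →
      (cp (lineP v hv) ∈ (dι i).left '' ((D k n i).left.basicOpen (f i) : Set (D k n i).left) ↔ q ⬝ᵥ v ≠ 0) := by
    intro i hi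
    haveI : IsOpenImmersion (dι (k := k) (n := n) i).left := inferInstanceAs (IsOpenImmersion (ZetaLib.chart n k i))
    obtain ⟨d, c, hd, hc, hcoord⟩ := exists_chart_coords v hv i hi
    rw [← hd, cp_comp, (dι (k := k) (n := n) i).left.isOpenEmbedding.injective.mem_set_image]
    have h0 : vl d (f i) = c⁻¹ * (q ⬝ᵥ v) := by
      simp only [f, map_sum, map_smul, smul_eq_mul, dotProduct, hcoord, Finset.mul_sum]
      exact Finset.sum_congr rfl fun l _ => by field_simp
    rw [SetLike.mem_coe, mem_basicOpen_iff_vl, h0]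
    simp [hc]
  constructor
  · intro h
    by_contra h0
    obtain ⟨i, hi⟩ := exists_mem_chart (cp (lineP v hv))
    exact h (Set.mem_iUnion.mpr ⟨i, (key i hi).mpr h0⟩)
  · rintro h0 hmem
    obtain ⟨i, hi⟩ := Set.mem_iUnion.mp hmem
    refine (key i ?_).mp hi h0
    obtain ⟨y, -, hy⟩ := hi
    exact ⟨y, hy⟩

/-- A connected solvable group fixes a line in every stable closed set of lines. -/
theorem exists_fixed_line [Smooth G.hom] [ConnectedSpace G.left] {s : ℕ} (hs : derivedSeries (PT ⟶ G) s = ⊥)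
    {n : ℕ} {N : Matrix (Fin (n + 1)) (Fin (n + 1)) (Fn G)} (hN : IsRepMatrix N)
    (F : Set (Pn k n).left) (hF : IsClosed F) (v₀ : Fin (n + 1) → k) (hv₀ : v₀ ≠ 0) (hmem : cp (lineP v₀ hv₀) ∈ F)
    (hst : ∀ (g : PT ⟶ G) (v : Fin (n + 1) → k) (hv : v ≠ 0), cp (lineP v hv) ∈ F →
      cp (lineP ((valM N g).mulVec v) (mulVec_ne_zero hN g hv)) ∈ F) :
    ∃ (v : Fin (n + 1) → k) (hv : v ≠ 0), cp (lineP v hv) ∈ F ∧
      ∀ g : PT ⟶ G, ∃ c : k, (valM N g).mulVec v = c • v := by
  obtain ⟨a, ha⟩ := exists_act hN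
  obtain ⟨p, hpF, hp⟩ := exists_fixed_in s hs a F hF ⟨_, hmem⟩ (fun g x hx => by
    obtain ⟨v, hv, rfl⟩ := exists_lineP x
    rw [ha g v hv]
    exact hst g v hv hx)
  obtain ⟨v, hv, rfl⟩ := exists_lineP p
  refine ⟨v, hv, hpF, fun g => ?_⟩
  obtain ⟨c, -, hc⟩ := exists_smul_of_lineP_eq (mulVec_ne_zero hN g hv) hv ((ha g v hv).symm.trans (hp g))
  exact ⟨c, hc⟩

/-- A unipotent point fixes every common eigenvector. -/
theorem eigen_unip {m : ℕ} {N : Matrix (Fin m) (Fin m) (Fn G)} (hN : IsRepMatrix N) (v : Fin m → k)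
    (hv : ∀ g : 𝟙_ (Over (Spec (CommRingCat.of k))) ⟶ G, ∃ c : k, (valM N g).mulVec v = c • v)
    {u : PT ⟶ G} (hu : IsUnipPt u) : (valM N u).mulVec v = v := by
  by_cases hv0 : v = 0
  · subst hv0; rw [Matrix.mulVec_zero]
  obtain ⟨x, hx⟩ := Function.ne_iff.mp hv0
  change v x ≠ 0 at hx
  choose c hc using hv
  let F : Fn G := (v x)⁻¹ • ∑ j, v j • N x j
  have hF : ∀ g, vl g F = c g := fun g => by
    have h1 := congrFun (hc g) x
    simp only [Matrix.mulVec, dotProduct, valM_apply, Pi.smul_apply, smul_eq_mul] at h1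
    simp only [F, map_smul, map_sum, smul_eq_mul]
    rw [Finset.sum_congr rfl fun j _ => _root_.mul_comm (v j) (vl g (N x j)), h1]
    field_simp
  have hF1 : c 1 = 1 := by
    have h1 := congrFun (hc 1) x
    rw [valM_one hN, Matrix.one_mulVec, Pi.smul_apply, smul_eq_mul] at h1
    exact (mul_eq_right₀ hx).mp h1.symm
  have hFm : ∀ a b, c (a * b) = c a * c b := fun a b => by
    have h1 := hc (a * b)
    rw [valM_mul hN, ← Matrix.mulVec_mulVec, hc b, Matrix.mulVec_smul, hc a, smul_smul] at h1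
    have h2 := congrFun h1 x
    simp only [Pi.smul_apply, smul_eq_mul] at h2
    rw [← mul_right_cancel₀ hx h2, _root_.mul_comm]
  have h1 := char_eq_one F (fun a b => by rw [hF, hF, hF, hFm]) (by rw [hF, hF1]) hu
  rw [hc u, ← hF, h1, one_smul]

end Groth.Agent.SolvGrp
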