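import Groth.Agent.SolvGrp.Sub
import Mathlib.LinearAlgebra.Eigenspace.Pi

/-! Finite criteria for unipotent and semisimple points. -/

set_option backward.isDefEq.respectTransparency false
set_option backward.isDefEq.respectTransparency.types false
set_option linter.style.haveILetI false

universe u

open CategoryTheory MonoidalCategory CartesianMonoidalCategory MonObj AlgebraicGeometry

namespace Groth.Agent.SolvGrp

open GrpSchLib GrpSchLib.Kunneth GrpSchLib.LineGroups WeilCmp.Unip AGFLib

variable {k : Type u} [Field k] [IsAlgClosed k]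

theorem apply_of_isDiag {V : Type*} [AddCommGroup V] [Module k V] {f : Module.End k V} (hd : IsDiag f) {lam : k}
    {v : V} (hv : v ∈ f.maxGenEigenspace lam) : f v = lam • v := by
  have hf := hd.isLocFin
  have hw : IsLocUnip (1 : Module.End k V) := fun x => ⟨1, by simp⟩
  rw [eq_ssPart hf hd hw rfl (_root_.mul_one f).symm]
  exact ssPart_apply hf hv

local notation "PT" => 𝟙_ (Over (Spec (CommRingCat.of k)))

variable {G : Over (Spec (CommRingCat.of k))} [GrpObj G] [IsAffine G.left] [LocallyOfFiniteType G.hom]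

variable [IsReduced G.left]

omit [IsReduced G.left] in
theorem exists_genSpace : ∃ W : Submodule k (Fn G), Module.Finite k W ∧ (∀ g : PT ⟶ G, ∀ w ∈ W, rl g w ∈ W) ∧
    Algebra.adjoin k (W : Set (Fn G)) = ⊤ := by
  haveI := finiteType_fn G
  obtain ⟨s, hs⟩ := Algebra.FiniteType.out (R := k) (A := Fn G)
  obtain ⟨W, hW, hsub, hst⟩ := exists_space (G := G) s
  exact ⟨W, hW, hst, top_le_iff.mp (hs ▸ Algebra.adjoin_mono hsub)⟩

/-- The unipotent points form a closed set. -/
theorem ptsClosed_unip : PtsClosed {g : PT ⟶ G | IsUnipPt g} := by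
  classical
  obtain ⟨W, hW, hst, hgen⟩ := exists_genSpace (G := G)
  let n := Module.finrank k W
  -- the function `g ↦ vl x ((rl g - 1) ^ n w)`
  let pw : ℕ → (G ⟶ G) := fun i => (𝟙 G) ^ i
  let F : (PT ⟶ G) → Fn G → Fn G := fun x w =>
    ∑ i ∈ Finset.range (n + 1), ((-1 : k) ^ (n - i) * (n.choose i : k)) • ev ((toUnit G ≫ x) * pw i) w
  have hF : ∀ (g x : PT ⟶ G) (w : Fn G), vl g (F x w) = vl x (((rl g - 1) ^ n) w) := by
    intro g x w
    have hg : ∀ i, g ≫ pw i = g ^ i := fun i => by
      induction i with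
      | zero => simp [pw, MonObj.comp_one]
      | succ i ih => simp only [pw, pow_succ, MonObj.comp_mul, Category.comp_id] at ih ⊢; rw [ih]
    rw [sub_eq_add_neg, (Commute.neg_one_right (rl g)).add_pow, LinearMap.sum_apply, map_sum, map_sum]
    refine Finset.sum_congr rfl fun i hi => ?_
    rw [map_smul, vl_ev, MonObj.comp_mul, ← Category.assoc, toUnit_unique (g ≫ toUnit G) (𝟙 _), Category.id_comp,
      hg, ← vl_rt]
    rw [show ((-1 : Module.End k (Fn G)) ^ (n - i)) = ((-1 : k) ^ (n - i)) • 1 by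
      rw [show (-1 : Module.End k (Fn G)) = (-1 : k) • 1 from (neg_one_smul k (1 : Module.End k (Fn G))).symm, smul_pow, one_pow]]
    rw [mul_smul_comm, _root_.mul_one, smul_mul_assoc, LinearMap.smul_apply, map_smul, Module.End.mul_apply,
      Module.End.natCast_apply, map_nsmul, map_nsmul, ← rl_pow, mul_smul]
    simp [← Nat.cast_smul_eq_nsmul k, mul_smul, mul_comm, mul_left_comm]
  convert ptsClosed_zero {f : Fn G | ∃ x, ∃ w ∈ W, f = F x w} using 1
  · ext g
    constructor
    · intro hg f ⟨x, w, hw, hf⟩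
      rw [hf, hF]
      let f' : Module.End k W := (rl g).restrict (hst g)
      have key : ∀ (m : ℕ) (v : W), ((rl g - 1) ^ m) (v : Fn G) = (((f' - (1 : k) • 1) ^ m) v : W) := by
        intro m v
        induction m with
        | zero => simp
        | succ m ih =>
          rw [pow_succ', pow_succ', Module.End.mul_apply, Module.End.mul_apply, ih, one_smul]
          rfl
      have h1 : ((rl g - 1) ^ n) w = 0 := by
        obtain ⟨m, hm⟩ := hg w
        have h2 : (⟨w, hw⟩ : W) ∈ f'.maxGenEigenspace 1 :=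
          (Module.End.mem_maxGenEigenspace _ _ _).mpr ⟨m, Subtype.ext ((key m ⟨w, hw⟩).symm.trans hm)⟩
        rw [Module.End.maxGenEigenspace_eq_genEigenspace_finrank, Module.End.mem_genEigenspace_nat,
          LinearMap.mem_ker] at h2
        exact (key n ⟨w, hw⟩).trans (congrArg Subtype.val h2)
      rw [h1, map_zero]
    · intro h
      have hWu : ∀ w ∈ W, ((rl g - 1) ^ n) w = 0 := fun w hw => by
        exact eq_of_vl fun x => by rw [← hF, map_zero]; exact h _ ⟨x, w, hw, rfl⟩
      intro v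
      have hv : v ∈ Algebra.adjoin k (W : Set (Fn G)) := hgen ▸ Algebra.mem_top
      suffices h1 : v ∈ Module.End.maxGenEigenspace (rl g) 1 by
        obtain ⟨m, hm⟩ := (Module.End.mem_maxGenEigenspace _ _ _).mp h1
        exact ⟨m, by simpa using hm⟩
      induction hv using Algebra.adjoin_induction with
      | mem a ha => exact (Module.End.mem_maxGenEigenspace _ _ _).mpr ⟨n, by simpa using hWu a ha⟩
      | algebraMap c =>
        refine (Module.End.mem_maxGenEigenspace _ _ _).mpr ⟨1, ?_⟩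
        simp [rl]
      | add a b _ _ ha hb => exact Submodule.add_mem _ ha hb
      | mul a b _ _ ha hb =>
        have := mul_mem_maxGen (rt g) ha hb
        rwa [_root_.one_mul] at this

/-- The points for which given functions are eigenfunctions. -/
def eigPts (E : Set (Fn G)) : Set (𝟙_ (Over (Spec (CommRingCat.of k))) ⟶ G) :=
  {g | ∀ e ∈ E, ∃ c : k, rt g e = c • e}

theorem ptsClosed_eigPts (E : Set (Fn G)) : PtsClosed (eigPts E) := by
  let F : (PT ⟶ G) → (PT ⟶ G) → Fn G → Fn G := fun x y e =>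
    vl y e • ev ((toUnit G ≫ x) * 𝟙 G) e - vl x e • ev ((toUnit G ≫ y) * 𝟙 G) e
  have hF : ∀ (g x y : PT ⟶ G) e, vl g (F x y e) = vl y e * vl x (rt g e) - vl x e * vl y (rt g e) := by
    intro g x y e
    simp only [F, map_sub, map_smul, smul_eq_mul, vl_ev, MonObj.comp_mul, Category.comp_id, ← Category.assoc,
      toUnit_unique (g ≫ toUnit G) (𝟙 _), Category.id_comp, vl_rt]
  convert ptsClosed_zero {f : Fn G | ∃ x y, ∃ e ∈ E, f = F x y e} using 1
  ext g
  constructor
  · intro hg f ⟨x, y, e, he, hf⟩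
    obtain ⟨c, hc⟩ := hg e he
    rw [hf, hF, hc]
    simp only [map_smul, smul_eq_mul]
    ring
  · intro h e he
    by_cases h0 : ∀ y : PT ⟶ G, vl y e = 0
    · exact ⟨0, by rw [show e = 0 from eq_of_vl fun y => by rw [h0, map_zero]]; simp⟩
    push Not at h0
    obtain ⟨y, hy⟩ := h0
    refine ⟨vl y (rt g e) / vl y e, eq_of_vl fun x => ?_⟩
    have h1 := h _ ⟨x, y, e, he, rfl⟩
    rw [hF, sub_eq_zero] at h1
    rw [map_smul, smul_eq_mul]
    field_simp
    linear_combination h1

theorem eigPts_mul {E : Set (Fn G)} {g h : PT ⟶ G} (hg : g ∈ eigPts E) (hh : h ∈ eigPts E) : g * h ∈ eigPts E := by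
  intro e he
  obtain ⟨c, hc⟩ := hg e he
  obtain ⟨d, hd⟩ := hh e he
  refine ⟨d * c, ?_⟩
  show rl (g * h) e = _
  rw [rl_mul, Module.End.mul_apply]
  show rt g (rt h e) = _
  rw [hd, map_smul, hc, smul_smul]

theorem eigPts_inv {E : Set (Fn G)} {g : PT ⟶ G} (hg : g ∈ eigPts E) : g⁻¹ ∈ eigPts E := by
  intro e he
  obtain ⟨c, hc⟩ := hg e he
  have h1 : rl g⁻¹ (rl g e) = e := by rw [← Module.End.mul_apply, ← rl_mul, inv_mul_cancel, rl_one]; rfl
  rw [show rl g e = c • e from hc, map_smul] at h1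
  by_cases h0 : c = 0
  · exact ⟨0, by rw [show e = 0 by rw [← h1, h0, zero_smul]]; simp⟩
  · refine ⟨c⁻¹, ?_⟩
    show rl g⁻¹ e = _
    conv_rhs => rw [← h1, smul_smul, inv_mul_cancel₀ h0, one_smul]

/-- The closed subgroup of points with the given eigenfunctions. -/
def eigSub (E : Set (Fn G)) : Subgroup (𝟙_ (Over (Spec (CommRingCat.of k))) ⟶ G) where
  carrier := eigPts E
  one_mem' e _ := ⟨1, by
    show rl (1 : PT ⟶ G) e = _
    rw [rl_one, one_smul]; rfl⟩
  mul_mem' := eigPts_mul
  inv_mem' := eigPts_inv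

/-- Commuting semisimple points lie in a closed commutative subgroup of semisimple points, cut out by eigenfunctions
spanning everything. -/
theorem exists_eigSub (S : Set (PT ⟶ G)) (hss : ∀ g ∈ S, IsSsPt g) (hcomm : ∀ g ∈ S, ∀ h ∈ S, Commute g h) :
    ∃ E : Set (Fn G), Submodule.span k E = ⊤ ∧ S ⊆ eigSub E ∧ (∀ g ∈ eigSub E, IsSsPt g) ∧
      (∀ g ∈ eigSub E, ∀ h ∈ eigSub E, Commute g h) := by
  classical
  let E : Set (Fn G) := {e | ∀ g ∈ S, ∃ c : k, rt g e = c • e}
  have hspan : Submodule.span k E = ⊤ := by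
    refine eq_top_iff.mpr fun v _ => ?_
    obtain ⟨W, hW, hsub, hst⟩ := exists_space (G := G) {v}
    have hv : v ∈ W := hsub (by simp)
    let f : S → Module.End k W := fun g => (rl (g : PT ⟶ G)).restrict (hst g)
    have hmax : ∀ (g : S) (c : k) (w : W), w ∈ (f g).maxGenEigenspace c → rl (g : PT ⟶ G) w = c • (w : Fn G) := by
      intro g c w hw
      refine apply_of_isDiag (hss g g.2) ?_
      obtain ⟨m, hm⟩ := (Module.End.mem_maxGenEigenspace _ c w).mp hw
      refine (Module.End.mem_maxGenEigenspace _ c _).mpr ⟨m, ?_⟩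
      have key : ∀ (j : ℕ), ((rl (g : PT ⟶ G) - c • 1) ^ j) (w : Fn G) = (((f g - c • 1) ^ j) w : W) := by
        intro j
        induction j with
        | zero => simp
        | succ j ih => rw [pow_succ', pow_succ', Module.End.mul_apply, Module.End.mul_apply, ih]; rfl
      rw [key, hm]; rfl
    have htop := Module.End.iSup_iInf_maxGenEigenspace_eq_top_of_iSup_maxGenEigenspace_eq_top_of_commute f
      (fun g h _ => LinearMap.ext fun w => Subtype.ext
        (LinearMap.congr_fun (rl_commute (hcomm g g.2 h h.2)) (w : Fn G)))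
      (fun g => Module.End.iSup_maxGenEigenspace_eq_top _)
    have hvmem : (⟨v, hv⟩ : W) ∈ ⨆ χ : S → k, ⨅ i, (f i).maxGenEigenspace (χ i) := htop ▸ Submodule.mem_top
    have hle : (⨆ χ : S → k, ⨅ i, (f i).maxGenEigenspace (χ i)).map W.subtype ≤ Submodule.span k E := by
      rw [Submodule.map_iSup]
      refine iSup_le fun χ => ?_
      rintro _ ⟨w, hw, rfl⟩
      refine Submodule.subset_span fun g hg => ⟨χ ⟨g, hg⟩, ?_⟩
      exact hmax ⟨g, hg⟩ _ w ((Submodule.mem_iInf _).mp hw ⟨g, hg⟩)
    exact hle ⟨_, hvmem, rfl⟩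
  refine ⟨E, hspan, fun g hg e he => he g hg, fun g hg => ?_, fun g hg h hh => ?_⟩
  · refine eq_top_iff.mpr (le_trans (ge_of_eq hspan) (Submodule.span_le.mpr fun e he => ?_))
    obtain ⟨c, hc⟩ := hg e he
    exact Submodule.mem_iSup_of_mem c (Module.End.mem_eigenspace_iff.mpr hc)
  · refine rl_inj ?_
    rw [rl_mul, rl_mul]
    refine LinearMap.ext_on hspan fun e he => ?_
    obtain ⟨c, hc⟩ := hg e he
    obtain ⟨d, hd⟩ := hh e he
    show rt g (rt h e) = rt h (rt g e)
    rw [hd, hc, map_smul, map_smul, hd, hc, smul_comm]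

end Groth.Agent.SolvGrp
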