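import Groth.Agent.SolvGrp.Limit
import Groth.Agent.GrpSchLib.Kunneth
import Groth.Agent.SolvGrp.Perfect

/-! Torsion points are dense in a torus, and dense rational points stay dense over a larger field. -/

set_option backward.isDefEq.respectTransparency false
set_option backward.isDefEq.respectTransparency.types false
set_option linter.style.haveILetI false

universe u

open CategoryTheory MonoidalCategory CartesianMonoidalCategory MonObj AlgebraicGeometry

namespace Groth.Agent.SolvGrp

open GrpSchLib GrpSchLib.Kunneth GrpSchLib.LineGroups WeilCmp.Unip AGFLib AGFLib.Gen AGFLib.BorelFixed AGFLib.BorelExist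

variable {k : Type u} [Field k]

local notation "PT" => 𝟙_ (Over (Spec (CommRingCat.of k)))

/-- A function vanishing at torsion points of a torus of order a power of a prime invertible in the field vanishes. -/
theorem eq_zero_of_torsion [IsAlgClosed k] {T : Over (Spec (CommRingCat.of k))} [GrpObj T] (hT : Red.IsTorus T)
    {l : ℕ} (hl : l.Prime) (hlk : (l : k) ≠ 0) (F : Fn T)
    (h : ∀ (x : PT ⟶ T) (j : ℕ), x ^ l ^ j = 1 → vl x F = 0) : F = 0 := by
  classical
  haveI : IsCommMonObj T := ⟨by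
    rw [show μ[T] = fst T T * snd T T by rw [Hom.mul_def, lift_fst_snd, Category.id_comp], MonObj.comp_mul,
      braiding_hom_fst, braiding_hom_snd,
      GrpSchLib.MultTypeComm.points_comm (TorusQI.isMultTypeFT_of_isTorus hT) (snd T T) (fst T T)]⟩
  obtain ⟨haT, hsT, -, -⟩ := torus_props hT
  haveI := haT
  haveI := hsT
  haveI : IsReduced T.left := isReduced_of_smooth_field T.hom
  obtain ⟨r, φ, hφ⟩ := exists_torus_chars hT
  let M : Submonoid (PT ⟶ T) :=
    { carrier := {x | ∃ j : ℕ, x ^ l ^ j = 1}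
      one_mem' := ⟨0, one_pow _⟩
      mul_mem' := by
        rintro a b ⟨i, ha⟩ ⟨j, hb⟩
        refine ⟨i + j, ?_⟩
        rw [mul_pow, pow_add, pow_mul, ha, one_pow, _root_.one_mul, mul_comm (l ^ i), pow_mul, hb, one_pow] }
  have hv : ∀ (x : PT ⟶ T) (i : Multiplicative (Fin r → ℤ)), vl x (φ (MonoidAlgebra.single i 1)) ≠ 0 := fun x i =>
    (((((MonoidAlgebra.of k (Multiplicative (Fin r → ℤ))).toHomUnits i).isUnit).map φ).map (vl x)).ne_zero
  let χ : Multiplicative (Fin r → ℤ) → M →* k := fun i =>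
    { toFun := fun x => vl (x : PT ⟶ T) (φ (MonoidAlgebra.single i 1))
      map_one' := by
        have h1 := hφ 1 1 i
        rw [_root_.mul_one] at h1
        exact (mul_eq_left₀ (hv 1 i)).mp h1.symm
      map_mul' := fun x y => hφ _ _ i }
  have hinj : Function.Injective χ := by
    intro i i' hii
    refine Multiplicative.toAdd.injective (funext fun a => ?_)
    suffices hd : ∀ j : ℕ, ((l ^ j : ℕ) : ℤ) ∣ Multiplicative.toAdd i a - Multiplicative.toAdd i' a by
      by_contra hne
      have h1 : Multiplicative.toAdd i a - Multiplicative.toAdd i' a ≠ 0 := sub_ne_zero.mpr hne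
      obtain ⟨j, hj⟩ := pow_unbounded_of_one_lt (Multiplicative.toAdd i a - Multiplicative.toAdd i' a).natAbs hl.one_lt
      have h2 := Int.natAbs_le_of_dvd_ne_zero (hd j) h1
      rw [Int.natAbs_natCast] at h2
      omega
    intro j
    haveI : NeZero ((l ^ j : ℕ) : k) := ⟨by rw [Nat.cast_pow]; exact pow_ne_zero j hlk⟩
    obtain ⟨ζ, hζ⟩ := HasEnoughRootsOfUnity.exists_primitiveRoot k (l ^ j)
    have hζ0 : ζ ≠ 0 := hζ.ne_zero (pow_ne_zero j hl.ne_zero)
    let f : Multiplicative (Fin r → ℤ) →* k :=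
      { toFun := fun m => ζ ^ (Multiplicative.toAdd m a)
        map_one' := by simp
        map_mul' := fun x y => zpow_add₀ hζ0 _ _ }
    obtain ⟨x, hx⟩ := exists_pt ((MonoidAlgebra.lift k k _ f).comp (φ.symm : Fn T →ₐ[k] _))
    have hxv : ∀ m, vl x (φ (MonoidAlgebra.single m 1)) = f m := fun m => by
      rw [hx]
      show MonoidAlgebra.lift k k _ f (φ.symm (φ (MonoidAlgebra.single m 1))) = f m
      rw [AlgEquiv.symm_apply_apply, MonoidAlgebra.lift_single, one_smul]
    have hpow : ∀ (y : PT ⟶ T) (m : Multiplicative (Fin r → ℤ)) (n : ℕ),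
        vl (y ^ n) (φ (MonoidAlgebra.single m 1)) = vl y (φ (MonoidAlgebra.single m 1)) ^ n := by
      intro y m n
      induction n with
      | zero =>
        have h1 := hφ 1 1 m
        rw [_root_.mul_one] at h1
        rw [pow_zero, pow_zero]
        exact (mul_eq_left₀ (hv 1 m)).mp h1.symm
      | succ n ih => rw [pow_succ, pow_succ, hφ, ih]
    have hxM : x ∈ M := ⟨j, vl_ext fun G => by
      have e : (vl (x ^ l ^ j) : Fn T →ₐ[k] k).comp φ.toAlgHom = (vl (1 : PT ⟶ T) : Fn T →ₐ[k] k).comp φ.toAlgHom := by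
        refine (MonoidAlgebra.lift k k (Multiplicative (Fin r → ℤ))).symm.injective (MonoidHom.ext fun m => ?_)
        show vl (x ^ l ^ j) (φ (MonoidAlgebra.single m 1)) = vl 1 (φ (MonoidAlgebra.single m 1))
        rw [hpow, hxv, show vl (1 : PT ⟶ T) (φ (MonoidAlgebra.single m 1)) = 1 by
          rw [← pow_zero x, hpow, pow_zero]]
        show (ζ ^ (Multiplicative.toAdd m a)) ^ l ^ j = 1
        rw [← zpow_natCast, ← zpow_mul, mul_comm, zpow_mul, zpow_natCast, hζ.pow_eq_one, one_zpow]
      exact DFunLike.congr_fun e (φ.symm G) |> fun h => by simpa using h⟩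
    have h1 : f i = f i' := by
      rw [← hxv, ← hxv]
      exact DFunLike.congr_fun hii ⟨x, hxM⟩
    exact (hζ.zpow_eq_one_iff_dvd _).mp (by
      rw [zpow_sub₀ hζ0]
      exact div_eq_one_iff_eq (zpow_ne_zero _ hζ0) |>.mpr h1)
  have hli : LinearIndependent k (fun i => (χ i : M → k)) :=
    (linearIndependent_monoidHom M k).comp χ hinj
  obtain ⟨c, rfl⟩ := φ.surjective F
  have hc : Finsupp.linearCombination k (fun i => (χ i : M → k)) c.coeff = 0 := by
    funext x
    obtain ⟨x, j, hj⟩ := x
    have h1 := h x j hj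
    conv_lhs at h1 => rw [← MonoidAlgebra.sum_single c, Finsupp.sum, map_sum, map_sum]
    simp only [Finsupp.linearCombination_apply, Finsupp.sum, Finset.sum_apply, Pi.smul_apply, Pi.zero_apply]
    refine Eq.trans (Finset.sum_congr rfl fun i _ => ?_) h1
    show c.coeff i • vl x (φ (MonoidAlgebra.single i 1)) = vl x (φ (MonoidAlgebra.single i (c.coeff i)))
    rw [show MonoidAlgebra.single i (c.coeff i) = c.coeff i • MonoidAlgebra.single i (1 : k) by simp, map_smul, map_smul]
  have hc0 : c.coeff = 0 := linearIndependent_iff.mp hli c.coeff hc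
  rw [show c = 0 from MonoidAlgebra.coeff_injective (by rw [hc0]; rfl), map_zero]

/-- The extension of a rational point to a larger field. -/
noncomputable abbrev extPt {K : Type u} [Field K] (σ : Spec (CommRingCat.of K) ⟶ Spec (CommRingCat.of k))
    {Z : Over (Spec (CommRingCat.of k))} (s : PT ⟶ Z) : 𝟙_ (Over (Spec (CommRingCat.of K))) ⟶ Red.bc σ Z :=
  (Over.mapPullbackAdj σ).homEquiv (𝟙_ _) Z (toUnit _ ≫ s)

theorem extPt_left {K : Type u} [Field K] (σ : Spec (CommRingCat.of K) ⟶ Spec (CommRingCat.of k))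
    {Z : Over (Spec (CommRingCat.of k))} (s : PT ⟶ Z) :
    (extPt σ s).left = (lift (toUnit (Over.mk σ) ≫ s) (𝟙 (Over.mk σ))).left := by
  simp only [extPt, Adjunction.homEquiv_unit]
  apply Limits.pullback.hom_ext
  · simp
    exact Category.id_comp _
  · simp

/-- Functions over the larger field are detected by the extended rational points. -/
theorem eq_zero_of_pts_bc {K : Type u} [Field K] (σ : Spec (CommRingCat.of K) ⟶ Spec (CommRingCat.of k))
    {Z : Over (Spec (CommRingCat.of k))} [IsAffine Z.left] (S : Set (PT ⟶ Z))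
    (hS : ∀ F : Fn Z, (∀ s ∈ S, vl s F = 0) → F = 0) (F : Fn (Z ⊗ Over.mk σ))
    (h : ∀ s ∈ S, ¬ IsUnit (ev (lift (toUnit (Over.mk σ) ≫ s) (𝟙 (Over.mk σ))) F)) : F = 0 := by
  classical
  let X : Over (Spec (CommRingCat.of k)) := Over.mk σ
  haveI : IsAffine X.left := inferInstanceAs (IsAffine (Spec (CommRingCat.of K)))
  haveI : IsAffineHom X.hom := isAffineHom_of_isAffine X.hom
  haveI : IsAffineHom Z.hom := isAffineHom_of_isAffine Z.hom
  let b := Module.Free.chooseBasis k (Fn X)
  obtain ⟨t, a, hF⟩ := exists_expand (X := Z) (Y := X) b F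
  have ha : ∀ i ∈ t, a i = 0 := by
    intro i hi
    refine hS _ fun s hs => ?_
    let w : X ⟶ Z ⊗ X := lift (toUnit X ≫ s) (𝟙 X)
    have h0 : ev w F = 0 := by
      by_contra hne
      let e := (Scheme.ΓSpecIso (CommRingCat.of K)).commRingCatIsoToRingEquiv
      exact h s hs ((MulEquiv.isUnit_map e.toMulEquiv).mp ((map_ne_zero_iff e e.injective).mpr hne).isUnit)
    rw [hF, map_sum] at h0
    have h2 : ∑ l ∈ t, vl s (a l) • b l = 0 := by
      rw [← h0]
      refine Finset.sum_congr rfl fun l _ => ?_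
      rw [map_mul, ev_ev, ev_ev, lift_fst, lift_snd, ev_id, ← ev_ev, ← AGFLib.ProjAct.algebraMap_toK (k := k) (ev s (a l)),
        AlgHom.commutes, Algebra.smul_def]
      rfl
    exact Fintype.linearIndependent_iff.mp (b.linearIndependent.comp (fun x : t => (x : _)) Subtype.val_injective)
      (fun x => vl s (a x)) (by rw [← h2, ← Finset.sum_coe_sort t]; rfl) ⟨i, hi⟩
  rw [hF]
  exact Finset.sum_eq_zero fun l hl => by rw [ha l hl, map_zero, zero_mul]

/-- Rational points separating functions stay schematically dense after every extension of the field. -/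
theorem isReduced_bc_of_pts {K : Type u} [Field K] (σ : Spec (CommRingCat.of K) ⟶ Spec (CommRingCat.of k))
    {Z : Over (Spec (CommRingCat.of k))} [IsAffine Z.left] (S : Set (PT ⟶ Z))
    (hS : ∀ F : Fn Z, (∀ s ∈ S, vl s F = 0) → F = 0) : IsReduced (Red.bc σ Z).left := by
  let X : Over (Spec (CommRingCat.of k)) := Over.mk σ
  haveI : IsAffine X.left := inferInstanceAs (IsAffine (Spec (CommRingCat.of K)))
  haveI : IsAffine (Z ⊗ X).left := inferInstanceAs (IsAffine (Limits.pullback Z.hom X.hom))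
  haveI : _root_.IsReduced (Fn (Z ⊗ X)) := ⟨fun F hF => eq_zero_of_pts_bc σ S hS F fun s _ hu => by
    haveI : Nontrivial (Fn X) := (Scheme.ΓSpecIso (CommRingCat.of K)).commRingCatIsoToRingEquiv.toEquiv.nontrivial
    exact (hF.map (ev _)).not_isUnit hu⟩
  haveI : IsReduced (Spec Γ((Z ⊗ X).left, ⊤)) := inferInstance
  exact isReduced_of_isOpenImmersion (Z ⊗ X).left.isoSpec.hom

/-- Rational points separating functions are dense after every extension of the field. -/
theorem eq_univ_of_pts {K : Type u} [Field K] (σ : Spec (CommRingCat.of K) ⟶ Spec (CommRingCat.of k))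
    {Z : Over (Spec (CommRingCat.of k))} [IsAffine Z.left] (S : Set (PT ⟶ Z))
    (hS : ∀ F : Fn Z, (∀ s ∈ S, vl s F = 0) → F = 0) (C : Set (Red.bc σ Z).left) (hC : IsClosed C)
    (hmem : ∀ s ∈ S, (extPt σ s).left (IsLocalRing.closedPoint K) ∈ C) : C = Set.univ := by
  let X : Over (Spec (CommRingCat.of k)) := Over.mk σ
  haveI : IsAffine X.left := inferInstanceAs (IsAffine (Spec (CommRingCat.of K)))
  haveI : IsAffine (Z ⊗ X).left := inferInstanceAs (IsAffine (Limits.pullback Z.hom X.hom))
  refine Set.eq_univ_of_forall fun p => by_contra fun hp => ?_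
  obtain ⟨F, hFle, hpF⟩ := (isAffineOpen_top (Z ⊗ X).left).exists_basicOpen_le (V := ⟨Cᶜ, hC.isOpen_compl⟩) ⟨p, hp⟩ trivial
  suffices hF : F = 0 by
    rw [hF, Scheme.basicOpen_zero] at hpF
    exact hpF
  refine eq_zero_of_pts_bc σ S hS F fun s hs hu => ?_
  have h1 : IsLocalRing.closedPoint K ∈ X.left.basicOpen (ev (lift (toUnit X ≫ s) (𝟙 X)) F) := by
    rw [X.left.basicOpen_of_isUnit hu]; trivial
  rw [ev_apply, ← Scheme.preimage_basicOpen_top] at h1
  have h2 := hmem s hs
  rw [extPt_left] at h2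
  exact hFle h1 h2


/-- A dense set of rational points of a reduced affine scheme separates functions. -/
theorem eq_zero_of_dense {Z : Over (Spec (CommRingCat.of k))} [IsAffine Z.left] [IsReduced Z.left] (S : Set (PT ⟶ Z))
    (hS : ∀ O : Z.left.Opens, (∃ x, x ∈ O) → ∃ s ∈ S, s.left (IsLocalRing.closedPoint k) ∈ O) (F : Fn Z)
    (h : ∀ s ∈ S, vl s F = 0) : F = 0 := by
  refine (AlgebraicGeometry.basicOpen_eq_bot_iff F).mp (TopologicalSpace.Opens.ext ?_)
  refine Set.eq_empty_of_forall_notMem fun x hx => ?_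
  obtain ⟨s, hs, hmem⟩ := hS _ ⟨x, hx⟩
  have h0 : ev s F = 0 := (ProjAct.toK (k := k)).injective ((h s hs).trans (map_zero _).symm)
  have h1 : IsLocalRing.closedPoint k ∈ s.left ⁻¹ᵁ Z.left.basicOpen F := hmem
  rw [Scheme.preimage_basicOpen_top, ← ev_apply, h0] at h1
  rw [Scheme.basicOpen_zero] at h1
  exact h1

/-- A closed set containing the torsion points of a torus is everything. -/
theorem eq_univ_of_torsion [IsAlgClosed k] {T : Over (Spec (CommRingCat.of k))} [GrpObj T] (hT : Red.IsTorus T)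
    {l : ℕ} (hl : l.Prime) (hlk : (l : k) ≠ 0) (C : Set T.left) (hC : IsClosed C)
    (h : ∀ (x : PT ⟶ T) (j : ℕ), x ^ l ^ j = 1 → x.left (IsLocalRing.closedPoint k) ∈ C) : C = Set.univ := by
  obtain ⟨haT, -, -, -⟩ := torus_props hT
  haveI := haT
  refine Set.eq_univ_of_forall fun p => by_contra fun hp => ?_
  obtain ⟨F, hFle, hpF⟩ := (isAffineOpen_top T.left).exists_basicOpen_le (V := ⟨Cᶜ, hC.isOpen_compl⟩) ⟨p, hp⟩ trivial
  suffices hF : F = 0 by
    rw [hF, Scheme.basicOpen_zero] at hpF
    exact hpF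
  refine eq_zero_of_torsion hT hl hlk F fun x j hx => by_contra fun hne => ?_
  have hu : IsUnit (ev x F) := by
    refine (MulEquiv.isUnit_map (ProjAct.toK (k := k)).toMulEquiv).mp ?_
    exact (isUnit_iff_ne_zero.mpr hne : IsUnit ((ProjAct.toK (k := k)) (ev x F)))
  have h1 : IsLocalRing.closedPoint k ∈ (𝟙_ (Over (Spec (CommRingCat.of k)))).left.basicOpen (ev x F) := by
    rw [Scheme.basicOpen_of_isUnit _ hu]; trivial
  rw [ev_apply, ← Scheme.preimage_basicOpen_top] at h1
  exact hFle h1 (h x j hx)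

end Groth.Agent.SolvGrp
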