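import Groth.Agent.SolvGrp.Weights
import Groth.Agent.SolvGrp.Bridge

/-! A torus and a unipotent subgroup meet trivially on points with values in any scheme. -/

set_option backward.isDefEq.respectTransparency false
set_option backward.isDefEq.respectTransparency.types false
set_option linter.style.haveILetI false

universe u v w

open CategoryTheory MonoidalCategory CartesianMonoidalCategory MonObj AlgebraicGeometry

namespace Groth.Agent.SolvGrp

open GrpSchLib GrpSchLib.Kunneth GrpSchLib.LineGroups WeilCmp.Unip AGFLib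

/-- Kolchin: a nilpotent group of unipotent operators fixes a nonzero vector. -/
theorem exists_fixed_vec {k : Type u} [Field k] {Γ : Type w} [Group Γ] [Group.IsNilpotent Γ] :
    ∀ (n : ℕ) (V : Type v) [AddCommGroup V] [Module k V] [FiniteDimensional k V] [Nontrivial V],
    Module.finrank k V = n → ∀ ρ : Γ →* Module.End k V, (∀ g, IsNilpotent (ρ g - 1)) →
    ∃ v ≠ 0, ∀ g, ρ g v = v := by
  intro n
  induction n using Nat.strong_induction_on with
  | _ n ih =>
  intro V _ _ _ _ hn ρ hu
  by_cases htriv : ∀ g, ρ g = 1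
  · obtain ⟨v, hv⟩ := exists_ne (0 : V)
    exact ⟨v, hv, fun g => by rw [htriv g]; rfl⟩
  push Not at htriv
  let ρ' : Γ →* (Module.End k V)ˣ := ρ.toHomUnits
  haveI : Group.IsNilpotent ρ'.range := nilpotent_of_surjective ρ'.rangeRestrict ρ'.rangeRestrict_surjective
  obtain ⟨g₀, hg₀⟩ := htriv
  haveI : Nontrivial ρ'.range := ⟨⟨1, ⟨ρ' g₀, g₀, rfl⟩, fun h => hg₀ (congrArg (fun z : ρ'.range => ((z : (Module.End k V)ˣ) : Module.End k V)) h).symm⟩⟩
  haveI : Nontrivial (Subgroup.center ρ'.range) := (Subgroup.nontrivial_iff_ne_bot _).mpr (Group.IsNilpotent.center_ne_bot _)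
  obtain ⟨⟨z, hzc⟩, hz1⟩ := exists_ne (1 : Subgroup.center ρ'.range)
  obtain ⟨g, hg⟩ := z.2
  have hcomm : ∀ g', Commute (ρ g') (ρ g) := fun g' => by
    have h1 := (Subgroup.mem_center_iff.mp hzc) ⟨ρ' g', g', rfl⟩
    have h2 := congrArg (fun z : ρ'.range => ((z : (Module.End k V)ˣ) : Module.End k V)) h1
    simp only [Subgroup.coe_mul, Units.val_mul, ← hg] at h2
    exact h2
  have hne : ρ g ≠ 1 := fun h => hz1 (Subtype.ext (Subtype.ext (by
    rw [← hg]
    exact Units.ext h)))
  let W : Submodule k V := LinearMap.ker (ρ g - 1)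
  haveI : Nontrivial W := by
    rw [Submodule.nontrivial_iff_ne_bot]
    intro h
    obtain ⟨m, hm⟩ := hu g
    obtain ⟨v, hv⟩ := exists_ne (0 : V)
    refine hv ?_
    have hinj : Function.Injective (ρ g - 1 : Module.End k V) := LinearMap.ker_eq_bot.mp h
    have hinj' : Function.Injective ((ρ g - 1 : Module.End k V) ^ m) := by
      rw [Module.End.coe_pow]
      exact hinj.iterate m
    exact hinj' (by rw [hm, LinearMap.zero_apply, LinearMap.zero_apply])
  have hlt : Module.finrank k W < n := by
    rw [← hn]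
    refine Submodule.finrank_lt fun h => hne ?_
    exact sub_eq_zero.mp (LinearMap.ker_eq_top.mp h)
  have hst : ∀ g', ∀ x ∈ W, ρ g' x ∈ W := fun g' x hx => by
    simp only [W, LinearMap.mem_ker, LinearMap.sub_apply, Module.End.one_apply, sub_eq_zero] at hx ⊢
    rw [← Module.End.mul_apply, ← (hcomm g').eq, Module.End.mul_apply, hx]
  let σ : Γ →* Module.End k W :=
    { toFun := fun g' => (ρ g').restrict (hst g')
      map_one' := LinearMap.ext fun x => Subtype.ext (by
        show ρ 1 (x : V) = _
        rw [map_one]; rfl)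
      map_mul' := fun a b => LinearMap.ext fun x => Subtype.ext (by
        show ρ (a * b) (x : V) = _
        rw [map_mul]; rfl) }
  obtain ⟨v, hv, hfix⟩ := ih _ hlt W rfl σ fun g' => by
    obtain ⟨m, hm⟩ := hu g'
    refine ⟨m, LinearMap.ext fun x => Subtype.ext ?_⟩
    have key : ∀ j : ℕ, (((σ g' - 1) ^ j) x : V) = ((ρ g' - 1) ^ j) (x : V) := by
      intro j
      induction j with
      | zero => simp
      | succ j ih => rw [pow_succ', pow_succ', Module.End.mul_apply, Module.End.mul_apply, ← ih]; rfl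
    rw [key, hm]
    rfl
  exact ⟨v, fun h => hv (Subtype.ext h), fun g' => congrArg Subtype.val (hfix g')⟩

variable {k : Type u} [Field k] [IsAlgClosed k]

local notation "PT" => 𝟙_ (Over (Spec (CommRingCat.of k)))

variable {G T U : Over (Spec (CommRingCat.of k))} [GrpObj G] [IsAffine G.left] [LocallyOfFiniteType G.hom]
  [IsReduced G.left] [GrpObj T] [GrpObj U] (iT : T ⟶ G) [IsMonHom iT] (iU : U ⟶ G) [IsMonHom iU]

/-- A point of a torus which is a point of a unipotent subgroup is trivial. -/
theorem eq_one_of_torus_unip [IsAffine U.left] [Smooth U.hom] (hT : Red.IsTorus T)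
    (hu : ∀ y : PT ⟶ U, IsUnipPt y) {X : Over (Spec (CommRingCat.of k))} (a : X ⟶ T) (b : X ⟶ U)
    (hab : a ≫ iT = b ≫ iU) : b ≫ iU = 1 := by
  classical
  by_cases hX : Subsingleton (Fn X)
  · exact ext_ev (AlgHom.ext fun f => Subsingleton.elim _ _)
  haveI : Nontrivial (Fn X) := not_subsingleton_iff_nontrivial.mp hX
  haveI : IsReduced U.left := isReduced_of_smooth_field U.hom
  obtain ⟨haT, hsT, -, -⟩ := torus_props hT
  haveI := haT
  haveI := hsT
  haveI : IsReduced T.left := isReduced_of_smooth_field T.hom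
  haveI := isNilpotent_pts hu
  obtain ⟨n, w, χ, hli, hgen, hst, hw⟩ := exists_weights iT hT
  let W : Submodule k (Fn G) := Submodule.span k (Set.range w)
  haveI : FiniteDimensional k W := FiniteDimensional.span_of_finite k (Set.finite_range w)
  let S : Set (Fin n) := {c | ev a (χ c) = 1}
  let W1 : Submodule k (Fn G) := Submodule.span k (w '' S)
  have hW1 : W1 ≤ W := Submodule.span_mono (Set.image_subset_range _ _)
  have hst' : ∀ (g : PT ⟶ G), ∀ v ∈ W, rl g v ∈ W := fun g v hv => by
    have : W ≤ W.comap (rl g) := Submodule.span_le.mpr (by rintro _ ⟨c, rfl⟩; exact hst g c)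
    exact this hv
  let Y : Submodule k (Fn G) := W ⊓ ⨅ y : PT ⟶ U, W1.comap (rl (y ≫ iU))
  have hY : ∀ v, v ∈ Y ↔ v ∈ W ∧ ∀ y : PT ⟶ U, rl (y ≫ iU) v ∈ W1 := fun v => by simp [Y]
  have hY1 : Y ≤ W1 := fun v hv => by
    have := ((hY v).mp hv).2 1
    rwa [MonObj.one_comp, rl_one] at this
  have hYst : ∀ (y : PT ⟶ U), ∀ v ∈ Y, rl (y ≫ iU) v ∈ Y := fun y v hv => (hY _).mpr
    ⟨hst' _ v ((hY v).mp hv).1, fun z => by
      rw [← Module.End.mul_apply, ← rl_mul, ← MonObj.mul_comp]
      exact ((hY v).mp hv).2 _⟩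
  -- a vector fixed modulo `Y` lies in `Y`
  have hfixY : ∀ v ∈ W, (∀ y : PT ⟶ U, rl (y ≫ iU) v - v ∈ Y) → v ∈ Y := by
    intro v hv hfix
    suffices h1 : v ∈ W1 from (hY v).mpr ⟨hv, fun y => by simpa using add_mem (hY1 (hfix y)) h1⟩
    obtain ⟨c, hc⟩ := (Submodule.mem_span_range_iff_exists_fun k).mp hv
    rw [← hc]
    refine Submodule.sum_mem _ fun e _ => ?_
    by_cases he : e ∈ S
    · exact Submodule.smul_mem _ _ (Submodule.subset_span ⟨e, he, rfl⟩)
    suffices hce : c e = 0 by rw [hce, zero_smul]; exact zero_mem _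
    -- a combination of rational points dual to `w e`
    have htop : Submodule.span k (Set.range fun x : PT ⟶ G => fun d => vl x (w d)) = ⊤ := by
      by_contra hne
      obtain ⟨f, hf, hker⟩ := Submodule.exists_le_ker_of_lt_top _ (lt_top_iff_ne_top.mpr hne)
      have hsum : ∀ z : Fin n → k, f z = ∑ d, z d * f (Pi.single d 1) := fun z => by
        conv_lhs => rw [pi_eq_sum_univ' z, map_sum]
        exact Finset.sum_congr rfl fun d _ => by rw [map_smul, smul_eq_mul]
      have h0 := Fintype.linearIndependent_iff.mp hli (fun d => f (Pi.single d 1)) (eq_of_vl fun x => by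
        rw [map_sum, map_zero]
        refine Eq.trans ?_ (hker (Submodule.subset_span ⟨x, rfl⟩))
        rw [hsum]
        exact Finset.sum_congr rfl fun d _ => by rw [map_smul, smul_eq_mul, _root_.mul_comm])
      exact hf (LinearMap.ext fun z => by rw [hsum, LinearMap.zero_apply]; simp [h0])
    obtain ⟨β, hβ⟩ := Finsupp.mem_span_range_iff_exists_finsupp.mp
      (htop.ge (Submodule.mem_top (x := (Pi.single e 1 : Fin n → k))))
    have hδ : ∀ d, (β.sum fun x r => r * vl x (w d)) = if d = e then 1 else 0 := fun d => by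
      have h1 := congrFun hβ d
      simp only [Finsupp.sum, Finset.sum_apply, Pi.smul_apply, smul_eq_mul, Pi.single_apply] at h1
      exact h1
    let Λ : Fn U := ∑ x ∈ β.support, β x • (ev ((toUnit U ≫ x) * iU) v - algebraMap k (Fn U) (vl x v))
    have hΛ : Λ = 0 := eq_of_vl fun y => by
      obtain ⟨d, hd⟩ := (Submodule.mem_span_range_iff_exists_fun k).mp
        ((hY _).mp (hfix y)).1
      have hdS : ∀ i, i ∉ S → d i = 0 := by
        intro i hi
        obtain ⟨l, hl, hle⟩ := (Finsupp.mem_span_image_iff_linearCombination k).mp (hY1 (hfix y))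
        rw [← hd, Finsupp.linearCombination_apply, Finsupp.sum_fintype l (fun i a => a • w i) (fun i => zero_smul k (w i))] at hle
        have h0 := Fintype.linearIndependent_iff.mp hli (fun j => l j - d j) (by
          simp only [sub_smul, Finset.sum_sub_distrib, hle, sub_self])
        rw [← sub_eq_zero.mp (h0 i)]
        by_contra hne
        exact hi (hl (Finsupp.mem_support_iff.mpr hne))
      simp only [Λ, map_zero, map_sum, map_smul, map_sub, smul_eq_mul]
      have h1 : ∀ x : PT ⟶ G, vl y (ev ((toUnit U ≫ x) * iU) v) - vl y (algebraMap k (Fn U) (vl x v)) =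
          ∑ i, d i * vl x (w i) := fun x => by
        rw [vl_ev, MonObj.comp_mul, ← Category.assoc, toUnit_unique (y ≫ toUnit U) (𝟙 _), Category.id_comp,
          AlgHom.commutes, Algebra.algebraMap_self, RingHom.id_apply, ← vl_rt, ← map_sub]
        change vl x (rl (y ≫ iU) v - v) = _
        rw [← hd, map_sum]
        exact Finset.sum_congr rfl fun i _ => by rw [map_smul, smul_eq_mul]
      simp only [h1, Finset.mul_sum]
      rw [Finset.sum_comm]
      refine Finset.sum_eq_zero fun i _ => ?_
      rw [Finset.sum_congr rfl fun x _ => (show β x * (d i * vl x (w i)) = d i * (β x * vl x (w i)) by ring),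
        ← Finset.mul_sum, show ∑ x ∈ β.support, β x * vl x (w i) = _ from hδ i]
      by_cases hie : i = e
      · rw [hie, hdS e he, zero_mul]
      · rw [if_neg hie, mul_zero]
    have hT1 : ∀ (x : PT ⟶ G) (i : Fin n), ev ((toUnit T ≫ x) * iT) (w i) = vl x (w i) • χ i := fun x i =>
      eq_of_vl fun t => by
        rw [vl_ev, MonObj.comp_mul, ← Category.assoc, toUnit_unique (t ≫ toUnit T) (𝟙 _), Category.id_comp, ← vl_rt,
          show rt (t ≫ iT) (w i) = vl t (χ i) • w i from hw t i, map_smul, map_smul, smul_eq_mul, smul_eq_mul,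
          _root_.mul_comm]
    have hX1 : ∀ x : PT ⟶ G, ev b (ev ((toUnit U ≫ x) * iU) v - algebraMap k (Fn U) (vl x v)) =
        ∑ i, (c i * vl x (w i)) • (ev a (χ i) - 1) := fun x => by
      rw [map_sub, AlgHom.commutes, ev_ev, MonObj.comp_mul, ← Category.assoc, toUnit_unique (b ≫ toUnit U) (toUnit X),
        ← hab, show (toUnit X ≫ x) * (a ≫ iT) = a ≫ ((toUnit T ≫ x) * iT) by
          rw [MonObj.comp_mul, ← Category.assoc, toUnit_unique (a ≫ toUnit T) (toUnit X)],
        ← ev_ev, ← hc]
      simp only [map_sum, map_smul, hT1, smul_smul, smul_sub, Finset.sum_sub_distrib, smul_eq_mul, map_mul]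
      simp only [Algebra.smul_def, map_mul, map_sum, _root_.mul_one]
    have h2 : ev b Λ = c e • (ev a (χ e) - 1) := by
      simp only [Λ, map_sum, map_smul, hX1, Finset.smul_sum, smul_smul]
      rw [Finset.sum_comm]
      simp only [← Finset.sum_smul]
      rw [Finset.sum_eq_single e]
      · congr 1
        rw [Finset.sum_congr rfl fun x _ => (show β x * (c e * vl x (w e)) = c e * (β x * vl x (w e)) by ring),
          ← Finset.mul_sum, show ∑ x ∈ β.support, β x * vl x (w e) = _ from hδ e, if_pos rfl, _root_.mul_one]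
      · intro i _ hie
        rw [Finset.sum_congr rfl fun x _ => (show β x * (c i * vl x (w i)) = c i * (β x * vl x (w i)) by ring),
          ← Finset.mul_sum, show ∑ x ∈ β.support, β x * vl x (w i) = _ from hδ i, if_neg hie, mul_zero, zero_smul]
      · simp
    rw [hΛ, map_zero] at h2
    by_contra hne
    exact he (sub_eq_zero.mp ((smul_eq_zero.mp h2.symm).resolve_left hne))
  -- hence `Y` is everything
  have hWY : W ≤ Y := by
    by_contra hne
    let Y' : Submodule k W := Y.comap W.subtype
    haveI : Nontrivial (W ⧸ Y') := Submodule.Quotient.nontrivial_iff.mpr fun h => hne fun v hv => by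
      exact (Submodule.mem_comap.mp (h.ge (Submodule.mem_top (x := (⟨v, hv⟩ : W)))) : v ∈ Y)
    let r : (PT ⟶ U) →* Module.End k W :=
      { toFun := fun y => (rl (y ≫ iU)).restrict (hst' _)
        map_one' := LinearMap.ext fun x => Subtype.ext (by
          show rl ((1 : PT ⟶ U) ≫ iU) (x : Fn G) = _
          rw [MonObj.one_comp, rl_one]; rfl)
        map_mul' := fun y z => LinearMap.ext fun x => Subtype.ext (by
          show rl ((y * z) ≫ iU) (x : Fn G) = _
          rw [MonObj.mul_comp, rl_mul]; rfl) }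
    have hr : ∀ y, Y' ≤ Y'.comap (r y) := fun y x hx => hYst y _ hx
    let q : (PT ⟶ U) →* Module.End k (W ⧸ Y') :=
      { toFun := fun y => Y'.mapQ Y' (r y) (hr y)
        map_one' := Submodule.linearMap_qext _ (LinearMap.ext fun x => by simp)
        map_mul' := fun y z => Submodule.linearMap_qext _ (LinearMap.ext fun x => by simp) }
    obtain ⟨v, hv, hfix⟩ := exists_fixed_vec _ (W ⧸ Y') rfl q fun y => by
      refine Module.End.isNilpotent_iff_of_finite.mpr fun x => ?_
      obtain ⟨x, rfl⟩ := Submodule.mkQ_surjective _ x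
      obtain ⟨m, hm⟩ := ((map_isSsPt_isUnipPt iU y).2 (hu y)) (x : Fn G)
      refine ⟨m, ?_⟩
      have key : ∀ j : ℕ, ((q y - 1) ^ j) (Y'.mkQ x) = Y'.mkQ (((r y - 1) ^ j) x) := by
        intro j
        induction j with
        | zero => simp
        | succ j ih => rw [pow_succ', pow_succ', Module.End.mul_apply, Module.End.mul_apply, ih]; rfl
      have key' : ∀ j : ℕ, (((r y - 1) ^ j) x : Fn G) = ((rl (y ≫ iU) - 1) ^ j) (x : Fn G) := by
        intro j
        induction j with
        | zero => simp
        | succ j ih => rw [pow_succ', pow_succ', Module.End.mul_apply, Module.End.mul_apply, ← ih]; rfl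
      rw [key, show ((r y - 1) ^ m) x = 0 from Subtype.ext ((key' m).trans hm), map_zero]
    obtain ⟨v, rfl⟩ := Submodule.mkQ_surjective _ v
    exact hv ((Submodule.Quotient.mk_eq_zero _).mpr (hfixY v v.2 fun y =>
      (Submodule.Quotient.eq Y').mp (hfix y)))
  have hS : ∀ i, ev a (χ i) = 1 := fun i => by
    by_contra hi
    refine hli.notMem_span_image (s := S) hi (hY1 (hWY ?_))
    exact Submodule.subset_span ⟨i, rfl⟩
  refine ext_ev (AlgHom.ext_of_adjoin_eq_top hgen ?_)
  rintro _ ⟨i, rfl⟩
  have h1 : ev ((toUnit T ≫ (1 : PT ⟶ G)) * iT) (w i) = vl 1 (w i) • χ i := eq_of_vl fun t => by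
    rw [vl_ev, MonObj.comp_mul, ← Category.assoc, toUnit_unique (t ≫ toUnit T) (𝟙 _), Category.id_comp, ← vl_rt,
      show rt (t ≫ iT) (w i) = vl t (χ i) • w i from hw t i, map_smul, map_smul, smul_eq_mul, smul_eq_mul,
      _root_.mul_comm]
  rw [MonObj.comp_one, _root_.one_mul] at h1
  rw [← hab, ← ev_ev, h1, map_smul, hS, show (1 : X ⟶ G) = toUnit X ≫ 1 from (MonObj.comp_one _).symm]
  rw [← ev_ev (toUnit X) (1 : PT ⟶ G),
    show ev (1 : PT ⟶ G) (w i) = algebraMap k (Fn PT) (vl 1 (w i)) from (AGFLib.ProjAct.algebraMap_toK _).symm,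
    AlgHom.commutes, Algebra.smul_def, _root_.mul_one]

end Groth.Agent.SolvGrp
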