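import Groth.Agent.SolvGrp.GrothMax

/-! Maximality of tori under extensions of the base field. -/

set_option backward.isDefEq.respectTransparency false
set_option backward.isDefEq.respectTransparency.types false
set_option linter.style.haveILetI false

universe u

open CategoryTheory MonoidalCategory CartesianMonoidalCategory MonObj GrpObj AlgebraicGeometry

noncomputable section

namespace Groth.Agent.SolvGrp.Groth

open GrpSchLib

variable {S : Scheme.{u}}

/-- Iterated base change is base change along the composite, naturally. -/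
theorem exists_bc_bc_nat {U U' : Scheme.{u}} (t : U' ⟶ U) (g : U ⟶ S) {H H' : Over S} [GrpObj H] [GrpObj H']
    (i : H ⟶ H') [IsMonHom i] :
    ∃ (eH : Grp.mk (Red.bc t (Red.bc g H)) ≅ Grp.mk (Red.bc (t ≫ g) H))
      (eH' : Grp.mk (Red.bc t (Red.bc g H')) ≅ Grp.mk (Red.bc (t ≫ g) H')),
      eH.hom.hom.hom ≫ (Over.pullback (t ≫ g)).map i =
        (Over.pullback t).map ((Over.pullback g).map i) ≫ eH'.hom.hom.hom := by
  let α := (Functor.mapGrpCompIso (F := Over.pullback g) (G := Over.pullback t)).symm ≪≫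
    Functor.mapGrpNatIso (Over.pullbackComp t g).symm
  exact ⟨α.app (Grp.mk H), α.app (Grp.mk H'),
    (congrArg (fun f => f.hom.hom) (α.hom.naturality (Grp.ofHom (A := H) (B := H') i : Grp.mk H ⟶ Grp.mk H'))).symm⟩

variable {k : Type u} [Field k]

/-- Being a torus is invariant under isomorphisms. -/
theorem isTorus_of_iso_any {T T' : Over (Spec (CommRingCat.of k))} [GrpObj T] [GrpObj T']
    (e : Grp.mk T' ≅ Grp.mk T) (h : Red.IsTorus T) : Red.IsTorus T' := by
  obtain ⟨S', f, h1, h2, h3, hloc⟩ := h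
  refine ⟨S', f, h1, h2, h3, fun s => ?_⟩
  obtain ⟨U, hU, r, ⟨e'⟩⟩ := hloc s
  exact ⟨U, hU, r, ⟨(Over.pullback (U.ι ≫ f)).mapGrp.mapIso e ≪≫ e'⟩⟩

/-- Commuting squares can be inverted along isomorphisms. -/
theorem inv_square {S : Scheme.{u}} {A A' B B' : Over S} (a : A ≅ A') (b : B ≅ B') {f : A ⟶ B} {f' : A' ⟶ B'}
    (h : a.hom ≫ f' = f ≫ b.hom) : a.inv ≫ f = f' ≫ b.inv := by
  rw [Iso.inv_comp_eq, ← Category.assoc, h, Category.assoc, Iso.hom_inv_id, Category.comp_id]

/-- Maximality is invariant under isomorphisms. -/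
theorem isMaxTorus_of_grpIso {G G' T T' : Over (Spec (CommRingCat.of k))} [GrpObj G] [GrpObj G'] [GrpObj T]
    [GrpObj T'] (eG : Grp.mk G ≅ Grp.mk G') (eT : Grp.mk T ≅ Grp.mk T') {i : T ⟶ G} {i' : T' ⟶ G'}
    (hsq : eT.hom.hom.hom ≫ i' = i ≫ eG.hom.hom.hom) (h : AGF.IsMaxTorus i) : AGF.IsMaxTorus i' := by
  haveI := h.1
  haveI := h.2.1
  let a : G ≅ G' := (Grp.forget _).mapIso eG
  let b : T ≅ T' := (Grp.forget _).mapIso eT
  haveI : IsMonHom a.hom := eG.hom.hom.isMonHom_hom
  haveI : IsMonHom a.inv := eG.inv.hom.isMonHom_hom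
  haveI : IsMonHom b.hom := eT.hom.hom.isMonHom_hom
  haveI : IsMonHom b.inv := eT.inv.hom.isMonHom_hom
  have hsq' : b.hom ≫ i' = i ≫ a.hom := hsq
  have hi' : i' = b.inv ≫ i ≫ a.hom := by rw [← hsq', Iso.inv_hom_id_assoc]
  subst hi'
  refine ⟨inferInstance, mono_comp b.inv (i ≫ a.hom), isTorus_of_iso_any eT.symm h.2.2.1, fun W _ j _ _ f hW hf => ?_⟩
  haveI : Mono (j ≫ a.inv) := mono_comp j a.inv
  haveI := h.2.2.2 W (j ≫ a.inv) (b.hom ≫ f) hW (by
    rw [Category.assoc, reassoc_of% hf, Iso.hom_inv_id_assoc, Iso.hom_inv_id, Category.comp_id])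
  exact IsIso.of_isIso_comp_left b.hom f

variable {G T : Over (Spec (CommRingCat.of k))} [GrpObj G] [GrpObj T] [IsAffine G.left] [Smooth G.hom]

/-- A maximal torus stays maximal over every algebraically closed extension. -/
theorem isMaxTorus_bc {Ω : Type u} [Field Ω] [IsAlgClosed Ω] (φ : k →+* Ω) (iT : T ⟶ G) (hmax : AGF.IsMaxTorus iT) :
    AGF.IsMaxTorus ((Over.pullback (Spec.map (CommRingCat.ofHom φ))).map iT) := by
  haveI := hmax.1
  haveI := hmax.2.1
  let L := AlgebraicClosure k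
  letI : Algebra k Ω := φ.toAlgebra
  let ι' : L →ₐ[k] Ω := IsAlgClosed.lift
  letI : Algebra L Ω := ι'.toRingHom.toAlgebra
  let g := Spec.map (CommRingCat.ofHom (algebraMap k L))
  let t := Spec.map (CommRingCat.ofHom (algebraMap L Ω))
  have hcomp : t ≫ g = Spec.map (CommRingCat.ofHom φ) := by
    rw [← Spec.map_comp, ← CommRingCat.ofHom_comp]
    congr 2
    exact RingHom.ext fun x => ι'.commutes x
  let F := Over.pullback g
  haveI : IsAffine (F.obj G).left := inferInstanceAs (IsAffine (Limits.pullback G.hom g))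
  haveI : Smooth (F.obj G).hom := inferInstanceAs (Smooth (Limits.pullback.snd G.hom g))
  have h₁ : AGF.IsMaxTorus (F.map iT) := by
    refine isMaxTorus_bc_core (algebraMap k L) (fun C _ _ _ _ => ?_) iT hmax
    rcases finite_or_infinite k with hfin | hinf
    · obtain ⟨T₁, _, t₁, ht₁, hcl, hT₁, h1⟩ :=
        Frob.exists_maxTorus_finite (algebraMap k L) (G := C) (Algebra.IsIntegral.isIntegral (R := k) (A := L))
      haveI := hcl
      exact ⟨T₁, inferInstance, t₁, ht₁,
        (Over.forget _).mono_of_mono_map (inferInstanceAs (Mono t₁.left)), hT₁, h1⟩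
    · exact hasTorus_of_infinite L C
  haveI : Infinite L := IsAlgClosed.instInfinite
  have h₂ := isMaxTorus_bc_infinite Ω (F.map iT) h₁
  obtain ⟨eT, eG, he⟩ := exists_bc_bc_nat t g iT
  exact isMaxTorus_congr iT hcomp (isMaxTorus_of_grpIso eG eT he h₂)

/-- Maximality is unchanged by a field extension. -/
theorem isMaxTorus_iff_bc {K : Type u} [Field K] (φ : k →+* K) (iT : T ⟶ G) [IsMonHom iT] [Mono iT]
    (hT : Red.IsTorus T) :
    AGF.IsMaxTorus iT ↔ AGF.IsMaxTorus ((Over.pullback (Spec.map (CommRingCat.ofHom φ))).map iT) := by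
  haveI : (Over.pullback (Spec.map (CommRingCat.ofHom φ))).IsRightAdjoint :=
    (Over.mapPullbackAdj _).isRightAdjoint
  let F := Over.pullback (Spec.map (CommRingCat.ofHom φ))
  refine ⟨fun h => ?_, fun h => ⟨inferInstance, inferInstance, hT, fun T' _ j _ _ f hT' hf =>
    isIso_of_fieldExt f φ (h.2.2.2 _ (F.map j) (F.map f) (isTorus_bc _ hT') (by rw [← Functor.map_comp, hf]))⟩⟩
  let g := Spec.map (CommRingCat.ofHom φ)
  haveI : IsAffine (F.obj G).left := inferInstanceAs (IsAffine (Limits.pullback G.hom g))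
  haveI : Smooth (F.obj G).hom := inferInstanceAs (Smooth (Limits.pullback.snd G.hom g))
  refine (isMaxTorus_iff (F.map iT)).mpr ⟨inferInstance, inferInstance, isTorus_bc _ hT, fun s => ?_⟩
  obtain ⟨ψ, hψ⟩ := Spec.map_surjective (Red.geomPt s)
  have e : Spec.map (CommRingCat.ofHom ψ.hom) = Red.geomPt s := by rw [CommRingCat.ofHom_hom, hψ]
  have h₁ := isMaxTorus_bc (ψ.hom.comp φ) iT h
  have hcomp : Spec.map (CommRingCat.ofHom (ψ.hom.comp φ)) = Red.geomPt s ≫ g := by
    rw [CommRingCat.ofHom_comp, Spec.map_comp, e]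
  obtain ⟨eT, eG, he⟩ := exists_bc_bc_nat (Red.geomPt s) g iT
  refine (isMaxTorus_of_grpIso eG.symm eT.symm ?_ (isMaxTorus_congr iT hcomp h₁)).2.2.2
  exact inv_square ((Grp.forget _).mapIso eT) ((Grp.forget _).mapIso eG) he

end Groth.Agent.SolvGrp.Groth
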