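import Groth.Agent.SolvGrp.GenPts
import Groth.Agent.SolvGrp.Cartan

/-! Generation by Cartan subgroups passes from the adjoint quotient to the group. -/

set_option backward.isDefEq.respectTransparency false
set_option backward.isDefEq.respectTransparency.types false
set_option linter.style.haveILetI false
set_option synthInstance.maxHeartbeats 1000000

universe u

open CategoryTheory MonoidalCategory CartesianMonoidalCategory MonObj GrpObj AlgebraicGeometry

noncomputable section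

namespace Groth.Agent.SolvGrp.Groth

open GrpSchLib GrpSchLib.Kunneth GrpSchLib.LineGroups WeilCmp.Unip AGFLib AGFLib.Gen AGFLib.BorelFixed AGFLib.BorelExist

section Closed

variable {K : Type u} [Field K] [IsAlgClosed K]

local notation "PK" => 𝟙_ (Over (Spec (CommRingCat.of K)))

variable {G T : Over (Spec (CommRingCat.of K))} [GrpObj G] [GrpObj T] [IsAffine G.left] [Smooth G.hom]
  [ConnectedSpace G.left] {iT : T ⟶ G}

/-- A point moving a maximal torus only by central elements centralises it. -/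
theorem commute_of_central_twist (hT : AGF.IsMaxTorus iT) (g : PK ⟶ G)
    (hc : ∀ (t : PK ⟶ T) (h : PK ⟶ G), Commute (g * (t ≫ iT) * g⁻¹ * (t ≫ iT)⁻¹) h) (t : PK ⟶ T) :
    Commute g (t ≫ iT) := by
  classical
  haveI := hT.1
  haveI := hT.2.1
  haveI : IsReduced G.left := isReduced_of_smooth_field G.hom
  obtain ⟨haT, hsT, hcT, -⟩ := torus_props hT.2.2.1
  haveI := haT
  haveI := hsT
  haveI := hcT
  haveI : LocallyOfFiniteType T.hom := inferInstance
  haveI : LocallyOfFiniteType G.hom := inferInstance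
  -- the conjugate torus commutes with the torus, so it is the torus
  have hnorm : ∀ (g : PK ⟶ G), (∀ (t : PK ⟶ T) (h : PK ⟶ G), Commute (g * (t ≫ iT) * g⁻¹ * (t ≫ iT)⁻¹) h) →
      ∀ t : PK ⟶ T, g * (t ≫ iT) * g⁻¹ ∈ rangePts iT := by
    intro g hc t
    obtain ⟨C, _, i, hi, hci, -, -, -, -, hcomm, -, hd, R, hR, hcov⟩ := exists_cartan iT hT
    haveI := hi
    haveI := hci
    haveI : IsMonHom (AGF.conjBy g iT) := by rw [AGFLib.Borel.conjBy_eq]; infer_instance
    have hval : ∀ x : PK ⟶ T, x ≫ AGF.conjBy g iT = g * (x ≫ iT) * g⁻¹ := fun x => by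
      simp only [AGF.conjBy, MonObj.comp_mul, GrpObj.comp_inv, ← Category.assoc, Subsingleton.elim (x ≫ toUnit T) (𝟙 _),
        Category.id_comp]
    have hcen : ∀ x : PK ⟶ T, ∀ s ∈ rangePts iT, Commute (g * (x ≫ iT) * g⁻¹) s := by
      rintro x _ ⟨y, rfl⟩
      have h1 : Commute (x ≫ iT) (y ≫ iT) := by
        show (x ≫ iT) * (y ≫ iT) = (y ≫ iT) * (x ≫ iT)
        rw [← MonObj.mul_comp, ← MonObj.mul_comp,
          GrpSchLib.MultTypeComm.points_comm (TorusQI.isMultTypeFT_of_isTorus hT.2.2.1) x y]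
      have h2 : g * (x ≫ iT) * g⁻¹ = (g * (x ≫ iT) * g⁻¹ * (x ≫ iT)⁻¹) * (x ≫ iT) := by group
      rw [h2]
      exact (hc x _).mul_left h1
    have hle : rangePts (AGF.conjBy g iT) ≤ rangePts i := rangePts_le_of_cosets _ i R hR fun x =>
      hcov _ (by rw [hval]; exact hcen x)
    have hm : g * (t ≫ iT) * g⁻¹ ∈ rangePts i := hle ⟨t, hval t⟩
    exact mem_torus_of_ss iT hT.2.2.1 i hcomm hd hm (hval t ▸ isSsPt_of_torus hT.2.2.1 _ t)
  have hn : ∀ m : ℕ, ∀ (t : PK ⟶ T) (h : PK ⟶ G),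
      Commute (g ^ m * (t ≫ iT) * (g ^ m)⁻¹ * (t ≫ iT)⁻¹) h := by
    intro m
    induction m with
    | zero => intro t h; simp
    | succ m ih =>
      intro t h
      obtain ⟨t', ht'⟩ := hnorm g hc t
      change t' ≫ iT = g * (t ≫ iT) * g⁻¹ at ht'
      have e : g ^ (m + 1) * (t ≫ iT) * (g ^ (m + 1))⁻¹ * (t ≫ iT)⁻¹ =
          (g ^ m * (t' ≫ iT) * (g ^ m)⁻¹ * (t' ≫ iT)⁻¹) * (g * (t ≫ iT) * g⁻¹ * (t ≫ iT)⁻¹) := by
        rw [ht', pow_succ]; group
      rw [e]
      exact (ih t' h).mul_left (hc t h)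
  -- some power of the point centralises the torus
  obtain ⟨R, hR, hRN⟩ := finite_normalizer iT hT.2.2.1
  have hN : ∀ m : ℕ, ∀ s ∈ rangePts iT, (g ^ m)⁻¹ * s * g ^ m ∈ rangePts iT := by
    rintro m _ ⟨x, rfl⟩
    have := hnorm ((g ^ m)⁻¹) (fun t h => by
      obtain ⟨t', ht'⟩ := hnorm (g ^ m) (hn m) t
      change t' ≫ iT = g ^ m * (t ≫ iT) * (g ^ m)⁻¹ at ht'
      have hz := hn m t ((g ^ m)⁻¹)
      have e : (g ^ m)⁻¹ * (t ≫ iT) * ((g ^ m)⁻¹)⁻¹ * (t ≫ iT)⁻¹ =
          (g ^ m * (t ≫ iT) * (g ^ m)⁻¹ * (t ≫ iT)⁻¹)⁻¹ := by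
        have h3 := hz.eq
        calc (g ^ m)⁻¹ * (t ≫ iT) * ((g ^ m)⁻¹)⁻¹ * (t ≫ iT)⁻¹
            = ((g ^ m)⁻¹ * ((g ^ m * (t ≫ iT) * (g ^ m)⁻¹ * (t ≫ iT)⁻¹)⁻¹ * (g ^ m))) := by group
          _ = (g ^ m * (t ≫ iT) * (g ^ m)⁻¹ * (t ≫ iT)⁻¹)⁻¹ := by
            rw [(hn m t (g ^ m)).inv_left.eq, inv_mul_cancel_left]
      rw [e]
      exact (hn m t h).inv_left) x
    simpa using this
  choose r hr hrc using fun m : ℕ => hRN (g ^ m) (hN m)
  haveI := hR.to_subtype
  obtain ⟨a, b, hab, hrab⟩ := Finite.exists_ne_map_eq_of_infinite (fun m : ℕ => (⟨r m, hr m⟩ : R))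
  obtain ⟨m, hm, hmc⟩ : ∃ m, m ≠ 0 ∧ ∀ s ∈ rangePts iT, Commute (g ^ m) s := by
    have key : ∀ a b : ℕ, a < b → r a = r b → ∃ m, m ≠ 0 ∧ ∀ s ∈ rangePts iT, Commute (g ^ m) s := by
      intro a b hlt he
      refine ⟨b - a, by omega, fun s hs => ?_⟩
      have e : g ^ (b - a) = (g ^ a * (r a)⁻¹)⁻¹ * (g ^ b * (r b)⁻¹) ∨ g ^ (b - a) = (g ^ b * (r b)⁻¹) * (g ^ a * (r a)⁻¹)⁻¹ := by
        refine Or.inr ?_
        rw [he, _root_.mul_inv_rev, _root_.inv_inv, _root_.mul_assoc, inv_mul_cancel_left, pow_sub g hlt.le]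
      rcases e with e | e <;> rw [e]
      · exact (hrc a s hs).inv_left.mul_left (hrc b s hs)
      · exact (hrc b s hs).mul_left (hrc a s hs).inv_left
    rcases Nat.lt_or_gt_of_ne hab with h | h
    · exact key a b h (congrArg Subtype.val hrab)
    · exact key b a h (congrArg Subtype.val hrab).symm
  -- so the twist is killed by `m`, hence trivial on the connected torus
  let f : (PK ⟶ T) → (PK ⟶ G) := fun x => g * (x ≫ iT) * g⁻¹ * (x ≫ iT)⁻¹
  have hpow : ∀ (j : ℕ) (x : PK ⟶ T), g ^ j * (x ≫ iT) * (g ^ j)⁻¹ = f x ^ j * (x ≫ iT) := by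
    intro j x
    induction j with
    | zero => simp
    | succ j ih =>
      rw [pow_succ', _root_.mul_inv_rev, show g * g ^ j * (x ≫ iT) * ((g ^ j)⁻¹ * g⁻¹) =
        g * (g ^ j * (x ≫ iT) * (g ^ j)⁻¹) * g⁻¹ by group, ih,
        show g * (f x ^ j * (x ≫ iT)) * g⁻¹ = (g * f x ^ j * g⁻¹) * (g * (x ≫ iT) * g⁻¹) by group,
        show g * (f x) ^ j * g⁻¹ = f x ^ j from by
          rw [((hc x g).pow_left j).symm.eq, mul_inv_cancel_right], pow_succ,
        show g * (x ≫ iT) * g⁻¹ = f x * (x ≫ iT) by simp only [f]; group]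
      group
  have hfm : ∀ x, f x ^ m = 1 := fun x => by
    have h := hpow m x
    rw [(hmc _ ⟨x, rfl⟩).eq, mul_inv_cancel_right, right_eq_mul] at h
    exact h
  let ker : Subgroup (PK ⟶ T) :=
    { carrier := {x | Commute g (x ≫ iT)}
      one_mem' := by show Commute g ((1 : PK ⟶ T) ≫ iT); rw [MonObj.one_comp]; exact Commute.one_right g
      mul_mem' := fun {x y} hx hy => by
        show Commute g ((x * y) ≫ iT); rw [MonObj.mul_comp]; exact Commute.mul_right hx hy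
      inv_mem' := fun {x} hx => by show Commute g (x⁻¹ ≫ iT); rw [GrpObj.inv_comp]; exact Commute.inv_right hx }
  have hkc : PtsClosed (ker : Set (PK ⟶ T)) := by
    let m₀ : T ⟶ G := (toUnit T ≫ g) * iT * (toUnit T ≫ g)⁻¹ * iT⁻¹
    have e : (ker : Set (PK ⟶ T)) = {x | x ≫ m₀ ∈ ({1} : Set (PK ⟶ G))} := by
      ext x
      show Commute g (x ≫ iT) ↔ x ≫ m₀ ∈ ({1} : Set (PK ⟶ G))
      simp only [m₀, Set.mem_singleton_iff, MonObj.comp_mul, GrpObj.comp_inv, ← Category.assoc,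
        Subsingleton.elim (x ≫ toUnit T) (𝟙 _), Category.id_comp, mul_inv_eq_one, mul_inv_eq_iff_eq_mul]
      exact ⟨fun h => h.eq.trans (by group), fun h => h.trans (by group)⟩
    rw [e]
    exact ptsClosed_one.preimage m₀
  have hfin := finite_torsion hT.2.2.1 hm
  have hfT : ∀ x, ∃ y : PK ⟶ T, y ≫ iT = f x := fun x => by
    obtain ⟨t', ht'⟩ := hnorm g hc x
    refine ⟨t' * x⁻¹, ?_⟩
    change t' ≫ iT = g * (x ≫ iT) * g⁻¹ at ht'
    rw [MonObj.mul_comp, GrpObj.inv_comp, ht']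
  choose y hy using hfT
  have hmem : ∀ x, y x ∈ {z : PK ⟶ T | z ^ m = 1} := fun x => by
    show y x ^ m = 1
    refine (cancel_mono iT).mp ?_
    rw [MonObj.one_comp]
    show ptsHom iT (y x ^ m) = 1
    rw [map_pow, show ptsHom iT (y x) = f x from hy x, hfm]
  let rep : (PK ⟶ T) → (PK ⟶ T) := fun z => if h : ∃ x, y x = z then h.choose else 1
  have htop := eq_top_of_finite ker hkc (rep '' {z : PK ⟶ T | z ^ m = 1}) (hfin.image _) fun x => by
    refine ⟨rep (y x), ⟨y x, hmem x, rfl⟩, ?_⟩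
    have hex : ∃ x', y x' = y x := ⟨x, rfl⟩
    have hrep : f (rep (y x)) = f x := by
      rw [← hy, ← hy, show rep (y x) = hex.choose by simp only [rep, dif_pos hex], hex.choose_spec]
    generalize rep (y x) = x' at hrep ⊢
    show Commute g ((x'⁻¹ * x) ≫ iT)
    simp only [f] at hrep
    rw [MonObj.mul_comp, GrpObj.inv_comp]
    have e1 : g * (x ≫ iT) * g⁻¹ * (x ≫ iT)⁻¹ = g * (x' ≫ iT) * g⁻¹ * (x' ≫ iT)⁻¹ := hrep.symm
    have hcx := hc x' ((x ≫ iT))
    show g * ((x' ≫ iT)⁻¹ * (x ≫ iT)) = (x' ≫ iT)⁻¹ * (x ≫ iT) * g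
    have e2 : g * (x ≫ iT) * g⁻¹ = f x' * (x ≫ iT) := by
      simp only [f]; rw [← e1, inv_mul_cancel_right]
    have e3 : g * (x' ≫ iT) * g⁻¹ = f x' * (x' ≫ iT) := by simp only [f]; rw [inv_mul_cancel_right]
    calc g * ((x' ≫ iT)⁻¹ * (x ≫ iT)) = (g * (x' ≫ iT) * g⁻¹)⁻¹ * (g * (x ≫ iT) * g⁻¹) * g := by group
      _ = (x' ≫ iT)⁻¹ * (x ≫ iT) * g := by rw [e2, e3]; group
  exact (htop ▸ Subgroup.mem_top t : t ∈ ker)

end Closed

variable {k : Type u} [Field k] {K : Type u} [Field K] [IsAlgClosed K] (φ : k →+* K)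

local notation "σ" => Spec.map (CommRingCat.ofHom φ)
local notation "PK" => 𝟙_ (Over (Spec (CommRingCat.of K)))

variable {G : Over (Spec (CommRingCat.of k))} [GrpObj G] [IsAffine G.left] [Smooth G.hom] [ConnectedSpace G.left]

/-- A maximal torus of the quotient by the centre is the image of one of the group. -/
theorem exists_maxTorus_over {Z Q : Over (Spec (CommRingCat.of k))} [GrpObj Z] [GrpObj Q] (i : Z ⟶ G) (q : G ⟶ Q)
    [IsMonHom q] [IsAffine Q.left] [Smooth Q.hom] [ConnectedSpace Q.left] [Flat q.left] [Surjective q.left]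
    (hZ : Red.IsCentre i) (hk : AlgGrp.IsKernel i q) {T : Over (Spec (CommRingCat.of k))} [GrpObj T] (iT : T ⟶ Q)
    [IsMonHom iT] [Mono iT] (hT : Red.IsTorus T) (hmax : AGF.IsMaxTorus ((Over.pullback σ).map iT)) :
    ∃ (S : Over (Spec (CommRingCat.of k))) (_ : GrpObj S) (iS : S ⟶ G) (p : S ⟶ T), IsMonHom iS ∧ Mono iS ∧
      Red.IsTorus S ∧ AGF.IsMaxTorus ((Over.pullback σ).map iS) ∧ p ≫ iT = iS ≫ q := by
  haveI : IsClosedImmersion iT.left := (torus_sub_field iT hT).1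
  obtain ⟨H, _, v, hv, w, hpb⟩ := exists_pullbackGrp q iT
  haveI := hv
  haveI : IsClosedImmersion v.left :=
    MorphismProperty.of_isPullback (P := @IsClosedImmersion) (hpb.map (Over.forget _)) ‹_›
  haveI : Mono v := (Over.forget _).mono_of_mono_map (inferInstanceAs (Mono v.left))
  haveI : IsAffine H.left := isAffine_of_isAffineHom v.left
  haveI : LocallyOfFiniteType G.hom := inferInstance
  haveI : LocallyOfFiniteType H.hom := by rw [← Over.w v]; infer_instance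
  haveI : QuasiCompact H.hom := by rw [← Over.w v]; infer_instance
  haveI : Flat w.left := MorphismProperty.of_isPullback (P := @Flat) (hpb.map (Over.forget _)).flip ‹_›
  haveI : Surjective w.left := MorphismProperty.of_isPullback (P := @Surjective) (hpb.map (Over.forget _)).flip ‹_›
  haveI : IsMonHom w := SekSuwaLib.CharLift.isMonHom_of_mul w fun {Y} a b => by
    rw [← cancel_mono iT, Category.assoc, hpb.w, MonObj.mul_comp, MonObj.mul_comp, Category.assoc, Category.assoc, hpb.w]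
  have hcomm := Groth.Agent.S8197.result k T H hT w fun X z hz X' x g => by
    rw [← cancel_mono v, MonObj.mul_comp, MonObj.mul_comp]
    have h1 : (z ≫ v) ≫ q = toUnit _ ≫ η[Q] := by
      rw [Category.assoc, ← hpb.w, ← Category.assoc, hz, MonObj.one_comp, Hom.one_def]
    have h2 := (hZ.2.2 X (z ≫ v)).mp ⟨hk.lift (z ≫ v) (toUnit _) h1, hk.lift_fst _ _ h1⟩ X' x (g ≫ v)
    simpa [Category.assoc] using h2
  obtain ⟨Zm, _, z, hz, hzm, hmt, -, huniv⟩ := Groth.Agent.S8393.result k H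
  haveI := hz
  haveI := hzm
  obtain ⟨S, _, s, hsm, hsmono, hS, hsu⟩ := MaxSubtorus.exists_maximalTorus_univ hmt
  haveI := hsm
  haveI := hsmono
  haveI : (Over.pullback σ).IsRightAdjoint := (Over.mapPullbackAdj σ).isRightAdjoint
  let F := Over.pullback σ
  obtain ⟨hA, hS', hC⟩ := Frob.bcG_props φ (G := G)
  haveI := hA
  haveI := hS'
  haveI := hC
  obtain ⟨hA', hS'', hC'⟩ := Frob.bcG_props φ (G := Q)
  haveI := hA'
  haveI := hS''
  haveI := hC'
  obtain ⟨T₁, _, j, hj⟩ := exists_maxTorus_closed (Red.bc σ G)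
  haveI := hj.1
  haveI := hj.2.1
  haveI : Surjective (F.map q).left := MorphismProperty.baseChange_map (P := @Surjective) σ q inferInstance
  obtain ⟨M, _, m, p, hp, hm, -, -, -, hpm⟩ := exists_maxTorus_image (F.map q) j hj
  obtain ⟨g, f', hf'⟩ := Groth.Agent.S3901.result K (Red.bc σ Q) M (F.obj T) m (F.map iT) hm hmax
  haveI : LocallyOfFiniteType (Red.bc σ G).hom := inferInstance
  haveI : LocallyOfFiniteType (Red.bc σ Q).hom := inferInstance
  haveI : IsSeparated (Red.bc σ Q).hom := GrpSchLib.AntiAffine.isSeparated_grp _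
  obtain ⟨g', hg'⟩ := exists_of_mem_range (F.map q) g ((F.map q).left.surjective _)
  have hu := isMaxTorus_conjBy hj g'
  haveI := hu.1
  have hsq : (p ≫ f'.hom) ≫ F.map iT = AGF.conjBy g' j ≫ F.map q := by
    rw [Category.assoc, hf']
    simp only [AGF.conjBy, MonObj.mul_comp, MonObj.comp_mul, GrpObj.inv_comp, GrpObj.comp_inv, Category.assoc, hg']
    rw [hpm, ← Category.assoc p, comp_toUnit]
  let l₀ : T₁ ⟶ F.obj H := (hpb.map F).lift (p ≫ f'.hom) (AGF.conjBy g' j) hsq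
  have hl₀ : l₀ ≫ F.map v = AGF.conjBy g' j := (hpb.map F).lift_snd _ _ _
  haveI : IsMonHom l₀ := SekSuwaLib.CharLift.isMonHom_of_mul l₀ fun {Y} a b => by
    rw [← cancel_mono (F.map v), Category.assoc, hl₀, MonObj.mul_comp, MonObj.mul_comp, Category.assoc, Category.assoc, hl₀]
  obtain ⟨l₁, hl₁⟩ := huniv _ σ T₁ l₀ (TorusQI.isMultTypeFT_of_isTorus hj.2.2.1)
    fun X x g => comm_bc φ hcomm X _ g
  haveI : IsMonHom l₁ := SekSuwaLib.CharLift.isMonHom_of_mul l₁ fun {Y} a b => by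
    rw [← cancel_mono (F.map z), Category.assoc, hl₁, MonObj.mul_comp, MonObj.mul_comp, Category.assoc, Category.assoc, hl₁]
  obtain ⟨l₂, hl₂⟩ := hsu _ σ T₁ l₁ hj.2.2.1
  haveI : Mono (s ≫ z ≫ v) := mono_comp s (z ≫ v)
  refine ⟨S, inferInstance, s ≫ z ≫ v, s ≫ z ≫ w, inferInstance, inferInstance, hS, ?_, by
    simp only [Category.assoc, hpb.w]⟩
  exact isMaxTorus_of_le hu (F.map (s ≫ z ≫ v)) (isTorus_bc σ hS) l₂ (by
    rw [Functor.map_comp, Functor.map_comp, reassoc_of% hl₂, reassoc_of% hl₁, hl₀])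

/-- Generation passes from the quotient by the centre to the group. -/
theorem generated_of_quot {Z Q : Over (Spec (CommRingCat.of k))} [GrpObj Z] [GrpObj Q] (i : Z ⟶ G) (q : G ⟶ Q)
    [IsMonHom q] [IsAffine Q.left] [Smooth Q.hom] [ConnectedSpace Q.left] [Flat q.left] [Surjective q.left]
    (hZ : Red.IsCentre i) (hk : AlgGrp.IsKernel i q) {T₀ : Over (Spec (CommRingCat.of k))} [GrpObj T₀] (iT₀ : T₀ ⟶ G)
    [IsMonHom iT₀] [Mono iT₀] (hT₀ : Red.IsTorus T₀) (hT₀max : AGF.IsMaxTorus ((Over.pullback σ).map iT₀))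
    (h : Generated φ Q) : Generated φ G := by
  intro Γ hΓ hcart
  let F := Over.pullback σ
  haveI : F.IsRightAdjoint := (Over.mapPullbackAdj σ).isRightAdjoint
  obtain ⟨hA, hS, hC⟩ := Frob.bcG_props φ (G := G)
  haveI := hA
  haveI := hS
  haveI := hC
  obtain ⟨hA', hS', hC'⟩ := Frob.bcG_props φ (G := Q)
  haveI := hA'
  haveI := hS'
  haveI := hC'
  haveI : LocallyOfFiniteType (Red.bc σ G).hom := inferInstance
  haveI : LocallyOfFiniteType (Red.bc σ Q).hom := inferInstance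
  haveI : Surjective (F.map q).left := MorphismProperty.baseChange_map (P := @Surjective) σ q inferInstance
  haveI : IsSeparated (Red.bc σ Q).hom := GrpSchLib.AntiAffine.isSeparated_grp _
  haveI : IsAffineHom G.hom := isAffineHom_of_isAffine G.hom
  -- the centre lies in the subgroup
  obtain ⟨C₀, _, c₀, hc₀, -, -⟩ := Groth.Agent.S5247.result T₀ G (TorusQI.isMultTypeFT_of_isTorus hT₀) inferInstance
    inferInstance iT₀
  obtain ⟨l, hl⟩ := exists_fac_centre hc₀ hZ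
  have hker : ∀ g : PK ⟶ Red.bc σ G, g ≫ F.map q = 1 → g ∈ Γ := fun g hg => by
    obtain ⟨w, rfl⟩ := (AVTors.bcPts σ (𝟙_ _) G).surjective g
    have hw : w ≫ q = toUnit _ ≫ η[Q] := by
      rw [← Hom.one_def]
      exact (AVTors.bcPts σ (𝟙_ _) Q).injective (by rw [AVTors.bcPts_comp, hg, map_one])
    obtain ⟨v, hv⟩ : ∃ v, v ≫ i = w := ⟨hk.lift w (toUnit _) hw, hk.lift_fst _ _ hw⟩
    rw [← hv, AVTors.bcPts_comp]
    show AVTors.bcPts σ (𝟙_ _) Z v ≫ F.map i ∈ Γ
    rw [show F.map i = F.map l ≫ F.map c₀ by rw [← F.map_comp, hl], ← Category.assoc]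
    exact hcart T₀ iT₀ hT₀ hT₀max C₀ c₀ hc₀ _
  obtain ⟨E, _, e, he, hec, hsE, haE, hr⟩ := exists_sub Γ hΓ
  haveI := he
  haveI := hec
  haveI := hsE
  obtain ⟨-, hlE, hqE, -, -⟩ := sub_props e
  haveI := hlE
  haveI := hqE
  have key : ContainsCartans φ (rangePts (e ≫ F.map q)) := by
    intro T _ iT _ _ hT hmax C _ c hc y
    obtain ⟨S, _, iS, p, hSm, hSmono, hST, hSmax, hpS⟩ := exists_maxTorus_over φ i q hZ hk iT hT hmax
    haveI := hSm
    haveI := hSmono
    haveI := hc.1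
    obtain ⟨g, hg⟩ := exists_of_mem_range (F.map q) (y ≫ F.map c) ((F.map q).left.surjective _)
    have hqy : g ≫ F.map q = y ≫ F.map c := hg
    have hcomm : ∀ s : PK ⟶ Red.bc σ S, Commute g (s ≫ F.map iS) := by
      refine commute_of_central_twist hSmax g fun s h => ?_
      refine central_of_comp_eq_one φ i q hZ hk _ ?_ h
      have h1 : Commute (y ≫ F.map c) ((s ≫ F.map p) ≫ F.map iT) := by
        have := (mem_centralizer_pts (F.map iT) (isTorus_bc σ hT) (isCentralizerOf_bc σ iT c hc) (y ≫ F.map c)).mp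
          ⟨y, rfl⟩ _ ⟨s ≫ F.map p, rfl⟩
        exact this
      rw [Category.assoc, ← F.map_comp, hpS, F.map_comp, ← Category.assoc] at h1
      rw [MonObj.mul_comp, MonObj.mul_comp, MonObj.mul_comp, GrpObj.inv_comp, GrpObj.inv_comp, hqy, h1.eq,
        mul_inv_cancel_right, mul_inv_cancel]
    obtain ⟨C', _, c', hc', -, -⟩ := Groth.Agent.S5247.result S G (TorusQI.isMultTypeFT_of_isTorus hST) inferInstance
      inferInstance iS
    haveI := hc'.1
    obtain ⟨x, hx⟩ := (mem_centralizer_pts (F.map iS) (isTorus_bc σ hST) (isCentralizerOf_bc σ iS c' hc') g).mpr (by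
      rintro _ ⟨s, rfl⟩; exact hcomm s)
    change x ≫ F.map c' = g at hx
    have hgΓ : g ∈ rangePts e := hr.symm ▸ hx ▸ hcart S iS hST hSmax C' c' hc' x
    obtain ⟨z, hz⟩ := hgΓ
    exact ⟨z, by show z ≫ e ≫ F.map q = _; rw [← Category.assoc, show z ≫ e = g from hz, hqy]⟩
  have htop := h _ (ptsClosed_range _) key
  refine eq_top_iff.mpr fun g _ => ?_
  obtain ⟨z, hz⟩ : g ≫ F.map q ∈ rangePts (e ≫ F.map q) := htop ▸ Subgroup.mem_top _
  have hz1 : (g * (z ≫ e)⁻¹) ≫ F.map q = 1 := by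
    rw [MonObj.mul_comp, GrpObj.inv_comp, Category.assoc, show z ≫ e ≫ F.map q = g ≫ F.map q from hz, mul_inv_cancel]
  have hze : z ≫ e ∈ Γ := hr ▸ ⟨z, rfl⟩
  simpa using mul_mem (hker _ hz1) hze

end Groth.Agent.SolvGrp.Groth
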