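import Groth.Agent.SolvGrp.GrothNilp
import Groth.Agent.ComodLib.Antipode
import Mathlib.LinearAlgebra.TensorProduct.Basis
import Mathlib.LinearAlgebra.Basis.VectorSpace

/-! The smallest closed subgroup to which a derivation at the counit is tangent. -/

universe u

open TensorProduct WithConv

noncomputable section

namespace Groth.Agent.SolvGrp.Groth

open GrpSchLib

variable {k : Type u} [Field k]

theorem tensor_eq_zero {Q : Type u} [AddCommGroup Q] [Module k Q] {ι : Type*} (ξ : ι → Q →ₗ[k] k)
    (hsep : ∀ q, (∀ i, ξ i q = 0) → q = 0) (x : Q ⊗[k] Q)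
    (h : ∀ i j, TensorProduct.lid k k (TensorProduct.map (ξ i) (ξ j) x) = 0) : x = 0 := by
  classical
  let e := Module.Basis.ofVectorSpace k Q
  let F := TensorProduct.equivFinsuppOfBasisLeft (N := Q) e
  have hs : ∀ j, TensorProduct.rid k Q ((ξ j).lTensor Q x) = 0 := fun j => hsep _ fun i => by
    rw [← h i j]
    clear h
    induction x using TensorProduct.induction_on with
    | zero => simp
    | tmul a b => simp [mul_comm]
    | add s t hs ht => simp only [map_add, hs, ht]
  refine F.injective (Finsupp.ext fun l => hsep _ fun j => ?_)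
  have h2 : ∀ x : Q ⊗[k] Q, ξ j (F x l) = e.repr (TensorProduct.rid k Q ((ξ j).lTensor Q x)) l := fun x => by
    induction x using TensorProduct.induction_on with
    | zero => simp
    | tmul a b => simp [F, TensorProduct.equivFinsuppOfBasisLeft_apply_tmul, mul_comm]
    | add s t hs ht => simp only [map_add, Finsupp.add_apply, hs, ht]
  rw [h2, hs]
  simp

theorem lid_map_comm {M : Type u} [AddCommGroup M] [Module k M] (f g : M →ₗ[k] k) (t : M ⊗[k] M) :
    TensorProduct.lid k k (TensorProduct.map f g (TensorProduct.comm k M M t)) =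
      TensorProduct.lid k k (TensorProduct.map g f t) := by
  induction t using TensorProduct.induction_on with
  | zero => simp
  | tmul u v => rw [TensorProduct.comm_tmul, TensorProduct.map_tmul, TensorProduct.map_tmul, TensorProduct.lid_tmul,
      TensorProduct.lid_tmul, smul_eq_mul, smul_eq_mul, mul_comm]
  | add s t hs ht => rw [map_add, map_add, map_add, map_add, map_add, hs, ht]

theorem isCocomm_of_family {Q : Type u} [AddCommGroup Q] [Module k Q] [Coalgebra k Q] {ι : Type*}
    (ξ : ι → Q →ₗ[k] k) (hsep : ∀ q, (∀ i, ξ i q = 0) → q = 0)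
    (h : ∀ i j (q : Q), TensorProduct.lid k k (TensorProduct.map (ξ i) (ξ j) (Coalgebra.comul (R := k) q)) =
      TensorProduct.lid k k (TensorProduct.map (ξ j) (ξ i) (Coalgebra.comul (R := k) q))) :
    Coalgebra.IsCocomm k Q := ⟨LinearMap.ext fun q => sub_eq_zero.mp (tensor_eq_zero ξ hsep _ fun i j => by
      rw [map_sub, map_sub, sub_eq_zero, LinearMap.comp_apply]
      exact (lid_map_comm (ξ i) (ξ j) _).trans (h j i q))⟩

variable {A : Type u} [CommRing A] [HopfAlgebra k A]

theorem pow_antipode {X : CartDual.D k A} (hX : IsDer X) : ∀ (n : ℕ) (a : A),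
    (X ^ n).ofConv (HopfAlgebra.antipode k a) = (-1) ^ n * (X ^ n).ofConv a
  | 0, a => by simp [LinearMap.convOne_apply, HopfAlgebra.counit_antipode]
  | n + 1, a => by
    have h1 : ∀ b, X.ofConv (HopfAlgebra.antipode k b) = -X.ofConv b := fun b => by
      have h2 := congrArg X.ofConv (HopfAlgebra.mul_antipode_rTensor_comul_apply (R := k) b)
      have h3 : ∀ t : A ⊗[k] A, X.ofConv (LinearMap.mul' k A ((HopfAlgebra.antipode k).rTensor A t)) =
          X.ofConv (HopfAlgebra.antipode k (TensorProduct.rid k A ((Coalgebra.counit (R := k)).lTensor A t))) +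
            X.ofConv (TensorProduct.lid k A ((Coalgebra.counit (R := k)).rTensor A t)) := fun t => by
        induction t using TensorProduct.induction_on with
        | zero => simp
        | tmul u v => simp [hX (HopfAlgebra.antipode k u) v, HopfAlgebra.counit_antipode]; ring
        | add s t hs ht => simp only [map_add, hs, ht]; ring
      rw [h3, Coalgebra.lTensor_counit_comul, Coalgebra.rTensor_counit_comul, Algebra.algebraMap_eq_smul_one,
        map_smul, deriv_apply_one hX, smul_zero, TensorProduct.rid_tmul, TensorProduct.lid_tmul, one_smul] at h2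
      linear_combination h2
    rw [pow_succ, LinearMap.convMul_apply, ComodLib.comul_antipode,
      show X ^ n * X = X * X ^ n from (pow_succ X n).symm.trans (pow_succ' X n), LinearMap.convMul_apply]
    generalize Coalgebra.comul (R := k) a = t
    induction t using TensorProduct.induction_on with
    | zero => simp
    | tmul u v =>
      simp only [TensorProduct.comm_tmul, TensorProduct.map_tmul, LinearMap.mul'_apply, h1, pow_antipode hX n v]
      ring
    | add s t hs ht => simp only [map_add, hs, ht]; ring

theorem pow_mul_mul_map (X : CartDual.D k A) (i j : ℕ) (a : A) :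
    (X ^ (i + j)).ofConv a =
      TensorProduct.lid k k (TensorProduct.map (X ^ i).ofConv (X ^ j).ofConv (Coalgebra.comul (R := k) a)) := by
  rw [pow_add, LinearMap.convMul_apply]
  generalize Coalgebra.comul (R := k) a = t
  induction t using TensorProduct.induction_on with
  | zero => simp
  | tmul u v => simp
  | add s t hs ht => simp only [map_add, hs, ht]

/-- The hull of a derivation. -/
theorem exists_hull [Algebra.FiniteType k A] {X : CartDual.D k A} (hX : IsDer X) :
    ∃ (A' : Type u) (_ : CommRing A') (_ : HopfAlgebra k A') (π : A →ₐc[k] A') (X' : CartDual.D k A'),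
      Coalgebra.IsCocomm k A' ∧ Algebra.FiniteType k A' ∧ Function.Surjective π ∧ IsDer X' ∧ pull π X' = X ∧
        ∀ f : A', (∀ n, (X' ^ n).ofConv f = 0) → f = 0 := by
  let I : Ideal A :=
    { carrier := {f | ∀ n, (X ^ n).ofConv f = 0}
      zero_mem' := fun n => map_zero _
      add_mem' := fun ha hb n => by rw [map_add, ha n, hb n, add_zero]
      smul_mem' := fun c f hf n => by
        rw [smul_eq_mul, mul_comm, pow_form_leibniz hX]
        exact Finset.sum_eq_zero fun j _ => by rw [hf j, zero_mul, mul_zero] }
  have hmem : ∀ {f}, f ∈ I → ∀ n, (X ^ n).ofConv f = 0 := fun hf => hf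
  let Q := A ⧸ I.restrictScalars k
  let ξ : ℕ → Q →ₗ[k] k := fun n => (I.restrictScalars k).liftQ (X ^ n).ofConv fun f hf => hmem hf n
  have hsep : ∀ q, (∀ i, ξ i q = 0) → q = 0 := by
    intro q
    obtain ⟨f, rfl⟩ := Submodule.mkQ_surjective (I.restrictScalars k) q
    intro h
    exact (Submodule.Quotient.mk_eq_zero _).mpr fun n => h n
  have hξ : ∀ i j (t : A ⊗[k] A), TensorProduct.map (ξ i) (ξ j)
      (TensorProduct.map (I.restrictScalars k).mkQ (I.restrictScalars k).mkQ t) =
      TensorProduct.map (X ^ i).ofConv (X ^ j).ofConv t := fun i j t => by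
    induction t using TensorProduct.induction_on with
    | zero => simp
    | tmul u v => rfl
    | add s t hs ht => simp only [map_add, hs, ht]
  haveI : (I.restrictScalars k).IsCoideal :=
    ⟨fun f hf => by simpa [LinearMap.convOne_apply] using hmem hf 0, fun f hf =>
      tensor_eq_zero ξ hsep _ fun i j => by rw [hξ, ← pow_mul_mul_map, hmem hf]⟩
  haveI : I.IsHopfIdeal k := Ideal.IsHopfIdeal.mk fun f hf n => by rw [pow_antipode hX, hmem hf, mul_zero]
  let π : A →ₐc[k] A ⧸ I := Bialgebra.Quotient.mkBialgHom (R := k) I
  have hπ : Function.Surjective π := Ideal.Quotient.mk_surjective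
  let X' : CartDual.D k (A ⧸ I) :=
    toConv ((I.restrictScalars k).liftQ X.ofConv (fun f hf => by simpa using hmem hf 1) ∘ₗ
      (Submodule.Quotient.restrictScalarsEquiv k I).symm.toLinearMap)
  have hX' : ∀ a, X'.ofConv (π a) = X.ofConv a := fun a => rfl
  refine ⟨A ⧸ I, inferInstance, inferInstance, π, X', ?_,
    Algebra.FiniteType.of_surjective (Ideal.Quotient.mkₐ k I) Ideal.Quotient.mk_surjective, hπ, ?_,
    WithConv.ext (LinearMap.ext hX'), fun f hf => ?_⟩
  · refine isCocomm_of_family (fun n => ξ n ∘ₗ
      (Submodule.Quotient.restrictScalarsEquiv k I).symm.toLinearMap) (fun q hq => ?_) fun i j q => ?_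
    · obtain ⟨f, rfl⟩ := hπ q
      exact Ideal.Quotient.eq_zero_iff_mem.mpr fun n => hq n
    · obtain ⟨a, rfl⟩ := hπ q
      have h : ∀ i j (t : A ⊗[k] A), TensorProduct.lid k k (TensorProduct.map
          (ξ i ∘ₗ (Submodule.Quotient.restrictScalarsEquiv k I).symm.toLinearMap)
          (ξ j ∘ₗ (Submodule.Quotient.restrictScalarsEquiv k I).symm.toLinearMap)
          (TensorProduct.map (π : A →ₗ[k] A ⧸ I) (π : A →ₗ[k] A ⧸ I) t)) =
          TensorProduct.lid k k (TensorProduct.map (X ^ i).ofConv (X ^ j).ofConv t) := fun i j t => by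
        induction t using TensorProduct.induction_on with
        | zero => rw [map_zero, map_zero, map_zero, map_zero, map_zero]
        | tmul u v => rfl
        | add s t hs ht => rw [map_add, map_add, map_add, map_add, map_add, hs, ht]
      have e : Coalgebra.comul (R := k) (π a) =
          TensorProduct.map (π : A →ₗ[k] A ⧸ I) (π : A →ₗ[k] A ⧸ I) (Coalgebra.comul (R := k) a) :=
        (CoalgHomClass.map_comp_comul_apply π a).symm
      beta_reduce
      rw [e, h, h, ← pow_mul_mul_map, ← pow_mul_mul_map, add_comm]
  · intro a b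
    obtain ⟨a, rfl⟩ := hπ a
    obtain ⟨b, rfl⟩ := hπ b
    rw [← map_mul, hX', hX', hX', hX a b, CoalgHomClass.counit_comp_apply, CoalgHomClass.counit_comp_apply]
  · obtain ⟨a, rfl⟩ := hπ f
    refine Ideal.Quotient.eq_zero_iff_mem.mpr fun n => ?_
    have h := hf n
    rw [← pull_apply π, ← pull_pow, show pull π X' = X from WithConv.ext (LinearMap.ext hX')] at h
    exact h

end Groth.Agent.SolvGrp.Groth
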