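import Groth.Agent.SolvGrp.GrothBridge
import Groth.Agent.SolvGrp.GrothHull
import Groth.Agent.GrpSchLib.AdjointCentre
import Groth.Agent.GrpSchLib.QuotAffine
import Groth.Agent.QRepLib.Connected
import Groth.Agent.SolvGrp.UnipRadSep

/-! The adjoint quotient with coordinates, central maps, and the levels of a map from a split torus. -/

set_option backward.isDefEq.respectTransparency false
set_option backward.isDefEq.respectTransparency.types false
set_option linter.style.haveILetI false
set_option synthInstance.maxHeartbeats 1000000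

universe u

open CategoryTheory MonoidalCategory CartesianMonoidalCategory MonObj GrpObj AlgebraicGeometry
open scoped TensorProduct
open WithConv

noncomputable section

namespace Groth.Agent.SolvGrp.Groth

open GrpSchLib GrpSchLib.AffineHopf

variable {k : Type u} [Field k]

/-- The adjoint quotient of a group, with coordinates. -/
structure Adj (G : Over (Spec (CommRingCat.of k))) [GrpObj G] where
  (Z Q : Over (Spec (CommRingCat.of k)))
  [gZ : GrpObj Z]
  [gQ : GrpObj Q]
  i : Z ⟶ G
  q : G ⟶ Q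
  [hq : IsMonHom q]
  [haff : IsAffine Q.left]
  [hsm : Smooth Q.hom]
  [hcon : ConnectedSpace Q.left]
  [hfl : Flat q.left]
  [hsur : Surjective q.left]
  hZ : Red.IsCentre i
  hk : AlgGrp.IsKernel i q
  (A B : Type u)
  [rA : CommRing A]
  [hA : HopfAlgebra k A]
  [rB : CommRing B]
  [hB : HopfAlgebra k B]
  [fA : Algebra.FiniteType k A]
  a : sp k A ≅ G
  b : sp k B ≅ Q
  [ma : IsMonHom a.hom]
  [ma' : IsMonHom a.inv]
  [mb : IsMonHom b.hom]
  [mb' : IsMonHom b.inv]
  ψ : B →ₐc[k] A
  hψ : a.hom ≫ q ≫ b.inv = spMap (ψ : B →ₐ[k] A)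

attribute [instance] Adj.gZ Adj.gQ Adj.hq Adj.haff Adj.hsm Adj.hcon Adj.hfl Adj.hsur Adj.rA Adj.hA Adj.rB Adj.hB
  Adj.fA Adj.ma Adj.ma' Adj.mb Adj.mb'

theorem finiteType_of_sp (A : Type u) [CommRing A] [HopfAlgebra k A] [LocallyOfFiniteType (sp k A).hom] :
    Algebra.FiniteType k A := by
  have h : LocallyOfFiniteType (Spec.map (CommRingCat.ofHom (algebraMap k A))) :=
    ‹LocallyOfFiniteType (sp k A).hom›
  exact RingHom.finiteType_algebraMap.mp ((HasRingHomProperty.Spec_iff (P := @LocallyOfFiniteType)).mp h)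

/-- The adjoint quotient exists. -/
theorem exists_adj (G : Over (Spec (CommRingCat.of k))) [GrpObj G] [IsAffine G.left] [Smooth G.hom]
    [ConnectedSpace G.left] : Nonempty (Adj G) := by
  haveI : LocallyOfFiniteType G.hom := inferInstance
  haveI : QuasiCompact G.hom := inferInstance
  obtain ⟨Z, _, i, -, -, hZ, Q, _, q, hq, haff, hlft, -, hfl, hs, hk⟩ := Adjoint.exists_centre_quot G
  haveI := hq
  haveI := haff
  haveI := hlft
  haveI := hfl
  haveI := hs
  haveI : Smooth Q.hom := smooth_of_quotient q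
  haveI : ConnectedSpace Q.left := q.left.surjective.connectedSpace q.left.continuous
  obtain ⟨A, _, _, ⟨eA⟩⟩ := exists_hopf G
  obtain ⟨B, _, _, ⟨eB⟩⟩ := exists_hopf Q
  let a : sp k A ≅ G := (Grp.forget _).mapIso eA
  let b : sp k B ≅ Q := (Grp.forget _).mapIso eB
  haveI : IsMonHom a.hom := eA.hom.hom.isMonHom_hom
  haveI : IsMonHom a.inv := eA.inv.hom.isMonHom_hom
  haveI : IsMonHom b.hom := eB.hom.hom.isMonHom_hom
  haveI : IsMonHom b.inv := eB.inv.hom.isMonHom_hom
  haveI : LocallyOfFiniteType (sp k A).hom := by rw [← Over.w a.hom]; infer_instance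
  haveI := finiteType_of_sp (k := k) A
  obtain ⟨ψ, hψ⟩ := exists_bialgHom (a.hom ≫ q ≫ b.inv)
  exact ⟨{ Z := Z, Q := Q, i := i, q := q, hZ := hZ, hk := hk, A := A, B := B, a := a, b := b, ψ := ψ, hψ := hψ }⟩

/-- A point commuting with everything, after all base changes. -/
def IsCen {S : Scheme.{u}} {G : Over S} [GrpObj G] {X : Over S} (x : X ⟶ G) : Prop :=
  ∀ (X' : Over S) (a : X' ⟶ X) (h : X' ⟶ G), (a ≫ x) * h = h * (a ≫ x)

theorem IsCen.comp {S : Scheme.{u}} {G : Over S} [GrpObj G] {X Y : Over S} {x : X ⟶ G} (h : IsCen x) (f : Y ⟶ X) :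
    IsCen (f ≫ x) := fun X' a g => by rw [← Category.assoc]; exact h X' (a ≫ f) g

variable {K : Type u} [Field K] [Algebra k K]

local notation "σ" => Spec.map (CommRingCat.ofHom (algebraMap k K))

/-- The central maps are those killed by the quotient. -/
theorem Adj.isCen_iff {G : Over (Spec (CommRingCat.of k))} [GrpObj G] (D : Adj G)
    {X : Over (Spec (CommRingCat.of K))} (x : X ⟶ Red.bc σ G) :
    IsCen x ↔ x ≫ (Over.pullback σ).map D.q = 1 := by
  constructor
  · intro hx
    have hZK := isCentralizerOf_bc σ (𝟙 G) D.i D.hZ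
    obtain ⟨z, hz⟩ := (hZK.2.2 X x).mpr fun X' a h => by simpa using hx X' a h
    obtain ⟨w, rfl⟩ := (AVTors.bcPts σ X D.Z).surjective z
    rw [← hz, ← AVTors.bcPts_comp, ← AVTors.bcPts_comp, Category.assoc, D.hk.w, ← Category.assoc, comp_toUnit,
      ← Hom.one_def, map_one]
  · intro hx X' a h
    exact central_of_comp_eq_one (algebraMap k K) D.i D.q D.hZ D.hk (a ≫ x)
      (by rw [Category.assoc, hx, MonObj.comp_one]) h

/-- The standard split torus of rank `r`. -/
abbrev spT (K : Type u) [Field K] (r : ℕ) : Over (Spec (CommRingCat.of K)) := sp K (MonoidAlgebra K (Lat r))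

/-- The inclusion of the torsion of level `N`. -/
abbrev tor (K : Type u) [Field K] (r N : ℕ) : sp K (MonoidAlgebra K (Chr r N)) ⟶ spT K r :=
  spMap (MonoidAlgebra.mapDomainBialgHom K (red r N) : MonoidAlgebra K (Lat r) →ₐ[K] MonoidAlgebra K (Chr r N))

variable (K) in
/-- Some homomorphism from a split torus is not central on the torsion of level `p ^ n`. -/
def NonCen (G : Over (Spec (CommRingCat.of k))) [GrpObj G] (p n : ℕ) : Prop :=
  ∃ (r : ℕ) (v : spT K r ⟶ Red.bc σ G), IsMonHom v ∧ ¬ IsCen (tor K r (p ^ n) ≫ v)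

variable {G : Over (Spec (CommRingCat.of k))} [GrpObj G] (D : Adj G)

/-- Centrality on a torsion level in coordinates. -/
theorem Adj.exists_rho {r : ℕ} (v : spT K r ⟶ Red.bc σ G) [IsMonHom v] :
    ∃ ρ : K ⊗[k] D.A →ₐc[K] MonoidAlgebra K (Lat r),
      (v ≫ (Over.pullback σ).map D.q = 1 ↔
        ∀ z, ρ (bcA (K := K) D.ψ z) = algebraMap K _ (Coalgebra.counit (R := K) z)) ∧
      ∀ N, IsCen (tor K r N ≫ v) ↔ ∀ z, MonoidAlgebra.mapDomainBialgHom K (red r N) (ρ (bcA (K := K) D.ψ z)) =
        algebraMap K _ (Coalgebra.counit (R := K) z) := by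
  obtain ⟨ρ, -, hρ⟩ := Groth.exists_rho D.a D.b D.q D.ψ D.hψ v
  refine ⟨ρ, ?_, fun N => ?_⟩
  · have h := hρ (AlgHom.id K (MonoidAlgebra K (Lat r)))
    rwa [spMap_id, Category.id_comp] at h
  · rw [D.isCen_iff, Category.assoc]
    exact hρ _

/-- Nothing is non-central at level zero. -/
theorem Adj.not_nonCen_zero (p : ℕ) (D : Adj G) : ¬ NonCen K G p 0 := by
  rintro ⟨r, v, hv, hcen⟩
  haveI := hv
  obtain ⟨ρ, -, hρ⟩ := D.exists_rho v
  refine hcen ((hρ _).mpr fun z => ?_)
  have key : ∀ x : MonoidAlgebra K (Lat r), MonoidAlgebra.mapDomainBialgHom K (red r (p ^ 0)) x =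
      algebraMap K _ (Coalgebra.counit (R := K) x) := by
    intro x
    induction x using MonoidAlgebra.induction_linear with
    | zero => rw [map_zero, map_zero, map_zero]
    | add s t hs ht => rw [map_add, map_add, map_add, hs, ht]
    | single m c =>
      rw [MonoidAlgebra.counit_single, CommSemiring.counit_apply]
      show MonoidAlgebra.mapDomain _ (MonoidAlgebra.single m c) = _
      rw [MonoidAlgebra.mapDomain_single]
      have : red r (p ^ 0) m = 1 := by
        rw [pow_zero]; exact Subsingleton.elim _ _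
      rw [this]
      rfl
  rw [key, CoalgHomClass.counit_comp_apply, CoalgHomClass.counit_comp_apply]

/-- A non-central homomorphism from a torus is non-central at some level. -/
theorem Adj.exists_nonCen [IsAlgClosed K] (p : ℕ) (hp : p ≠ 1) (D : Adj G) {T : Over (Spec (CommRingCat.of K))}
    [GrpObj T] (hT : Red.IsTorus T) (v : T ⟶ Red.bc σ G) [IsMonHom v]
    (hv : v ≫ (Over.pullback σ).map D.q ≠ 1) : ∃ n, NonCen K G p n := by
  obtain ⟨r, ⟨e⟩⟩ := exists_iso_sp hT
  let t : spT K r ≅ T := (Grp.forget _).mapIso e.symm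
  haveI : IsMonHom t.hom := e.inv.hom.isMonHom_hom
  obtain ⟨ρ, hρ1, hρ⟩ := D.exists_rho (t.hom ≫ v)
  by_contra hne
  push Not at hne
  refine hv ?_
  have h1 : (t.hom ≫ v) ≫ (Over.pullback σ).map D.q = 1 := hρ1.mpr fun z => by
    by_contra hz
    obtain ⟨n, hn⟩ := exists_level (K := K) p hp ρ (bcA (K := K) D.ψ z) (by
      rwa [CoalgHomClass.counit_comp_apply])
    refine hn ?_
    rw [(hρ _).mp (by_contra fun h => hne n ⟨r, t.hom ≫ v, inferInstance, h⟩) z, CoalgHomClass.counit_comp_apply]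
  rw [Category.assoc] at h1
  rw [← Category.id_comp (v ≫ _), ← t.inv_hom_id, Category.assoc, h1, MonObj.comp_one]

end Groth.Agent.SolvGrp.Groth
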