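import Groth.Agent.SolvGrp.GrothNilp
import Mathlib.Algebra.MvPolynomial.Funext

/-! Over an infinite field the topologically nilpotent derivations at the counit are detected on rational ones. -/

universe u

open TensorProduct WithConv

noncomputable section

namespace Groth.Agent.SolvGrp.Groth

open GrpSchLib

variable {k : Type u} [Field k] {A : Type u} [CommRing A] [HopfAlgebra k A] {B : Type u} [CommRing B] [HopfAlgebra k B]

/-- A finite basis of the derivations at the counit, valid after every extension of scalars. -/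
theorem exists_der_basis [Algebra.FiniteType k A] :
    ∃ (n : ℕ) (X : Fin n → CartDual.D k A), (∀ j, IsDer (X j)) ∧
      ∀ (K : Type u) [Field K] [Algebra k K] (Y : CartDual.D K (K ⊗[k] A)), IsDer Y →
        ∃ c : Fin n → K, ∀ a, Y.ofConv ((1 : K) ⊗ₜ[k] a) = ∑ j, c j * algebraMap k K ((X j).ofConv a) := by
  classical
  let ε : A →ₐ[k] k := Bialgebra.counitAlgHom k A
  have hε : ∀ a, ε a = Coalgebra.counit (R := k) a := fun a => rfl
  let M : Submodule k A := Submodule.span k {1} ⊔ ((RingHom.ker ε) ^ 2).restrictScalars k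
  let q : A →ₗ[k] A ⧸ M := M.mkQ
  have h1 : q 1 = 0 := (Submodule.Quotient.mk_eq_zero _).mpr
    (Submodule.mem_sup_left (Submodule.mem_span_singleton_self 1))
  have hmul : ∀ a b, q (a * b) = Coalgebra.counit (R := k) a • q b + Coalgebra.counit (R := k) b • q a := by
    intro a b
    have h2 : q ((a - algebraMap k A (ε a)) * (b - algebraMap k A (ε b))) = 0 := by
      refine (Submodule.Quotient.mk_eq_zero _).mpr (Submodule.mem_sup_right ?_)
      show _ ∈ (RingHom.ker ε) ^ 2
      rw [pow_two]
      exact Ideal.mul_mem_mul (by simp [RingHom.mem_ker]) (by simp [RingHom.mem_ker])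
    rw [← sub_eq_zero, ← h2]
    simp only [sub_mul, mul_sub, Algebra.algebraMap_eq_smul_one, smul_mul_assoc, mul_smul_comm, _root_.one_mul,
      _root_.mul_one, smul_smul, map_sub, map_smul, h1, smul_zero, sub_zero, hε]
    abel
  obtain ⟨s, hs⟩ := Algebra.FiniteType.out (R := k) (A := A)
  have hspan : ∀ a, q a ∈ Submodule.span k (q '' (s : Set A)) := by
    intro a
    have ha : a ∈ Algebra.adjoin k (s : Set A) := hs ▸ Algebra.mem_top
    induction ha using Algebra.adjoin_induction with
    | mem x hx => exact Submodule.subset_span ⟨x, hx, rfl⟩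
    | algebraMap r => rw [Algebra.algebraMap_eq_smul_one, map_smul, h1, smul_zero]; exact Submodule.zero_mem _
    | add x y _ _ hx hy => rw [map_add]; exact Submodule.add_mem _ hx hy
    | mul x y _ _ hx hy =>
      rw [hmul]; exact Submodule.add_mem _ (Submodule.smul_mem _ _ hy) (Submodule.smul_mem _ _ hx)
  haveI : Module.Finite k (A ⧸ M) := ⟨Submodule.fg_def.mpr ⟨q '' (s : Set A), s.finite_toSet.image q,
    eq_top_iff.mpr fun x _ => by obtain ⟨a, rfl⟩ := Submodule.mkQ_surjective M x; exact hspan a⟩⟩
  let e := Module.finBasis k (A ⧸ M)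
  refine ⟨_, fun j => toConv (e.coord j ∘ₗ q), fun j a b => ?_, fun K _ _ Y hY => ?_⟩
  · simp only [ofConv_toConv, LinearMap.comp_apply, hmul, map_add, map_smul, smul_eq_mul]
  let y : A →ₗ[k] K := Y.ofConv.restrictScalars k ∘ₗ (TensorProduct.mk k K A 1)
  have hcou : ∀ a, Coalgebra.counit (R := K) ((1 : K) ⊗ₜ[k] a) = algebraMap k K (ε a) := fun a => by
    simp [hε, Algebra.algebraMap_eq_smul_one]
  have hy : M ≤ LinearMap.ker y := by
    refine sup_le ((Submodule.span_singleton_le_iff_mem _ _).mpr ?_) fun a ha => ?_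
    · show Y.ofConv ((1 : K) ⊗ₜ[k] (1 : A)) = 0
      rw [← Algebra.TensorProduct.one_def]
      exact deriv_apply_one hY
    · have ha' : a ∈ (RingHom.ker ε) * (RingHom.ker ε) := by rw [← pow_two]; exact ha
      refine Submodule.mul_induction_on ha' (fun b hb c hc => ?_) fun b c hb hc => add_mem hb hc
      show Y.ofConv ((1 : K) ⊗ₜ[k] (b * c)) = 0
      rw [show (1 : K) ⊗ₜ[k] (b * c) = ((1 : K) ⊗ₜ[k] b) * ((1 : K) ⊗ₜ[k] c) by simp, hY, hcou, hcou,
        RingHom.mem_ker.mp hb, RingHom.mem_ker.mp hc]
      simp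
  refine ⟨fun j => M.liftQ y hy (e j), fun a => ?_⟩
  calc Y.ofConv ((1 : K) ⊗ₜ[k] a) = M.liftQ y hy (q a) := rfl
    _ = M.liftQ y hy (∑ j, e.repr (q a) j • e j) := by rw [e.sum_repr]
    _ = _ := by
      rw [map_sum]
      exact Finset.sum_congr rfl fun j _ => by
        rw [map_smul, Algebra.smul_def, mul_comm]; rfl

/-- The powers of a combination of forms are polynomial in the coefficients. -/
theorem exists_poly (K : Type u) [Field K] [Algebra k K] {n : ℕ} (X : Fin n → CartDual.D k A) (d : ℕ) (a : A) :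
    ∃ P : MvPolynomial (Fin n) k,
      (∀ c : Fin n → k, MvPolynomial.eval c P = ((∑ j, c j • X j) ^ d).ofConv a) ∧
      ∀ (c : Fin n → K) (Y : CartDual.D K (K ⊗[k] A)),
        (∀ a, Y.ofConv ((1 : K) ⊗ₜ[k] a) = ∑ j, c j * algebraMap k K ((X j).ofConv a)) →
          MvPolynomial.aeval c P = (Y ^ d).ofConv ((1 : K) ⊗ₜ[k] a) := by
  induction d generalizing a with
  | zero =>
    refine ⟨MvPolynomial.C (Coalgebra.counit (R := k) a), fun c => ?_, fun c Y _ => ?_⟩
    · simp [LinearMap.convOne_apply]
    · simp [LinearMap.convOne_apply, Algebra.algebraMap_eq_smul_one]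
  | succ d ih =>
    choose P hP using ih
    obtain ⟨S, hS⟩ := TensorProduct.exists_finset (R := k) (Coalgebra.comul (R := k) a)
    refine ⟨∑ p ∈ S, P p.1 * ∑ j, MvPolynomial.C ((X j).ofConv p.2) * MvPolynomial.X j, fun c => ?_,
      fun c Y hY => ?_⟩
    · rw [pow_succ, LinearMap.convMul_apply, hS]
      simp only [map_sum, map_mul, MvPolynomial.eval_C, MvPolynomial.eval_X, TensorProduct.map_tmul,
        LinearMap.mul'_apply, WithConv.ofConv_sum, WithConv.ofConv_smul, LinearMap.sum_apply, LinearMap.smul_apply,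
        smul_eq_mul]
      exact Finset.sum_congr rfl fun p _ => by
        rw [(hP p.1).1 c]
        congr 1
        exact Finset.sum_congr rfl fun j _ => mul_comm _ _
    · rw [pow_succ, LinearMap.convMul_apply]
      have e : Coalgebra.comul (R := K) ((1 : K) ⊗ₜ[k] a) =
          ∑ p ∈ S, ((1 : K) ⊗ₜ[k] p.1) ⊗ₜ[K] ((1 : K) ⊗ₜ[k] p.2) := by
        rw [TensorProduct.comul_tmul, hS]
        simp [TensorProduct.tmul_sum]
      rw [e]
      simp only [map_sum, map_mul, MvPolynomial.aeval_C, MvPolynomial.aeval_X, TensorProduct.map_tmul,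
        LinearMap.mul'_apply]
      exact Finset.sum_congr rfl fun p _ => by
        rw [(hP p.1).2 c Y hY, hY]
        congr 1
        exact Finset.sum_congr rfl fun j _ => mul_comm _ _

/-- Over an infinite field, if all rational derivations are topologically nilpotent, all derivations are. -/
theorem isTopNilp_of_rational [Infinite k] [Algebra.FiniteType k A] (ψ : B →ₐc[k] A)
    (h : ∀ X : CartDual.D k A, IsDer X → IsTopNilp (pull ψ X)) (K : Type u) [Field K] [Algebra k K]
    (Y : CartDual.D K (K ⊗[k] A)) (hY : IsDer Y) :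
    IsTopNilp (pull (Bialgebra.TensorProduct.map (BialgHom.id K K) ψ) Y) := by
  classical
  obtain ⟨n, X, hX, hdec⟩ := exists_der_basis (k := k) (A := A)
  obtain ⟨c, hc⟩ := hdec K Y hY
  intro z
  induction z using TensorProduct.induction_on with
  | zero => exact ⟨0, fun m _ => map_zero _⟩
  | add s t hs ht =>
    obtain ⟨a, ha⟩ := hs; obtain ⟨b, hb⟩ := ht
    exact ⟨max a b, fun m hm => by
      rw [map_add, ha m (le_trans (le_max_left _ _) hm), hb m (le_trans (le_max_right _ _) hm), add_zero]⟩
  | tmul s b =>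
    obtain ⟨d, hd⟩ := exists_bound (k := k) b
    refine ⟨d, fun m hm => ?_⟩
    obtain ⟨P, hP, hPK⟩ := exists_poly K (fun j => pull ψ (X j)) m b
    have hP0 : P = 0 := MvPolynomial.funext fun x => by
      rw [hP, map_zero]
      refine hd _ ?_ m hm
      have hder : IsDer (∑ j, x j • X j) := fun a a' => by
        simp only [WithConv.ofConv_sum, WithConv.ofConv_smul, LinearMap.sum_apply, LinearMap.smul_apply, smul_eq_mul,
          Finset.mul_sum, ← Finset.sum_add_distrib]
        exact Finset.sum_congr rfl fun j _ => by rw [hX j]; ring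
      convert h _ hder using 1
      refine WithConv.ext (LinearMap.ext fun b' => ?_)
      simp [pull_apply]
    have h2 := hPK c (pull (Bialgebra.TensorProduct.map (BialgHom.id K K) ψ) Y) fun a => by
      rw [pull_apply]
      exact hc (ψ a)
    rw [hP0, map_zero] at h2
    rw [show s ⊗ₜ[k] b = s • ((1 : K) ⊗ₜ[k] b) by rw [TensorProduct.smul_tmul', smul_eq_mul, mul_one], map_smul, ← h2,
      smul_zero]

end Groth.Agent.SolvGrp.Groth
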