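import Groth.Agent.SolvGrp.GenTorsionK
import Groth.Agent.SolvGrp.GenQuot
import Groth.Agent.SolvGrp.GrothAdj
import Groth.Agent.SolvGrp.GrothDense
import Groth.Agent.SolvGrp.Bridge
import Groth.Agent.SolvGrp.CharExtend
import Groth.Agent.UniPart.Centre
import Groth.Agent.UniPart.Rigid
import Groth.Agent.SolvGrp.GrothBC
import Groth.Agent.TorusQI.MaxSubtorus

/-! The Cartan subgroups over an infinite field generate. -/

set_option backward.isDefEq.respectTransparency false
set_option backward.isDefEq.respectTransparency.types false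
set_option linter.style.haveILetI false
set_option synthInstance.maxHeartbeats 1000000

universe u

open CategoryTheory MonoidalCategory CartesianMonoidalCategory MonObj GrpObj AlgebraicGeometry
open scoped TensorProduct
open WithConv

noncomputable section

namespace Groth.Agent.SolvGrp.Groth

open GrpSchLib GrpSchLib.AffineHopf GrpSchLib.Kunneth GrpSchLib.LineGroups WeilCmp.Unip AGFLib AGFLib.Gen
  AGFLib.BorelFixed AGFLib.BorelExist

section Torsion

/-- The group structure of the torsion of the split torus. -/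
instance (priority := high) grpTorC (K : Type u) [Field K] (r N : ℕ) : GrpObj (torC K r N) := inferInstance

/-- The group structure of the split torus. -/
instance (priority := high) grpSpT (K : Type u) [Field K] (r : ℕ) : GrpObj (spT K r) := inferInstance

variable {K : Type u} [Field K]

/-- The split torus is a torus. -/
theorem isTorus_spT (K : Type u) [Field K] (r : ℕ) : Red.IsTorus (spT K r) := by
  obtain ⟨e⟩ := AffineHopf.nonempty_DS_iso K (Fin r → ℤ)
  exact isTorus_of_iso_any e (TorusQI.isTorus_DS r)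

/-- A homomorphism into the split torus composed with an inverse is a homomorphism. -/
theorem isMonHom_inv_of {A B : Over (Spec (CommRingCat.of K))} [GrpObj A] [GrpObj B] (f : A ⟶ B) [IsMonHom f]
    [IsIso f] : IsMonHom (inv f) := by
  haveI : IsMonHom (asIso f).hom := ‹IsMonHom f›
  simpa using (SekSuwaLib.CharLift.isMonHom_of_mul (asIso f).inv fun {Z} x y => by
    rw [← cancel_mono (asIso f).hom, Category.assoc, Iso.inv_hom_id, MonObj.mul_comp, MonObj.mul_comp,
      Category.assoc, Category.assoc, Iso.inv_hom_id, Category.comp_id, Category.comp_id])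

/-- A map is a homomorphism if its composite with an injective homomorphism is one. -/
theorem isMonHom_of_fac {A B C : Over (Spec (CommRingCat.of K))} [GrpObj A] [GrpObj B] [GrpObj C] {f : A ⟶ B}
    {m : B ⟶ C} [IsMonHom m] [Mono m] {h : A ⟶ C} [IsMonHom h] (e : f ≫ m = h) : IsMonHom f :=
  SekSuwaLib.CharLift.isMonHom_of_mul f fun {Y} a b => by
    rw [← cancel_mono m, Category.assoc, e, MonObj.mul_comp, MonObj.mul_comp, Category.assoc, Category.assoc, e]

variable {GK H : Over (Spec (CommRingCat.of K))} [GrpObj GK] [GrpObj H]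

/-- Conjugates of homomorphisms are homomorphisms. -/
theorem isMonHom_conjBy' (x : 𝟙_ (Over (Spec (CommRingCat.of K))) ⟶ GK) (v : H ⟶ GK) [IsMonHom v] :
    IsMonHom (AGF.conjBy x v) := by rw [AGFLib.Borel.conjBy_eq]; infer_instance

/-- Conjugates of injective homomorphisms are injective. -/
theorem mono_conjBy' (x : 𝟙_ (Over (Spec (CommRingCat.of K))) ⟶ GK) (v : H ⟶ GK) [Mono v] :
    Mono (AGF.conjBy x v) := by rw [AGFLib.Borel.conjBy_eq]; exact mono_comp v _

theorem conjBy_comp' {M : Over (Spec (CommRingCat.of K))} [GrpObj M] (x : 𝟙_ (Over (Spec (CommRingCat.of K))) ⟶ H)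
    (v : M ⟶ H) (e : H ⟶ GK) [IsMonHom e] : AGF.conjBy x v ≫ e = AGF.conjBy (x ≫ e) (v ≫ e) := by
  simp only [AGF.conjBy, MonObj.mul_comp, GrpObj.inv_comp, Category.assoc]

theorem conjBy_conjBy' {M : Over (Spec (CommRingCat.of K))} [GrpObj M] (a b : 𝟙_ (Over (Spec (CommRingCat.of K))) ⟶ GK)
    (w : M ⟶ H) (i : H ⟶ GK) : AGF.conjBy a (w ≫ AGF.conjBy b i) = w ≫ AGF.conjBy (a * b) i := by
  rw [AGFLib.Borel.conjBy_eq, AGFLib.Borel.conjBy_eq, AGFLib.Borel.conjBy_eq, Category.assoc, Category.assoc,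
    AGFLib.Borel.conjM_comp]

theorem pt_conjBy' (q : 𝟙_ (Over (Spec (CommRingCat.of K))) ⟶ GK) (i : H ⟶ GK)
    (t : 𝟙_ (Over (Spec (CommRingCat.of K))) ⟶ H) : t ≫ AGF.conjBy q i = q * (t ≫ i) * q⁻¹ := by
  simp only [AGF.conjBy, MonObj.comp_mul, GrpObj.comp_inv, ← Category.assoc,
    Subsingleton.elim (t ≫ toUnit H) (𝟙 _), Category.id_comp]

/-- Maximality passes down to subgroups. -/
theorem isMaxTorus_of_fac {T C G : Over (Spec (CommRingCat.of K))} [GrpObj T] [GrpObj C] [GrpObj G] {i : T ⟶ G}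
    (h : AGF.IsMaxTorus i) (j : T ⟶ C) [IsMonHom j] (c : C ⟶ G) [IsMonHom c] [Mono c] (e : j ≫ c = i) :
    AGF.IsMaxTorus j := by
  haveI := h.2.1
  haveI : Mono j := mono_of_mono_fac e
  exact ⟨inferInstance, inferInstance, h.2.2.1, fun W _ w _ _ f hW hf => by
    haveI : Mono (w ≫ c) := mono_comp w c
    exact h.2.2.2 W (w ≫ c) f hW (by rw [← Category.assoc, hf, e])⟩

/-- What reduces to a constant is killed by the powers of the derivations of the torus. -/
theorem lam_pow_eq_zero (p : ℕ) [CharP K p] {r : ℕ} (x : MonoidAlgebra K (Lat r)) (c : K)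
    (h : MonoidAlgebra.mapDomainBialgHom K (red r p) x = algebraMap K _ c) (i : Fin r) (m : ℕ) (hm : m ≠ 0) :
    (lam r i ^ m).ofConv x = 0 := by
  let F : MonoidAlgebra K (Chr r p) →ₗ[K] K := (MonoidAlgebra.basis (Chr r p) K).constr K
    fun u => (ZMod.castHom (dvd_refl p) K (Multiplicative.toAdd u i)) ^ m
  have e : ∀ y, (lam r i ^ m).ofConv y = F (MonoidAlgebra.mapDomainBialgHom K (red r p) y) := fun y => by
    induction y using MonoidAlgebra.induction_linear with
    | zero => simp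
    | add s t hs ht => simp only [map_add, hs, ht]
    | single v d =>
      rw [show MonoidAlgebra.single v d = d • MonoidAlgebra.single v (1 : K) by simp, map_smul, map_smul, map_smul,
        pow_apply_groupLike _ (MonoidAlgebra.isGroupLikeElem_single_one v), lam_single, _root_.one_mul,
        show MonoidAlgebra.mapDomainBialgHom K (red r p) (MonoidAlgebra.single v (1 : K)) =
          MonoidAlgebra.basis (Chr r p) K (red r p v) by
          rw [MonoidAlgebra.basis_apply]; exact MonoidAlgebra.mapDomain_single]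
      simp only [F, Module.Basis.constr_basis, red_apply, map_intCast]
  rw [e, h, Algebra.algebraMap_eq_smul_one, map_smul, show (1 : MonoidAlgebra K (Chr r p)) =
    MonoidAlgebra.basis (Chr r p) K 1 by rw [MonoidAlgebra.basis_apply, MonoidAlgebra.one_def]]
  simp only [F, Module.Basis.constr_basis, toAdd_one, Pi.zero_apply, map_zero, zero_pow hm, smul_zero]

variable [IsAlgClosed K]

local notation "PK" => 𝟙_ (Over (Spec (CommRingCat.of K)))

/-- A central torsion subgroup of a smooth connected affine group lies in a maximal torus. -/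
theorem exists_fac_maxTorus {C S : Over (Spec (CommRingCat.of K))} [GrpObj C] [GrpObj S] [IsAffine C.left]
    [Smooth C.hom] [ConnectedSpace C.left] {j : S ⟶ C} (hj : AGF.IsMaxTorus j) {r p : ℕ}
    (l : torC K r p ⟶ C) [IsMonHom l] (hl : IsCen l) : ∃ f : torC K r p ⟶ S, f ≫ j = l := by
  haveI := hj.1
  haveI := hj.2.1
  haveI : IsAffineHom C.hom := isAffineHom_of_isAffine C.hom
  obtain ⟨C', _, c', hc', hcl', hsm'⟩ := Groth.Agent.S5247.result S C (TorusQI.isMultTypeFT_of_isTorus hj.2.2.1)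
    inferInstance inferInstance j
  haveI := hc'.1
  haveI := hc'.2.1
  haveI := hcl'
  haveI := hsm'
  haveI : IsAffine C'.left := isAffine_of_isAffineHom c'.left
  haveI := connectedSpace_centralizer hj.2.2.1 hc'
  obtain ⟨j', hj'⟩ := (hc'.2.2 S j).mpr fun X a h => by
    rw [← MonObj.mul_comp, ← MonObj.mul_comp,
      GrpSchLib.MultTypeComm.points_comm (TorusQI.isMultTypeFT_of_isTorus hj.2.2.1) a h]
  haveI : IsMonHom j' := SekSuwaLib.CharLift.isMonHom_of_mul j' fun {Y} a b => by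
    rw [← cancel_mono c', Category.assoc, hj', MonObj.mul_comp, MonObj.mul_comp, Category.assoc, Category.assoc, hj']
  haveI : Mono j' := mono_of_mono_fac hj'
  obtain ⟨haS, hsS, -, -⟩ := torus_props hj.2.2.1
  haveI := haS
  haveI := hsS
  haveI : IsClosedImmersion j'.left := by
    haveI : IsClosedImmersion j.left := (torus_sub_field j hj.2.2.1).1
    haveI : IsClosedImmersion (j'.left ≫ c'.left) := by rw [← Over.comp_left, hj']; infer_instance
    exact IsClosedImmersion.of_comp j'.left c'.left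
  have hmax' : AGF.IsMaxTorus j' := ⟨inferInstance, inferInstance, hj.2.2.1, fun W _ w _ _ e hW he => by
    haveI : Mono (w ≫ c') := mono_comp w c'
    exact hj.2.2.2 W (w ≫ c') e hW (by rw [← Category.assoc, he, hj'])⟩
  obtain ⟨l', hl'⟩ := (hc'.2.2 _ l).mpr fun X a h => hl X a (h ≫ j)
  haveI : IsMonHom l' := SekSuwaLib.CharLift.isMonHom_of_mul l' fun {Y} a b => by
    rw [← cancel_mono c', Category.assoc, hl', MonObj.mul_comp, MonObj.mul_comp, Category.assoc, Category.assoc, hl']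
  have hN : AlgGrp.IsNormalHom j' := Groth.Agent.AGFLib.LinPart.isNormal_of_pts j' fun g n => by
    refine ⟨n, ?_⟩
    have h1 : Commute g (n ≫ j') := by
      show g * (n ≫ j') = (n ≫ j') * g
      refine (cancel_mono c').mp ?_
      rw [MonObj.mul_comp, MonObj.mul_comp, Category.assoc, hj']
      have h := (hc'.2.2 PK (g ≫ c')).mp ⟨g, rfl⟩ PK (𝟙 _) n
      rw [Category.id_comp] at h
      exact h
    rw [h1.eq, mul_inv_cancel_right]
  obtain ⟨Q, _, q, hq, haQ, hlQ, hflat, hsurj, hker⟩ := Groth.Agent.S3278.result K C' S j' hN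
  haveI := hq
  haveI := haQ
  haveI := hlQ
  haveI := hflat
  haveI := hsurj
  haveI : IsReduced C'.left := isReduced_of_smooth_field C'.hom
  haveI : IsReduced Q.left := FBaseLib.isReduced_of_flat_surjective q.left
  haveI : Smooth Q.hom := smooth_of_perfectField_of_isReduced Q
  have hw : j' ≫ q = 1 := by rw [hker.w, Hom.one_def]
  obtain ⟨R, _, _, pR, mR, hp, hm, hpm, hexh⟩ := exists_unipotent_image q j' hmax' hw
  haveI := hp
  haveI := hm
  obtain ⟨f, hf⟩ := exists_bialgHom (l' ≫ pR)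
  have h1 : l' ≫ pR = 1 := by
    rw [hf, spMap_eq_one_iff]
    exact trivial_of_exh hexh f
  have h2 : l' ≫ q = toUnit _ ≫ η[Q] := by rw [← hpm, reassoc_of% h1, ← Hom.one_def, MonObj.one_comp]
  exact ⟨hker.lift l' (toUnit _) h2, by rw [← hj', ← Category.assoc, hker.lift_fst, hl']⟩

/-- An injective map of split torsion groups can be inverted. -/
theorem exists_retract {T : Over (Spec (CommRingCat.of K))} [GrpObj T] {r p : ℕ} (τ : spT K r ⟶ T) [IsMonHom τ]
    [IsIso τ] (ff : torC K r p ⟶ T) [IsMonHom ff] [Mono ff] : ∃ nu, nu ≫ ff = tor K r p ≫ τ := by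
  haveI : IsMonHom (inv τ) := isMonHom_inv_of τ
  obtain ⟨mu, hmu⟩ := exists_tor_hom (ff ≫ inv τ)
  have hmu' : spMap (MonoidAlgebra.mapDomainBialgHom K mu :
      MonoidAlgebra K (Chr r p) →ₐ[K] MonoidAlgebra K (Chr r p)) ≫ tor K r p ≫ τ = ff := by
    rw [← Category.assoc, ← hmu, Category.assoc, IsIso.inv_hom_id, Category.comp_id]
  haveI : Mono (spMap (MonoidAlgebra.mapDomainBialgHom K mu :
      MonoidAlgebra K (Chr r p) →ₐ[K] MonoidAlgebra K (Chr r p))) := mono_of_mono_fac hmu'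
  let me := MulEquiv.ofBijective mu (bijective_of_mono (K := K) mu)
  refine ⟨spMap (MonoidAlgebra.mapDomainBialgHom K me.symm.toMonoidHom :
    MonoidAlgebra K (Chr r p) →ₐ[K] MonoidAlgebra K (Chr r p)), ?_⟩
  rw [← hmu', ← Category.assoc, spMap_comp]
  conv_rhs => rw [← Category.id_comp (tor K r p ≫ τ), ← spMap_id]
  congr 2
  refine AlgHom.ext fun y => ?_
  show MonoidAlgebra.mapDomainBialgHom K me.symm.toMonoidHom (MonoidAlgebra.mapDomainBialgHom K mu y) = y
  rw [← BialgHom.comp_apply, ← MonoidAlgebra.mapDomainBialgHom_comp,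
    show me.symm.toMonoidHom.comp mu = MonoidHom.id _ from MonoidHom.ext fun c => me.symm_apply_apply c,
    MonoidAlgebra.mapDomainBialgHom_id]
  rfl

/-- A torus is moved into a given maximal torus by a point. -/
theorem exists_conj_fac {E S T : Over (Spec (CommRingCat.of K))} [GrpObj E] [GrpObj S] [GrpObj T] [IsAffine E.left]
    [Smooth E.hom] [ConnectedSpace E.left] {jE : T ⟶ E} (hjE : AGF.IsMaxTorus jE) (hS : Red.IsTorus S) (v : S ⟶ E)
    [IsMonHom v] : ∃ (x : PK ⟶ E) (f : S ⟶ T), IsMonHom f ∧ f ≫ jE = AGF.conjBy x v := by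
  haveI : IsReduced E.left := isReduced_of_smooth_field E.hom
  obtain ⟨S', _, jS', hjS'm, hjS', hle⟩ := exists_maxTorus_containing v hS
  haveI := hjS'm
  haveI := hjS'.2.1
  obtain ⟨haS, hsS, -, -⟩ := torus_props hS
  haveI := haS
  haveI := hsS
  haveI : IsClosedImmersion jS'.left := (torus_sub_field jS' hjS'.2.2.1).1
  obtain ⟨-, hsS', -, -⟩ := torus_props hjS'.2.2.1
  haveI := hsS'
  haveI : LocallyOfFiniteType S'.hom := inferInstance
  obtain ⟨s', -, hs'⟩ := exists_fac_sub jS' v hle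
  obtain ⟨x, eS, heS⟩ := Groth.Agent.S3901.result K E S' T jS' jE hjS' hjE
  have e0 : (s' ≫ eS.hom) ≫ jE = AGF.conjBy x v := by
    rw [Category.assoc, heS, AGFLib.Borel.conjBy_eq, AGFLib.Borel.conjBy_eq, reassoc_of% hs']
  haveI := hjE.1
  haveI := hjE.2.1
  haveI : IsMonHom (AGF.conjBy x v) := isMonHom_conjBy' x v
  exact ⟨x, s' ≫ eS.hom, isMonHom_of_fac e0, e0⟩

/-- A subgroup of multiplicative type is central in the identity component of its centralizer. -/
theorem exists_cent_identity {E L : Over (Spec (CommRingCat.of K))} [GrpObj E] [GrpObj L] [IsAffine E.left]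
    [Smooth E.hom] [ConnectedSpace L.left] (hL : SGA3x.IsMultTypeFT L) (l : L ⟶ E) [IsMonHom l] :
    ∃ (C : Over (Spec (CommRingCat.of K))) (_ : GrpObj C) (c : C ⟶ E) (l₀ : L ⟶ C), IsMonHom c ∧ IsAffine C.left ∧
      Smooth C.hom ∧ ConnectedSpace C.left ∧ IsMonHom l₀ ∧ IsCen l₀ ∧ l₀ ≫ c = l := by
  haveI : IsAffineHom E.hom := isAffineHom_of_isAffine E.hom
  obtain ⟨CE, _, cE, hcE', hcEcl, hcEsm⟩ := Groth.Agent.S5247.result L E hL inferInstance inferInstance l
  haveI := hcE'.1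
  haveI := hcE'.2.1
  haveI := hcEcl
  haveI := hcEsm
  haveI : IsAffine CE.left := isAffine_of_isAffineHom cE.left
  obtain ⟨CE0, _, iE0, hiE0, hciE0, hoiE0, haE0, hsE0, hcE0⟩ := exists_identityComponent_smooth CE
  haveI := hiE0
  haveI := hciE0
  haveI := hoiE0
  haveI := haE0
  haveI := hsE0
  haveI := hcE0
  haveI : IsClosedImmersion (iE0 ≫ cE).left := inferInstanceAs (IsClosedImmersion (iE0.left ≫ cE.left))
  haveI : Mono (iE0 ≫ cE) := mono_of_closedImmersion _
  obtain ⟨l₁, hl₁⟩ := (hcE'.2.2 _ l).mpr fun X a b => by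
    rw [← MonObj.mul_comp, ← MonObj.mul_comp, GrpSchLib.MultTypeComm.points_comm hL a b]
  obtain ⟨l₀, hl₀⟩ := UnipRadSep.exists_fac_openSubgroup iE0 l₁ η[L] (by
    rw [← cancel_mono cE, Category.assoc, hl₁, IsMonHom.one_hom l, IsMonHom.one_hom cE])
  have hl₀e : l₀ ≫ iE0 ≫ cE = l := by rw [reassoc_of% hl₀, hl₁]
  refine ⟨CE0, _, iE0 ≫ cE, l₀, inferInstance, haE0, hsE0, hcE0, isMonHom_of_fac hl₀e, fun X a b => ?_, hl₀e⟩
  have h := (hcE'.2.2 X (b ≫ iE0 ≫ cE)).mp ⟨b ≫ iE0, Category.assoc _ _ _⟩ X (𝟙 _) a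
  rw [Category.id_comp] at h
  rw [← cancel_mono (iE0 ≫ cE), MonObj.mul_comp, MonObj.mul_comp, Category.assoc, hl₀e]
  exact h.symm

/-- A torsion subgroup is moved into a given maximal torus by a point. -/
theorem exists_torsion_conj {E T : Over (Spec (CommRingCat.of K))} [GrpObj E] [GrpObj T] [IsAffine E.left]
    [Smooth E.hom] [ConnectedSpace E.left] {jE : T ⟶ E} (hjE : AGF.IsMaxTorus jE) {r p : ℕ} [CharP K p]
    (l : torC K r p ⟶ E) [IsMonHom l] : ∃ (x : PK ⟶ E) (f : torC K r p ⟶ T), f ≫ jE = AGF.conjBy x l := by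
  haveI := connectedSpace_torC (K := K) r p
  obtain ⟨C, _, c, l₀, hc, haC, hsC, hcC, hl₀, hcen, hle⟩ := exists_cent_identity (isMultTypeFT_tor r p) l
  haveI := hc
  haveI := haC
  haveI := hsC
  haveI := hcC
  haveI := hl₀
  obtain ⟨S, _, jS, hjS⟩ := exists_maxTorus_closed C
  haveI := hjS.1
  haveI := hjS.2.1
  obtain ⟨f, hf⟩ := exists_fac_maxTorus hjS l₀ hcen
  obtain ⟨x, f', -, hf'⟩ := exists_conj_fac hjE hjS.2.2.1 (jS ≫ c)
  refine ⟨x, f ≫ f', ?_⟩
  rw [Category.assoc, hf', AGFLib.Borel.conjBy_eq, AGFLib.Borel.conjBy_eq, Category.assoc, reassoc_of% hf,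
    reassoc_of% hle]

/-- The torsion inclusion is a homomorphism. -/
theorem isMonHom_tor (r N : ℕ) : IsMonHom (tor K r N) := isMonHom_spMap _

/-- A torus centralising a subgroup is moved back to the given one inside the centralizer. -/
theorem exists_normalizing {GK C C0 T W : Over (Spec (CommRingCat.of K))} [GrpObj GK] [GrpObj C] [GrpObj C0]
    [GrpObj T] [GrpObj W] [IsAffine GK.left] [Smooth GK.hom] [ConnectedSpace GK.left]
    [IsAffine C0.left] [Smooth C0.hom] [ConnectedSpace C0.left]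
    {u : W ⟶ GK} {c : C ⟶ GK} (hc : Red.IsCentralizerOf u c) (i0 : C0 ⟶ C) [IsMonHom i0] [Mono i0]
    [IsOpenImmersion i0.left] {iT : T ⟶ GK} (hmax : AGF.IsMaxTorus iT) (t0 : T ⟶ C0) [IsMonHom t0]
    (ht0 : t0 ≫ i0 ≫ c = iT) (g : PK ⟶ GK)
    (hcomm : ∀ (X : Over (Spec (CommRingCat.of K))) (a : X ⟶ T) (b : X ⟶ W),
      Commute (a ≫ AGF.conjBy g iT) (b ≫ u)) :
    ∃ y : PK ⟶ C0, ∀ (s : PK ⟶ T), ∃ s' : PK ⟶ T,
      s' ≫ iT = ((y ≫ i0 ≫ c)⁻¹ * g)⁻¹ * (s ≫ iT) * ((y ≫ i0 ≫ c)⁻¹ * g) := by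
  haveI := hc.1
  haveI := hc.2.1
  haveI := hmax.1
  haveI := hmax.2.1
  haveI : Mono (i0 ≫ c) := mono_comp i0 c
  haveI : IsMonHom (AGF.conjBy g iT) := isMonHom_conjBy' g iT
  obtain ⟨a₁, ha₁⟩ := (hc.2.2 _ (AGF.conjBy g iT)).mpr fun X a b => (hcomm X a b).eq
  obtain ⟨-, -, hcT, -⟩ := torus_props hmax.2.2.1
  haveI := hcT
  obtain ⟨a₀, ha₀⟩ := UnipRadSep.exists_fac_openSubgroup i0 a₁ η[T] (by
    rw [← cancel_mono c, Category.assoc, ha₁, IsMonHom.one_hom, IsMonHom.one_hom])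
  have hk0 : a₀ ≫ i0 ≫ c = AGF.conjBy g iT := by rw [reassoc_of% ha₀, ha₁]
  haveI : IsMonHom a₀ := isMonHom_of_fac hk0
  obtain ⟨y, eT, heT⟩ := Groth.Agent.S3901.result K C0 T T t0 a₀ (isMaxTorus_of_fac hmax t0 (i0 ≫ c) ht0)
    (isMaxTorus_of_fac (isMaxTorus_conjBy hmax g) a₀ (i0 ≫ c) hk0)
  refine ⟨y, fun s => ⟨s ≫ eT.hom, ?_⟩⟩
  have hconj : eT.hom ≫ AGF.conjBy g iT = AGF.conjBy (y ≫ i0 ≫ c) iT := by
    rw [← hk0, reassoc_of% heT, conjBy_comp', ht0]
  have h4 := congrArg (s ≫ ·) hconj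
  simp only [← Category.assoc, pt_conjBy'] at h4
  rw [show ((y ≫ i0 ≫ c)⁻¹ * g)⁻¹ * (s ≫ iT) * ((y ≫ i0 ≫ c)⁻¹ * g) =
    g⁻¹ * ((y ≫ i0 ≫ c) * (s ≫ iT) * (y ≫ i0 ≫ c)⁻¹) * g by group]
  simp only [← Category.assoc] at h4 ⊢
  rw [← h4]
  group

/-- A coordinate map of a closed immersion is surjective. -/
theorem surjective_of_closed {A B : Type u} [CommRing A] [CommRing B] [Algebra K A] [Algebra K B] (f : A →ₐ[K] B)
    [IsClosedImmersion (spMap f).left] : Function.Surjective f := by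
  haveI : IsClosedImmersion (Spec.map (CommRingCat.ofHom (f : A →+* B))) := ‹IsClosedImmersion (spMap f).left›
  intro c
  obtain ⟨x, hx⟩ := (IsClosedImmersion.isAffine_surjective_of_isAffine
    (Spec.map (CommRingCat.ofHom (f : A →+* B)))).2 ((Scheme.ΓSpecIso (CommRingCat.of B)).inv c)
  refine ⟨(Scheme.ΓSpecIso (CommRingCat.of A)).hom x, ?_⟩
  have h2 := congrArg (fun f => f x) (Scheme.ΓSpecIso_naturality (CommRingCat.ofHom (f : A →+* B)))
  simp only [ConcreteCategory.comp_apply] at h2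
  rw [hx] at h2
  simpa using h2.symm

/-- Centrality of the torsion of a maximal torus spreads to every torus. -/
theorem isCen_of_max {GK T : Over (Spec (CommRingCat.of K))} [GrpObj GK] [GrpObj T] [IsAffine GK.left]
    [Smooth GK.hom] [ConnectedSpace GK.left] {iT : T ⟶ GK} (hmax : AGF.IsMaxTorus iT) {r : ℕ} (τ : spT K r ⟶ T)
    [IsMonHom τ] [IsIso τ] (p : ℕ) (hc : IsCen (tor K r p ≫ τ ≫ iT)) {r₁ : ℕ} (v : spT K r₁ ⟶ GK)
    [IsMonHom v] : IsCen (tor K r₁ p ≫ v) := by
  obtain ⟨x, f, hf, e0⟩ := exists_conj_fac hmax (isTorus_spT K r₁) v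
  haveI := hf
  haveI : IsMonHom (inv τ) := isMonHom_inv_of τ
  obtain ⟨mu, hmu⟩ := exists_tor_hom (tor K r₁ p ≫ f ≫ inv τ)
  intro X a h
  let z := toUnit X ≫ x
  have h1 : a ≫ tor K r₁ p ≫ AGF.conjBy x v = (a ≫ spMap (MonoidAlgebra.mapDomainBialgHom K mu :
      MonoidAlgebra K (Chr r p) →ₐ[K] MonoidAlgebra K (Chr r₁ p))) ≫ tor K r p ≫ τ ≫ iT := by
    rw [Category.assoc, ← reassoc_of% hmu, IsIso.inv_hom_id_assoc, ← e0]
  have h2 := hc X (a ≫ spMap (MonoidAlgebra.mapDomainBialgHom K mu :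
      MonoidAlgebra K (Chr r p) →ₐ[K] MonoidAlgebra K (Chr r₁ p))) (z * h * z⁻¹)
  rw [← h1] at h2
  simp only [AGF.conjBy, MonObj.comp_mul, GrpObj.comp_inv] at h2
  simp only [← Category.assoc, comp_toUnit] at h2
  simp only [show (toUnit X ≫ x) = z from rfl] at h2
  exact mul_left_cancel (a := z) (mul_right_cancel (b := z⁻¹) (by
    simp only [Category.assoc] at h2 ⊢
    calc z * ((a ≫ tor K r₁ p ≫ v) * h) * z⁻¹
        = (z * (a ≫ tor K r₁ p ≫ v) * z⁻¹) * (z * h * z⁻¹) := by group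
      _ = (z * h * z⁻¹) * (z * (a ≫ tor K r₁ p ≫ v) * z⁻¹) := h2
      _ = z * (h * (a ≫ tor K r₁ p ≫ v)) * z⁻¹ := by group))

/-- A subgroup moves into the given torus, abstractly. -/
theorem exists_moved_of {E GK T W L : Over (Spec (CommRingCat.of K))} [GrpObj E] [GrpObj GK] [GrpObj T] [GrpObj W]
    [GrpObj L] (e : E ⟶ GK) [IsMonHom e] [Mono e] {iT : T ⟶ GK} (hmax : AGF.IsMaxTorus iT) {jE : T ⟶ E}
    (hje : jE ≫ e = iT) (t : L ⟶ T) [IsMonHom t] [Mono t]
    (hconj : ∀ l : L ⟶ E, IsMonHom l → ∃ (x : PK ⟶ E) (f : L ⟶ T), f ≫ jE = AGF.conjBy x l)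
    (hret : ∀ f : L ⟶ T, IsMonHom f → Mono f → ∃ nu : L ⟶ L, nu ≫ f = t)
    (g : PK ⟶ GK) (hlam : ∃ l : L ⟶ E, l ≫ e = t ≫ AGF.conjBy g iT)
    (u : W ⟶ GK) (m : W ⟶ L) (hu : u = m ≫ t ≫ iT) :
    ∃ x : PK ⟶ E, ∀ (X : Over (Spec (CommRingCat.of K))) (a : X ⟶ T) (b : X ⟶ W),
      Commute (a ≫ AGF.conjBy ((x ≫ e) * g) iT) (b ≫ u) := by
  haveI := hmax.1
  haveI := hmax.2.1
  haveI : IsMonHom (AGF.conjBy g iT) := isMonHom_conjBy' g iT
  obtain ⟨l, hl⟩ := hlam
  haveI : IsMonHom l := isMonHom_of_fac hl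
  obtain ⟨x, f, hf⟩ := hconj l inferInstance
  refine ⟨x, fun X a b => ?_⟩
  have hfac : f ≫ iT = t ≫ AGF.conjBy ((x ≫ e) * g) iT := by
    rw [← hje, ← Category.assoc, hf, conjBy_comp', hl, conjBy_conjBy', hje]
  haveI : IsMonHom (AGF.conjBy ((x ≫ e) * g) iT) := isMonHom_conjBy' _ iT
  haveI : Mono (AGF.conjBy ((x ≫ e) * g) iT) := mono_conjBy' _ iT
  haveI : IsMonHom f := isMonHom_of_fac hfac
  haveI : Mono f := by
    haveI : Mono (f ≫ iT) := by rw [hfac]; exact mono_comp t _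
    exact mono_of_mono f iT
  obtain ⟨nu, hnu⟩ := hret f inferInstance inferInstance
  have hb : b ≫ u = (b ≫ m ≫ nu ≫ t) ≫ AGF.conjBy ((x ≫ e) * g) iT := by
    simp only [hu, Category.assoc]
    rw [← reassoc_of% hnu, hfac]
  rw [hb]
  show _ * _ = _ * _
  rw [← MonObj.mul_comp, ← MonObj.mul_comp,
    GrpSchLib.MultTypeComm.points_comm (TorusQI.isMultTypeFT_of_isTorus hmax.2.2.1) a _]

/-- A point of a subgroup containing the torsion of all tori moves the torsion into the given torus. -/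
theorem exists_moved {E GK T W : Over (Spec (CommRingCat.of K))} [GrpObj E] [GrpObj GK] [GrpObj T] [GrpObj W]
    [IsAffine E.left] [Smooth E.hom] [ConnectedSpace E.left] (e : E ⟶ GK) [IsMonHom e] [Mono e]
    {iT : T ⟶ GK} (hmax : AGF.IsMaxTorus iT) {jE : T ⟶ E} (hjE : AGF.IsMaxTorus jE) (hje : jE ≫ e = iT)
    {r p : ℕ} [CharP K p] (τ : spT K r ⟶ T) [IsMonHom τ] [IsIso τ]
    (hlam : ∀ (v : spT K r ⟶ GK), IsMonHom v → ∃ l : torC K r p ⟶ E, l ≫ e = tor K r p ≫ v)
    (u : W ⟶ GK) (m : W ⟶ torC K r p) (hu : u = m ≫ tor K r p ≫ τ ≫ iT) (g : PK ⟶ GK) :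
    ∃ x : PK ⟶ E, ∀ (X : Over (Spec (CommRingCat.of K))) (a : X ⟶ T) (b : X ⟶ W),
      Commute (a ≫ AGF.conjBy ((x ≫ e) * g) iT) (b ≫ u) := by
  haveI hm : Mono (tor K r p ≫ τ) := by
    haveI := isClosedImmersion_tor (K := K) r p
    haveI : Mono (tor K r p) := (Over.forget _).mono_of_mono_map (inferInstanceAs (Mono (tor K r p).left))
    exact mono_comp (tor K r p) τ
  haveI ht : IsMonHom (tor K r p) := isMonHom_tor r p
  haveI ht' : IsMonHom (tor K r p ≫ τ) := inferInstance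
  haveI : IsMonHom iT := hmax.1
  haveI : IsMonHom (AGF.conjBy g iT) := isMonHom_conjBy' g iT
  refine exists_moved_of e hmax hje (tor K r p ≫ τ) (fun l hl => @exists_torsion_conj _ _ _ E T _ _ _ _ _ jE hjE r p _ l hl)
    (fun f hf hf' => @exists_retract _ _ _ T _ r p τ _ _ f hf hf') g ?_ u m ?_
  · obtain ⟨l, hl⟩ := hlam (τ ≫ AGF.conjBy g iT) inferInstance
    exact ⟨l, hl.trans (Category.assoc _ _ _).symm⟩
  · exact hu.trans (congrArg (m ≫ ·) (Category.assoc _ _ _).symm)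

end Torsion

variable {k : Type u} [Field k] {K : Type u} [Field K] [Algebra k K]

local notation "σ" => Spec.map (CommRingCat.ofHom (algebraMap k K))
local notation "PK" => 𝟙_ (Over (Spec (CommRingCat.of K)))

variable [IsAlgClosed K] {G : Over (Spec (CommRingCat.of k))} [GrpObj G] [IsAffine G.left] [Smooth G.hom]
  [ConnectedSpace G.left] (D : Adj G)

/-- If the first level is central, the level drops in the adjoint group. -/
theorem Adj.step_of_level (p : ℕ) [CharP K p]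
    (hall : ∀ (r : ℕ) (v : spT K r ⟶ Red.bc σ G), IsMonHom v → IsCen (tor K r p ≫ v)) {n : ℕ} (h : NonCen K G p (n + 1)) :
    n ≠ 0 ∧ NonCen K D.Q p n := by
  obtain ⟨r, v, hv, hcen⟩ := h
  haveI := hv
  obtain ⟨ρ, hρv, hρ⟩ := Groth.exists_rho D.a D.b D.q D.ψ D.hψ v
  let θ : K ⊗[k] D.B →ₐc[K] MonoidAlgebra K (Lat r) := ρ.comp (bcA (K := K) D.ψ)
  have hp : IsCen (tor K r p ≫ v) := hall r v hv
  have hlam : ∀ i, IsTopNilp (pull θ (lam r i)) := fun i z => ⟨1, fun m hm => by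
    rw [pull_pow, pull_apply]
    have h1 : tor K r p ≫ v ≫ (Over.pullback σ).map D.q = 1 := by
      rw [← Category.assoc]; exact (D.isCen_iff _).mp hp
    exact lam_pow_eq_zero p (θ z) _ ((hρ _).mp h1 z) i m (Nat.one_le_iff_ne_zero.mp hm)⟩
  have hn0 : n ≠ 0 := by
    rintro rfl
    rw [zero_add, pow_one] at hcen
    exact hcen hp
  refine ⟨hn0, ?_⟩
  have hp0 : p ≠ 0 := by
    rintro rfl
    rw [zero_pow (Nat.succ_ne_zero n)] at hcen
    exact hcen hp
  let pw : Lat r →* Lat r := powMonoidHom p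
  have hpw : Function.Injective pw := fun x y hxy => by
    refine Multiplicative.toAdd.injective (funext fun i => ?_)
    have := congrArg (fun u : Lat r => Multiplicative.toAdd u i) hxy
    simpa [pw, hp0] using this
  let P : MonoidAlgebra K (Lat r) →ₐc[K] MonoidAlgebra K (Lat r) := MonoidAlgebra.mapDomainBialgHom K pw
  let Pa : MonoidAlgebra K (Lat r) →ₐ[K] MonoidAlgebra K (Lat r) := P
  have hP : Function.Injective Pa := MonoidAlgebra.mapDomain_injective hpw
  have hrange : ∀ z, (θ : K ⊗[k] D.B →ₐ[K] MonoidAlgebra K (Lat r)) z ∈ Pa.range := by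
    intro z
    show θ z ∈ Pa.range
    rw [← MonoidAlgebra.sum_coeff_single (θ z), Finsupp.sum]
    refine Subalgebra.sum_mem _ fun m hm => ?_
    have h1 := red_eq_one_of_coeff p θ hlam z m (Finsupp.mem_support_iff.1 hm)
    choose w hw using fun i => (ZMod.intCast_zmod_eq_zero_iff_dvd _ _).1
      ((red_apply r p m i).symm.trans (congrArg (fun u : Chr r p => Multiplicative.toAdd u i) h1))
    refine ⟨MonoidAlgebra.single (Multiplicative.ofAdd w) ((θ z).coeff m), ?_⟩
    show MonoidAlgebra.mapDomain pw (MonoidAlgebra.single _ _) = _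
    rw [MonoidAlgebra.mapDomain_single]
    congr 1
    refine Multiplicative.toAdd.injective (funext fun i => ?_)
    simp [pw, hw i]
  let ρ'a : K ⊗[k] D.B →ₐ[K] MonoidAlgebra K (Lat r) :=
    (AlgEquiv.ofInjective Pa hP).symm.toAlgHom.comp
      ((θ : K ⊗[k] D.B →ₐ[K] MonoidAlgebra K (Lat r)).codRestrict Pa.range hrange)
  have hρ' : ∀ z, P (ρ'a z) = θ z := fun z =>
    congrArg Subtype.val ((AlgEquiv.ofInjective Pa hP).apply_symm_apply
      ((θ : K ⊗[k] D.B →ₐ[K] MonoidAlgebra K (Lat r)).codRestrict Pa.range hrange z))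
  have hPP : Function.Injective (TensorProduct.map (Pa.toLinearMap) (Pa.toLinearMap)) :=
    TensorProduct.map_injective_of_flat_flat _ _ hP hP
  let ρ' : K ⊗[k] D.B →ₐc[K] MonoidAlgebra K (Lat r) := BialgHom.ofAlgHom ρ'a
    (AlgHom.ext fun z => by
      show Coalgebra.counit (R := K) (ρ'a z) = Coalgebra.counit (R := K) z
      rw [← CoalgHomClass.counit_comp_apply P, hρ', CoalgHomClass.counit_comp_apply])
    (AlgHom.ext fun z => hPP (by
      show TensorProduct.map Pa.toLinearMap Pa.toLinearMap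
          (Algebra.TensorProduct.map ρ'a ρ'a (Coalgebra.comul (R := K) z)) =
        TensorProduct.map Pa.toLinearMap Pa.toLinearMap (Coalgebra.comul (R := K) (ρ'a z))
      have e1 : TensorProduct.map Pa.toLinearMap Pa.toLinearMap (Coalgebra.comul (R := K) (ρ'a z)) =
          Coalgebra.comul (R := K) (P (ρ'a z)) := CoalgHomClass.map_comp_comul_apply P (ρ'a z)
      have e2 : ∀ t, TensorProduct.map Pa.toLinearMap Pa.toLinearMap (Algebra.TensorProduct.map ρ'a ρ'a t) =
          TensorProduct.map (θ : K ⊗[k] D.B →ₐ[K] MonoidAlgebra K (Lat r)).toLinearMap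
            (θ : K ⊗[k] D.B →ₐ[K] MonoidAlgebra K (Lat r)).toLinearMap t := fun t => by
        induction t using TensorProduct.induction_on with
        | zero => simp
        | tmul x y =>
          show P (ρ'a x) ⊗ₜ[K] P (ρ'a y) = θ x ⊗ₜ[K] θ y
          rw [hρ', hρ']
        | add s t hs ht => simp only [map_add, hs, ht]
      rw [e1, e2, hρ']
      exact CoalgHomClass.map_comp_comul_apply θ z))
  haveI : IsMonHom (bcIso (k := k) (K := K) D.B).inv :=
    isMonHom_inv (bcIso (k := k) (K := K) D.B)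
  let vQ : spT K r ⟶ Red.bc σ D.Q :=
    spMap (ρ' : K ⊗[k] D.B →ₐ[K] MonoidAlgebra K (Lat r)) ≫ (bcIso (k := k) (K := K) D.B).inv ≫
      (Over.pullback σ).map D.b.hom
  haveI : IsMonHom vQ := inferInstance
  have hback : ∀ {X : Over (Spec (CommRingCat.of K))} (x : X ⟶ Red.bc σ D.Q),
      toA D.b x ≫ (bcIso (k := k) (K := K) D.B).inv ≫ (Over.pullback σ).map D.b.hom = x := fun x => by
    simp only [toA, Category.assoc, Iso.hom_inv_id_assoc, ← Functor.map_comp, Iso.inv_hom_id,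
      CategoryTheory.Functor.map_id, Category.comp_id]
  have hPv : spMap (P : MonoidAlgebra K (Lat r) →ₐ[K] MonoidAlgebra K (Lat r)) ≫ vQ =
      v ≫ (Over.pullback σ).map D.q := by
    rw [← hback (v ≫ (Over.pullback σ).map D.q), toA_comp D.a D.b D.q D.ψ D.hψ v, hρv, spMap_comp,
      ← Category.assoc, spMap_comp]
    congr 2
    exact AlgHom.ext hρ'
  refine ⟨r, vQ, inferInstance, fun hQ => hcen ?_⟩
  -- multiplication by `p` between the torsion levels
  let f : ℤ →+ ZMod (p ^ (n + 1)) := (Int.castAddHom _).comp (AddMonoidHom.mulLeft (p : ℤ))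
  have hf : f ((p ^ n : ℕ) : ℤ) = 0 := by
    show (((p : ℤ) * ((p ^ n : ℕ) : ℤ) : ℤ) : ZMod (p ^ (n + 1))) = 0
    rw [ZMod.intCast_zmod_eq_zero_iff_dvd]
    push_cast
    rw [pow_succ']
  let lf : ZMod (p ^ n) →+ ZMod (p ^ (n + 1)) := ZMod.lift (p ^ n) ⟨f, hf⟩
  let mu : Chr r (p ^ n) →* Chr r (p ^ (n + 1)) :=
    (Pi.addMonoidHom fun i => lf.comp (Pi.evalAddMonoidHom (fun _ : Fin r => ZMod (p ^ n)) i)).toMultiplicative
  have hμ : (red r (p ^ (n + 1))).comp pw = mu.comp (red r (p ^ n)) := by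
    refine MonoidHom.ext fun m => Multiplicative.toAdd.injective (funext fun i => ?_)
    show ((Multiplicative.toAdd (pw m) i : ℤ) : ZMod (p ^ (n + 1))) = lf ((Multiplicative.toAdd m i : ℤ) : ZMod (p ^ n))
    rw [ZMod.lift_coe]
    simp [pw, f]
  have hsq : tor K r (p ^ (n + 1)) ≫ spMap (P : MonoidAlgebra K (Lat r) →ₐ[K] MonoidAlgebra K (Lat r)) =
      spMap (MonoidAlgebra.mapDomainBialgHom K mu :
        MonoidAlgebra K (Chr r (p ^ n)) →ₐ[K] MonoidAlgebra K (Chr r (p ^ (n + 1)))) ≫ tor K r (p ^ n) := by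
    rw [spMap_comp, spMap_comp]
    congr 1
    refine AlgHom.ext fun x => ?_
    show MonoidAlgebra.mapDomainBialgHom K (red r (p ^ (n + 1))) (P x) =
      MonoidAlgebra.mapDomainBialgHom K mu (MonoidAlgebra.mapDomainBialgHom K (red r (p ^ n)) x)
    rw [← BialgHom.comp_apply, ← BialgHom.comp_apply, ← MonoidAlgebra.mapDomainBialgHom_comp,
      ← MonoidAlgebra.mapDomainBialgHom_comp, hμ]
  refine D.isCen_of_quot (isMultTypeFT_tor r _) _ ?_
  rw [Category.assoc, ← hPv, reassoc_of% hsq]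
  exact hQ.comp _


end Groth.Agent.SolvGrp.Groth
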