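import Groth.Agent.SolvGrp.Crit
import Groth.Agent.TorusQI.MaxSubtorus
import Mathlib.LinearAlgebra.FreeModule.PID
import Mathlib.RingTheory.HopfAlgebra.GroupLike
import Mathlib.RingTheory.Bialgebra.MonoidAlgebra

/-! A connected group of commuting semisimple points is a torus. -/

set_option backward.isDefEq.respectTransparency false
set_option backward.isDefEq.respectTransparency.types false
set_option linter.style.haveILetI false

universe u

open TensorProduct

namespace Groth.Agent.SolvGrp

section Alg

variable {k : Type u} [Field k] [IsAlgClosed k] {A : Type u} [CommRing A] [HopfAlgebra k A]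

theorem eq_one_of_pow [IsDomain A] {g : A} (hg : IsGroupLikeElem k g) {n : ℕ} (hn : n ≠ 0) (hgn : g ^ n = 1) :
    g = 1 := by
  have hint : IsIntegral k g := ⟨Polynomial.X ^ n - Polynomial.C 1, Polynomial.monic_X_pow_sub_C (1 : k) hn,
    by simp [hgn]⟩
  have hdeg : (minpoly k g).degree = 1 := IsAlgClosed.degree_eq_one_of_irreducible k (minpoly.irreducible hint)
  obtain ⟨c, hc⟩ : g ∈ (algebraMap k A).range := minpoly.mem_range_of_degree_eq_one k g hdeg
  have h1 := hg.counit_eq_one
  rw [← hc, Algebra.algebraMap_eq_smul_one, map_smul, Bialgebra.counit_one, smul_eq_mul, _root_.mul_one] at h1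
  rw [← hc, h1, map_one]

/-- An integral diagonalisable Hopf algebra of finite type is a Laurent polynomial algebra. -/
theorem exists_bialgEquiv [IsDomain A] [Algebra.FiniteType k A]
    (hspan : Submodule.span k {a : A | IsGroupLikeElem k a} = ⊤) :
    ∃ (r : ℕ), Nonempty (MonoidAlgebra k (Multiplicative (Fin r → ℤ)) ≃ₐc[k] A) := by
  classical
  obtain ⟨s, hs⟩ := Algebra.FiniteType.out (R := k) (A := A)
  have hsupp : ∀ a : A, ∃ t : Finset (GroupLike k A), a ∈ Submodule.span k (GroupLike.val '' (t : Set (GroupLike k A))) := by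
    intro a
    have h : a ∈ Submodule.span k (GroupLike.val '' (Set.univ : Set (GroupLike k A))) := by
      rw [show GroupLike.val '' (Set.univ : Set (GroupLike k A)) = {a : A | IsGroupLikeElem k a} from
        Set.ext fun x => ⟨fun ⟨y, _, e⟩ => e ▸ y.2, fun hx => ⟨⟨x, hx⟩, trivial, rfl⟩⟩, hspan]
      trivial
    obtain ⟨t, ht, hat⟩ := Submodule.mem_span_finite_of_mem_span h
    obtain ⟨t', -, rfl⟩ := Finset.subset_set_image_iff.mp ht
    exact ⟨t', by simpa using hat⟩
  choose t ht using hsupp
  let S : Finset (GroupLike k A) := s.biUnion t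
  let N : Subgroup (GroupLike k A) := Subgroup.closure (S : Set (GroupLike k A))
  haveI : Group.FG N := Group.closure_finset_fg S
  let valN : N →* A := { toFun := fun x => (x.1 : A), map_one' := rfl, map_mul' := fun _ _ => rfl }
  have htf : ∀ x : N, ∀ n : ℕ, n ≠ 0 → x ^ n = 1 → x = 1 := fun x n hn hx => Subtype.ext (GroupLike.val_injective (by
    refine eq_one_of_pow x.1.2 hn ?_
    have h1 := congrArg valN hx
    rwa [map_pow, map_one] at h1))
  haveI : IsAddTorsionFree (Additive N) := IsAddTorsionFree.mk fun n hn x y hxy => by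
    have h1 : (x - y).toMul ^ n = 1 := by
      have hxy' : n • x = n • y := hxy
      have : n • (x - y) = 0 := by rw [nsmul_sub, hxy', sub_self]
      exact congrArg Additive.toMul this
    exact sub_eq_zero.mp (congrArg Additive.ofMul (htf _ n hn h1))
  haveI : Module.Finite ℤ (Additive N) := Module.Finite.iff_addGroup_fg.mpr inferInstance
  haveI : Module.Free ℤ (Additive N) := Module.free_of_finite_type_torsion_free'
  let r := Module.finrank ℤ (Additive N)
  let e : (Fin r → ℤ) ≃+ Additive N := (Module.finBasis ℤ (Additive N)).equivFun.symm.toAddEquiv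
  let χ : Multiplicative (Fin r → ℤ) →* A := valN.comp (AddMonoidHom.toMultiplicativeLeft e.toAddMonoidHom)
  let f₀ : MonoidAlgebra k (Multiplicative (Fin r → ℤ)) →ₐ[k] A := MonoidAlgebra.lift k A _ χ
  have hg : ∀ m, IsGroupLikeElem k (χ m) := fun m => (e m.toAdd).toMul.1.2
  let f : MonoidAlgebra k (Multiplicative (Fin r → ℤ)) →ₐc[k] A := BialgHom.ofAlgHom f₀
    (MonoidAlgebra.algHom_ext (fun m => by simp [f₀, (hg m).counit_eq_one]) (AlgHom.ext fun c => by simp [f₀]))
    (MonoidAlgebra.algHom_ext (fun m => by simp [f₀, (hg m).comul_eq_tmul_self]) (AlgHom.ext fun c => by simp [f₀, Algebra.TensorProduct.one_def]))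
  have hf1 : ∀ m, f (MonoidAlgebra.single m 1) = χ m := fun m => by
    show f₀ _ = _
    simp [f₀]
  have hinj : Function.Injective f := by
    have hli : LinearIndependent k fun m => χ m := linearIndep_groupLikeVal.comp
      (fun m : Multiplicative (Fin r → ℤ) => ((e m.toAdd).toMul).1)
      (fun a b h => Multiplicative.toAdd.injective (e.injective (Additive.toMul.injective (Subtype.ext h))))
    intro x y hxy
    refine sub_eq_zero.mp ?_
    have h0 : f₀ (x - y) = 0 := by rw [map_sub]; exact sub_eq_zero.mpr hxy
    generalize x - y = z at h0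
    simp only [f₀, MonoidAlgebra.lift_apply] at h0
    exact MonoidAlgebra.coeff_injective (linearIndependent_iff.mp hli z.coeff h0)
  have hsurj : Function.Surjective f := by
    intro a
    have hle : Algebra.adjoin k (s : Set A) ≤ f₀.range := by
      refine Algebra.adjoin_le fun b hb => ?_
      refine SetLike.le_def.mp ((Submodule.span_le : _ ≤ f₀.range.toSubmodule ↔ _).mpr ?_) (ht b)
      rintro _ ⟨g, hg', rfl⟩
      let x : N := ⟨g, Subgroup.subset_closure (Finset.mem_coe.mpr (Finset.mem_biUnion.mpr ⟨b, hb, hg'⟩))⟩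
      refine ⟨MonoidAlgebra.single (Multiplicative.ofAdd (e.symm (Additive.ofMul x))) 1, ?_⟩
      show f _ = _
      rw [hf1]
      show valN (e (e.symm (Additive.ofMul x))).toMul = g.val
      rw [e.apply_symm_apply]
      rfl
    obtain ⟨z, hz⟩ := hle (hs ▸ Algebra.mem_top (x := a))
    exact ⟨z, hz⟩
  exact ⟨r, ⟨BialgEquiv.ofBijective f ⟨hinj, hsurj⟩⟩⟩

end Alg

section Scheme

open CategoryTheory MonoidalCategory CartesianMonoidalCategory MonObj AlgebraicGeometry WithConv
open GrpSchLib GrpSchLib.Kunneth GrpSchLib.LineGroups WeilCmp.Unip AGFLib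

variable {k : Type u} [Field k] [IsAlgClosed k]

local notation "PT" => 𝟙_ (Over (Spec (CommRingCat.of k)))

theorem isTorus_of_iso {T T' : Over (Spec (CommRingCat.of k))} [GrpObj T] [GrpObj T']
    (e : Grp.mk T' ≅ Grp.mk T) (h : Red.IsTorus T) : Red.IsTorus T' := by
  obtain ⟨S', f, h1, h2, h3, hloc⟩ := h
  refine ⟨S', f, h1, h2, h3, fun s => ?_⟩
  obtain ⟨U, hU, r, ⟨e'⟩⟩ := hloc s
  exact ⟨U, hU, r, ⟨(Over.pullback (U.ι ≫ f)).mapGrp.mapIso e ≪≫ e'⟩⟩

/-- A connected smooth affine group whose rational points are semisimple and commute is a torus. -/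
theorem isTorus_of_pts (G : Over (Spec (CommRingCat.of k))) [GrpObj G] [IsAffine G.left] [Smooth G.hom]
    [ConnectedSpace G.left] (hss : ∀ g : PT ⟶ G, IsSsPt g) (hcomm : ∀ g h : PT ⟶ G, Commute g h) :
    Red.IsTorus G := by
  haveI : IsReduced G.left := isReduced_of_smooth_field G.hom
  haveI : IrreducibleSpace G.left := Groth.Agent.S0348.result k G
  haveI : IsIntegral G.left := isIntegral_of_irreducibleSpace_of_isReduced G.left
  obtain ⟨A, _, _, ⟨eG⟩⟩ := AffineHopf.exists_hopf G
  let a : AffineHopf.sp k A ≅ G := (Grp.forget _).mapIso eG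
  haveI : IsMonHom a.hom := eG.hom.hom.isMonHom_hom
  haveI : IsMonHom a.inv := eG.inv.hom.isMonHom_hom
  haveI : IsIso a.hom.left := ((Over.forget _).mapIso a).isIso_hom
  let φ : A ≃ₐ[k] Fn G := (LineVec.toFn (k := k) (A := A)).trans (fnEquiv a.symm)
  haveI : IsDomain A := φ.toMulEquiv.isDomain
  haveI : Algebra.FiniteType k A := by
    haveI := finiteType_fn G
    exact (inferInstance : Algebra.FiniteType k (Fn G)).equiv φ.symm
  have hA : ∀ ψ : A →ₐ[k] k, ∃ g : PT ⟶ G, ∀ x, vl g (φ x) = ψ x := fun ψ => by
    obtain ⟨g, hg⟩ := exists_pt (U := G) (ψ.comp φ.symm.toAlgHom)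
    exact ⟨g, fun x => by rw [hg]; simp⟩
  have hred : ∀ x : A, (∀ ψ : A →ₐ[k] k, ψ x = 0) → x = 0 := fun x hx => φ.injective (by
    rw [map_zero]
    refine eq_of_vl fun g => ?_
    rw [map_zero]
    exact hx ((vl g).comp φ.toAlgHom))
  have hmul : ∀ (g h : PT ⟶ G) (x : A),
      vl (g * h) (φ x) = Algebra.TensorProduct.lift ((vl g).comp φ.toAlgHom) ((vl h).comp φ.toAlgHom)
        (fun _ _ => Commute.all _ _) (Coalgebra.comul (R := k) x) := by
    intro g h x
    show ProjAct.toK (LineVec.fn ((g * h) ≫ a.inv) x) = _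
    rw [MonObj.mul_comp, LineVec.fn_mul]
    show ProjAct.toK ((toConv (LineVec.fn (g ≫ a.inv)) * toConv (LineVec.fn (h ≫ a.inv))) x) = _
    rw [AlgHom.convMul_apply]
    induction Coalgebra.comul (R := k) x using TensorProduct.induction_on with
    | zero => simp
    | tmul b c => simp only [Algebra.TensorProduct.map_tmul, Algebra.TensorProduct.lift_tmul, Algebra.TensorProduct.lmul'_apply_tmul, map_mul]; rfl
    | add b c hb hc => simp only [map_add, hb, hc]
  obtain ⟨E, hE, hsub, -, -⟩ := exists_eigSub (G := G) Set.univ (fun g _ => hss g) (fun g _ h _ => hcomm g h)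
  have hchar : ∀ e ∈ E, e ≠ 0 → vl 1 e ≠ 0 ∧ ∀ g h : PT ⟶ G, vl (g * h) e * vl 1 e = vl g e * vl h e := by
    intro e he he0
    have key : ∀ g h : PT ⟶ G, vl (g * h) e * vl 1 e = vl g e * vl h e := fun g h => by
      obtain ⟨c, hc⟩ := hsub (Set.mem_univ h) e he
      rw [← vl_rt, hc, ← vl_one_rt h e, hc, map_smul, map_smul, smul_eq_mul, smul_eq_mul]
      ring
    refine ⟨fun h1 => he0 (eq_of_vl fun g => ?_), key⟩
    obtain ⟨c, hc⟩ := hsub (Set.mem_univ g) e he
    rw [map_zero, ← vl_one_rt, hc, map_smul, h1, smul_zero]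
  have hspan : Submodule.span k {x : A | IsGroupLikeElem k x} = ⊤ := by
    refine eq_top_iff.mpr fun x _ => ?_
    have hx : φ x ∈ Submodule.span k E := hE ▸ Submodule.mem_top
    have hle : Submodule.span k E ≤ (Submodule.span k {x : A | IsGroupLikeElem k x}).comap φ.symm.toLinearMap := by
      refine Submodule.span_le.mpr fun e he => ?_
      show φ.symm e ∈ Submodule.span k {x : A | IsGroupLikeElem k x}
      by_cases he0 : e = 0
      · rw [he0, map_zero]; exact Submodule.zero_mem _
      obtain ⟨h1, hm⟩ := hchar e he he0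
      let b : A := (vl (1 : PT ⟶ G) e)⁻¹ • φ.symm e
      have hb : ∀ g : PT ⟶ G, vl g (φ b) = (vl (1 : PT ⟶ G) e)⁻¹ * vl g e := fun g => by
        simp [b, map_smul]
      have hgl : IsGroupLikeElem k b := by
        have hcomul : Coalgebra.comul (R := k) b = b ⊗ₜ[k] b := by
          rw [← sub_eq_zero]
          set z := Coalgebra.comul (R := k) b - b ⊗ₜ[k] b with hz
          have hzero : ∀ ψ χ : A →ₐ[k] k, Algebra.TensorProduct.lift ψ χ (fun _ _ => Commute.all _ _) z = 0 := by
            intro ψ χ
            obtain ⟨g, hg⟩ := hA ψ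
            obtain ⟨h, hh⟩ := hA χ
            have eg : (vl g).comp φ.toAlgHom = ψ := AlgHom.ext hg
            have eh : (vl h).comp φ.toAlgHom = χ := AlgHom.ext hh
            rw [hz, map_sub, Algebra.TensorProduct.lift_tmul, ← eg, ← eh, ← hmul]
            show vl (g * h) (φ b) - vl g (φ b) * vl h (φ b) = 0
            rw [hb, hb, hb]
            field_simp
            linear_combination hm g h
          clear_value z
          let B := Module.Free.chooseBasis k A
          obtain ⟨c, hc⟩ : ∃ c : Module.Free.ChooseBasisIndex k A →₀ A, z = c.sum fun i m => B i ⊗ₜ[k] m :=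
            ⟨TensorProduct.equivFinsuppOfBasisLeft B z,
              (TensorProduct.equivFinsuppOfBasisLeft B).symm_apply_apply z |>.symm.trans (by
                rw [TensorProduct.equivFinsuppOfBasisLeft_symm_apply])⟩
          suffices c = 0 by rw [hc, this, Finsupp.sum_zero_index]
          refine Finsupp.ext fun i => hred _ fun χ => ?_
          have h0 : (c.sum fun i m => χ m • B i) = 0 := hred _ fun ψ => by
            have := hzero ψ χ
            rw [hc, map_finsuppSum] at this
            rw [map_finsuppSum]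
            refine Eq.trans ?_ this
            refine Finsupp.sum_congr fun j _ => ?_
            simp [mul_comm]
          have h1 := congrArg (fun y => B.repr y i) h0
          simp only [Finsupp.sum, map_sum, map_smul, Module.Basis.repr_self, Finsupp.smul_single, smul_eq_mul,
            _root_.mul_one, map_zero, Finsupp.coe_zero, Pi.zero_apply, Finsupp.coe_finset_sum, Finset.sum_apply,
            Finsupp.single_apply] at h1
          rw [Finset.sum_ite_eq' c.support i (fun j => χ (c j))] at h1
          split_ifs at h1 with hi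
          · exact h1
          · rw [Finsupp.notMem_support_iff.mp hi, map_zero]
        have hcounit : Coalgebra.counit (R := k) b = 1 := by
          have h2 : b ≠ 0 := fun hb0 => h1 (by
            have h3 := hb 1
            rw [hb0, map_zero, map_zero, inv_mul_cancel₀ h1] at h3
            exact absurd h3 zero_ne_one)
          have h3 := congrArg (fun z => LinearMap.mul' k A (TensorProduct.map (Algebra.linearMap k A ∘ₗ Coalgebra.counit)
            LinearMap.id z)) hcomul
          have h4 : LinearMap.mul' k A (TensorProduct.map (Algebra.linearMap k A ∘ₗ Coalgebra.counit) LinearMap.id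
              (Coalgebra.comul (R := k) b)) = b := by
            have := Coalgebra.rTensor_counit_comul (R := k) b
            rw [show TensorProduct.map (Algebra.linearMap k A ∘ₗ Coalgebra.counit) (LinearMap.id : A →ₗ[k] A) =
              (Algebra.linearMap k A).rTensor A ∘ₗ (Coalgebra.counit : A →ₗ[k] k).rTensor A by
                rw [← LinearMap.rTensor_comp]; rfl, LinearMap.comp_apply, this]
            simp
          simp only [h4, TensorProduct.map_tmul, LinearMap.mul'_apply, LinearMap.comp_apply,
            Algebra.linearMap_apply, LinearMap.id_apply] at h3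
          have h5 : algebraMap k A (Coalgebra.counit b) = 1 := mul_right_cancel₀ h2 (h3.symm.trans (_root_.one_mul b).symm)
          exact (algebraMap k A).injective (h5.trans (map_one _).symm)
        exact ⟨hcounit, hcomul⟩
      have : φ.symm e = vl (1 : PT ⟶ G) e • b := by simp [b, smul_smul, mul_inv_cancel₀ h1]
      rw [this]
      exact Submodule.smul_mem _ _ (Submodule.subset_span hgl)
    have h2 := hle hx
    simpa using h2
  obtain ⟨r, ⟨e⟩⟩ := exists_bialgEquiv hspan
  obtain ⟨e'⟩ := AffineHopf.nonempty_DS_iso k (Fin r → ℤ)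
  exact isTorus_of_iso (eG.symm ≪≫ AffineHopf.spIso e ≪≫ e') (TorusQI.isTorus_DS r)

end Scheme

end Groth.Agent.SolvGrp
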