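import Groth.Agent.SolvGrp.Reductive4
import Groth.Agent.SolvGrp.MaxUnip
import Groth.Agent.GrpSchLib.MonoSubgroup

/-! Unipotent radicals over algebraically closed fields, and intersections of subgroups. -/

set_option backward.isDefEq.respectTransparency false
set_option backward.isDefEq.respectTransparency.types false
set_option linter.style.haveILetI false

universe u

open CategoryTheory MonoidalCategory CartesianMonoidalCategory MonObj AlgebraicGeometry

namespace Groth.Agent.SolvGrp

open GrpSchLib GrpSchLib.Kunneth GrpSchLib.LineGroups AGFLib AGFLib.Gen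

/-- The unipotent radical exists over an algebraically closed field. -/
theorem exists_isUnipotentRadical {k : Type u} [Field k] [IsAlgClosed k] (G : Over (Spec (CommRingCat.of k))) [GrpObj G]
    [IsAffine G.left] [Smooth G.hom] :
    ∃ (R : Over (Spec (CommRingCat.of k))) (_ : GrpObj R) (r : R ⟶ G), Par.IsUnipotentRadical r := by
  obtain ⟨R, _, r, hr, hrc, hrs, hrcon, hrn, hru, hrmax⟩ := exists_unipRadPts G
  haveI := hr
  haveI := hrc
  haveI := hrs
  haveI := hrcon
  haveI : IsReduced G.left := isReduced_of_smooth_field G.hom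
  haveI : IsReduced R.left := isReduced_of_smooth_field R.hom
  obtain ⟨haR, hlR, hqR, -, -⟩ := sub_props r
  haveI := haR
  haveI := hlR
  refine ⟨R, inferInstance, r, inferInstance, inferInstance, isNormalHom_of_pts r hrn, hrs, hqR,
    fun s => geomFibre_props (hasNoSubtorus_of_isUnipPt hru) s, fun U' _ u' _ hc' hn' hs' _ hf' => ?_⟩
  haveI := hc'
  haveI := hs'
  obtain ⟨hcon, hnt⟩ := hf' (AGFLib.GeomBC.pt k)
  haveI : ConnectedSpace U'.left := connectedSpace_of_geomFibre _ hcon
  haveI : IsReduced U'.left := isReduced_of_smooth_field U'.hom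
  haveI := (sub_props u').1
  obtain ⟨f, -, hf⟩ := exists_fac_sub r u' (hrmax U' u' hc' hs' inferInstance
    ⟨fun z hz g => by
      obtain ⟨x, rfl⟩ := hz
      obtain ⟨y, hy⟩ := hn' _ g x
      exact ⟨y, hy.symm⟩⟩ (hasNoSubtorus_of_geomFibre _ hnt))
  exact ⟨f, hf⟩

/-- The inverse image of a closed subgroup under a homomorphism is a subgroup. -/
theorem exists_pullbackGrp {S : Scheme.{u}} {A B C : Over S} [GrpObj A] [GrpObj B] [GrpObj C] (f : A ⟶ C) [IsMonHom f]
    (g : B ⟶ C) [IsMonHom g] [IsClosedImmersion g.left] :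
    ∃ (I : Over S) (_ : GrpObj I) (v : I ⟶ A) (_ : IsMonHom v) (w : I ⟶ B), IsPullback w v g f := by
  let I := Limits.pullback g f
  let w : I ⟶ B := Limits.pullback.fst g f
  let v : I ⟶ A := Limits.pullback.snd g f
  have hI : IsPullback w v g f := IsPullback.of_hasPullback g f
  haveI : IsClosedImmersion v.left :=
    MorphismProperty.of_isPullback (P := @IsClosedImmersion) (hI.map (Over.forget _)) ‹_›
  haveI : Mono v.left := inferInstance
  haveI : Mono v := (Over.forget _).mono_of_mono_map (inferInstanceAs (Mono v.left))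
  obtain ⟨strI, hvm⟩ := exists_grpObj_of_mono v (hI.lift η[B] η[A] (by rw [IsMonHom.one_hom g, IsMonHom.one_hom f]))
      (hI.lift_snd _ _ _) (hI.lift ((fst I I ≫ w) * (snd I I ≫ w)) ((fst I I ≫ v) * (snd I I ≫ v)) (by
        simp only [MonObj.mul_comp, Category.assoc, hI.w])) (hI.lift_snd _ _ _)
      (hI.lift w⁻¹ v⁻¹ (by simp only [GrpObj.inv_comp, hI.w])) (hI.lift_snd _ _ _)
  exact ⟨I, strI, v, hvm, w, hI⟩

end Groth.Agent.SolvGrp
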