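import Groth.Agent.SolvGrp.Nilp
import Groth.Agent.SolvGrp.Bridge
import Groth.Agent.SolvGrp.Closed
import Groth.Agent.AlgSpLib.CartierDim

/-! Normalisers in unipotent groups grow. -/

set_option backward.isDefEq.respectTransparency false
set_option backward.isDefEq.respectTransparency.types false
set_option linter.style.haveILetI false

universe u

open CategoryTheory MonoidalCategory CartesianMonoidalCategory MonObj AlgebraicGeometry
open scoped commutatorElement

namespace Groth.Agent.SolvGrp.NormUnip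

open GrpSchLib GrpSchLib.Kunneth GrpSchLib.LineGroups AGFLib AGFLib.Gen

/-- A proper closed subspace of an irreducible scheme has smaller dimension. -/
theorem topologicalKrullDim_lt_of_ne {X Y : Scheme.{u}} (f : X ⟶ Y) [IsClosedImmersion f] [IrreducibleSpace Y]
    (hne : Set.range f ≠ Set.univ) (hfin : topologicalKrullDim ↥Y ≠ ⊤) :
    topologicalKrullDim ↥X < topologicalKrullDim ↥Y := by
  have hc : IsClosed (Set.range f) := f.isClosedEmbedding.isClosed_range
  have h := AlgSpLib.CartierDim.topologicalKrullDim_lt hc (fun z _ => ⟨genericPoint ↥Y, fun hg => hne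
    (Set.eq_univ_of_univ_subset (genericPoint_spec ↥Y ▸ closure_minimal (Set.singleton_subset_iff.2 hg) hc)),
    genericPoint_specializes z⟩) hfin
  rwa [show topologicalKrullDim ↥X = topologicalKrullDim ↥(Set.range f) from
    IsHomeomorph.topologicalKrullDim_eq _ f.isClosedEmbedding.isEmbedding.toHomeomorph.isHomeomorph]

variable {k : Type u} [Field k] [IsAlgClosed k]

local notation "PT" => 𝟙_ (Over (Spec (CommRingCat.of k)))

variable {G : Over (Spec (CommRingCat.of k))} [GrpObj G] [IsAffine G.left] [Smooth G.hom] [ConnectedSpace G.left]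

/-- A proper subgroup of a connected unipotent group is normalised by a connected subgroup outside it. -/
theorem exists_normalizing (hu : ∀ g : PT ⟶ G, IsUnipPt g) (H : Subgroup (PT ⟶ G)) (hne : H ≠ ⊤) :
    ∃ (D : Over (Spec (CommRingCat.of k))) (_ : GrpObj D) (d : D ⟶ G) (_ : IsMonHom d),
      ConnectedSpace D.left ∧ LocallyOfFiniteType D.hom ∧ QuasiCompact D.hom ∧ ¬ rangePts d ≤ H ∧
      ∀ x ∈ rangePts d, ∀ z ∈ H, x * z * x⁻¹ ∈ H := by
  classical
  haveI : IsReduced G.left := isReduced_of_smooth_field G.hom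
  haveI := isNilpotent_pts hu
  obtain ⟨N, hN⟩ := Subgroup.nilpotent_iff_lowerCentralSeries.mp (inferInstance : Group.IsNilpotent (PT ⟶ G))
  have hex : ∃ m, Subgroup.lowerCentralSeries (⊤ : Subgroup (PT ⟶ G)) m ≤ H := ⟨N, by rw [hN]; exact bot_le⟩
  obtain ⟨n, hn, hmin⟩ : ∃ n, Subgroup.lowerCentralSeries (⊤ : Subgroup (PT ⟶ G)) n ≤ H ∧
      ∀ m < n, ¬ Subgroup.lowerCentralSeries (⊤ : Subgroup (PT ⟶ G)) m ≤ H :=
    ⟨Nat.find hex, Nat.find_spec hex, fun m hm => Nat.find_min hex hm⟩
  obtain ⟨m, rfl⟩ : ∃ m, n = m + 1 := by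
    refine Nat.exists_eq_succ_of_ne_zero fun h0 => hne (eq_top_iff.mpr ?_)
    subst h0
    rwa [Subgroup.lowerCentralSeries_zero] at hn
  obtain ⟨D, _, d, hd, -, hconn, hl, hq, hr⟩ := exists_lowerSub (G := G) m
  refine ⟨D, inferInstance, d, hd, hconn, hl, hq, fun hle => hmin m (Nat.lt_succ_self m) (hr ▸ hle), fun x hx z hz => ?_⟩
  have h1 : ⁅x, z⁆ ∈ H := hn (by
    rw [Subgroup.lowerCentralSeries_succ]
    exact Subgroup.commutator_mem_commutator (hr ▸ hx) (Subgroup.mem_top z))
  have h2 := H.mul_mem h1 hz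
  rwa [commutatorElement_def, inv_mul_cancel_right] at h2

/-- Two connected subgroups generate a closed connected subgroup. -/
theorem exists_join {A B : Over (Spec (CommRingCat.of k))} [GrpObj A] [GrpObj B] (a : A ⟶ G) [IsMonHom a] (b : B ⟶ G)
    [IsMonHom b] [ConnectedSpace A.left] [ConnectedSpace B.left] [LocallyOfFiniteType A.hom] [LocallyOfFiniteType B.hom]
    [QuasiCompact A.hom] [QuasiCompact B.hom] :
    ∃ (D : Over (Spec (CommRingCat.of k))) (_ : GrpObj D) (i : D ⟶ G) (_ : IsMonHom i),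
      IsClosedImmersion i.left ∧ Smooth D.hom ∧ ConnectedSpace D.left ∧ rangePts i = rangePts a ⊔ rangePts b := by
  haveI : IrreducibleSpace A.left := Groth.Agent.S0348.result k A
  haveI : IrreducibleSpace B.left := Groth.Agent.S0348.result k B
  haveI : LocallyOfFiniteType (A ⊗ B).hom :=
    inferInstanceAs (LocallyOfFiniteType (Limits.pullback.fst A.hom B.hom ≫ A.hom))
  haveI : QuasiCompact (A ⊗ B).hom := inferInstanceAs (QuasiCompact (Limits.pullback.fst A.hom B.hom ≫ A.hom))
  haveI : IrreducibleSpace (A ⊗ B).left := by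
    haveI := GrpSchLib.geometricallyIrreducible_of_isAlgClosed A.hom
    exact inferInstanceAs (IrreducibleSpace ↥(Limits.pullback A.hom B.hom))
  let W := (A ⊗ B) ⊗ (A ⊗ B)
  haveI : LocallyOfFiniteType W.hom :=
    inferInstanceAs (LocallyOfFiniteType (Limits.pullback.fst (A ⊗ B).hom (A ⊗ B).hom ≫ (A ⊗ B).hom))
  haveI : QuasiCompact W.hom :=
    inferInstanceAs (QuasiCompact (Limits.pullback.fst (A ⊗ B).hom (A ⊗ B).hom ≫ (A ⊗ B).hom))
  haveI : IrreducibleSpace W.left := by
    haveI := GrpSchLib.geometricallyIrreducible_of_isAlgClosed (A ⊗ B).hom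
    exact inferInstanceAs (IrreducibleSpace ↥(Limits.pullback (A ⊗ B).hom (A ⊗ B).hom))
  let c : A ⊗ B ⟶ G := (fst A B ≫ a) * (snd A B ≫ b)
  have hc : ∀ z : PT ⟶ A ⊗ B, z ≫ c = ((z ≫ fst A B) ≫ a) * ((z ≫ snd A B) ≫ b) := fun z => by
    simp [c, MonObj.comp_mul]
  let φ : W ⟶ G := (fst (A ⊗ B) (A ⊗ B) ≫ c) * (snd (A ⊗ B) (A ⊗ B) ≫ c)⁻¹
  have hφ : ∀ w : PT ⟶ W, w ≫ φ = ((w ≫ fst _ _) ≫ c) * ((w ≫ snd _ _) ≫ c)⁻¹ := fun w => by
    simp [φ, MonObj.comp_mul, GrpObj.comp_inv]
  obtain ⟨D, _, i, hi, hci, hsm, -, hirr, -, hr⟩ := exists_generated φ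
    ⟨lift (lift 1 1) (lift 1 1), by rw [hφ, lift_fst, lift_snd, mul_inv_cancel]⟩
    (fun w => ⟨lift (w ≫ snd _ _) (w ≫ fst _ _), by rw [hφ, hφ, lift_fst, lift_snd, _root_.mul_inv_rev, _root_.inv_inv]⟩)
  haveI := hci
  haveI := hi
  haveI := hirr
  refine ⟨D, inferInstance, i, hi, hci, hsm, inferInstance, SetLike.coe_injective (hr.trans ?_)⟩
  refine congrArg SetLike.coe (le_antisymm ((Subgroup.closure_le _).mpr ?_) (sup_le ?_ ?_))
  · rintro _ ⟨w, rfl⟩
    show w ≫ φ ∈ _
    rw [hφ, hc, hc]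
    exact Subgroup.mul_mem _ (Subgroup.mul_mem _ (Subgroup.mem_sup_left ⟨_, rfl⟩) (Subgroup.mem_sup_right ⟨_, rfl⟩))
      (Subgroup.inv_mem _ (Subgroup.mul_mem _ (Subgroup.mem_sup_left ⟨_, rfl⟩) (Subgroup.mem_sup_right ⟨_, rfl⟩)))
  · rintro _ ⟨x, rfl⟩
    refine Subgroup.subset_closure ⟨lift (lift x 1) (lift 1 1), ?_⟩
    show _ ≫ φ = x ≫ a
    rw [hφ, hc, hc, lift_fst, lift_snd, lift_fst, lift_snd, lift_fst, lift_snd, MonObj.one_comp, MonObj.one_comp]
    simp
  · rintro _ ⟨x, rfl⟩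
    refine Subgroup.subset_closure ⟨lift (lift 1 x) (lift 1 1), ?_⟩
    show _ ≫ φ = x ≫ b
    rw [hφ, hc, hc, lift_fst, lift_snd, lift_fst, lift_snd, lift_fst, lift_snd, MonObj.one_comp, MonObj.one_comp]
    simp

/-- A connected subgroup of codimension one in a connected unipotent group is normal. -/
theorem normal_of_codim_one (hu : ∀ g : PT ⟶ G, IsUnipPt g) {U : Over (Spec (CommRingCat.of k))} [GrpObj U]
    (i : U ⟶ G) [IsMonHom i] [IsClosedImmersion i.left] [Smooth U.hom] [ConnectedSpace U.left] {d : ℕ}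
    (hd : topologicalKrullDim ↥U.left = (d : WithBot ℕ∞))
    (hd' : topologicalKrullDim ↥G.left = ((d + 1 : ℕ) : WithBot ℕ∞)) : (rangePts i).Normal := by
  by_cases hT : rangePts i = ⊤
  · rw [hT]; infer_instance
  obtain ⟨D, _, δ, hδ, hconn, hl, hq, hnle, hnorm⟩ := exists_normalizing hu (rangePts i) hT
  haveI := hδ
  haveI := hconn
  haveI := hl
  haveI := hq
  haveI : LocallyOfFiniteType U.hom := inferInstance
  haveI : QuasiCompact U.hom := (sub_props i).2.2.1
  obtain ⟨H, _, j, hj, hjc, hHs, hHc, hHr⟩ := exists_join δ i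
  haveI := hj
  haveI := hjc
  haveI := hHc
  obtain ⟨q, hqm, hq'⟩ := exists_fac_sub j i (hHr ▸ le_sup_right)
  haveI := hqm
  haveI : IsClosedImmersion q.left := by
    haveI : IsClosedImmersion (q.left ≫ j.left) := by rw [← Over.comp_left, hq']; infer_instance
    exact IsClosedImmersion.of_comp q.left j.left
  haveI := GrpSchLib.AntiAffine.isSeparated_grp H
  haveI : IrreducibleSpace H.left := Groth.Agent.S0348.result k H
  haveI : IrreducibleSpace G.left := Groth.Agent.S0348.result k G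
  have hjtop : rangePts j = ⊤ := by
    by_contra hne
    have hGfin : topologicalKrullDim ↥G.left ≠ ⊤ := by
      rw [hd']; exact WithBot.coe_lt_coe.mpr (ENat.natCast_lt_top (d + 1)) |>.ne
    have h1 : topologicalKrullDim ↥H.left < topologicalKrullDim ↥G.left :=
      topologicalKrullDim_lt_of_ne j.left (fun h => hne (eq_top_iff.mpr fun g _ =>
        exists_of_mem_range j g (h ▸ Set.mem_univ _))) hGfin
    have h2 : topologicalKrullDim ↥U.left < topologicalKrullDim ↥H.left :=
      topologicalKrullDim_lt_of_ne q.left (fun h => hnle fun x hx => by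
        obtain ⟨y, rfl⟩ := (hHr ▸ (Subgroup.mem_sup_left hx : x ∈ rangePts δ ⊔ rangePts i) : x ∈ rangePts j)
        obtain ⟨z, rfl⟩ := exists_of_mem_range q y (h ▸ Set.mem_univ _)
        exact ⟨z, by
          show z ≫ i = (z ≫ q) ≫ j
          rw [Category.assoc, hq']⟩) (fun h => absurd (h ▸ h1) not_top_lt)
    rw [hd] at h2
    rw [hd'] at h1
    revert h1 h2
    generalize topologicalKrullDim ↥H.left = e
    cases e with
    | bot => intro _ h2; exact absurd h2 not_lt_bot
    | coe e =>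
      intro h1 h2
      have a1 : e < ((d + 1 : ℕ) : ℕ∞) := by exact_mod_cast h1
      have a2 : ((d : ℕ) : ℕ∞) < e := by exact_mod_cast h2
      cases e with
      | top => exact absurd a1 not_top_lt
      | coe e =>
        have b1 : e < d + 1 := by exact_mod_cast a1
        have b2 : d < e := by exact_mod_cast a2
        omega
  rw [← Subgroup.normalizer_eq_top_iff, eq_top_iff, ← hjtop, hHr]
  refine sup_le (fun x hx => ?_) Subgroup.le_normalizer
  rw [Subgroup.mem_normalizer_iff]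
  refine fun z => ⟨hnorm x hx z, fun hz => ?_⟩
  have h := hnorm x⁻¹ (inv_mem hx) _ hz
  simpa [_root_.mul_assoc] using h

end Groth.Agent.SolvGrp.NormUnip
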