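import Groth.Agent.SolvGrp.LunaCor
import Groth.Agent.SolvGrp.BorelCent

/-! Reductive groups over an algebraically closed field: centralisers of tori. -/

set_option backward.isDefEq.respectTransparency false
set_option backward.isDefEq.respectTransparency.types false
set_option linter.style.haveILetI false

universe u

open CategoryTheory MonoidalCategory CartesianMonoidalCategory MonObj AlgebraicGeometry

namespace Groth.Agent.SolvGrp

open GrpSchLib GrpSchLib.Kunneth GrpSchLib.LineGroups WeilCmp.Unip AGFLib AGFLib.Gen AGFLib.BorelFixed AGFLib.BorelExist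

variable {k : Type u} [Field k] [IsAlgClosed k]

local notation "PT" => 𝟙_ (Over (Spec (CommRingCat.of k)))

variable {G : Over (Spec (CommRingCat.of k))} [GrpObj G] [IsAffine G.left] [Smooth G.hom] [ConnectedSpace G.left]

/-- In a reductive group a connected unipotent subgroup in all Borel subgroups through a maximal torus is trivial. -/
theorem eq_one_of_unip (hG : Red.IsReductiveOver k G) {B T H : Over (Spec (CommRingCat.of k))} [GrpObj B] [GrpObj T]
    [GrpObj H] (iB : B ⟶ G) [IsMonHom iB] (hB : Red.IsBorelOver k iB) (iT : T ⟶ G) (hT : AGF.IsMaxTorus iT)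
    [IsAffine H.left] [Smooth H.hom] [ConnectedSpace H.left] (iH : H ⟶ G) [IsMonHom iH]
    (hu : ∀ h : PT ⟶ H, IsUnipPt h)
    (hH : ∀ g : PT ⟶ G, (∀ t, g⁻¹ * (t ≫ iT) * g ∈ rangePts iB) → ∀ h, g⁻¹ * (h ≫ iH) * g ∈ rangePts iB)
    (h : PT ⟶ H) : h ≫ iH = 1 := by
  obtain ⟨D, _, iD, hmD, hcD, hsD, hconnD, hnD, htD, hle⟩ := exists_unipNormal iB hB iT hT iH hu hH
  have htriv : IsIso D.hom := hG.2.2.2 D iD hcD hsD hconnD hnD htD
  obtain ⟨d, hd⟩ := hle ⟨h, rfl⟩
  change d ≫ iD = h ≫ iH at hd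
  haveI := htriv
  have : d = 1 := Over.OverMorphism.ext ((cancel_mono D.hom).mp ((Over.w d).trans (Over.w (1 : PT ⟶ D)).symm))
  rw [← hd, this, MonObj.one_comp]

/-- The centraliser of a maximal torus of a reductive group is the torus. -/
theorem mem_torus_of_commute (hG : Red.IsReductiveOver k G) {T : Over (Spec (CommRingCat.of k))} [GrpObj T]
    (iT : T ⟶ G) (hT : AGF.IsMaxTorus iT) (g : PT ⟶ G) (hg : ∀ s ∈ (haveI := hT.1; rangePts iT), Commute g s) :
    g ∈ (haveI := hT.1; rangePts iT) := by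
  haveI := hT.1
  haveI := hT.2.1
  haveI : IsReduced G.left := isReduced_of_smooth_field G.hom
  obtain ⟨C, _, c, hmc, hcc, hsC, hconnC, hC⟩ := exists_connSub_torusCent iT hT.2.2.1
  haveI := hmc
  haveI := hcc
  haveI := hsC
  haveI := hconnC
  obtain ⟨haC, hlC, hqC, hmC, hevC⟩ := sub_props c
  haveI := haC
  haveI := hlC
  haveI : IsReduced C.left := isReduced_of_smooth_field C.hom
  obtain ⟨C₁, _, i₁, hi₁, hci₁, hsC₁, hcC₁, haC₁, hTC₁, hcomm₁, hnil₁, hdec₁, R, hR, hcov⟩ := exists_cartan iT hT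
  haveI := hi₁
  haveI := hci₁
  haveI := hsC₁
  haveI := hcC₁
  haveI := haC₁
  obtain ⟨-, hl₁, hq₁, -, -⟩ := sub_props i₁
  haveI := hl₁
  haveI := hq₁
  have hle : rangePts c ≤ rangePts i₁ := rangePts_le_of_finite c _ (ptsClosed_range i₁) R hR fun x hx =>
    hcov x ((hC x).mp hx)
  obtain ⟨φ, hφ, hφc⟩ := exists_fac_sub i₁ c hle
  haveI : Group.IsNilpotent (PT ⟶ C) := Subgroup.isNilpotent_of_ker_le_center (ptsHom φ) fun a ha => by
    have h1 : (a ≫ φ) ≫ i₁ = (1 : PT ⟶ C₁) ≫ i₁ := congrArg (· ≫ i₁) (MonoidHom.mem_ker.mp ha)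
    rw [Category.assoc, hφc, MonObj.one_comp, ← MonObj.one_comp c, cancel_mono] at h1
    rw [h1]
    exact one_mem _
  obtain ⟨m, hm⟩ := (inferInstance : Group.IsSolvable (PT ⟶ C)).solvable
  have hCsolv := AGFLib.ProperSpace.isSolvableGrp_of_pts m hm
  obtain ⟨B, _, iB, hmB, hB, hleB⟩ := exists_borel_containing c hCsolv
  obtain ⟨V, _, v, hv, hcv, hsV, hcV, haV, -, hV⟩ := exists_unipRad hCsolv
  haveI := hv
  haveI := hcv
  haveI := hsV
  haveI := hcV
  haveI := haV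
  obtain ⟨-, hlV, -, -, hevV⟩ := sub_props v
  haveI := hlV
  haveI : IsReduced V.left := isReduced_of_smooth_field V.hom
  obtain ⟨haT, hsT, -, -⟩ := torus_props hT.2.2.1
  haveI := haT
  haveI := hsT
  haveI := hB.2.1
  haveI := hB.2.2.1
  obtain ⟨-, hlB, -, -, -⟩ := sub_props iB
  haveI := hlB
  have hTC : rangePts iT ≤ rangePts c := fun s hs => (hC s).mpr fun r hr => by
    obtain ⟨x, rfl⟩ := hs
    obtain ⟨y, rfl⟩ := hr
    show (x ≫ iT) * (y ≫ iT) = (y ≫ iT) * (x ≫ iT)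
    rw [← MonObj.mul_comp, ← MonObj.mul_comp, (torus_commute hT.2.2.1 x y).eq]
  have hV1 : ∀ x : PT ⟶ V, x ≫ v ≫ c = 1 := eq_one_of_unip hG iB hB iT hT (v ≫ c)
    (fun x => IsUnipPt.map v hevV ((hV _).mp ⟨x, rfl⟩)) fun w hw x => by
      haveI : IsMonHom (AGF.conjBy w iB) := by rw [AGFLib.Borel.conjBy_eq]; infer_instance
      have hB' := AGFLib.Borel.isBorel_conj iB hB w
      haveI := hB'.2.1
      obtain ⟨-, hlB', -, -, -⟩ := sub_props (AGF.conjBy w iB)
      haveI := hlB'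
      have hTB : rangePts iT ≤ rangePts iB := hTC.trans hleB
      obtain ⟨t, -, ht⟩ := exists_fac_sub iB iT hTB
      obtain ⟨t', -, ht'⟩ := exists_fac_sub (AGF.conjBy w iB) iT (by
        rintro _ ⟨y, rfl⟩
        exact (rangePts_conjBy w iB _).mpr (hw y))
      obtain ⟨ν, f, f', hf, hf'⟩ := borelPair_conj iB _ hB hB' iT iT hT hT t ht t' ht'
      -- the centraliser is stable under the normaliser
      have hxC : ν⁻¹ * ((x ≫ v) ≫ c) * ν ∈ rangePts c := (hC _).mpr fun s hs => by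
        obtain ⟨s₀, rfl⟩ := hs
        have h1 : ν * (s₀ ≫ iT) * ν⁻¹ ∈ rangePts iT := ⟨s₀ ≫ f'.hom, by
          show (s₀ ≫ f'.hom) ≫ iT = ν * (s₀ ≫ iT) * ν⁻¹
          rw [Category.assoc, hf', AGFLib.Borel.conjBy_eq, ← Category.assoc, comp_conjM_pt]⟩
        have h2 := ((hC _).mp ⟨x ≫ v, rfl⟩ _ h1).map (MulAut.conj ν⁻¹).toMonoidHom
        simpa [_root_.mul_assoc] using h2
      obtain ⟨b, hb⟩ := hleB hxC
      change b ≫ iB = _ at hb
      refine (rangePts_conjBy w iB _).mp ⟨b ≫ f.hom, ?_⟩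
      show (b ≫ f.hom) ≫ AGF.conjBy w iB = x ≫ v ≫ c
      rw [Category.assoc, hf, AGFLib.Borel.conjBy_eq, ← Category.assoc, hb, comp_conjM_pt, Category.assoc x v c]
      group
  obtain ⟨y, rfl⟩ := (hC g).mpr hg
  obtain ⟨s, hs, hu⟩ := hdec₁ _ (hle ⟨y, rfl⟩)
  obtain ⟨z, hz⟩ := mul_mem (inv_mem (hTC hs)) (⟨y, rfl⟩ : y ≫ c ∈ rangePts c)
  change z ≫ c = s⁻¹ * (y ≫ c) at hz
  obtain ⟨x, hx⟩ := (hV z).mpr (IsUnipPt.map c hevC (hz ▸ hu))
  have h1 := hV1 x
  rw [← Category.assoc, show x ≫ v = z from hx, hz] at h1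
  show y ≫ c ∈ rangePts iT
  rw [← inv_mul_eq_one.mp h1]
  exact hs

end Groth.Agent.SolvGrp
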