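import Groth.Agent.S3917
import Groth.Agent.SolvGrp.BC
import Groth.Agent.TorusQI.Split
import Groth.Agent.GrpSchLib.MultTypeComm

/-! Base change of diagonalisable groups, naturally in the character group, and of split maximal tori. -/

set_option backward.isDefEq.respectTransparency false
set_option backward.isDefEq.respectTransparency.types false
set_option linter.style.haveILetI false

universe u

open CategoryTheory MonoidalCategory CartesianMonoidalCategory MonObj AlgebraicGeometry

namespace Groth.Agent.SolvGrp.SplitTools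

/-- Base change of `D(M)`, naturally in `M`. -/
noncomputable def dsNat {U U' : Scheme.{u}} (t : U' ⟶ U) :
    Over.pullback (Limits.IsTerminal.from specULiftZIsTerminal U) ⋙ Over.pullback t ≅
      Over.pullback (Limits.IsTerminal.from specULiftZIsTerminal U') :=
  (Over.pullbackComp t (Limits.IsTerminal.from specULiftZIsTerminal U)).symm ≪≫
    eqToIso (congrArg (fun f => Over.pullback f) (specULiftZIsTerminal.hom_ext
      (t ≫ Limits.IsTerminal.from specULiftZIsTerminal U) (Limits.IsTerminal.from specULiftZIsTerminal U')))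

/-- Base change of `D(M)`. -/
noncomputable def dsIso {U U' : Scheme.{u}} (t : U' ⟶ U) (M : Type) [AddCommGroup M] :
    Grp.mk (Red.bc t (Red.DS U M)) ≅ Grp.mk (Red.DS U' M) :=
  (Functor.mapGrpCompIso.symm ≪≫ Functor.mapGrpNatIso (dsNat t)).app (Grp.mk (Red.diag (ULift.{u} ℤ) M))

theorem dsIso_hom {U U' : Scheme.{u}} (t : U' ⟶ U) (M : Type) [AddCommGroup M] :
    (dsIso t M).hom.hom.hom = (dsNat t).hom.app (Red.diag (ULift.{u} ℤ) M) := by
  simp [dsIso]

/-- The identification is natural in the character group. -/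
theorem map_DSmap {U U' : Scheme.{u}} (t : U' ⟶ U) {M N : Type} [AddCommGroup M] [AddCommGroup N] (ψ : N →+ M) :
    (Over.pullback t).map (Red.DSmap U ψ) ≫ (dsIso t N).hom.hom.hom =
      (dsIso t M).hom.hom.hom ≫ Red.DSmap U' ψ := by
  rw [dsIso_hom, dsIso_hom]
  exact (dsNat t).hom.naturality (Red.diagMap (ULift.{u} ℤ) ψ)

/-- Compatible base change identifications for two character groups. -/
theorem exists_dsIso {U U' : Scheme.{u}} (t : U' ⟶ U) (M N : Type) [AddCommGroup M] [AddCommGroup N] :
    ∃ (bN : (Over.pullback t).obj (Red.DS U N) ≅ Red.DS U' N) (bM : (Over.pullback t).obj (Red.DS U M) ≅ Red.DS U' M),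
      IsMonHom bN.hom ∧ ∀ ψ : N →+ M,
        (Over.pullback t).map (Red.DSmap U ψ) ≫ bN.hom = bM.hom ≫ Red.DSmap U' ψ :=
  ⟨(Grp.forget _).mapIso (dsIso t N), (Grp.forget _).mapIso (dsIso t M), (dsIso t N).hom.hom.isMonHom_hom,
    fun ψ => map_DSmap t ψ⟩

/-- A maximal torus of a reductive group stays one over every algebraically closed field. -/
theorem isMaxTorus_bc {k K : Type u} [Field k] [Field K] [IsAlgClosed K]
    (σ : Spec (CommRingCat.of K) ⟶ Spec (CommRingCat.of k))
    {G T : Over (Spec (CommRingCat.of k))} [GrpObj G] [GrpObj T] {iT : T ⟶ G} (hG : Red.IsReductive G)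
    (hT : Red.IsMaximalTorus iT) : AGF.IsMaxTorus ((Over.pullback σ).map iT) := by
  haveI := hT.1
  haveI := hT.2.1
  haveI : (Over.pullback σ).IsRightAdjoint := (Over.mapPullbackAdj σ).isRightAdjoint
  have hcen := isCentralizerOf_bc σ iT iT ((Groth.Agent.S3917.result k G hG T iT hT.2.2.1).mp hT)
  refine ⟨inferInstance, inferInstance, isTorus_bc _ hT.2.2.1, fun T' _ j _ _ f hT' hf => ?_⟩
  obtain ⟨w, hw⟩ := (hcen.2.2 T' j).mpr fun X' x h => by
    rw [← hf, ← Category.assoc h, ← MonObj.mul_comp, ← MonObj.mul_comp,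
      GrpSchLib.MultTypeComm.points_comm (TorusQI.isMultTypeFT_of_isTorus hT') x (h ≫ f)]
  refine ⟨w, ?_, ?_⟩
  · exact (cancel_mono ((Over.pullback σ).map iT)).mp (by rw [Category.assoc, hw, hf, Category.id_comp])
  · rw [← cancel_mono j, Category.assoc, hf, Category.id_comp]
    exact hw

end Groth.Agent.SolvGrp.SplitTools
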