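import Groth.Agent.SolvGrp.Conj

/-! Semisimple elements of connected nilpotent groups are central. -/

set_option backward.isDefEq.respectTransparency false
set_option backward.isDefEq.respectTransparency.types false
set_option linter.style.haveILetI false

universe u

open CategoryTheory MonoidalCategory CartesianMonoidalCategory MonObj AlgebraicGeometry
open scoped commutatorElement

namespace Groth.Agent.SolvGrp

open GrpSchLib GrpSchLib.Kunneth GrpSchLib.LineGroups WeilCmp.Unip AGFLib AGFLib.Gen AGFLib.BorelFixed AGFLib.BorelExist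

variable {k : Type u} [Field k] [IsAlgClosed k]

local notation "PT" => 𝟙_ (Over (Spec (CommRingCat.of k)))

variable {G : Over (Spec (CommRingCat.of k))} [GrpObj G] [IsAffine G.left] [Smooth G.hom] [ConnectedSpace G.left]

/-- The lower central series of a connected smooth affine group consists of closed connected subgroups. -/
theorem exists_lowerSub (m : ℕ) :
    ∃ (D : Over (Spec (CommRingCat.of k))) (_ : GrpObj D) (i : D ⟶ G) (_ : IsMonHom i),
      IsClosedImmersion i.left ∧ ConnectedSpace D.left ∧ LocallyOfFiniteType D.hom ∧ QuasiCompact D.hom ∧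
        rangePts i = Subgroup.lowerCentralSeries (⊤ : Subgroup (PT ⟶ G)) m := by
  induction m with
  | zero =>
    have h1 : rangePts (𝟙 G) = (⊤ : Subgroup (PT ⟶ G)) := eq_top_iff.mpr fun g _ => ⟨g, Category.comp_id g⟩
    exact ⟨G, inferInstance, 𝟙 G, inferInstance, inferInstanceAs (IsClosedImmersion (𝟙 G.left)), inferInstance,
      inferInstance, inferInstance, by rw [h1, Subgroup.lowerCentralSeries_zero]⟩
  | succ m ihm =>
    obtain ⟨D, _, i, hi, hci, hcD, hlD, hqD, hr⟩ := ihm
    haveI := hi
    haveI := hcD
    haveI := hlD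
    haveI := hqD
    obtain ⟨E, _, e, he, hce, hsE, hcE, -, hrE⟩ := exists_commutatorSub i
    haveI := he
    haveI := hce
    obtain ⟨-, hlE, hqE, -, -⟩ := sub_props e
    exact ⟨E, inferInstance, e, he, hce, hcE, hlE, hqE, by
      rw [hrE, hr, Subgroup.lowerCentralSeries_succ, Subgroup.commutator_comm]⟩

theorem ptsClosed_lowerCentralSeries (m : ℕ) :
    PtsClosed (Subgroup.lowerCentralSeries (⊤ : Subgroup (PT ⟶ G)) m : Set (PT ⟶ G)) := by
  obtain ⟨D, _, i, hi, -, -, hl, hq, hr⟩ := exists_lowerSub (G := G) m
  haveI := hi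
  haveI := hl
  haveI := hq
  exact hr ▸ ptsClosed_range i

/-- A semisimple element of a connected nilpotent group is central. -/
theorem commute_of_nilpotent [Group.IsNilpotent (PT ⟶ G)] {s : PT ⟶ G} (hs : IsSsPt s) (g : PT ⟶ G) : Commute g s := by
  obtain ⟨n, hn⟩ := Subgroup.nilpotent_iff_lowerCentralSeries.mp (inferInstance : Group.IsNilpotent (PT ⟶ G))
  have key : ∀ c, ⁅g, s⁆ ∈ Subgroup.lowerCentralSeries (⊤ : Subgroup (PT ⟶ G)) c := by
    intro c
    induction c with
    | zero => rw [Subgroup.lowerCentralSeries_zero]; exact Subgroup.mem_top _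
    | succ c ih =>
      refine mem_of_ss _ (ptsClosed_lowerCentralSeries _) inferInstance hs
        (isUnipPt_of_commutator (Subgroup.commutator_mem_commutator (Subgroup.mem_top g) (Subgroup.mem_top s))) ?_ ?_
      · rw [commutatorElement_def, inv_mul_cancel_right]
        exact hs.conj g
      · rw [Subgroup.lowerCentralSeries_succ, Subgroup.commutator_comm]
        exact Subgroup.commutator_mem_commutator (Subgroup.mem_top s) ih
  have h1 := key n
  rw [hn, Subgroup.mem_bot] at h1
  exact commutatorElement_eq_one_iff_commute.mp h1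

end Groth.Agent.SolvGrp
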