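import Groth.Agent.SolvGrp.ParNorm
import Groth.Agent.SolvGrp.MaxUnip

/-! Normal connected unipotent subgroups. -/

set_option backward.isDefEq.respectTransparency false
set_option backward.isDefEq.respectTransparency.types false
set_option linter.style.haveILetI false

universe u

open CategoryTheory MonoidalCategory CartesianMonoidalCategory MonObj AlgebraicGeometry

namespace Groth.Agent.SolvGrp

open GrpSchLib GrpSchLib.Kunneth GrpSchLib.LineGroups WeilCmp.Unip AGFLib AGFLib.Gen AGFLib.BorelFixed AGFLib.BorelExist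

variable {k : Type u} [Field k] [IsAlgClosed k]

local notation "PT" => 𝟙_ (Over (Spec (CommRingCat.of k)))

/-- In a connected group all normal connected unipotent subgroups lie in one closed group of unipotent points. -/
theorem exists_unipContainer_conn (N : Over (Spec (CommRingCat.of k))) [GrpObj N] [IsAffine N.left] [Smooth N.hom]
    [ConnectedSpace N.left] :
    ∃ Γ : Subgroup (𝟙_ (Over (Spec (CommRingCat.of k))) ⟶ N), PtsClosed (Γ : Set (PT ⟶ N)) ∧ (∀ x ∈ Γ, IsUnipPt x) ∧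
      ∀ (U : Over (Spec (CommRingCat.of k))) [GrpObj U] (u : U ⟶ N) [IsMonHom u], IsClosedImmersion u.left →
        Smooth U.hom → ConnectedSpace U.left → Red.HasNoSubtorus k U → (rangePts u).Normal → rangePts u ≤ Γ := by
  haveI : IsReduced N.left := isReduced_of_smooth_field N.hom
  haveI : QuasiCompact N.hom := inferInstance
  obtain ⟨B, _, iB, -, -, -, hB, -, -⟩ := AGFLib.Borel.exists_borel N
  haveI := hB.1
  haveI := hB.2.1
  haveI := hB.2.2.1
  haveI := hB.2.2.2.1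
  obtain ⟨haB, hlB, hqB, hmB, hevB⟩ := sub_props iB
  haveI := haB
  haveI := hlB
  haveI : IsReduced B.left := isReduced_of_smooth_field B.hom
  obtain ⟨V, _, v, hv, hcv, -, -, -, -, hV⟩ := exists_unipRad hB.2.2.2.2.1
  haveI := hv
  haveI := hcv
  obtain ⟨-, hlV, hqV, -, -⟩ := sub_props v
  haveI := hlV
  haveI := hqV
  refine ⟨rangePts (v ≫ iB), ptsClosed_range _, ?_, fun U _ u _ hcu hsU hconnU hUn hnorm => ?_⟩
  · rintro _ ⟨x, rfl⟩
    show IsUnipPt (x ≫ v ≫ iB)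
    rw [← Category.assoc]
    exact (map_isSsPt_isUnipPt iB _).2 ((hV _).mp ⟨x, rfl⟩)
  haveI := hcu
  haveI := hsU
  haveI := hconnU
  obtain ⟨haU, hlU, -, -, -⟩ := sub_props u
  haveI := haU
  haveI := hlU
  haveI : IsReduced U.left := isReduced_of_smooth_field U.hom
  have hUpts : ∀ y : PT ⟶ U, IsUnipPt y := isUnipPt_of_hasNoSubtorus hUn
  haveI : Group.IsNilpotent (PT ⟶ U) := isNilpotent_pts hUpts
  obtain ⟨m, hm⟩ := (inferInstance : Group.IsSolvable (PT ⟶ U)).solvable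
  obtain ⟨B₀, _, iB₀, hm₀, hB₀, hle⟩ := exists_borel_containing u (AGFLib.ProperSpace.isSolvableGrp_of_pts m hm)
  haveI := hm₀
  obtain ⟨g, f, hf⟩ := AGFLib.Borel.conjugate iB₀ iB hB₀ hB
  rintro _ ⟨x, rfl⟩
  obtain ⟨b₀, hb₀⟩ := hle (hnorm.conj_mem (x ≫ u) ⟨x, rfl⟩ g⁻¹)
  change b₀ ≫ iB₀ = g⁻¹ * (x ≫ u) * g⁻¹⁻¹ at hb₀
  have hxB : (b₀ ≫ f.hom) ≫ iB = x ≫ u := by
    rw [Category.assoc, hf, AGFLib.Borel.conjBy_eq, ← Category.assoc, hb₀, comp_conjM_pt]
    group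
  obtain ⟨q, hq⟩ := (hV (b₀ ≫ f.hom)).mpr (IsUnipPt.map iB hevB (hxB ▸ (map_isSsPt_isUnipPt u x).2 (hUpts x)))
  refine ⟨q, ?_⟩
  show q ≫ v ≫ iB = x ≫ u
  change q ≫ v = b₀ ≫ f.hom at hq
  rw [← Category.assoc, hq, hxB]

/-- The same for any group. -/
theorem exists_unipContainer (N : Over (Spec (CommRingCat.of k))) [GrpObj N] [IsAffine N.left] [Smooth N.hom] :
    ∃ Γ : Subgroup (𝟙_ (Over (Spec (CommRingCat.of k))) ⟶ N), PtsClosed (Γ : Set (PT ⟶ N)) ∧ (∀ x ∈ Γ, IsUnipPt x) ∧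
      ∀ (U : Over (Spec (CommRingCat.of k))) [GrpObj U] (u : U ⟶ N) [IsMonHom u], IsClosedImmersion u.left →
        Smooth U.hom → ConnectedSpace U.left → Red.HasNoSubtorus k U → (rangePts u).Normal → rangePts u ≤ Γ := by
  haveI : QuasiCompact N.hom := inferInstance
  haveI : IsReduced N.left := isReduced_of_smooth_field N.hom
  obtain ⟨N₀, _, d, hd, hcd, hsN₀, hconn₀, -, S, hS, hcov⟩ := exists_idComp (P := N)
  haveI := hd
  haveI := hcd
  haveI := hsN₀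
  haveI := hconn₀
  obtain ⟨ha₀, hl₀, hq₀, hmd, hevd⟩ := sub_props d
  haveI := ha₀
  haveI := hl₀
  haveI := hq₀
  haveI := hmd
  haveI : IsReduced N₀.left := isReduced_of_smooth_field N₀.hom
  obtain ⟨Γ₀, hΓ₀, hunip, hcont⟩ := exists_unipContainer_conn N₀
  obtain ⟨D, _, e, he, hce, -, -, hr⟩ := exists_sub Γ₀ hΓ₀
  haveI := he
  haveI := hce
  obtain ⟨-, hlD, hqD, -, -⟩ := sub_props e
  haveI := hlD
  haveI := hqD
  refine ⟨rangePts (e ≫ d), ptsClosed_range _, ?_, fun U _ u _ hcu hsU hconnU hUn hnorm => ?_⟩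
  · rintro _ ⟨x, rfl⟩
    show IsUnipPt (x ≫ e ≫ d)
    rw [← Category.assoc]
    exact (map_isSsPt_isUnipPt d _).2 (hunip _ (hr ▸ ⟨x, rfl⟩))
  haveI := hcu
  haveI := hsU
  haveI := hconnU
  haveI : IsAffine U.left := (sub_props u).1
  obtain ⟨ψ, hψ, hψe⟩ := exists_fac_sub d u (le_of_finite_cosets u _ (ptsClosed_range d) S hS fun w _ => by
    obtain ⟨s, hs, q, hq⟩ := hcov w
    exact ⟨s, hs, q, by rw [← hq, inv_mul_cancel_left]⟩)
  haveI := hψ
  haveI : IsClosedImmersion (ψ.left ≫ d.left) := by rw [← Over.comp_left, hψe]; exact hcu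
  haveI : IsClosedImmersion ψ.left := IsClosedImmersion.of_comp ψ.left d.left
  have h1 := hcont U ψ inferInstance hsU hconnU hUn ⟨fun z hz a => by
    obtain ⟨y, rfl⟩ := hz
    obtain ⟨y', hy'⟩ := hnorm.conj_mem (y ≫ u) ⟨y, rfl⟩ (a ≫ d)
    refine ⟨y', (cancel_mono d).mp ?_⟩
    change y' ≫ u = _ at hy'
    rw [Category.assoc, hψe, hy', MonObj.mul_comp, MonObj.mul_comp, GrpObj.inv_comp, Category.assoc y ψ d, hψe]⟩
  rintro _ ⟨x, rfl⟩
  obtain ⟨z, hz⟩ : x ≫ ψ ∈ rangePts e := hr.symm ▸ h1 ⟨x, rfl⟩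
  refine ⟨z, ?_⟩
  show z ≫ e ≫ d = x ≫ u
  change z ≫ e = x ≫ ψ at hz
  rw [← Category.assoc, hz, Category.assoc, hψe]

/-- A closed subgroup containing a normal set of points contains a connected normal subgroup receiving every connected
subgroup with points in that set. -/
theorem exists_normalSub {G : Over (Spec (CommRingCat.of k))} [GrpObj G] [IsAffine G.left] [Smooth G.hom]
    (C : Set (𝟙_ (Over (Spec (CommRingCat.of k))) ⟶ G)) (hC : ∀ g, ∀ z ∈ C, g * z * g⁻¹ ∈ C)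
    (Γ : Subgroup (PT ⟶ G)) (hΓ : PtsClosed (Γ : Set (PT ⟶ G))) (hCΓ : C ⊆ Γ) :
    ∃ (D : Over (Spec (CommRingCat.of k))) (_ : GrpObj D) (iD : D ⟶ G) (_ : IsMonHom iD),
      IsClosedImmersion iD.left ∧ Smooth D.hom ∧ ConnectedSpace D.left ∧ (rangePts iD).Normal ∧ rangePts iD ≤ Γ ∧
      ∀ (U : Over (Spec (CommRingCat.of k))) [GrpObj U] [IsAffine U.left] [Smooth U.hom] [ConnectedSpace U.left]
        (u : U ⟶ G) [IsMonHom u], (rangePts u : Set (PT ⟶ G)) ⊆ C → rangePts u ≤ rangePts iD := by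
  haveI : QuasiCompact G.hom := inferInstance
  let Δ : Subgroup (PT ⟶ G) := sInf {Δ' | PtsClosed (Δ' : Set (PT ⟶ G)) ∧ C ⊆ Δ'}
  have hCΔ : C ⊆ Δ := fun z hz => Subgroup.mem_sInf.mpr fun Δ' h => h.2 hz
  have hΔ : PtsClosed (Δ : Set (PT ⟶ G)) := by
    simp only [Δ, Subgroup.coe_sInf]
    exact PtsClosed.iInter fun Δ' => PtsClosed.iInter fun h => h.1
  have hΔn : ∀ g, ∀ z ∈ Δ, g * z * g⁻¹ ∈ Δ := fun g z hz => by
    have e : (Δ.comap (MulAut.conj g).toMonoidHom : Set (PT ⟶ G)) = {w | w ≫ AGFLib.Borel.conjM g ∈ (Δ : Set (PT ⟶ G))} := by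
      ext w
      show g * w * g⁻¹ ∈ Δ ↔ w ≫ AGFLib.Borel.conjM g ∈ Δ
      rw [comp_conjM_pt]
    have h1 : Δ ≤ Δ.comap (MulAut.conj g).toMonoidHom :=
      sInf_le ⟨e ▸ hΔ.preimage (AGFLib.Borel.conjM g), fun w hw => hCΔ (hC g w hw)⟩
    exact h1 hz
  obtain ⟨D, _, iD, hiD, hcD, hsD, hconnD, haD, hle, S, hS, -, hcov⟩ := exists_connSub Δ hΔ
  haveI := hiD
  haveI := hcD
  haveI := hsD
  haveI := hconnD
  haveI := haD
  obtain ⟨-, hlD, hqD, -, -⟩ := sub_props iD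
  haveI := hlD
  haveI := hqD
  refine ⟨D, inferInstance, iD, hiD, hcD, hsD, hconnD, ⟨fun z hz g => ?_⟩, hle.trans (sInf_le ⟨hΓ, hCΓ⟩),
    fun U _ _ _ _ u _ hu => le_of_finite_cosets u _ (ptsClosed_range iD) S hS fun w hw => hcov w (hCΔ (hu hw))⟩
  haveI : IsMonHom (AGF.conjBy g iD) := by rw [AGFLib.Borel.conjBy_eq]; infer_instance
  refine le_of_finite_cosets (AGF.conjBy g iD) _ (ptsClosed_range iD) S hS (fun w hw => ?_) ?_
  · rw [rangePts_conjBy] at hw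
    have h1 := hΔn g _ (hle hw)
    exact hcov w (by rwa [show g * (g⁻¹ * w * g) * g⁻¹ = w by group] at h1)
  · obtain ⟨y, rfl⟩ := hz
    refine ⟨y, ?_⟩
    show y ≫ AGF.conjBy g iD = g * (y ≫ iD) * g⁻¹
    rw [AGFLib.Borel.conjBy_eq, ← Category.assoc, comp_conjM_pt]

end Groth.Agent.SolvGrp
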