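import Groth.Agent.SolvGrp.Luna
import Groth.Agent.SolvGrp.UnipNormal

/-! Chevalley's theorem on the intersection of the Borel subgroups through a maximal torus. -/

set_option backward.isDefEq.respectTransparency false
set_option backward.isDefEq.respectTransparency.types false
set_option linter.style.haveILetI false

universe u

open CategoryTheory MonoidalCategory CartesianMonoidalCategory MonObj AlgebraicGeometry

namespace Groth.Agent.SolvGrp

open GrpSchLib GrpSchLib.Kunneth GrpSchLib.LineGroups WeilCmp.Unip AGFLib AGFLib.Gen AGFLib.BorelFixed AGFLib.BorelExist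

variable {k : Type u} [Field k] [IsAlgClosed k]

local notation "PT" => 𝟙_ (Over (Spec (CommRingCat.of k)))

variable {G : Over (Spec (CommRingCat.of k))} [GrpObj G] [IsAffine G.left] [Smooth G.hom] [ConnectedSpace G.left]

/-- A connected unipotent group in all Borel subgroups through a maximal torus lies in a normal one. -/
theorem exists_unipNormal {B T H : Over (Spec (CommRingCat.of k))} [GrpObj B] [GrpObj T] [GrpObj H] (iB : B ⟶ G)
    [IsMonHom iB] (hB : Red.IsBorelOver k iB) (iT : T ⟶ G) (hT : AGF.IsMaxTorus iT) [IsAffine H.left] [Smooth H.hom]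
    [ConnectedSpace H.left] (iH : H ⟶ G) [IsMonHom iH] (hu : ∀ h : PT ⟶ H, IsUnipPt h)
    (hH : ∀ g : PT ⟶ G, (∀ t, g⁻¹ * (t ≫ iT) * g ∈ rangePts iB) → ∀ h, g⁻¹ * (h ≫ iH) * g ∈ rangePts iB) :
    ∃ (D : Over (Spec (CommRingCat.of k))) (_ : GrpObj D) (iD : D ⟶ G) (_ : IsMonHom iD),
      IsClosedImmersion iD.left ∧ Smooth D.hom ∧ ConnectedSpace D.left ∧ AlgGrp.IsNormalHom iD ∧
        Red.HasNoSubtorus k D ∧ rangePts iH ≤ rangePts iD := by
  haveI := hB.2.1
  haveI := hB.2.2.1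
  haveI := hB.2.2.2.1
  obtain ⟨haB, hlB, -, -, hevB⟩ := sub_props iB
  haveI := haB
  haveI := hlB
  haveI : IsReduced B.left := isReduced_of_smooth_field B.hom
  haveI : IsReduced G.left := isReduced_of_smooth_field G.hom
  haveI : IsReduced H.left := isReduced_of_smooth_field H.hom
  obtain ⟨V, _, v, hv, hcv, -, -, -, -, hV⟩ := exists_unipRad hB.2.2.2.2.1
  haveI := hv
  haveI := hcv
  obtain ⟨-, hlV, hqV, -, -⟩ := sub_props v
  haveI := hlV
  haveI := hqV
  let C : Set (PT ⟶ G) := {x | IsUnipPt x ∧ ∀ g : PT ⟶ G, g⁻¹ * x * g ∈ rangePts iB}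
  obtain ⟨D, _, iD, hiD, hcD, hsD, hconnD, hnD, hDΓ, hDmax⟩ := exists_normalSub C
    (fun g z hz => ⟨hz.1.conj g, fun g' => by
      have h1 := hz.2 (g⁻¹ * g')
      rwa [show (g⁻¹ * g')⁻¹ * z * (g⁻¹ * g') = g'⁻¹ * (g * z * g⁻¹) * g' by group] at h1⟩)
    (rangePts (v ≫ iB)) (ptsClosed_range _) (fun x hx => by
      have h1 := hx.2 1
      rw [inv_one, _root_.one_mul, _root_.mul_one] at h1
      obtain ⟨b, rfl⟩ := h1
      obtain ⟨y, hy⟩ := (hV b).mpr (IsUnipPt.map iB hevB hx.1)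
      exact ⟨y, by show y ≫ v ≫ iB = b ≫ iB; rw [← Category.assoc, show y ≫ v = b from hy]⟩)
  haveI := hiD
  haveI := hcD
  haveI := hsD
  haveI := hconnD
  obtain ⟨haD, hlD, -, -, hevD⟩ := sub_props iD
  haveI := haD
  haveI := hlD
  haveI : IsReduced D.left := isReduced_of_smooth_field D.hom
  refine ⟨D, inferInstance, iD, hiD, hcD, hsD, hconnD, isNormalHom_of_pts iD hnD, ?_, hDmax H iH ?_⟩
  · refine hasNoSubtorus_of_isUnipPt fun d => ?_
    obtain ⟨y, hy⟩ := hDΓ ⟨d, rfl⟩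
    change y ≫ v ≫ iB = d ≫ iD at hy
    refine IsUnipPt.map iD hevD ?_
    rw [← hy, ← Category.assoc]
    exact (map_isSsPt_isUnipPt iB _).2 ((hV _).mp ⟨y, rfl⟩)
  · rintro _ ⟨h, rfl⟩
    exact ⟨(map_isSsPt_isUnipPt iH h).2 (hu h), fun g => luna iB hB iT hT iH hu hH g h⟩

end Groth.Agent.SolvGrp
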