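import Groth.Agent.SolvGrp.BorelNormScheme

/-! Parabolic subgroups are connected and their own normalisers. -/

set_option backward.isDefEq.respectTransparency false
set_option backward.isDefEq.respectTransparency.types false
set_option linter.style.haveILetI false

universe u

open CategoryTheory MonoidalCategory CartesianMonoidalCategory MonObj AlgebraicGeometry

namespace Groth.Agent.SolvGrp

open GrpSchLib GrpSchLib.Kunneth GrpSchLib.LineGroups WeilCmp.Unip AGFLib AGFLib.Gen AGFLib.BorelFixed AGFLib.BorelExist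

variable {k : Type u} [Field k] [IsAlgClosed k]

local notation "PT" => 𝟙_ (Over (Spec (CommRingCat.of k)))

variable {G : Over (Spec (CommRingCat.of k))} [GrpObj G] [IsAffine G.left] [Smooth G.hom]

/-- A connected subgroup meeting a closed subgroup in finite index lies in it. -/
theorem le_of_finite_cosets {H : Over (Spec (CommRingCat.of k))} [GrpObj H] [IsAffine H.left] [Smooth H.hom]
    [ConnectedSpace H.left] (j : H ⟶ G) [IsMonHom j] (Δ : Subgroup (PT ⟶ G)) (hΔ : PtsClosed (Δ : Set (PT ⟶ G)))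
    (S : Set (PT ⟶ G)) (hS : S.Finite) (hcov : ∀ g ∈ rangePts j, ∃ s ∈ S, s⁻¹ * g ∈ Δ) : rangePts j ≤ Δ := by
  classical
  haveI : QuasiCompact H.hom := inferInstance
  let R : (PT ⟶ G) → (PT ⟶ H) := fun s => if h : ∃ x : PT ⟶ H, s⁻¹ * (x ≫ j) ∈ Δ then h.choose else 1
  have h1 : Δ.comap (ptsHom j) = ⊤ := eq_top_of_finite _ (hΔ.preimage j) (R '' S) (hS.image R) fun x => by
    obtain ⟨s, hs, hsx⟩ := hcov (x ≫ j) ⟨x, rfl⟩
    refine ⟨R s, ⟨s, hs, rfl⟩, ?_⟩
    have he : ∃ y : PT ⟶ H, s⁻¹ * (y ≫ j) ∈ Δ := ⟨x, hsx⟩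
    have hR : s⁻¹ * (R s ≫ j) ∈ Δ := by simp only [R, dif_pos he]; exact he.choose_spec
    show ((R s)⁻¹ * x) ≫ j ∈ Δ
    have h2 := mul_mem (inv_mem hR) hsx
    rw [MonObj.mul_comp, GrpObj.inv_comp]
    simpa [_root_.mul_assoc] using h2
  rintro _ ⟨x, rfl⟩
  exact (h1 ▸ Subgroup.mem_top x : x ∈ Δ.comap (ptsHom j))

variable [ConnectedSpace G.left]

/-- A parabolic subgroup is connected and contains the points normalising it. -/
theorem parabolic_props {P : Over (Spec (CommRingCat.of k))} [GrpObj P] (iP : P ⟶ G) [IsMonHom iP]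
    [IsClosedImmersion iP.left] [Smooth P.hom] {B : Over (Spec (CommRingCat.of k))} [GrpObj B] (b : B ⟶ P)
    (hB : Red.IsBorelOver k (b ≫ iP)) :
    ConnectedSpace P.left ∧ ∀ x : PT ⟶ G,
      (∀ y ∈ rangePts iP, x * y * x⁻¹ ∈ rangePts iP ∧ x⁻¹ * y * x ∈ rangePts iP) → x ∈ rangePts iP := by
  haveI := hB.1
  haveI := hB.2.1
  haveI := hB.2.2.1
  haveI := hB.2.2.2.1
  obtain ⟨haB, hlB, hqB, hmonoB, -⟩ := sub_props (b ≫ iP)
  haveI := haB
  haveI := hlB
  haveI := hqB
  obtain ⟨haP, hlP, hqP, hmonoP, -⟩ := sub_props iP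
  haveI := haP
  haveI := hlP
  haveI := hqP
  haveI := hmonoP
  haveI : IsMonHom b := AGFLib.BorelImage.isMonHom_of_comp b iP (b ≫ iP) rfl
  haveI : QuasiCompact G.hom := inferInstance
  obtain ⟨D, _, d, hd, hcd, hsD, hconnD, haD, hle, S, hS, hSP, hcov⟩ := exists_connSub (rangePts iP) (ptsClosed_range iP)
  haveI := hd
  haveI := hcd
  haveI := hsD
  haveI := hconnD
  haveI := haD
  obtain ⟨-, hlD, hqD, hmonoD, -⟩ := sub_props d
  haveI := hlD
  haveI := hqD
  haveI := hmonoD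
  haveI : IsReduced G.left := isReduced_of_smooth_field G.hom
  have hBD : rangePts (b ≫ iP) ≤ rangePts d :=
    le_of_finite_cosets (b ≫ iP) _ (ptsClosed_range d) S hS fun g hg => hcov g (rangePts_comp iP b hg)
  obtain ⟨β, hβ, hβe⟩ := exists_fac_sub d (b ≫ iP) hBD
  haveI := hβ
  haveI : IsClosedImmersion (β.left ≫ d.left) := by rw [← Over.comp_left, hβe]; infer_instance
  haveI : IsClosedImmersion β.left := IsClosedImmersion.of_comp β.left d.left
  have hsub : ∀ {A : Over (Spec (CommRingCat.of k))} [GrpObj A] (a : A ⟶ D) [IsMonHom a],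
      Red.IsBorelOver k (a ≫ d) → IsClosedImmersion a.left → Red.IsBorelOver k a := by
    intro A _ a _ h hca
    refine ⟨inferInstance, hca, h.2.2.1, h.2.2.2.1, h.2.2.2.2.1, fun B' _ i' _ f h1 h2 h3 h4 h5 => ?_⟩
    haveI := h1
    haveI : IsClosedImmersion (i' ≫ d).left := inferInstanceAs (IsClosedImmersion (i'.left ≫ d.left))
    exact h.2.2.2.2.2 B' (i' ≫ d) f inferInstance h2 h3 h4 (by rw [← Category.assoc, h5])
  have key : ∀ x : PT ⟶ G, (∀ y ∈ rangePts iP, x * y * x⁻¹ ∈ rangePts iP ∧ x⁻¹ * y * x ∈ rangePts iP) →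
      x ∈ rangePts d := by
    intro x hx
    have hBx := AGFLib.Borel.isBorel_conj (b ≫ iP) hB x
    haveI := hBx.1
    haveI := hBx.2.1
    haveI := hBx.2.2.1
    haveI := hBx.2.2.2.1
    have hxD : rangePts (AGF.conjBy x (b ≫ iP)) ≤ rangePts d :=
      le_of_finite_cosets (H := B) (AGF.conjBy x (b ≫ iP)) _ (ptsClosed_range d) S hS fun g hg => by
        rw [rangePts_conjBy] at hg
        have h1 := (hx _ (rangePts_comp iP b hg)).1
        exact hcov g (by rwa [show x * (x⁻¹ * g * x) * x⁻¹ = g by group] at h1)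
    obtain ⟨ν, hgam, hgame⟩ := exists_fac_sub d (AGF.conjBy x (b ≫ iP)) hxD
    haveI := hgam
    haveI : IsClosedImmersion (ν.left ≫ d.left) := by rw [← Over.comp_left, hgame]; infer_instance
    haveI : IsClosedImmersion ν.left := IsClosedImmersion.of_comp ν.left d.left
    obtain ⟨p, f, hf⟩ := AGFLib.Borel.conjugate ν β (hsub ν (hgame.symm ▸ hBx) inferInstance)
      (hsub β (hβe.symm ▸ hB) inferInstance)
    have hpx : (p ≫ d) * x ∈ rangePts (b ≫ iP) := normalizer_borel (b ≫ iP) hB _ (by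
      have h1 : ∀ w : PT ⟶ B, (w ≫ f.hom) ≫ b ≫ iP = (p ≫ d) * x * (w ≫ b ≫ iP) * ((p ≫ d) * x)⁻¹ := fun w => by
        rw [← hβe, Category.assoc, ← Category.assoc f.hom, hf, AGFLib.Borel.conjBy_eq, Category.assoc ν,
          ← Category.assoc w ν, ← Category.assoc (w ≫ ν), comp_conjM_pt, MonObj.mul_comp, MonObj.mul_comp,
          GrpObj.inv_comp, Category.assoc w ν d, hgame, hβe, AGFLib.Borel.conjBy_eq, ← Category.assoc,
          comp_conjM_pt, _root_.mul_inv_rev]
        simp only [_root_.mul_assoc]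
      rintro _ ⟨w, rfl⟩
      refine ⟨⟨w ≫ f.hom, h1 w⟩, ⟨w ≫ f.inv, ?_⟩⟩
      have h2 := h1 (w ≫ f.inv)
      rw [Category.assoc w f.inv f.hom, f.inv_hom_id, Category.comp_id] at h2
      show (w ≫ f.inv) ≫ b ≫ iP = _
      show (w ≫ f.inv) ≫ b ≫ iP = ((p ≫ d) * x)⁻¹ * (w ≫ b ≫ iP) * ((p ≫ d) * x)
      rw [h2]
      group)
    have h3 := mul_mem (inv_mem (⟨p, rfl⟩ : p ≫ d ∈ rangePts d)) (hBD hpx)
    rwa [inv_mul_cancel_left] at h3
  have hPD : rangePts iP ≤ rangePts d := fun x hx =>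
    key x fun y hy => ⟨mul_mem (mul_mem hx hy) (inv_mem hx), mul_mem (mul_mem (inv_mem hx) hy) hx⟩
  obtain ⟨φ, -, hφ⟩ := exists_fac_sub d iP hPD
  obtain ⟨ψ, -, hψ⟩ := exists_fac_sub iP d hle
  have hid : φ ≫ ψ = 𝟙 P := (cancel_mono iP).mp (by rw [Category.assoc, hψ, hφ, Category.id_comp])
  have hsurj : Function.Surjective ψ.left := fun p => ⟨φ.left p,
    show (φ ≫ ψ).left p = p by rw [hid]; rfl⟩
  exact ⟨hsurj.connectedSpace ψ.left.continuous, fun x hx => hle (key x hx)⟩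

end Groth.Agent.SolvGrp
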