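import Groth.Agent.SolvGrp.Weights
import Groth.Agent.GrpSchLib.SplitTorusPoints
import Mathlib.LinearAlgebra.LinearIndependent.Lemmas

/-! Characters of split tori on rational points, and automorphisms fixing a subtorus of codimension one. -/

set_option backward.isDefEq.respectTransparency false
set_option backward.isDefEq.respectTransparency.types false
set_option linter.style.haveILetI false

universe u

open CategoryTheory MonoidalCategory CartesianMonoidalCategory MonObj AlgebraicGeometry

namespace Groth.Agent.SolvGrp.TorusLattice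

open SolvGrp GrpSchLib GrpSchLib.Kunneth GrpSchLib.LineGroups GrpSchLib.SplitTorusPoints WeilCmp.Unip AGFLib

variable {k : Type u} [Field k] [IsAlgClosed k] {r : ℕ}

local notation "PT" => 𝟙_ (Over (Spec (CommRingCat.of k)))
local notation "L" => (Fin r → ℤ)

omit [IsAlgClosed k] in
theorem props (k : Type u) [Field k] (r : ℕ) :
    IsReduced (D k (Fin r → ℤ)).left ∧ LocallyOfFiniteType (D k (Fin r → ℤ)).hom := by
  refine ⟨inferInstanceAs (IsReduced (Spec (CommRingCat.of (MonoidAlgebra k (Multiplicative (Fin r → ℤ)))))), ?_⟩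
  exact (HasRingHomProperty.Spec_iff (P := @LocallyOfFiniteType)).mpr
    (RingHom.finiteType_algebraMap.mpr inferInstance)

theorem vl_mon_mul (s t : PT ⟶ D k L) (m : L) : vl (s * t) (mon k m) = vl s (mon k m) * vl t (mon k m) := by
  show ProjAct.toK (k := k) (ev (s * t) _) = _
  rw [ev_mul_mon, map_mul]; rfl

theorem vl_mon_one (m : L) : vl (1 : PT ⟶ D k L) (mon k m) = 1 := by
  show ProjAct.toK (k := k) (ev (1 : PT ⟶ D k L) (mon k m)) = _
  rw [ev_one_mon, map_one]

theorem vl_mon_add (s : PT ⟶ D k L) (m n : L) : vl s (mon k (m + n)) = vl s (mon k m) * vl s (mon k n) := by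
  rw [mon_add, map_mul]

theorem vl_mon_ne (s : PT ⟶ D k L) (m : L) : vl s (mon k m) ≠ 0 := ((isUnit_mon m).map (vl s)).ne_zero

/-- The points of the torus with prescribed character values. -/
theorem exists_pt_mon (χ : Multiplicative L →* k) : ∃ s : PT ⟶ D k L, ∀ m, vl s (mon k m) = χ (Multiplicative.ofAdd m) := by
  obtain ⟨s, hs⟩ := exists_pt (U := D k L)
    ((MonoidAlgebra.lift k k (Multiplicative L) χ).comp (fnSp k (MonoidAlgebra k (Multiplicative L))).symm.toAlgHom)
  refine ⟨s, fun m => ?_⟩
  rw [hs]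
  show MonoidAlgebra.lift k k (Multiplicative L) χ ((fnSp k _).symm (fnSp k _ _)) = _
  rw [AlgEquiv.symm_apply_apply, MonoidAlgebra.lift_single, one_smul]

theorem mon_injective : Function.Injective (mon k : L → _) := fun m n h => by
  have h1 := (fnSp k (MonoidAlgebra k (Multiplicative L))).injective h
  exact Multiplicative.ofAdd.injective (MonoidAlgebra.single_left_injective (one_ne_zero (α := k)) h1)

theorem mon_ext {m n : L} (h : ∀ s : PT ⟶ D k L, vl s (mon k m) = vl s (mon k n)) : m = n := by
  obtain ⟨hR, hF⟩ := props k r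
  haveI := hR
  haveI := hF
  exact mon_injective (eq_of_vl h)

/-- A multiplicative function on the torus is a monomial. -/
theorem exists_eq_mon (X : Fn (D k L)) (h1 : vl (1 : PT ⟶ D k L) X = 1)
    (hmul : ∀ s t : PT ⟶ D k L, vl (s * t) X = vl s X * vl t X) : ∃ m : L, X = mon k m := by
  classical
  obtain ⟨hR, hF⟩ := props k r
  haveI := hR
  haveI := hF
  obtain ⟨b, hb⟩ := (fnSp k (MonoidAlgebra k (Multiplicative L))).surjective X
  have hX : ∀ s : PT ⟶ D k L, vl s X = ∑ m ∈ b.coeff.support, b.coeff m * vl s (mon k (Multiplicative.toAdd m)) := by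
    intro s
    rw [← hb]
    conv_lhs => rw [← MonoidAlgebra.sum_single b, Finsupp.sum, map_sum, map_sum]
    refine Finset.sum_congr rfl fun m _ => ?_
    rw [show MonoidAlgebra.single m (b.coeff m) = b.coeff m • MonoidAlgebra.single m (1 : k) by simp, map_smul, map_smul]
    rfl
  let χ : b.coeff.support → (PT ⟶ D k L) →* k := fun m =>
    { toFun := fun s => vl s (mon k (Multiplicative.toAdd (m : Multiplicative L)))
      map_one' := vl_mon_one _
      map_mul' := fun s t => vl_mon_mul s t _ }
  have hli : LinearIndependent k (fun m => (χ m : (PT ⟶ D k L) → k)) :=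
    (linearIndependent_monoidHom (PT ⟶ D k L) k).comp χ fun a c h =>
      Subtype.ext (Multiplicative.toAdd.injective (mon_ext fun s => DFunLike.congr_fun h s))
  obtain ⟨m, hm⟩ : b.coeff.support.Nonempty := by
    by_contra h
    have := hX 1
    rw [h1, Finset.not_nonempty_iff_eq_empty.mp h, Finset.sum_empty] at this
    exact one_ne_zero this
  refine ⟨Multiplicative.toAdd m, eq_of_vl fun t => ?_⟩
  have h2 : ∑ n : b.coeff.support, (b.coeff n * (vl t (mon k (Multiplicative.toAdd (n : Multiplicative L))) - vl t X)) •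
      (χ n : (PT ⟶ D k L) → k) = 0 := by
    funext s
    rw [Finset.sum_apply, Pi.zero_apply]
    show ∑ n : b.coeff.support, (b.coeff n * (vl t (mon k (Multiplicative.toAdd (n : Multiplicative L))) - vl t X)) *
      vl s (mon k (Multiplicative.toAdd (n : Multiplicative L))) = 0
    rw [Finset.sum_coe_sort b.coeff.support
      (fun n => (b.coeff n * (vl t (mon k (Multiplicative.toAdd n)) - vl t X)) * vl s (mon k (Multiplicative.toAdd n)))]
    have h3 := hmul s t
    rw [hX (s * t), hX s, Finset.sum_mul, ← sub_eq_zero, ← Finset.sum_sub_distrib] at h3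
    refine Eq.trans (Finset.sum_congr rfl fun n _ => ?_) h3
    rw [vl_mon_mul]
    ring
  have h4 := Fintype.linearIndependent_iff.mp hli _ h2 ⟨m, hm⟩
  rcases mul_eq_zero.mp h4 with h | h
  · exact absurd h (Finsupp.mem_support_iff.mp hm)
  · exact (sub_eq_zero.mp h).symm

/-- The characters that are torsion on a subgroup of finite index in the kernel of a character are proportional
to it. -/
theorem proportional {m y : L} {N : ℕ} (hN : N ≠ 0)
    (h : ∀ s : PT ⟶ D k L, vl s (mon k m) = 1 → vl s (mon k y) ^ N = 1) (i j : Fin r) : m i * y j = y i * m j := by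
  classical
  by_contra hne
  have hij : i ≠ j := fun e => hne (by subst e; exact mul_comm _ _)
  set d : ℤ := m i * y j - y i * m j with hd
  have hd0 : d ≠ 0 := sub_ne_zero.mpr hne
  obtain ⟨n, hn⟩ : ∃ n : ℕ, n = d.natAbs * N := ⟨_, rfl⟩
  have hn0 : n ≠ 0 := by rw [hn]; exact mul_ne_zero (Int.natAbs_ne_zero.mpr hd0) hN
  obtain ⟨c, hc0, hc⟩ : ∃ c : k, c ≠ 0 ∧ c ^ n ≠ 1 := by
    haveI : Infinite k := IsAlgClosed.instInfinite
    let P : Polynomial k := (Polynomial.X ^ n - Polynomial.C 1) * Polynomial.X
    have hP : P ≠ 0 := mul_ne_zero (Polynomial.X_pow_sub_C_ne_zero (Nat.pos_of_ne_zero hn0) 1) Polynomial.X_ne_zero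
    obtain ⟨c, hc⟩ := Polynomial.exists_eval_ne_zero_of_natDegree_lt_card P hP
      ((Cardinal.nat_lt_aleph0 _).trans_le (Cardinal.aleph0_le_mk k))
    simp only [P, Polynomial.eval_mul, Polynomial.eval_sub, Polynomial.eval_pow, Polynomial.eval_X, Polynomial.eval_C,
      ne_eq, mul_eq_zero, sub_eq_zero, not_or] at hc
    exact ⟨c, hc.2, hc.1⟩
  let u : kˣ := Units.mk0 c hc0
  let f : L →+ ℤ :=
    { toFun := fun x => m i * x j - m j * x i
      map_zero' := by simp
      map_add' := fun a b => by simp only [Pi.add_apply]; ring }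
  obtain ⟨s, hs⟩ := exists_pt_mon (((Units.coeHom k).comp (zpowersHom kˣ u)).comp f.toMultiplicative)
  have hval : ∀ x, vl s (mon k x) = ((u ^ f x : kˣ) : k) := fun x => by rw [hs]; rfl
  have hy : f y = d := by show m i * y j - m j * y i = d; rw [hd]; ring
  have h1 := h s (by rw [hval, show f m = 0 by show m i * m j - m j * m i = 0; ring]; simp)
  rw [hval, hy, ← Units.val_pow_eq_pow_val, Units.val_eq_one, ← zpow_natCast, ← zpow_mul] at h1
  refine hc ?_
  have h2 : u ^ ((d * N).natAbs : ℤ) = 1 := by
    rcases Int.natAbs_eq (d * N) with e | e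
    · rw [← e]; exact h1
    · rw [show ((d * N).natAbs : ℤ) = -(d * N) by omega, zpow_neg, h1, inv_one]
  rw [zpow_natCast, Int.natAbs_mul, Int.natAbs_natCast] at h2
  simpa [hn, u] using congrArg Units.val h2

/-- A self-map of the points given by monomials acts linearly on the characters. -/
structure IsMon (σ : (PT ⟶ D k L) → (PT ⟶ D k L)) (φ : L →+ L) : Prop where
  eq : ∀ s x, vl (σ s) (mon k x) = vl s (mon k (φ x))

theorem IsMon.iterate {σ : (PT ⟶ D k L) → (PT ⟶ D k L)} {φ : L →+ L} (h : IsMon σ φ) :
    ∀ n : ℕ, IsMon (σ^[n]) (AddMonoidHom.mk' (φ^[n]) fun a b => by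
      induction n with
      | zero => rfl
      | succ n ih => rw [Function.iterate_succ', Function.comp_apply, ih, map_add]; rfl) := fun n => by
  induction n with
  | zero => exact ⟨fun s x => rfl⟩
  | succ n ih =>
    refine ⟨fun s x => ?_⟩
    show vl (σ^[n + 1] s) (mon k x) = vl s (mon k (φ^[n + 1] x))
    rw [Function.iterate_succ_apply', h.eq, ih.eq, Function.iterate_succ_apply]
    rfl

/-- An automorphism of finite order fixing a subtorus of codimension one is trivial or inverts the character
cutting it out. -/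
theorem eq_id_or_neg {σ : (PT ⟶ D k L) → (PT ⟶ D k L)} {φ : L →+ L} (h : IsMon σ φ) {m : L} {N : ℕ} (hN : N ≠ 0)
    (hfix : ∀ s, vl s (mon k m) = 1 → σ (s ^ N) = s ^ N) {e : ℕ} (he : e ≠ 0) (hord : ∀ s, σ^[e] s = s)
    (hm : m ≠ 0) : (∀ s, σ s = s) ∨ φ m = -m := by
  obtain ⟨hR, hF⟩ := props k r
  haveI := hR
  haveI := hF
  obtain ⟨i, hi⟩ : ∃ i, m i ≠ 0 := Function.ne_iff.mp hm
  have hit : ∀ x, φ^[e] x = x := fun x => mon_ext fun s => by
    conv_rhs => rw [← hord s]
    exact ((h.iterate e).eq s x).symm
  have hpow : ∀ (s : PT ⟶ D k L) (x : L) (n : ℕ), vl (s ^ n) (mon k x) = vl s (mon k x) ^ n := fun s x n => by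
    induction n with
    | zero => rw [pow_zero, pow_zero, vl_mon_one]
    | succ n ih => rw [pow_succ, pow_succ, vl_mon_mul, ih]
  -- the differences are proportional to the character
  have hD : ∀ x j, m i * (φ x - x) j = (φ x - x) i * m j := fun x j => proportional hN (fun s hs => by
    have h1 : vl s (mon k (φ x)) ^ N = vl s (mon k x) ^ N := by rw [← hpow, ← h.eq, hfix s hs, hpow]
    have h2 : vl s (mon k (φ x - x)) * vl s (mon k x) = vl s (mon k (φ x)) := by rw [← vl_mon_add, sub_add_cancel]
    have h3 := congrArg (· ^ N) h2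
    simp only [mul_pow] at h3
    rw [h1] at h3
    exact mul_eq_right₀ (pow_ne_zero N (vl_mon_ne s x)) |>.mp h3) i j
  set a : ℤ := m i
  set c : ℤ := (φ m) i
  have hsm : ∀ (z : ℤ) (x : L), φ (z • x) = z • φ x := fun z x => map_zsmul φ z x
  have hm' : a • φ m = c • m := funext fun j => by
    have := hD m j
    simp only [Pi.sub_apply] at this
    show a * (φ m) j = c * m j
    linear_combination this
  have hn : ∀ n : ℕ, a ^ n • φ^[n] m = c ^ n • m := fun n => by
    induction n with
    | zero => simp
    | succ n ih =>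
      rw [Function.iterate_succ_apply', pow_succ', pow_succ, ← smul_smul, ← hsm, ih, hsm, smul_comm, hm', smul_smul]
  have hce : c ^ e = a ^ e := by
    have := congrFun (hn e) i
    rw [hit] at this
    exact (mul_right_cancel₀ hi this).symm
  have habs : c.natAbs = a.natAbs := Nat.pow_left_injective he (by simpa [Int.natAbs_pow] using congrArg Int.natAbs hce)
  rcases Int.natAbs_eq_natAbs_iff.mp habs with hc | hc
  · left
    have hφm : φ m = m := smul_right_injective L hi (by simpa [hc] using hm')
    have hzero : ∀ x, φ x = x := fun x => by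
      have hφd : φ (φ x - x) = φ x - x := smul_right_injective L hi (by
        have e1 : a • (φ x - x) = (φ x - x) i • m := funext fun j => hD x j
        show a • φ (φ x - x) = a • (φ x - x)
        rw [← hsm, e1, hsm, hφm])
      have hj : ∀ n : ℕ, φ^[n] x = x + n • (φ x - x) := fun n => by
        induction n with
        | zero => simp
        | succ n ih =>
          rw [Function.iterate_succ_apply', ih, map_add, map_nsmul, hφd, succ_nsmul]
          abel
      have h5 := (hj e).symm.trans (hit x)
      rw [add_eq_left, smul_eq_zero] at h5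
      exact sub_eq_zero.mp (h5.resolve_left he)
    exact fun s => vl_ext fun f => by
      have hs : vl (σ s) = vl s := by
        refine AlgHom.ext fun g => ?_
        obtain ⟨b, rfl⟩ := (fnSp k (MonoidAlgebra k (Multiplicative L))).surjective g
        exact AlgHom.congr_fun (MonoidAlgebra.algHom_ext (φ₁ := (vl (σ s)).comp (fnSp k _).toAlgHom)
          (φ₂ := (vl s).comp (fnSp k _).toAlgHom) (fun x => by
            show vl (σ s) (mon k (Multiplicative.toAdd x)) = vl s (mon k (Multiplicative.toAdd x))
            rw [h.eq, hzero]) (by ext)) b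
      rw [hs]
  · right
    exact smul_right_injective L hi (by simpa [hc] using hm')

/-- Two nontrivial such automorphisms compose to the identity. -/
theorem comp_eq_id {σ σ' : (PT ⟶ D k L) → (PT ⟶ D k L)} {φ φ' : L →+ L} (h : IsMon σ φ) (h' : IsMon σ' φ') {m : L}
    {N : ℕ} (hN : N ≠ 0) (hfix : ∀ s, vl s (mon k m) = 1 → σ (s ^ N) = s ^ N)
    (hfix' : ∀ s, vl s (mon k m) = 1 → σ' (s ^ N) = s ^ N) (hneg : φ m = -m) (hneg' : φ' m = -m)
    {e : ℕ} (he : e ≠ 0) (hord : ∀ s, (σ ∘ σ')^[e] s = s) (hm : m ≠ 0) : ∀ s, σ (σ' s) = s := by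
  have hc : IsMon (σ ∘ σ') (φ'.comp φ) := ⟨fun s x => by
    show vl (σ (σ' s)) _ = _
    rw [h.eq, h'.eq]; rfl⟩
  refine (eq_id_or_neg hc hN (fun s hs => by
    show σ (σ' _) = _
    rw [hfix' s hs, hfix s hs]) he hord hm).resolve_right fun hh => hm ?_
  have h2 : φ' (φ m) = -m := hh
  rw [hneg, map_neg, hneg', neg_neg] at h2
  funext l
  have := congrFun h2 l
  simp only [Pi.neg_apply] at this
  show m l = 0
  omega

end Groth.Agent.SolvGrp.TorusLattice
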