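import Groth.Agent.DynLimit.Connected
import Groth.Agent.DynLimit.Results
import Groth.Agent.SolvGrp.Bridge
import Groth.Agent.SolvGrp.TorusLattice
import Groth.Agent.AVTors.TateInj
import Groth.Agent.GrpSchLib.AntiAffineHom
import Groth.Agent.AGFLib.BorelExist

/-! Points of limit subgroups over an extension field. -/

set_option backward.isDefEq.respectTransparency false
set_option backward.isDefEq.respectTransparency.types false
set_option linter.style.haveILetI false
set_option maxHeartbeats 1000000

universe u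

open CategoryTheory MonoidalCategory CartesianMonoidalCategory MonObj AlgebraicGeometry WithConv
open scoped TensorProduct LaurentPolynomial

noncomputable section

namespace Groth.Agent.SolvGrp.DynPts

open SolvGrp GrpSchLib GrpSchLib.Kunneth GrpSchLib.LineGroups GrpSchLib.SplitTorusPoints WeilCmp.Unip AGFLib AGFLib.Gen
  AGFLib.BorelFixed AffineHopf DynLimit

attribute [local instance 2000] DynLimit.ptGroup

section Exh

variable {k : Type u} [Field k] [IsAlgClosed k]

local notation "PT" => 𝟙_ (Over (Spec (CommRingCat.of k)))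

/-- An exhaustive wedge filtration of the coordinate ring makes the points unipotent. -/
theorem isUnipPt_of_exh {G : Over (Spec (CommRingCat.of k))} [GrpObj G] [IsAffine G.left] [LocallyOfFiniteType G.hom]
    [IsReduced G.left] {A : Type u} [CommRing A] [HopfAlgebra k A] (e : Grp.mk (sp k A) ≅ Grp.mk G)
    (h : CoradFil.Exh (Submodule.span k {(1 : A)})) (g : PT ⟶ G) : IsUnipPt g := by
  let φ := coordEquiv e
  let ψ : A →ₐ[k] k := (ptsEquiv e g).ofConv
  let L : A →ₗ[k] A := (TensorProduct.rid k A).toLinearMap ∘ₗ ψ.toLinearMap.lTensor A ∘ₗ Coalgebra.comul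
  have hL : ∀ x, rl g (φ x) = φ (L x) := fun x => eq_of_vl fun y => by
    show vl y (rt g (φ x)) = vl y (φ (L x))
    rw [vl_rt, ← ptsEquiv_apply, ← ptsEquiv_apply, map_mul, AlgHom.convMul_apply]
    show _ = (ptsEquiv e y).ofConv ((TensorProduct.rid k A) (ψ.toLinearMap.lTensor A (Coalgebra.comul (R := k) x)))
    induction Coalgebra.comul (R := k) x using TensorProduct.induction_on with
    | zero => simp
    | tmul b c =>
      simp only [Algebra.TensorProduct.lift_tmul, LinearMap.lTensor_tmul, TensorProduct.rid_tmul, map_smul, smul_eq_mul]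
      exact _root_.mul_comm _ _
    | add b c hb hc => simp only [map_add, hb, hc]
  have key : ∀ r, ∀ x ∈ CoradFil.wedge (Submodule.span k {(1 : A)}) r, ((rl g - 1) ^ (r + 1)) (φ x) = 0 := by
    intro r
    induction r with
    | zero =>
      intro x hx
      obtain ⟨c, rfl⟩ := Submodule.mem_span_singleton.mp hx
      rw [zero_add, pow_one, map_smul, map_one, map_smul, LinearMap.sub_apply, Module.End.one_apply,
        show rl g (1 : Fn G) = 1 from map_one (rt g), sub_self, smul_zero]
    | succ r ih =>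
      intro x hx
      have hd : L x - x ∈ CoradFil.wedge (Submodule.span k {(1 : A)}) r := by
        let M : A ⊗[k] A →ₗ[k] A := (TensorProduct.rid k A).toLinearMap ∘ₗ
          (ψ.toLinearMap - Coalgebra.counit (R := k) (A := A)).lTensor A
        have e1 : L x - x = M (Coalgebra.comul (R := k) x) := by
          show _ = (TensorProduct.rid k A) ((ψ.toLinearMap - Coalgebra.counit).lTensor A (Coalgebra.comul (R := k) x))
          rw [LinearMap.lTensor_sub, LinearMap.sub_apply, map_sub, Coalgebra.lTensor_counit_comul, TensorProduct.rid_tmul,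
            one_smul]
          rfl
        rw [e1]
        obtain ⟨p, hp, q, hq, hpq⟩ := Submodule.mem_sup.mp (Submodule.mem_comap.mp hx)
        obtain ⟨p', rfl⟩ := hp
        obtain ⟨q', rfl⟩ := hq
        rw [← hpq, map_add]
        clear hpq e1
        refine Submodule.add_mem _ ?_ ?_
        · induction p' using TensorProduct.induction_on with
          | zero => simp
          | tmul b c =>
            simp only [M, LinearMap.comp_apply, LinearEquiv.coe_coe, LinearMap.rTensor_tmul, LinearMap.lTensor_tmul,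
              TensorProduct.rid_tmul]
            exact Submodule.smul_mem _ _ b.2
          | add b c hb hc => simp only [map_add]; exact Submodule.add_mem _ hb hc
        · induction q' using TensorProduct.induction_on with
          | zero => simp
          | tmul b c =>
            obtain ⟨t, ht⟩ := Submodule.mem_span_singleton.mp c.2
            have h0 : (ψ.toLinearMap - Coalgebra.counit (R := k) (A := A)) (c : A) = 0 := by
              rw [← ht, map_smul, LinearMap.sub_apply, Bialgebra.counit_one, AlgHom.toLinearMap_apply, map_one,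
                sub_self, smul_zero]
            simp only [M, LinearMap.comp_apply, LinearEquiv.coe_coe, LinearMap.lTensor_tmul, Submodule.subtype_apply,
              h0, TensorProduct.tmul_zero, map_zero]
            exact Submodule.zero_mem _
          | add b c hb hc => simp only [map_add]; exact Submodule.add_mem _ hb hc
      rw [pow_succ, Module.End.mul_apply,
        show (rl g - 1) (φ x) = φ (L x - x) by rw [LinearMap.sub_apply, Module.End.one_apply, hL, map_sub]]
      exact ih _ hd
  intro v
  obtain ⟨x, rfl⟩ := φ.surjective v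
  obtain ⟨r, hr⟩ := h x
  exact ⟨r + 1, key r x hr⟩

end Exh

variable {k : Type u} [Field k] (K : Type u) [Field K] [Algebra k K]

local notation "PK" => 𝟙_ (Over (Spec (CommRingCat.of K)))

/-- The morphism of spectra of an extension. -/
abbrev σK (k : Type u) [Field k] (K : Type u) [Field K] [Algebra k K] :
    Spec (CommRingCat.of K) ⟶ Spec (CommRingCat.of k) :=
  Spec.map (CommRingCat.ofHom (algebraMap k K))

/-- The point upstairs read downstairs. -/
def wIso : (Over.map (σK k K)).obj (𝟙_ (Over (Spec (CommRingCat.of K)))) ≅ sp k K :=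
  Over.isoMk (Iso.refl _) (by
    show 𝟙 _ ≫ Spec.map (CommRingCat.ofHom (algebraMap k K)) = 𝟙 _ ≫ σK k K
    rfl)

variable {K} {A B : Type u} [CommRing A] [HopfAlgebra k A] [CommRing B] [HopfAlgebra k B]

variable (K A) in
/-- Points of the base change as algebra maps. -/
def Ψ : (𝟙_ (Over (Spec (CommRingCat.of K))) ⟶ Red.bc (σK k K) (sp k A)) ≃* WithConv (A →ₐ[k] K) :=
  ((AVTors.bcPts (σK k K) _ (sp k A)).symm.trans
    { toFun := fun x => (wIso K).inv ≫ x
      invFun := fun y => (wIso K).hom ≫ y
      left_inv := fun x => by simp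
      right_inv := fun y => by simp
      map_mul' := fun x y => MonObj.comp_mul _ _ _ }).trans Spec.mapMulEquiv.symm

theorem Ψ_fst (g : PK ⟶ Red.bc (σK k K) (sp k A)) :
    Spec.map (CommRingCat.ofHom (Ψ K A g).ofConv.toRingHom) = g.left ≫ Limits.pullback.fst _ _ := by
  have h := congrArg CommaMorphism.left (Spec.mapMulEquiv.apply_symm_apply
    ((wIso K).inv ≫ (AVTors.bcPts (σK k K) _ (sp k A)).symm g))
  refine h.trans ?_
  show (wIso K).inv.left ≫ (((Over.mapPullbackAdj (σK k K)).homEquiv _ _).symm g).left = _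
  rw [show (wIso (k := k) K).inv.left = 𝟙 _ from rfl]
  rw [Category.id_comp, Adjunction.homEquiv_counit]
  simp

theorem Ψ_map (f : B →ₐc[k] A) (g : PK ⟶ Red.bc (σK k K) (sp k A)) :
    Ψ K B (g ≫ (Over.pullback (σK k K)).map (spMap (f : B →ₐ[k] A))) = pull f (Ψ K A g) := by
  refine WithConv.ext (AlgHom.coe_ringHom_injective (congrArg CommRingCat.Hom.hom
    (Spec.map_injective (a₁ := CommRingCat.ofHom (Ψ K B (g ≫ _)).ofConv.toRingHom)
      (a₂ := CommRingCat.ofHom (pull f (Ψ K A g)).ofConv.toRingHom) ?_)))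
  refine (Ψ_fst _).trans ?_
  show (g.left ≫ ((Over.pullback (σK k K)).map (spMap (f : B →ₐ[k] A))).left) ≫ Limits.pullback.fst _ _ = _
  have e1 : ((Over.pullback (σK k K)).map (spMap (f : B →ₐ[k] A))).left ≫ Limits.pullback.fst _ _ =
      Limits.pullback.fst _ _ ≫ Spec.map (CommRingCat.ofHom (f : B →ₐ[k] A).toRingHom) := by
    simp
    rfl
  refine (Category.assoc _ _ _).trans ?_
  rw [e1]
  refine Eq.trans ?_ (Spec.map_comp (CommRingCat.ofHom (f : B →ₐ[k] A).toRingHom)
    (CommRingCat.ofHom (Ψ K A g).ofConv.toRingHom)).symm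
  rw [Ψ_fst]
  exact (Category.assoc _ _ _).symm

theorem isClosedImmersion_map {X Y : Over (Spec (CommRingCat.of k))} (i : X ⟶ Y) [IsClosedImmersion i.left] :
    IsClosedImmersion ((Over.pullback (σK k K)).map i).left := by
  have h : ((Over.pullback (σK k K)).map i).left =
      Limits.pullback.map X.hom (σK k K) Y.hom (σK k K) i.left (𝟙 _) (𝟙 _) (by simp) (by simp) := by
    apply Limits.pullback.hom_ext <;> simp
  rw [h]
  exact MorphismProperty.pullbackMap (P := @IsClosedImmersion) ‹_› inferInstance (Over.w i).symm (by simp)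

variable (A) in
/-- The inclusion of a closed subgroup. -/
abbrev incl (J : Ideal A) [J.IsHopfIdeal k] : sp k (A ⧸ J) ⟶ sp k A :=
  spMap ((Bialgebra.Quotient.mkBialgHom (R := k) J : A →ₐc[k] A ⧸ J) : A →ₐ[k] A ⧸ J)

instance isClosedImmersion_incl (J : Ideal A) [J.IsHopfIdeal k] : IsClosedImmersion (incl (k := k) A J).left :=
  IsClosedImmersion.spec_of_surjective _ Ideal.Quotient.mk_surjective

instance isClosedImmersion_incl_bc (J : Ideal A) [J.IsHopfIdeal k] :
    IsClosedImmersion ((Over.pullback (σK k K)).map (incl (k := k) A J)).left :=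
  isClosedImmersion_map _

/-- The points of a closed subgroup. -/
theorem mem_range_incl (J : Ideal A) [J.IsHopfIdeal k] (g : PK ⟶ Red.bc (σK k K) (sp k A)) :
    g ∈ rangePts ((Over.pullback (σK k K)).map (incl (k := k) A J)) ↔ ∀ a ∈ J, (Ψ K A g).ofConv a = 0 := by
  constructor
  · rintro ⟨h, rfl⟩ a ha
    show (Ψ K A (h ≫ _)).ofConv a = 0
    rw [Ψ_map]
    show (Ψ K (A ⧸ J) h).ofConv (Ideal.Quotient.mk J a) = 0
    rw [Ideal.Quotient.eq_zero_iff_mem.mpr ha, map_zero]
  · intro h
    refine ⟨(Ψ K (A ⧸ J)).symm (toConv (Ideal.Quotient.liftₐ J (Ψ K A g).ofConv h)), (Ψ K A).injective ?_⟩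
    show Ψ K A (_ ≫ _) = _
    rw [Ψ_map, MulEquiv.apply_symm_apply]
    exact WithConv.ext (AlgHom.ext fun a => rfl)

theorem mem_lim_iff {lam : A →ₐc[k] k[T;T⁻¹]} {J : Ideal A} [J.IsHopfIdeal k]
    (hJ : Dyn.Represents k A J (fun R _ _ g => Dyn.LimExists k A lam R g)) (g : PK ⟶ Red.bc (σK k K) (sp k A)) :
    g ∈ rangePts ((Over.pullback (σK k K)).map (incl (k := k) A J)) ↔ Ψ K A g ∈ limSubgroup lam K :=
  (mem_range_incl J g).trans ((hJ K _).trans (limExists_iff lam K _))

theorem mem_limOne_iff {lam : A →ₐc[k] k[T;T⁻¹]} {J : Ideal A} [J.IsHopfIdeal k]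
    (hJ : Dyn.Represents k A J (fun R _ _ g => Dyn.LimIsOne k A lam R g)) (g : PK ⟶ Red.bc (σK k K) (sp k A)) :
    g ∈ rangePts ((Over.pullback (σK k K)).map (incl (k := k) A J)) ↔ Ψ K A g ∈ limOneSubgroup lam K :=
  (mem_range_incl J g).trans ((hJ K _).trans (limIsOne_iff lam K _))

/-- Points with limit one are unipotent. -/
theorem isUnipPt_limOne [IsAlgClosed K] [Algebra.FinitePresentation k A] [Algebra.Smooth k A]
    (lam : A →ₐc[k] k[T;T⁻¹]) {J : Ideal A} [J.IsHopfIdeal k]
    (hJ : Dyn.Represents k A J (fun R _ _ g => Dyn.LimIsOne k A lam R g)) (g : PK ⟶ Red.bc (σK k K) (sp k (A ⧸ J))) :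
    IsUnipPt g := by
  haveI := smooth_limOne lam hJ
  haveI : Smooth (sp k (A ⧸ J)).hom :=
    (HasRingHomProperty.Spec_iff (P := @Smooth)).mpr (RingHom.smooth_algebraMap.mpr inferInstance)
  haveI : IsAffine (Red.bc (σK k K) (sp k (A ⧸ J))).left := inferInstanceAs (IsAffine (Limits.pullback _ _))
  haveI : Smooth (Red.bc (σK k K) (sp k (A ⧸ J))).hom := inferInstanceAs (Smooth (Limits.pullback.snd _ _))
  haveI : IsReduced (Red.bc (σK k K) (sp k (A ⧸ J))).left :=
    isReduced_of_smooth_field (Red.bc (σK k K) (sp k (A ⧸ J))).hom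
  obtain ⟨e⟩ := nonempty_bc_sp (R := k) K (A ⧸ J)
  exact isUnipPt_of_exh e.symm (CoradFil.exh_one_baseChange K (exh_limOne lam hJ)) g

/-- The limit subgroup normalises the subgroup of limit one. -/
theorem conj_mem_limOne (lam : A →ₐc[k] k[T;T⁻¹]) {R : Type u} [CommRing R] [Algebra k R]
    {g u : WithConv (A →ₐ[k] R)} (hg : g ∈ limSubgroup lam R) (hu : u ∈ limOneSubgroup lam R) :
    g * u * g⁻¹ ∈ limOneSubgroup lam R := by
  obtain ⟨h, hh⟩ := hg
  obtain ⟨h', h0, hh'⟩ := (mem_limOneSubgroup lam R).mp hu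
  refine (mem_limOneSubgroup lam R).mpr ⟨h * h' * h⁻¹, ?_, ?_⟩
  · rw [map_mul, map_mul, h0, map_inv, _root_.mul_one, mul_inv_cancel]
  · rw [map_mul, map_mul, map_inv, hh, hh', map_mul, map_mul, map_inv]

/-- Limit one forces a limit. -/
theorem limOne_le_lim (lam : A →ₐc[k] k[T;T⁻¹]) {R : Type u} [CommRing R] [Algebra k R]
    {g : WithConv (A →ₐ[k] R)} (hg : g ∈ limOneSubgroup lam R) : g ∈ limSubgroup lam R := by
  obtain ⟨h, -, hh⟩ := (mem_limOneSubgroup lam R).mp hg
  exact (mem_limSubgroup lam R).mpr ⟨h, hh⟩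

/-- A constant orbit means commuting with all values of the cocharacter. -/
theorem commute_of_orbit_eq (lam : A →ₐc[k] k[T;T⁻¹]) {g : WithConv (A →ₐ[k] K)}
    (h : orbit lam K g = push (cst k K) g) (φ : k[T;T⁻¹] →ₐ[k] K) : Commute (lamPt lam φ) g := by
  let φ' : K[T;T⁻¹] →ₐ[K] K := AddMonoidAlgebra.lift K K ℤ
    { toFun := fun n => φ (AddMonoidAlgebra.single (Multiplicative.toAdd n) 1)
      map_one' := map_one φ
      map_mul' := fun a b => by rw [← map_mul, AddMonoidAlgebra.single_mul_single, _root_.one_mul]; rfl }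
  have e1 : (φ'.restrictScalars k).comp (cst k K) = AlgHom.id k K := AlgHom.ext fun c => φ'.commutes c
  have e2 : (φ'.restrictScalars k).comp (mapT k K) = φ := AddMonoidAlgebra.algHom_ext (fun n => by
    simp [φ', mapT, AddMonoidAlgebra.lift_single, -LaurentPolynomial.single_eq_C_mul_T]) (by ext)
  have h2 := congrArg (push (φ'.restrictScalars k)) h
  rw [orbit_apply, map_mul, map_mul, map_inv, push_lamPt, push_push, e1, e2, push_id] at h2
  exact mul_inv_eq_iff_eq_mul.mp h2

end Groth.Agent.SolvGrp.DynPts
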