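import Groth.Agent.SolvGrp.CocharBorel
import Groth.Agent.SolvGrp.GrothBC
import Groth.Agent.SolvGrp.Reductive5

/-! Borel subgroups through a split maximal torus are limit subgroups of rational cocharacters. -/

set_option linter.style.haveILetI false
set_option maxHeartbeats 1000000

universe u

open CategoryTheory Limits MonoidalCategory CartesianMonoidalCategory MonObj AlgebraicGeometry WithConv
open scoped TensorProduct LaurentPolynomial

set_option backward.isDefEq.respectTransparency false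
set_option backward.isDefEq.respectTransparency.types false

noncomputable section

namespace Groth.Agent.SolvGrp.DynPts

open SolvGrp GrpSchLib GrpSchLib.Kunneth GrpSchLib.LineGroups GrpSchLib.SplitTorusPoints WeilCmp.Unip AGFLib AGFLib.Gen
  AGFLib.BorelFixed AffineHopf DynLimit

attribute [local instance 2000] DynLimit.ptGroup

/-- Borel subgroups are carried along isomorphisms of groups. -/
theorem isBorelOver_grpIso {K : Type u} [Field K] [IsAlgClosed K] {G G' B : Over (Spec (CommRingCat.of K))} [GrpObj G]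
    [GrpObj G'] [GrpObj B] {b : B ⟶ G} (hB : Red.IsBorelOver K b) (φ : G ⟶ G') [IsMonHom φ] [IsIso φ] :
    Red.IsBorelOver K (b ≫ φ) := by
  haveI := hB.1
  haveI := hB.2.1
  haveI : IsIso φ.left := inferInstanceAs (IsIso ((Over.forget _).map φ))
  haveI : IsMonHom (inv φ) := AGFLib.isMonHom_of_mul _ fun X a c => by
    rw [← cancel_mono φ, MonObj.mul_comp _ _ φ, Category.assoc, Category.assoc, Category.assoc, IsIso.inv_hom_id,
      Category.comp_id, Category.comp_id, Category.comp_id]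
  haveI : IsIso (inv φ).left := inferInstanceAs (IsIso ((Over.forget _).map (inv φ)))
  refine ⟨inferInstance, inferInstanceAs (IsClosedImmersion (b.left ≫ φ.left)), hB.2.2.1, hB.2.2.2.1, hB.2.2.2.2.1,
    fun B' _ i' _ f h1 h2 h3 h4 h5 => ?_⟩
  haveI := h1
  exact hB.2.2.2.2.2 B' (i' ≫ inv φ) f (inferInstanceAs (IsClosedImmersion (i'.left ≫ (inv φ).left))) h2 h3 h4 (by
    rw [← Category.assoc, h5, Category.assoc, IsIso.hom_inv_id, Category.comp_id])

variable {k : Type u} [Field k] {K : Type u} [Field K] [IsAlgClosed K] {A : Type u} [CommRing A] [HopfAlgebra k A]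
  {r : ℕ} (f : A →ₐc[k] MonoidAlgebra k (Multiplicative (Fin r → ℤ)))

/-- Every Borel subgroup over an algebraically closed extension containing the split torus is cut out rationally. -/
theorem exists_limit_borel [Algebra.Smooth k A] (hconn : ∀ e : A, IsIdempotentElem e → e = 0 ∨ e = 1)
    (σ : Spec (CommRingCat.of K) ⟶ Spec (CommRingCat.of k)) (hG : Red.IsReductiveOver K (Red.bc σ (sp k A)))
    (hT : AGF.IsMaxTorus ((Over.pullback σ).map (spMap (f : A →ₐ[k] MonoidAlgebra k (Multiplicative (Fin r → ℤ))))))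
    {B' : Over (Spec (CommRingCat.of K))} [GrpObj B'] (iB' : B' ⟶ Red.bc σ (sp k A)) (hB' : Red.IsBorelOver K iB')
    (t' : Red.bc σ (sp k (MonoidAlgebra k (Multiplicative (Fin r → ℤ)))) ⟶ B')
    (ht' : t' ≫ iB' = (Over.pullback σ).map (spMap (f : A →ₐ[k] MonoidAlgebra k (Multiplicative (Fin r → ℤ))))) :
    ∃ (J : Ideal A) (_ : J.IsHopfIdeal k), Algebra.Smooth k (A ⧸ J) ∧ (∀ a ∈ J, f a = 0) ∧
      Red.IsBorelOver K ((Over.pullback σ).map (incl (k := k) A J)) ∧
      ∃ e : Red.bc σ (sp k (A ⧸ J)) ≅ B', e.hom ≫ iB' = (Over.pullback σ).map (incl (k := k) A J) := by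
  classical
  obtain ⟨φ0, rfl⟩ : ∃ φ0 : k →+* K, σ = Spec.map (CommRingCat.ofHom φ0) :=
    ⟨(Spec.preimage σ).hom, (Spec.map_preimage σ).symm⟩
  letI : Algebra k K := φ0.toAlgebra
  change Red.IsReductiveOver K (Red.bc (σK k K) (sp k A)) at hG
  haveI : (Over.pullback (σK k K)).IsRightAdjoint := (Over.mapPullbackAdj (σK k K)).isRightAdjoint
  haveI : Algebra.FiniteType k A := inferInstance
  obtain ⟨haff, hsm, hcn⟩ := props_bc (k := k) (K := K) hconn
  haveI := haff
  haveI := hsm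
  haveI := hcn
  let c : D K (Fin r → ℤ) ≅ Red.bc (σK k K) (sp k (MonoidAlgebra k (Multiplicative (Fin r → ℤ)))) :=
    (Grp.forget _).mapIso (torIso k K r)
  have hT' : AGF.IsMaxTorus (torA K f) :=
    Groth.isMaxTorus_of_grpIso (Iso.refl _) (torIso k K r).symm (i' := torA K f) (by
      show c.inv ≫ c.hom ≫ _ = _ ≫ 𝟙 _
      rw [Iso.inv_hom_id_assoc, Category.comp_id]
      rfl) hT
  haveI := hT'.2.1
  haveI : Infinite K := IsAlgClosed.instInfinite
  obtain ⟨S, hS0, hgen⟩ := exists_generic_finset (K := K) f hconn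
  obtain ⟨n, hn⟩ := exists_functional S hS0
  have hgn := hgen n hn
  haveI : Algebra.FinitePresentation k A := Algebra.FinitePresentation.of_finiteType.mp inferInstance
  haveI := isHopfIdeal_negIdeal ((proj k n).comp f)
  have hp := represents_negIdeal ((proj k n).comp f)
  have hB0 := isBorel_lim f hconn hG hT' hgn hp
  haveI := hB0.1
  haveI := hB0.2.1
  haveI := hB0.2.2.1
  haveI := hB'.1
  haveI := hB'.2.1
  haveI := hB'.2.2.1
  obtain ⟨-, hlB0, -, -, -⟩ := sub_props ((Over.pullback (σK k K)).map (incl (k := k) A (negIdeal ((proj k n).comp f))))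
  haveI := hlB0
  haveI := hT'.1
  obtain ⟨haT, hsT, -, -⟩ := torus_props hT'.2.2.1
  haveI := haT
  haveI := hsT
  obtain ⟨t0, -, ht0⟩ := exists_fac_sub ((Over.pullback (σK k K)).map (incl (k := k) A (negIdeal ((proj k n).comp f))))
    (torA K f) (fun g hg => (mem_lim_iff hp g).mpr (by
      obtain ⟨s, rfl⟩ := hg
      refine ((mem_lim_both_iff _ (RatCochar.hneg_invB _) _).2 ?_).1
      show orbit _ K (Ψ K A (s ≫ torMap k K r ≫ (Over.pullback (σK k K)).map (spMap (f : A →ₐ[k] _)))) =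
        push (cst k K) (Ψ K A (s ≫ torMap k K r ≫ (Over.pullback (σK k K)).map (spMap (f : A →ₐ[k] _))))
      rw [← Category.assoc, Ψ_map]
      exact orbit_pull f n _))
  obtain ⟨ν, fB, fT, hfB, hfT⟩ := borelPair_conj _ iB' hB0 hB' (torA K f) (torA K f) hT' hT' t0 ht0 (c.hom ≫ t') (by
    rw [Category.assoc, ht']
    rfl)
  have hq : Acts (torA K f) ν (fun s => s ≫ fT.hom) := fun s => by
    show (s ≫ fT.hom) ≫ torA K f = _
    rw [Category.assoc, hfT, AGFLib.Borel.conjBy_eq, ← Category.assoc, comp_conjM_pt]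
  have hqi : Acts (torA K f) ν⁻¹ (fun s => s ≫ fT.inv) := fun s => by
    have h1 : ((s ≫ fT.inv) ≫ fT.hom) ≫ torA K f = ν * ((s ≫ fT.inv) ≫ torA K f) * ν⁻¹ := hq (s ≫ fT.inv)
    rw [Category.assoc s fT.inv, Iso.inv_hom_id, Category.comp_id] at h1
    show (s ≫ fT.inv) ≫ torA K f = ν⁻¹ * (s ≫ torA K f) * ν⁻¹⁻¹
    rw [h1]
    group
  obtain ⟨φ, hφ⟩ := exists_isMon fT.hom hq
  obtain ⟨hgn', hlim⟩ := conj_generic f hconn hT' hgn ν fT.hom fT.inv hq hqi hφ
  haveI := isHopfIdeal_negIdeal ((proj k (n.comp φ)).comp f)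
  have hp' := represents_negIdeal ((proj k (n.comp φ)).comp f)
  have hB1 := isBorel_lim f hconn hG hT' hgn' hp'
  haveI := hB1.1
  haveI := hB1.2.1
  haveI := hB1.2.2.1
  obtain ⟨-, hlB1, -, -, -⟩ :=
    sub_props ((Over.pullback (σK k K)).map (incl (k := k) A (negIdeal ((proj k (n.comp φ)).comp f))))
  haveI := hlB1
  obtain ⟨g, -, hg⟩ := exists_fac_sub
    ((Over.pullback (σK k K)).map (incl (k := k) A (negIdeal ((proj k (n.comp φ)).comp f)))) iB' (by
      rintro _ ⟨x, rfl⟩
      refine (mem_lim_iff hp' _).mpr ?_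
      show Ψ K A (x ≫ iB') ∈ _
      rw [show x ≫ iB' = ν * ((x ≫ fB.inv) ≫ (Over.pullback (σK k K)).map (incl (k := k) A (negIdeal ((proj k n).comp f)))) * ν⁻¹ by
        rw [← comp_conjM_pt, Category.assoc (x ≫ fB.inv), ← AGFLib.Borel.conjBy_eq, ← hfB, Category.assoc,
          Iso.inv_hom_id_assoc]]
      exact hlim _ ((mem_lim_iff hp _).mp ⟨_, rfl⟩))
  haveI := hB'.2.2.2.2.2 _ _ g hB1.2.1 hB1.2.2.1 hB1.2.2.2.1 hB1.2.2.2.2.1 hg
  exact ⟨_, inferInstance, smooth_lim _ hp', f_kills f _ hp', hB1, (asIso g).symm, by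
    rw [Iso.symm_hom, asIso_inv, IsIso.inv_comp_eq]; exact hg.symm⟩

end Groth.Agent.SolvGrp.DynPts
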