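import Groth.Agent.SolvGrp.Reductive2
import Groth.Agent.SolvGrp.Descent

/-! Normal subgroups of reductive and semisimple groups. -/

set_option backward.isDefEq.respectTransparency false
set_option backward.isDefEq.respectTransparency.types false
set_option linter.style.haveILetI false

universe u

open CategoryTheory MonoidalCategory CartesianMonoidalCategory MonObj AlgebraicGeometry

namespace Groth.Agent.SolvGrp

open GrpSchLib GrpSchLib.Kunneth GrpSchLib.LineGroups WeilCmp.Unip AGFLib AGFLib.Gen AGFLib.BorelFixed AGFLib.BorelExist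

variable {k : Type u} [Field k] [IsAlgClosed k]

local notation "PT" => 𝟙_ (Over (Spec (CommRingCat.of k)))

variable {G N : Over (Spec (CommRingCat.of k))} [GrpObj G] [GrpObj N] (iN : N ⟶ G) [IsMonHom iN] [Mono iN]

/-- Conjugation by a point restricts to an automorphism of a normal subgroup. -/
theorem exists_conjRes (hN : AlgGrp.IsNormalHom iN) (g : PT ⟶ G) :
    ∃ c : N ≅ N, IsMonHom c.hom ∧ c.hom ≫ iN = AGF.conjBy g iN := by
  obtain ⟨c, hc⟩ := hN N (toUnit N ≫ g) (𝟙 N)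
  obtain ⟨c', hc'⟩ := hN N (toUnit N ≫ g⁻¹) (𝟙 N)
  rw [Category.id_comp] at hc hc'
  have e : c ≫ iN = AGF.conjBy g iN := hc.symm
  have e' : c' ≫ iN = AGF.conjBy g⁻¹ iN := hc'.symm
  haveI : IsMonHom (AGF.conjBy g iN) := by rw [AGFLib.Borel.conjBy_eq]; infer_instance
  refine ⟨⟨c, c', ?_, ?_⟩, AGFLib.BorelImage.isMonHom_of_comp c iN _ e, e⟩
  · rw [← cancel_mono iN, Category.assoc, e', AGFLib.Borel.conjBy_eq, reassoc_of% e, AGFLib.Borel.conjBy_eq,
      Category.assoc, AGFLib.Borel.conjM_comp, inv_mul_cancel, AGFLib.Borel.conjM_one, Category.comp_id, Category.id_comp]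
  · rw [← cancel_mono iN, Category.assoc, e, AGFLib.Borel.conjBy_eq, reassoc_of% e', AGFLib.Borel.conjBy_eq,
      Category.assoc, AGFLib.Borel.conjM_comp, mul_inv_cancel, AGFLib.Borel.conjM_one, Category.comp_id, Category.id_comp]

variable [IsAffine G.left] [Smooth G.hom] [ConnectedSpace G.left] [IsClosedImmersion iN.left] [Smooth N.hom]
  [ConnectedSpace N.left]

/-- A normal connected unipotent subgroup of a normal subgroup lies in one of the whole group. -/
theorem exists_unip_of_normal_sub (hN : AlgGrp.IsNormalHom iN)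
    {U : Over (Spec (CommRingCat.of k))} [GrpObj U] (u : U ⟶ N) [IsMonHom u] [IsClosedImmersion u.left]
    [Smooth U.hom] [ConnectedSpace U.left] (hn : AlgGrp.IsNormalHom u) (hnt : Red.HasNoSubtorus k U) :
    ∃ (D : Over (Spec (CommRingCat.of k))) (_ : GrpObj D) (iD : D ⟶ G) (_ : IsMonHom iD),
      IsClosedImmersion iD.left ∧ Smooth D.hom ∧ ConnectedSpace D.left ∧ (rangePts iD).Normal ∧
      Red.HasNoSubtorus k D ∧ rangePts (u ≫ iN) ≤ rangePts iD := by
  obtain ⟨haN, hlN, hqN, -, -⟩ := sub_props iN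
  haveI := haN
  haveI := hlN
  haveI := hqN
  haveI : IsReduced G.left := isReduced_of_smooth_field G.hom
  haveI : IsReduced N.left := isReduced_of_smooth_field N.hom
  obtain ⟨haU, hlU, -, hmU, -⟩ := sub_props u
  haveI := haU
  haveI := hlU
  haveI := hmU
  haveI : IsReduced U.left := isReduced_of_smooth_field U.hom
  obtain ⟨Γ, hΓ, hΓu, hΓmax⟩ := exists_unipContainer N
  obtain ⟨E, _, e, he, hce, hsE, -, hrE⟩ := exists_sub Γ hΓ
  haveI := he
  haveI := hce
  obtain ⟨-, hlE, hqE, -, -⟩ := sub_props e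
  haveI := hlE
  haveI := hqE
  obtain ⟨D, _, iD, hiD, hcD, hsD, hconnD, hnD, hDle, hDmax⟩ := exists_normalSub
    {z : PT ⟶ G | ∀ g : PT ⟶ G, g * z * g⁻¹ ∈ rangePts (e ≫ iN)}
    (fun g z hz g' => by rw [show g' * (g * z * g⁻¹) * g'⁻¹ = g' * g * z * (g' * g)⁻¹ by group]; exact hz _)
    (rangePts (e ≫ iN)) (ptsClosed_range _) (fun z hz => by simpa using hz 1)
  haveI := hiD
  haveI := hcD
  haveI := hsD
  haveI := hconnD
  obtain ⟨haD, hlD, -, -, hevD⟩ := sub_props iD
  haveI := haD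
  haveI := hlD
  haveI : IsReduced D.left := isReduced_of_smooth_field D.hom
  have htD : Red.HasNoSubtorus k D :=
    (hasNoSubtorus_of_isUnipPt fun d => by
      obtain ⟨y, hy⟩ := hDle ⟨d, rfl⟩
      change y ≫ e ≫ iN = d ≫ iD at hy
      refine IsUnipPt.map iD hevD ?_
      rw [← hy, ← Category.assoc]
      exact (map_isSsPt_isUnipPt iN _).2 (hΓu _ (hrE ▸ ⟨y, rfl⟩)))
  have hle := hDmax U (u ≫ iN) (by
    rintro _ ⟨x, rfl⟩ g
    obtain ⟨c, hcm, hc⟩ := exists_conjRes iN hN g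
    haveI := hcm
    haveI : IsIso c.hom.left := ((Over.forget _).mapIso c).isIso_hom
    haveI : IsClosedImmersion (u ≫ c.hom).left := inferInstanceAs (IsClosedImmersion (u.left ≫ c.hom.left))
    have hnorm : (rangePts (u ≫ c.hom)).Normal := ⟨fun z hz n => by
      obtain ⟨y, rfl⟩ := hz
      obtain ⟨y', hy'⟩ := hn _ (n ≫ c.inv) y
      refine ⟨y', ?_⟩
      show y' ≫ u ≫ c.hom = n * (y ≫ u ≫ c.hom) * n⁻¹
      rw [← Category.assoc, ← hy', MonObj.mul_comp, MonObj.mul_comp, GrpObj.inv_comp, Category.assoc n,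
        Iso.inv_hom_id, Category.comp_id, Category.assoc y]⟩
    obtain ⟨y, hy⟩ : x ≫ u ≫ c.hom ∈ rangePts e :=
      hrE.symm ▸ hΓmax U (u ≫ c.hom) inferInstance inferInstance inferInstance hnt hnorm ⟨x, rfl⟩
    refine ⟨y, ?_⟩
    show y ≫ e ≫ iN = g * (x ≫ u ≫ iN) * g⁻¹
    change y ≫ e = x ≫ u ≫ c.hom at hy
    rw [← Category.assoc, hy, Category.assoc, Category.assoc, hc, AGFLib.Borel.conjBy_eq, ← Category.assoc u,
      ← Category.assoc x, comp_conjM_pt])
  exact ⟨D, inferInstance, iD, hiD, hcD, hsD, hconnD, hnD, htD, hle⟩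

/-- A normal connected subgroup of a reductive group has no normal connected unipotent subgroup. -/
theorem eq_one_of_normal_sub (hG : Red.IsReductiveOver k G) (hN : AlgGrp.IsNormalHom iN)
    {U : Over (Spec (CommRingCat.of k))} [GrpObj U] (u : U ⟶ N) [IsMonHom u] [IsClosedImmersion u.left]
    [Smooth U.hom] [ConnectedSpace U.left] (hn : AlgGrp.IsNormalHom u) (hnt : Red.HasNoSubtorus k U) :
    Red.IsTrivialGrp U := by
  haveI : IsReduced G.left := isReduced_of_smooth_field G.hom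
  obtain ⟨haN, hlN, -, -, -⟩ := sub_props iN
  haveI := haN
  haveI := hlN
  obtain ⟨haU, hlU, -, hmU, -⟩ := sub_props u
  haveI := haU
  haveI := hlU
  haveI := hmU
  haveI : IsReduced U.left := isReduced_of_smooth_field U.hom
  obtain ⟨D, _, iD, hiD, hcD, hsD, hconnD, hnD, htD, hle⟩ := exists_unip_of_normal_sub iN hN u hn hnt
  haveI := hiD
  haveI := hcD
  haveI := hsD
  haveI := hconnD
  have htriv : Red.IsTrivialGrp D := hG.2.2.2 D iD hcD hsD hconnD (isNormalHom_of_pts iD hnD) htD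
  refine isTrivialGrp_of_pts fun x => (cancel_mono (u ≫ iN)).mp ?_
  rw [MonObj.one_comp]
  obtain ⟨d, hd⟩ := hle ⟨x, rfl⟩
  change d ≫ iD = x ≫ u ≫ iN at hd
  haveI : IsIso D.hom := htriv
  have : d = 1 := Over.OverMorphism.ext ((cancel_mono D.hom).mp ((Over.w d).trans (Over.w (1 : PT ⟶ D)).symm))
  rw [← hd, this, MonObj.one_comp]

/-- In a semisimple group a normal connected subgroup has no normal torus. -/
theorem eq_one_of_normal_torus (hG : Red.IsSemisimpleOver k G) (hN : AlgGrp.IsNormalHom iN)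
    {S : Over (Spec (CommRingCat.of k))} [GrpObj S] (u : S ⟶ N) [IsMonHom u] [IsClosedImmersion u.left]
    (hn : AlgGrp.IsNormalHom u) (hS : Red.IsTorus S) : Red.IsTrivialGrp S := by
  obtain ⟨haN, hlN, hqN, -, -⟩ := sub_props iN
  haveI := haN
  haveI := hlN
  haveI := hqN
  haveI : IsReduced G.left := isReduced_of_smooth_field G.hom
  haveI : IsReduced N.left := isReduced_of_smooth_field N.hom
  obtain ⟨haS, hsS, hcS, -⟩ := torus_props hS
  haveI := haS
  haveI := hsS
  haveI := hcS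
  haveI : IsReduced S.left := isReduced_of_smooth_field S.hom
  haveI : Mono u := mono_of_closedImmersion u
  obtain ⟨T, _, iT, hmT, hT, -⟩ := exists_maxTorus_containing u hS
  haveI := hT.2.1
  obtain ⟨hcT, hsT, -, haT, hlT, hqT, -⟩ := torus_sub hT.2.2.1 iT
  haveI := hcT
  haveI := hsT
  haveI := haT
  haveI := hlT
  haveI := hqT
  haveI : IsReduced T.left := isReduced_of_smooth_field T.hom
  obtain ⟨D, _, iD, hiD, hcD, hsD, hconnD, hnD, hDle, hDmax⟩ := exists_normalSub
    {z : PT ⟶ G | ∀ g : PT ⟶ G, g * z * g⁻¹ ∈ rangePts (iT ≫ iN)}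
    (fun g z hz g' => by rw [show g' * (g * z * g⁻¹) * g'⁻¹ = g' * g * z * (g' * g)⁻¹ by group]; exact hz _)
    (rangePts (iT ≫ iN)) (ptsClosed_range _) (fun z hz => by simpa using hz 1)
  haveI := hiD
  haveI := hcD
  haveI := hsD
  haveI := hconnD
  obtain ⟨haD, hlD, -, -, hevD⟩ := sub_props iD
  haveI := haD
  haveI := hlD
  haveI : IsReduced D.left := isReduced_of_smooth_field D.hom
  have hDt : Red.IsTorus D := isTorus_of_unip_trivial fun V _ i _ hci hsV hcV hV => by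
    haveI := hci
    haveI := hsV
    haveI := hcV
    obtain ⟨haV, hlV, -, hmV, -⟩ := sub_props i
    haveI := haV
    haveI := hlV
    haveI := hmV
    haveI : IsReduced V.left := isReduced_of_smooth_field V.hom
    haveI : Mono iD := mono_of_closedImmersion iD
    refine isTrivialGrp_of_pts fun x => (cancel_mono (i ≫ iD)).mp ?_
    rw [MonObj.one_comp]
    obtain ⟨y, hy⟩ := hDle (⟨x ≫ i, rfl⟩ : (x ≫ i) ≫ iD ∈ rangePts iD)
    change y ≫ iT ≫ iN = (x ≫ i) ≫ iD at hy
    refine eq_one_of_isSsPt_isUnipPt ?_ ((map_isSsPt_isUnipPt (i ≫ iD) x).2 (isUnipPt_of_hasNoSubtorus hV x))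
    rw [← Category.assoc, ← hy]
    exact isSsPt_of_torus hT.2.2.1 (iT ≫ iN) y
  have htD : Red.IsTrivialGrp D := hG.2 D iD hcD (isNormalHom_of_pts iD hnD) hDt
  have hle := hDmax S (u ≫ iN) (by
    rintro _ ⟨x, rfl⟩ g
    obtain ⟨c, hcm, hc⟩ := exists_conjRes iN hN g
    haveI := hcm
    haveI : IsIso c.hom.left := ((Over.forget _).mapIso c).isIso_hom
    haveI : IsClosedImmersion (u ≫ c.hom).left := inferInstanceAs (IsClosedImmersion (u.left ≫ c.hom.left))
    haveI : Mono (u ≫ c.hom) := mono_of_closedImmersion _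
    obtain ⟨T', _, iT', hmT', hT', hle'⟩ := exists_maxTorus_containing (u ≫ c.hom) hS
    obtain ⟨B, _, iB, t, hB, ht⟩ := exists_borel_maxTorus iT hT
    obtain ⟨B', _, iB', t', hB', ht'⟩ := exists_borel_maxTorus iT' hT'
    obtain ⟨n, f, f', hf, hf'⟩ := borelPair_conj iB' iB hB' hB iT' iT hT' hT t' ht' t ht
    obtain ⟨x', hx'⟩ := hn _ (n⁻¹ ≫ c.inv) x
    have h1 : n⁻¹ * (x ≫ u ≫ c.hom) * n ∈ rangePts (u ≫ c.hom) := ⟨x', by
      show x' ≫ u ≫ c.hom = _
      rw [← Category.assoc, ← hx', MonObj.mul_comp, MonObj.mul_comp]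
      simp only [GrpObj.inv_comp, _root_.inv_inv, Category.assoc, Iso.inv_hom_id, Category.comp_id]⟩
    obtain ⟨t₁, ht₁⟩ := hle' h1
    change t₁ ≫ iT' = _ at ht₁
    refine ⟨t₁ ≫ f'.hom, ?_⟩
    show (t₁ ≫ f'.hom) ≫ iT ≫ iN = g * (x ≫ u ≫ iN) * g⁻¹
    rw [← Category.assoc, Category.assoc t₁, hf', AGFLib.Borel.conjBy_eq, ← Category.assoc, ht₁, comp_conjM_pt,
      show n * (n⁻¹ * (x ≫ u ≫ c.hom) * n) * n⁻¹ = x ≫ u ≫ c.hom by group, Category.assoc, Category.assoc, hc,
      AGFLib.Borel.conjBy_eq, ← Category.assoc u, ← Category.assoc x, comp_conjM_pt])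
  refine isTrivialGrp_of_pts fun x => (cancel_mono (u ≫ iN)).mp ?_
  rw [MonObj.one_comp]
  obtain ⟨d, hd⟩ := hle ⟨x, rfl⟩
  change d ≫ iD = x ≫ u ≫ iN at hd
  haveI : IsIso D.hom := htD
  have : d = 1 := Over.OverMorphism.ext ((cancel_mono D.hom).mp ((Over.w d).trans (Over.w (1 : PT ⟶ D)).symm))
  rw [← hd, this, MonObj.one_comp]

end Groth.Agent.SolvGrp
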