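import Groth.Agent.TorusQI.MaxSubtorus

/-! The maximal subtorus of a group of multiplicative type receives tori after every base change. -/

universe u

open CategoryTheory CategoryTheory.Limits MonoidalCategory CartesianMonoidalCategory MonObj GrpObj AlgebraicGeometry
open Groth.Agent.HomRepLib Groth.Agent.DSPtsLib Groth.Agent.GrpSchLib

namespace Groth.Agent.SolvGrp.MaxSubtorus

open Groth.Agent.TorusQI

set_option backward.isDefEq.respectTransparency.types false

variable {S : Scheme.{u}} {H : Over S} [GrpObj H]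

/-- The maximal torus, universally. -/
theorem exists_maximalTorus_univ (hH : SGA3x.IsMultTypeFT H) :
    ∃ (T : Over S) (_ : GrpObj T) (i : T ⟶ H), IsMonHom i ∧ Mono i ∧ Red.IsTorus T ∧
      ∀ (S'' : Scheme.{u}) (f : S'' ⟶ S) (R : Over S'') [GrpObj R] (j : R ⟶ Red.bc f H) [IsMonHom j],
        Red.IsTorus R → ∃ l : R ⟶ Red.bc f T, l ≫ (Over.pullback f).map i = j := by
  have hl := MultTypeQI.etale_locally_diag hH
  choose S' f hf hs M hM hfg hiso using hl
  choose r k hk hcl hkill using fun s => @exists_piece S H _ (S' s) (f s) (M s) (hM s) (hfg s) (hiso s).some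
  haveI : ∀ s, IsClosedImmersion (k s).left := hcl
  haveI : ∀ s, Mono (k s) := fun s => Over.mono_of_mono_left _
  let g : (∐ fun s => (Red.bc (f s) H).left) ⟶ H.left := Sigma.desc fun s => pullback.fst H.hom (f s)
  haveI : ∀ s, Etale (f s) := hf
  haveI hget : Etale g := IsZariskiLocalAtSource.sigmaDesc (P := @Etale) fun s => inferInstanceAs (Etale (pullback.fst H.hom (f s)))
  haveI : Surjective g := ⟨fun x => by
    obtain ⟨y, hy⟩ := hs (H.hom x)
    obtain ⟨z, hz, -⟩ := Scheme.Pullback.exists_preimage_pullback (f := H.hom) (g := f (H.hom x)) x y hy.symm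
    exact ⟨Sigma.ι (fun s => (Red.bc (f s) H).left) (H.hom x) z, by
      rw [← Scheme.Hom.comp_apply, Sigma.ι_desc]; exact hz⟩⟩
  have hg : FpqcDescLib.IsCovering g := FpqcDescLib.isCovering_of_lfp g
  let j : (∐ fun s => (Red.DS (S' s) (Fin (r s) → ℤ)).left) ⟶ ∐ fun s => (Red.bc (f s) H).left :=
    Limits.Sigma.map fun s => (k s).left
  haveI : IsClosedImmersion j := DescLib.prop_sigmaMap @IsClosedImmersion _ hcl
  have hι : ∀ s, Sigma.ι (fun s => (Red.DS (S' s) (Fin (r s) → ℤ)).left) s ≫ j ≫ g =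
      (k s).left ≫ pullback.fst H.hom (f s) := fun s => by
    rw [Sigma.ι_map_assoc, Sigma.ι_desc]
  have sharp : ∀ (T : Scheme.{u}) (a : T ⟶ ∐ fun s => (Red.bc (f s) H).left),
      (∃ l, l ≫ j = a) ↔ KilledL H (a ≫ g) := by
    refine fun T a => ⟨?_, fun ha => ?_⟩
    · rintro ⟨l, rfl⟩
      rw [Category.assoc]
      refine KilledL.comp (KilledL.of_openCover (sigmaOpenCover _) fun s => ?_) l
      have h0 := (killed_iff_left _).1 ((hkill s _ (k s)).2 ⟨𝟙 _, Category.id_comp _⟩)
      rw [theta_left, ← hι] at h0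
      exact h0
    · let 𝒰 := (sigmaOpenCover fun s => (Red.bc (f s) H).left).pullback₁ a
      have key : ∀ s : S, ∃ m : pullback a (Sigma.ι (fun s => (Red.bc (f s) H).left) s) ⟶ _,
          m ≫ j = pullback.fst a (Sigma.ι (fun s => (Red.bc (f s) H).left) s) ≫ a := fun s => by
        let as := pullback.snd a (Sigma.ι (fun s => (Red.bc (f s) H).left) s)
        let Y : Over (S' s) := Over.mk (as ≫ (Red.bc (f s) H).hom)
        let y : Y ⟶ Red.bc (f s) H := Over.homMk as rfl
        have hy : Killed (theta (f s) y) := by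
          rw [killed_iff_left, theta_left]
          have h1 := ha.comp (pullback.fst a (Sigma.ι (fun s => (Red.bc (f s) H).left) s))
          rw [pullback.condition_assoc, Sigma.ι_desc] at h1
          exact h1
        obtain ⟨l, hl⟩ := (hkill s Y y).1 hy
        refine ⟨l.left ≫ Sigma.ι (fun s => (Red.DS (S' s) (Fin (r s) → ℤ)).left) s, ?_⟩
        rw [Category.assoc, Sigma.ι_map, ← Category.assoc, ← Over.comp_left, hl]
        exact pullback.condition.symm
      exact exists_fac_of_openCover j a 𝒰 key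
  obtain ⟨Z₀, i, hi, hiff⟩ := SubschemeDescent.exists_descend g hg j
    (fun T a b e ha => by rw [sharp] at ha ⊢; rwa [← e])
    (fun hpre => by rw [g.isOpenMap.preimage_closure_eq_closure_preimage g.continuous, hpre])
  haveI := hi
  let T : Over S := Over.mk (i ≫ H.hom)
  let ι' : T ⟶ H := Over.homMk i rfl
  haveI : Mono ι'.left := inferInstanceAs (Mono i)
  haveI : Mono ι' := Over.mono_of_mono_left _
  have hcov : FpqcDescLib.Covers g := FpqcDescLib.covers_of_isCovering hg
  have hchar : ∀ (Y : Over S) (h : Y ⟶ H), Killed h ↔ ∃ l, l ≫ ι' = h := by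
    refine fun Y h => ⟨fun hh => ?_, ?_⟩
    · have h1 := ((killed_iff_left h).1 hh).comp (pullback.fst h.left g)
      rw [pullback.condition] at h1
      obtain ⟨m, hm⟩ := (hiff _ _).1 ((sharp _ _).2 h1)
      obtain ⟨l, hl⟩ := exists_fac_of_covers i h.left (hcov.pullback h.left _ _ (IsPullback.of_hasPullback h.left g)) m
        (hm.trans pullback.condition.symm)
      exact ⟨Over.homMk l (by show l ≫ i ≫ H.hom = Y.hom; rw [reassoc_of% hl, Over.w h]), Over.OverMorphism.ext hl⟩
    · rintro ⟨l, rfl⟩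
      refine Killed.comp ?_ l
      have h1 := (sharp _ _).1 ((hiff _ (pullback.snd i g)).2 ⟨pullback.fst i g, pullback.condition⟩)
      rw [← pullback.condition] at h1
      refine Killed.of_covers (Over.homMk (pullback.fst i g) rfl : Over.mk (pullback.fst i g ≫ i ≫ H.hom) ⟶ T)
        (hcov.pullback i _ _ (IsPullback.of_hasPullback i g)) ((killed_iff_left _).2 h1)
  obtain ⟨e1, he1⟩ := (hchar (𝟙_ (Over S)) η[H]).1 (by
    rw [show η[H] = (1 : 𝟙_ (Over S) ⟶ H) from (by rw [Hom.one_def, toUnit_unique (toUnit _) (𝟙 _), Category.id_comp])]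
    exact Killed.one)
  have hkT : Killed ι' := (hchar T ι').2 ⟨𝟙 _, Category.id_comp _⟩
  obtain ⟨μT, hμT⟩ := (hchar (T ⊗ T) _).1 (Killed.mul (hkT.comp (fst T T)) (hkT.comp (snd T T)))
  obtain ⟨iT, hiT⟩ := (hchar T _).1 hkT.inv
  obtain ⟨strT, hmon⟩ := exists_grpObj_of_mono ι' e1 he1 μT hμT iT hiT
  haveI : IsMonHom ι' := hmon
  have htor : Red.IsTorus T := by
    let F : (∐ S') ⟶ S := Sigma.desc f
    haveI : Etale F := IsZariskiLocalAtSource.sigmaDesc (P := @Etale) hf
    haveI : Surjective F := ⟨fun x => by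
      obtain ⟨y, hy⟩ := hs x
      exact ⟨Sigma.ι S' x y, by rw [← Scheme.Hom.comp_apply, Sigma.ι_desc]; exact hy⟩⟩
    refine ⟨∐ S', F, inferInstance, inferInstance,
      (SubgroupEqLocus.flat_hcov_of_isCovering (FpqcDescLib.isCovering_of_lfp F)).2, fun z => ?_⟩
    obtain ⟨s, y, hy⟩ := (sigmaOpenCover S').exists_eq z
    refine ⟨(Sigma.ι S' s).opensRange, ⟨y, hy⟩, r s, ?_⟩
    let is : Red.bc (f s) T ⟶ Red.bc (f s) H := (Over.pullback (f s)).map ι'
    haveI : IsMonHom is := inferInstanceAs (IsMonHom ((Over.pullback (f s)).map ι'))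
    haveI : Mono is := inferInstanceAs (Mono ((Over.pullback (f s)).map ι'))
    haveI := hk s
    obtain ⟨φ, hφ⟩ := (hkill s _ is).1 ((hchar _ _).2 ⟨theta (f s) (𝟙 (Red.bc (f s) T)), by
      rw [← HomUnitLocus.theta_comp_map, Category.id_comp]⟩)
    obtain ⟨l, hl⟩ := (hchar _ _).1 ((hkill s _ (k s)).2 ⟨𝟙 _, Category.id_comp _⟩)
    obtain ⟨ψ, hψ⟩ := (theta_bijective (f s)).surjective l
    have hψ' : ψ ≫ is = k s := (theta_bijective (f s)).injective (by
      rw [HomUnitLocus.theta_comp_map, hψ, hl])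
    haveI : IsMonHom φ :=
      { one_hom := by rw [← cancel_mono (k s), Category.assoc, hφ, IsMonHom.one_hom, IsMonHom.one_hom]
        mul_hom := by
          rw [← cancel_mono (k s), Category.assoc, Category.assoc, hφ, IsMonHom.mul_hom is, IsMonHom.mul_hom (k s),
            MonoidalCategory.tensorHom_comp_tensorHom_assoc, hφ] }
    let ei : Red.bc (f s) T ≅ Red.DS (S' s) (Fin (r s) → ℤ) :=
      ⟨φ, ψ, by rw [← cancel_mono is, Category.assoc, hψ', hφ, Category.id_comp],
        by rw [← cancel_mono (k s), Category.assoc, hφ, hψ', Category.id_comp]⟩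
    haveI : IsMonHom ei.hom := inferInstanceAs (IsMonHom φ)
    let v := (Sigma.ι S' s).isoOpensRange.inv
    obtain ⟨e₁⟩ := MultTypeBC.bc_bc v (f s) T
    obtain ⟨e₂⟩ := MultTypeBC.bc_congr (show (Sigma.ι S' s).opensRange.ι ≫ F = v ≫ f s by
      rw [← Scheme.Hom.isoOpensRange_inv_comp, Category.assoc, Sigma.ι_desc]) T
    obtain ⟨e₃⟩ := MultTypeBC.bc_iso v (Grp.mkIso' ei)
    obtain ⟨e₄⟩ := MultTypeBC.bc_DS v (Fin (r s) → ℤ)
    exact ⟨e₂ ≪≫ e₁.symm ≪≫ e₃ ≪≫ e₄⟩
  refine ⟨T, strT, ι', inferInstance, inferInstance, htor, fun S'' f R _ jR _ hR => ?_⟩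
  obtain ⟨l, hl⟩ := (hchar _ _).1 (killed_of_torus f hR jR (𝟙 R))
  obtain ⟨ψ, hψ⟩ := (theta_bijective f).surjective l
  exact ⟨ψ, (theta_bijective f).injective (by rw [HomUnitLocus.theta_comp_map, hψ, hl, Category.id_comp])⟩

end Groth.Agent.SolvGrp.MaxSubtorus
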