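import Groth.Agent.SolvGrp.GrothBC

/-! Closed subgroups of points containing the Cartan subgroups defined over the ground field. -/

set_option backward.isDefEq.respectTransparency false
set_option backward.isDefEq.respectTransparency.types false
set_option linter.style.haveILetI false
set_option synthInstance.maxHeartbeats 1000000

universe u

open CategoryTheory MonoidalCategory CartesianMonoidalCategory MonObj GrpObj AlgebraicGeometry

noncomputable section

namespace Groth.Agent.SolvGrp.Groth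

open GrpSchLib GrpSchLib.Kunneth GrpSchLib.LineGroups WeilCmp.Unip AGFLib AGFLib.Gen AGFLib.BorelFixed AGFLib.BorelExist

section Conn

variable {K : Type u} [Field K] [IsAlgClosed K]

local notation "PK" => 𝟙_ (Over (Spec (CommRingCat.of K)))

/-- A connected group mapping into a closed subgroup lands in its subgroups of finite index. -/
theorem rangePts_le_of_cosets {G E D : Over (Spec (CommRingCat.of K))} [GrpObj G] [GrpObj E] [GrpObj D]
    [LocallyOfFiniteType G.hom] [IsAffine G.left] [IsAffine E.left] [Smooth E.hom] [ConnectedSpace E.left]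
    (e : E ⟶ G) [IsMonHom e] (i : D ⟶ G) [IsMonHom i] [IsClosedImmersion i.left]
    (S : Set (PK ⟶ G)) (hS : S.Finite) (hcov : ∀ x : PK ⟶ E, ∃ s ∈ S, s⁻¹ * (x ≫ e) ∈ rangePts i) :
    rangePts e ≤ rangePts i := by
  classical
  obtain ⟨-, hlD, hqD, -, -⟩ := sub_props i
  haveI := hlD
  haveI := hqD
  haveI : LocallyOfFiniteType E.hom := inferInstance
  let Δ : Subgroup (PK ⟶ E) :=
    { carrier := {x | x ≫ e ∈ rangePts i}
      one_mem' := by show (1 : PK ⟶ E) ≫ e ∈ rangePts i; rw [MonObj.one_comp]; exact one_mem _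
      mul_mem' := fun {a b} ha hb => by show (a * b) ≫ e ∈ rangePts i; rw [MonObj.mul_comp]; exact mul_mem ha hb
      inv_mem' := fun {a} ha => by show a⁻¹ ≫ e ∈ rangePts i; rw [GrpObj.inv_comp]; exact inv_mem ha }
  let rep : (PK ⟶ G) → (PK ⟶ E) := fun s =>
    if h : ∃ x : PK ⟶ E, s⁻¹ * (x ≫ e) ∈ rangePts i then h.choose else 1
  have h := eq_top_of_finite Δ ((ptsClosed_range i).preimage e) (rep '' S) (hS.image _) fun x => by
    obtain ⟨s, hs, hsx⟩ := hcov x
    refine ⟨rep s, ⟨s, hs, rfl⟩, ?_⟩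
    have hex : ∃ y : PK ⟶ E, s⁻¹ * (y ≫ e) ∈ rangePts i := ⟨x, hsx⟩
    have hr : s⁻¹ * (rep s ≫ e) ∈ rangePts i := by
      simp only [rep, dif_pos hex]
      exact hex.choose_spec
    show ((rep s)⁻¹ * x) ≫ e ∈ rangePts i
    rw [MonObj.mul_comp, GrpObj.inv_comp,
      show (rep s ≫ e)⁻¹ * (x ≫ e) = (s⁻¹ * (rep s ≫ e))⁻¹ * (s⁻¹ * (x ≫ e)) by group]
    exact mul_mem (inv_mem hr) hsx
  rintro _ ⟨x, rfl⟩
  exact (h ▸ Subgroup.mem_top x : x ∈ Δ)

end Conn

variable {k : Type u} [Field k] {K : Type u} [Field K] [IsAlgClosed K] (φ : k →+* K)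

local notation "σ" => Spec.map (CommRingCat.ofHom φ)
local notation "PK" => 𝟙_ (Over (Spec (CommRingCat.of K)))

variable {G : Over (Spec (CommRingCat.of k))} [GrpObj G]

/-- A subgroup of points containing the points of every Cartan subgroup defined over `k`. -/
def ContainsCartans (Γ : Subgroup (PK ⟶ Red.bc σ G)) : Prop :=
  ∀ (T : Over (Spec (CommRingCat.of k))) [GrpObj T] (iT : T ⟶ G) [IsMonHom iT] [Mono iT], Red.IsTorus T →
    AGF.IsMaxTorus ((Over.pullback σ).map iT) →
      ∀ (C : Over (Spec (CommRingCat.of k))) [GrpObj C] (c : C ⟶ G), Red.IsCentralizerOf iT c →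
        ∀ x : PK ⟶ Red.bc σ C, x ≫ (Over.pullback σ).map c ∈ Γ

/-- The groups whose Cartan subgroups generate. -/
def Generated (G : Over (Spec (CommRingCat.of k))) [GrpObj G] : Prop :=
  ∀ Γ : Subgroup (PK ⟶ Red.bc σ G), PtsClosed (Γ : Set (PK ⟶ Red.bc σ G)) → ContainsCartans φ Γ → Γ = ⊤

variable [IsAffine G.left] [Smooth G.hom] [ConnectedSpace G.left]

/-- A subgroup containing a maximal torus lies in every subgroup of points containing the Cartan subgroups. -/
theorem mem_of_generated {Γ : Subgroup (PK ⟶ Red.bc σ G)} (hΓ : PtsClosed (Γ : Set (PK ⟶ Red.bc σ G)))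
    (hcart : ContainsCartans φ Γ) {C : Over (Spec (CommRingCat.of k))} [GrpObj C] (c : C ⟶ G) [IsMonHom c]
    [IsClosedImmersion c.left] [Smooth C.hom] [ConnectedSpace C.left] (hmax : ContainsMax φ c)
    (hgen : Generated φ C) (x : PK ⟶ Red.bc σ C) : x ≫ (Over.pullback σ).map c ∈ Γ := by
  let F := Over.pullback σ
  haveI : IsAffine C.left := isAffine_of_isAffineHom c.left
  haveI : Mono c := (Over.forget _).mono_of_mono_map (inferInstanceAs (Mono c.left))
  haveI : F.IsRightAdjoint := (Over.mapPullbackAdj σ).isRightAdjoint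
  obtain ⟨hA, hS, hC⟩ := Frob.bcG_props φ (G := G)
  haveI := hA
  haveI := hS
  haveI := hC
  obtain ⟨hA', hS', hC'⟩ := Frob.bcG_props φ (G := C)
  haveI := hA'
  haveI := hS'
  haveI := hC'
  let Δ : Subgroup (PK ⟶ Red.bc σ C) :=
    { carrier := {x | x ≫ F.map c ∈ Γ}
      one_mem' := by show (1 : PK ⟶ Red.bc σ C) ≫ F.map c ∈ Γ; rw [MonObj.one_comp]; exact one_mem _
      mul_mem' := fun {a b} ha hb => by show (a * b) ≫ F.map c ∈ Γ; rw [MonObj.mul_comp]; exact mul_mem ha hb
      inv_mem' := fun {a} ha => by show a⁻¹ ≫ F.map c ∈ Γ; rw [GrpObj.inv_comp]; exact inv_mem ha }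
  obtain ⟨W, _, iW, f, hW, hf⟩ := hmax
  haveI := hW.1
  haveI := hW.2.1
  haveI : IsMonHom f := SekSuwaLib.CharLift.isMonHom_of_mul f fun {Y} a b => by
    rw [← cancel_mono (F.map c), Category.assoc, hf, MonObj.mul_comp, MonObj.mul_comp, Category.assoc, Category.assoc, hf]
  haveI : Mono f := mono_of_mono_fac hf
  have hfmax : AGF.IsMaxTorus f := ⟨inferInstance, inferInstance, hW.2.2.1, fun W' _ m _ _ e hW' he => by
    haveI : Mono (m ≫ F.map c) := mono_comp m _
    exact hW.2.2.2 W' (m ≫ F.map c) e hW' (by rw [← Category.assoc, he, hf])⟩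
  have key : ContainsCartans φ Δ := by
    intro T _ t _ _ hT htmax Z _ z hz y
    haveI := hz.1
    haveI : Mono (t ≫ c) := mono_comp t c
    obtain ⟨x₀, e, he⟩ := Groth.Agent.S3901.result K (Red.bc σ C) (F.obj T) W (F.map t) f htmax hfmax
    have htc : AGF.IsMaxTorus (F.map (t ≫ c)) :=
      isMaxTorus_of_conj (isTorus_bc σ hT) hW (x₀ ≫ F.map c) e (by
        rw [← hf, ← Category.assoc, he]
        simp only [AGF.conjBy, MonObj.mul_comp, GrpObj.inv_comp, Category.assoc, Functor.map_comp]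
        rfl)
    haveI : IsAffineHom G.hom := isAffineHom_of_isAffine G.hom
    obtain ⟨Z', _, z', hz', -, -⟩ := Groth.Agent.S5247.result T G (TorusQI.isMultTypeFT_of_isTorus hT) inferInstance
      inferInstance (t ≫ c)
    haveI := hz'.1
    obtain ⟨l, hl⟩ := (hz'.2.2 Z (z ≫ c)).mpr fun X a h => by
      have h1 := congrArg (· ≫ c) ((hz.2.2 Z z).mp ⟨𝟙 Z, Category.id_comp z⟩ X a h)
      simpa only [MonObj.mul_comp, Category.assoc] using h1
    show (y ≫ F.map z) ≫ F.map c ∈ Γ
    rw [Category.assoc, ← F.map_comp, ← hl, F.map_comp, ← Category.assoc]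
    exact hcart T (t ≫ c) hT htc Z' z' hz' (y ≫ F.map l)
  have h := hgen Δ (hΓ.preimage _) key
  exact (h ▸ Subgroup.mem_top x : x ∈ Δ)

/-- The centre lies in every Cartan subgroup. -/
theorem exists_fac_centre {T C Z : Over (Spec (CommRingCat.of k))} [GrpObj T] [GrpObj C] [GrpObj Z] {iT : T ⟶ G}
    {c : C ⟶ G} (hc : Red.IsCentralizerOf iT c) {i : Z ⟶ G} (hZ : Red.IsCentre i) : ∃ l : Z ⟶ C, l ≫ c = i :=
  (hc.2.2 Z i).mpr fun X a h => by
    have h1 := (hZ.2.2 Z i).mp ⟨𝟙 Z, Category.id_comp i⟩ X a (h ≫ iT)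
    simpa only [Category.comp_id] using h1

end Groth.Agent.SolvGrp.Groth
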