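import Groth.Agent.SolvGrp.EigenAdd
import Groth.Agent.SolvGrp.Reductive
import Groth.Agent.SolvGrp.Reductive2
import Groth.Agent.SolvGrp.GenStepLib
import Groth.Agent.SolvGrp.Union
import Groth.Agent.SolvGrp.Bridge

/-! A solvable subgroup containing a maximal torus and forming a big cell with a unipotent one is a Borel subgroup. -/

set_option backward.isDefEq.respectTransparency false
set_option backward.isDefEq.respectTransparency.types false
set_option linter.style.haveILetI false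
set_option maxHeartbeats 1000000

universe u

open CategoryTheory MonoidalCategory CartesianMonoidalCategory MonObj AlgebraicGeometry

namespace Groth.Agent.SolvGrp

open GrpSchLib GrpSchLib.Kunneth GrpSchLib.LineGroups GrpSchLib.SplitTorusPoints WeilCmp.Unip AGFLib AGFLib.Gen
  AGFLib.BorelFixed AGFLib.BorelExist

variable {k : Type u} [Field k] [IsAlgClosed k]

local notation "PT" => 𝟙_ (Over (Spec (CommRingCat.of k)))

/-- A closed subgroup containing the points of a neighbourhood of the identity is everything. -/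
theorem mem_of_open_subset {X : Over (Spec (CommRingCat.of k))} [GrpObj X] [IsAffine X.left] [Smooth X.hom]
    [ConnectedSpace X.left] (Γ : Subgroup (PT ⟶ X)) (hΓ : PtsClosed (Γ : Set (PT ⟶ X))) (Z : Set X.left)
    (hZ : IsClosed Z) (h1 : cp (1 : PT ⟶ X) ∉ Z) (h : ∀ x : PT ⟶ X, cp x ∉ Z → x ∈ Γ) (x : PT ⟶ X) : x ∈ Γ := by
  haveI : IrreducibleSpace X.left := Groth.Agent.S0348.result k X
  obtain ⟨Y, hY, hmem⟩ := hΓ
  have hcov : Y ∪ Z = Set.univ := eq_univ_of_forall_cp (hY.union hZ) fun t => by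
    by_cases ht : cp t ∈ Z
    · exact Or.inr ht
    · exact Or.inl ((hmem t).mp (h t ht))
  rcases (isPreirreducible_iff_isClosed_union_isClosed.mp PreirreducibleSpace.isPreirreducible_univ Y Z hY hZ hcov.ge) with h2 | h2
  · exact (hmem x).mpr (h2 (Set.mem_univ _))
  · exact absurd (h2 (Set.mem_univ _)) h1

variable {G : Over (Spec (CommRingCat.of k))} [GrpObj G] {r : ℕ}

/-- A self-map of the points of the torus induced by conjugation. -/
def Acts (a : D k (Fin r → ℤ) ⟶ G) (ν : PT ⟶ G) (σ : (PT ⟶ D k (Fin r → ℤ)) → (PT ⟶ D k (Fin r → ℤ))) : Prop :=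
  ∀ s, σ s ≫ a = ν * (s ≫ a) * ν⁻¹

theorem Acts.comp {a : D k (Fin r → ℤ) ⟶ G} {ν ν' : PT ⟶ G} {σ σ'} (h : Acts a ν σ) (h' : Acts a ν' σ') :
    Acts a (ν * ν') (σ ∘ σ') := fun s => by
  show σ (σ' s) ≫ a = _
  rw [h, h']
  group

theorem Acts.iterate {a : D k (Fin r → ℤ) ⟶ G} {ν : PT ⟶ G} {σ} (h : Acts a ν σ) : ∀ n : ℕ, Acts a (ν ^ n) (σ^[n])
  | 0 => fun s => by simp
  | n + 1 => by
    rw [pow_succ', Function.iterate_succ']
    exact h.comp (h.iterate n)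

variable [IsAffine G.left] [Smooth G.hom]

theorem Acts.finite_order {a : D k (Fin r → ℤ) ⟶ G} [IsMonHom a] [Mono a] {ν : PT ⟶ G} {σ} (h : Acts a ν σ) :
    ∃ e : ℕ, e ≠ 0 ∧ ∀ s, σ^[e] s = s := by
  classical
  haveI : IsReduced G.left := isReduced_of_smooth_field G.hom
  obtain ⟨R, hR, hN⟩ := finite_normalizer (G := G) a
    (isTorus_of_iso (SplitTorusPoints.isSplitTorusWith_D (k := k) (M := Fin r → ℤ)).some (TorusQI.isTorus_DS r))
  have hsel : ∀ j : ℕ, ∃ x ∈ R, ∀ s ∈ rangePts a, Commute ((ν ^ j)⁻¹ * x⁻¹) s := fun j => by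
    refine hN _ ?_
    rintro _ ⟨s, rfl⟩
    exact ⟨σ^[j] s, by
      show (σ^[j] s) ≫ a = ((ν ^ j)⁻¹)⁻¹ * (s ≫ a) * (ν ^ j)⁻¹
      rw [_root_.inv_inv]
      exact h.iterate j s⟩
  choose x hx hxc using hsel
  haveI : Finite R := hR.to_subtype
  obtain ⟨i, j, hij, heq⟩ := Finite.exists_ne_map_eq_of_infinite (fun j : ℕ => (⟨x j, hx j⟩ : R))
  wlog hlt : i < j generalizing i j
  · exact this j i hij.symm heq.symm (by omega)
  have hxe : x i = x j := congrArg Subtype.val heq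
  refine ⟨j - i, by omega, fun s => (cancel_mono a).mp ?_⟩
  rw [h.iterate (j - i) s]
  have h1 : Commute (ν ^ (j - i)) (s ≫ a) := by
    have hc1 := hxc i _ (⟨s, rfl⟩ : s ≫ a ∈ rangePts a)
    have hc2 := (hxc j _ (⟨s, rfl⟩ : s ≫ a ∈ rangePts a)).inv_left
    have h3 := hc1.mul_left hc2
    rwa [hxe, mul_inv_rev, _root_.inv_inv, _root_.inv_inv, _root_.mul_assoc, inv_mul_cancel_left,
      show (ν ^ i)⁻¹ * ν ^ j = ν ^ (j - i) by
        rw [inv_mul_eq_iff_eq_mul, ← pow_add, Nat.add_sub_cancel' hlt.le]] at h3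
  rw [h1.eq, mul_inv_cancel_right]

/-- A morphism of the torus given by conjugation acts on the characters. -/
theorem exists_isMon {a : D k (Fin r → ℤ) ⟶ G} [IsMonHom a] [Mono a] {ν : PT ⟶ G}
    (q : D k (Fin r → ℤ) ⟶ D k (Fin r → ℤ)) (h : Acts a ν (fun s => s ≫ q)) :
    ∃ φ : (Fin r → ℤ) →+ (Fin r → ℤ), TorusLattice.IsMon (fun s : PT ⟶ D k (Fin r → ℤ) => s ≫ q) φ := by
  have hmul : ∀ s t : PT ⟶ D k (Fin r → ℤ), (s * t) ≫ q = (s ≫ q) * (t ≫ q) := fun s t => (cancel_mono a).mp (by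
    rw [h (s * t), MonObj.mul_comp, MonObj.mul_comp, h s, h t]; group)
  have hone : (1 : PT ⟶ D k (Fin r → ℤ)) ≫ q = 1 := by
    have h1 := hmul 1 1
    rw [_root_.mul_one] at h1
    exact mul_eq_left.mp h1.symm
  have hex : ∀ x : Fin r → ℤ, ∃ y, ev q (mon k x) = mon k y := fun x => TorusLattice.exists_eq_mon _
    (by rw [vl_ev, hone, TorusLattice.vl_mon_one])
    (fun s t => by rw [vl_ev, vl_ev, vl_ev, hmul, TorusLattice.vl_mon_mul])
  choose φ hφ using hex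
  exact ⟨AddMonoidHom.mk' φ fun x y => TorusLattice.mon_injective (k := k)
    (by rw [← hφ, mon_add, map_mul, hφ, hφ, ← mon_add]), ⟨fun s x => by
      show vl (s ≫ q) (mon k x) = vl s (mon k (φ x))
      rw [← vl_ev, hφ]⟩⟩

variable [ConnectedSpace G.left]

/-- If a torus normalises a nontrivial unipotent group lying in two solvable groups forming a big cell, then the
group is not reductive. -/
theorem unip_inter_trivial (hG : Red.IsReductiveOver k G) (a : D k (Fin r → ℤ) ⟶ G) [IsMonHom a]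
    (hT : AGF.IsMaxTorus a) {B0 B1 W : Over (Spec (CommRingCat.of k))} [GrpObj B0] [GrpObj B1] [GrpObj W]
    (i0 : B0 ⟶ G) [IsMonHom i0] (h0 : Red.IsBorelOver k i0) (i1 : B1 ⟶ G) [IsMonHom i1]
    (h1 : Red.IsBorelOver k i1) (hT0 : rangePts a ≤ rangePts i0) (hT1 : rangePts a ≤ rangePts i1)
    (U P' : Subgroup (PT ⟶ G)) (hU1 : U ≤ rangePts i1) (hP0 : P' ≤ rangePts i0) (hTP : rangePts a ≤ P')
    (hTU : ∀ s ∈ rangePts a, ∀ u ∈ U, s * u * s⁻¹ ∈ U) (hinter : ∀ x ∈ U, x ∈ P' → x = 1)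
    (Z : Set G.left) (hZ : IsClosed Z) (hZ1 : cp (1 : PT ⟶ G) ∉ Z)
    (hcell : ∀ g : PT ⟶ G, cp g ∉ Z → ∃ u ∈ U, u⁻¹ * g ∈ P')
    (w : W ⟶ G) [IsMonHom w] [IsClosedImmersion w.left] [Smooth W.hom] [ConnectedSpace W.left]
    (hu : ∀ x : PT ⟶ W, IsUnipPt (x ≫ w)) (hW0 : rangePts w ≤ rangePts i0) (hW1 : rangePts w ≤ rangePts i1)
    (m : Fin r → ℤ) (hm : ∀ s : PT ⟶ D k (Fin r → ℤ), vl s (mon k m) = 1 → ∀ x : PT ⟶ W, Commute (x ≫ w) (s ≫ a))
    (x : PT ⟶ W) : x ≫ w = 1 := by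
  classical
  haveI : IsReduced G.left := isReduced_of_smooth_field G.hom
  obtain ⟨haW, hlW, -, hmW, hevW⟩ := sub_props w
  haveI := haW
  haveI := hlW
  haveI : IsReduced W.left := isReduced_of_smooth_field W.hom
  have hTt : Red.IsTorus (D k (Fin r → ℤ)) := hT.2.2.1
  haveI := hT.2.1
  obtain ⟨haT, hsT, hconnT, -⟩ := torus_props hTt
  haveI := haT
  haveI := hsT
  haveI := hconnT
  haveI : IsReduced (D k (Fin r → ℤ)).left := isReduced_of_smooth_field (D k (Fin r → ℤ)).hom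
  by_cases hm0 : m = 0
  · -- then the group commutes with the torus
    have hc : x ≫ w ∈ rangePts a := mem_torus_of_commute hG a hT _ (by
      rintro _ ⟨s, rfl⟩
      exact hm s (by rw [hm0, mon_zero, map_one]) x)
    obtain ⟨s, hs⟩ := hc
    change s ≫ a = x ≫ w at hs
    exact eq_one_of_isSsPt_isUnipPt (hs ▸ isSsPt_of_torus hTt a s) (hu x)
  -- the singular subtorus
  let χ : (PT ⟶ D k (Fin r → ℤ)) →* k :=
    { toFun := fun s => vl s (mon k m)
      map_one' := TorusLattice.vl_mon_one m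
      map_mul' := fun s t => TorusLattice.vl_mon_mul s t m }
  obtain ⟨S, _, i, hi, hci, hsS, hconnS, haS, hSle, R, hR, -, hcov⟩ := exists_connSub (G := D k (Fin r → ℤ)) χ.ker
    (by
      convert ptsClosed_zero ({mon k m - 1} : Set (Fn (D k (Fin r → ℤ)))) using 1
      ext g
      simp only [SetLike.mem_coe, MonoidHom.mem_ker, Set.mem_singleton_iff, forall_eq, Set.mem_setOf_eq, map_sub,
        map_one, sub_eq_zero]
      rfl)
  haveI := hi
  haveI := hci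
  haveI := hsS
  haveI := hconnS
  haveI := haS
  obtain ⟨-, hlS, hqS, hmS, hevS⟩ := sub_props i
  haveI := hlS
  haveI := hmS
  haveI : IsReduced S.left := isReduced_of_smooth_field S.hom
  have hSt : Red.IsTorus S := isTorus_of_pts S
    (fun g => IsSsPt.map i hevS ((torus_props hTt).2.2.2 _))
    fun g h => (cancel_mono i).mp (by rw [MonObj.mul_comp, MonObj.mul_comp, (torus_commute hTt _ _).eq])
  -- a common exponent
  obtain ⟨N, hN0, hN⟩ : ∃ N : ℕ, N ≠ 0 ∧ ∀ s, vl s (mon k m) = 1 → s ^ N ∈ rangePts i := by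
    haveI : Finite R := hR.to_subtype
    refine ⟨(Nat.card R + 1).factorial, Nat.factorial_ne_zero _, fun s hs => ?_⟩
    have hsk : s ∈ χ.ker := MonoidHom.mem_ker.mpr hs
    have hex : ∀ j : Fin (Nat.card R + 1), ∃ y ∈ R, y⁻¹ * s ^ (j : ℕ) ∈ rangePts i := fun j =>
      hcov _ (χ.ker.pow_mem hsk _)
    choose y hy hyi using hex
    have hninj : ¬ Function.Injective (fun j : Fin (Nat.card R + 1) => (⟨y j, hy j⟩ : R)) := fun hinj => by
      have := Nat.card_le_card_of_injective _ hinj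
      simp at this
    obtain ⟨j, l, he, hne⟩ := Function.not_injective_iff.mp hninj
    wlog hlt : (j : ℕ) < l generalizing j l
    · exact this l j he.symm hne.symm (by
        have : (j : ℕ) ≠ l := fun h => hne (Fin.ext h)
        omega)
    have he' : y j = y l := congrArg Subtype.val he
    have h2 := mul_mem (inv_mem (hyi j)) (hyi l)
    rw [he', mul_inv_rev, _root_.inv_inv, _root_.mul_assoc, mul_inv_cancel_left,
      show (s ^ (j : ℕ))⁻¹ * s ^ (l : ℕ) = s ^ ((l : ℕ) - j) by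
        rw [inv_mul_eq_iff_eq_mul, ← pow_add, Nat.add_sub_cancel' hlt.le]] at h2
    obtain ⟨q, hq⟩ := Nat.dvd_factorial (show 0 < (l : ℕ) - j by omega) (show (l : ℕ) - j ≤ Nat.card R + 1 by omega)
    rw [hq, pow_mul]
    exact (rangePts i).pow_mem h2 q
  let iS : S ⟶ G := i ≫ a
  haveI : IsMonHom iS := inferInstanceAs (IsMonHom (i ≫ a))
  haveI : Mono iS := mono_comp i a
  -- the centraliser of the singular torus
  haveI : IsAffineHom G.hom := isAffineHom_of_isAffine G.hom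
  obtain ⟨C, _, c, hc, -, -⟩ := Groth.Agent.S5247.result S G (TorusQI.isMultTypeFT_of_isTorus hSt) inferInstance
    inferInstance iS
  haveI := hc.1
  haveI := hc.2.1
  obtain ⟨hclC, hsC, haC⟩ := centralizer_props hSt hc
  haveI := hclC
  haveI := hsC
  haveI := haC
  haveI := connectedSpace_centralizer hSt hc
  haveI : IsReduced C.left := isReduced_of_smooth_field C.hom
  obtain ⟨-, hlC, hqC, -, -⟩ := sub_props c
  haveI := hlC
  haveI := hqC
  have hmemC : ∀ g, g ∈ rangePts c ↔ ∀ s ∈ rangePts iS, Commute g s := mem_centralizer_pts iS hSt hc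
  have hC : Red.IsReductiveOver k C := ⟨inferInstance, inferInstance, inferInstance,
    fun V _ v _ hv hsV hcV hnV htV => by
      haveI := hv
      haveI := hsV
      haveI := hcV
      exact eq_one_of_normal_centralizer hG iS hSt c hc v hnV htV⟩
  obtain ⟨aC, hmaC, haCc⟩ := exists_fac_sub c a (by
    rintro _ ⟨s, rfl⟩
    refine (hmemC _).mpr ?_
    rintro _ ⟨t, rfl⟩
    show Commute (s ≫ a) (t ≫ i ≫ a)
    rw [← Category.assoc]
    exact (torus_commute hTt s (t ≫ i)).map (ptsHom a))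
  haveI := hmaC
  have haCM : AGF.IsMaxTorus aC := Groth.isMaxTorus_of_fac hT aC c haCc
  haveI := haCM.2.1
  have hiS0 : rangePts iS ≤ rangePts i0 := (rangePts_comp a i).trans hT0
  have hiS1 : rangePts iS ≤ rangePts i1 := (rangePts_comp a i).trans hT1
  obtain ⟨D0, _, d0, hd0, hB0, hD0⟩ := exists_borel_cent i0 h0 iS hSt hiS0 c hmemC
  obtain ⟨D1, _, d1, hd1, hB1, hD1⟩ := exists_borel_cent i1 h1 iS hSt hiS1 c hmemC
  haveI := hd0
  haveI := hd1
  haveI := hB0.2.1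
  haveI := hB1.2.1
  haveI : Mono d0 := mono_of_closedImmersion d0
  haveI : Mono d1 := mono_of_closedImmersion d1
  obtain ⟨-, hlD0, hqD0, -, -⟩ := sub_props d0
  haveI := hlD0
  haveI := hqD0
  obtain ⟨-, hlD1, -, -, -⟩ := sub_props d1
  haveI := hlD1
  obtain ⟨wC, hmwC, hwC⟩ := exists_fac_sub c w (by
    rintro _ ⟨y, rfl⟩
    refine (hmemC _).mpr ?_
    rintro _ ⟨t, rfl⟩
    show Commute (y ≫ w) (t ≫ i ≫ a)
    rw [← Category.assoc]
    exact hm _ (MonoidHom.mem_ker.mp (hSle ⟨t, rfl⟩)) y)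
  haveI := hmwC
  have hwd0 : ∀ y : PT ⟶ W, y ≫ wC ∈ rangePts d0 := fun y => (hD0 _).mpr (by
    rw [Category.assoc, hwC]; exact hW0 ⟨y, rfl⟩)
  have hwd1 : ∀ y : PT ⟶ W, y ≫ wC ∈ rangePts d1 := fun y => (hD1 _).mpr (by
    rw [Category.assoc, hwC]; exact hW1 ⟨y, rfl⟩)
  have had0 : rangePts aC ≤ rangePts d0 := by
    rintro _ ⟨s, rfl⟩
    refine (hD0 _).mpr ?_
    show (s ≫ aC) ≫ c ∈ rangePts i0
    rw [Category.assoc, haCc]
    exact hT0 ⟨s, rfl⟩
  have had1 : rangePts aC ≤ rangePts d1 := by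
    rintro _ ⟨s, rfl⟩
    refine (hD1 _).mpr ?_
    show (s ≫ aC) ≫ c ∈ rangePts i1
    rw [Category.assoc, haCc]
    exact hT1 ⟨s, rfl⟩
  -- if the two Borel subgroups coincide they are everything
  have hsame : rangePts d1 ≤ rangePts d0 → ∀ g : PT ⟶ C, g ∈ rangePts d0 := by
    intro hle
    refine mem_of_open_subset (rangePts d0) (ptsClosed_range d0) (c.left ⁻¹' Z) (hZ.preimage c.left.continuous) ?_ ?_
    · show cp ((1 : PT ⟶ C) ≫ c) ∉ Z
      rwa [MonObj.one_comp]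
    intro g hg
    obtain ⟨u, hu', hp⟩ := hcell (g ≫ c) hg
    have hucomm : ∀ t ∈ rangePts iS, Commute u t := by
      intro t ht
      have htT : t ∈ rangePts a := rangePts_comp a i ht
      have hgt : Commute (g ≫ c) t := (hmemC _).mp ⟨g, rfl⟩ t ht
      have h3 : u⁻¹ * (t * u * t⁻¹) = 1 := by
        refine hinter _ (mul_mem (inv_mem hu') (hTU t htT u hu')) ?_
        have e : u⁻¹ * (t * u * t⁻¹) = (u⁻¹ * (g ≫ c)) * (t * (u⁻¹ * (g ≫ c)) * t⁻¹)⁻¹ := by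
          calc u⁻¹ * (t * u * t⁻¹) = u⁻¹ * ((g ≫ c) * ((g ≫ c)⁻¹ * t)) * u * t⁻¹ := by group
            _ = u⁻¹ * ((g ≫ c) * (t * (g ≫ c)⁻¹)) * u * t⁻¹ := by rw [hgt.inv_left.eq]
            _ = _ := by group
        rw [e]
        exact mul_mem hp (inv_mem (mul_mem (mul_mem (hTP htT) hp) (inv_mem (hTP htT))))
      exact (mul_inv_eq_iff_eq_mul.mp (inv_mul_eq_one.mp h3).symm).symm
    obtain ⟨u', hu''⟩ := (hmemC u).mpr hucomm
    change u' ≫ c = u at hu''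
    have hu1 : u' ∈ rangePts d0 := hle ((hD1 _).mpr (by rw [hu'']; exact hU1 hu'))
    have hp0 : u'⁻¹ * g ∈ rangePts d0 := (hD0 _).mpr (by
      rw [MonObj.mul_comp, GrpObj.inv_comp, hu'']; exact hP0 hp)
    have := mul_mem hu1 hp0
    rwa [mul_inv_cancel_left] at this
  -- conclude with the theorem of Chevalley
  have key := eq_one_of_unip hC d0 hB0 aC haCM wC (fun y => IsUnipPt.map w hevW (hu y)) ?_ x
  · rw [← hwC, ← Category.assoc, key, MonObj.one_comp]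
  intro g hg y
  by_cases hle : rangePts d1 ≤ rangePts d0
  · exact hsame hle _
  -- the conjugate Borel subgroup through the torus
  haveI : IsMonHom (AGF.conjBy g d0) := by rw [AGFLib.Borel.conjBy_eq]; infer_instance
  have hBg := AGFLib.Borel.isBorel_conj d0 hB0 g
  haveI := hBg.2.1
  obtain ⟨-, hlg, -, -, -⟩ := sub_props (AGF.conjBy g d0)
  haveI := hlg
  obtain ⟨t0, -, ht0⟩ := exists_fac_sub d0 aC had0
  obtain ⟨t1, -, ht1⟩ := exists_fac_sub d1 aC had1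
  obtain ⟨tg, -, htg⟩ := exists_fac_sub (AGF.conjBy g d0) aC (by
    rintro _ ⟨s, rfl⟩
    exact (rangePts_conjBy g d0 _).mpr (hg s))
  obtain ⟨ν₁, f₁, f₁', hf₁, hf₁'⟩ := borelPair_conj d0 d1 hB0 hB1 aC aC haCM haCM t0 ht0 t1 ht1
  obtain ⟨ν, f, f', hf, hf'⟩ := borelPair_conj d0 _ hB0 hBg aC aC haCM haCM t0 ht0 tg htg
  have hact : ∀ (n : PT ⟶ C) (e : D k (Fin r → ℤ) ≅ D k (Fin r → ℤ)), e.hom ≫ aC = AGF.conjBy n aC →
      Acts aC n (fun s => s ≫ e.hom) := fun n e he s => by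
    show (s ≫ e.hom) ≫ aC = _
    rw [Category.assoc, he, AGFLib.Borel.conjBy_eq, ← Category.assoc, comp_conjM_pt]
  have hA₁ := hact ν₁ f₁' hf₁'
  have hA := hact ν f' hf'
  obtain ⟨φ₁, hφ₁⟩ := exists_isMon f₁'.hom hA₁
  obtain ⟨φ, hφ⟩ := exists_isMon f'.hom hA
  have hfix : ∀ (n : PT ⟶ C) (σ : (PT ⟶ D k (Fin r → ℤ)) → (PT ⟶ D k (Fin r → ℤ))), Acts aC n σ →
      ∀ s, vl s (mon k m) = 1 → σ (s ^ N) = s ^ N := fun n σ hσ s hs => by
    refine (cancel_mono aC).mp ?_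
    rw [hσ (s ^ N)]
    obtain ⟨t, ht⟩ := hN s hs
    change t ≫ i = s ^ N at ht
    have h3 : Commute n ((s ^ N) ≫ aC) := (cancel_mono c).mp (by
      rw [MonObj.mul_comp, MonObj.mul_comp, Category.assoc, haCc]
      exact ((hmemC _).mp ⟨n, rfl⟩ _ ⟨t, by show t ≫ i ≫ a = _; rw [← Category.assoc, ht]⟩).eq)
    rw [h3.eq, mul_inv_cancel_right]
  -- a normalising element acting trivially lies in the torus
  have hcenT : ∀ n : PT ⟶ C, (∀ s : PT ⟶ D k (Fin r → ℤ), Commute n (s ≫ aC)) → n ∈ rangePts d0 := fun n hn =>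
    had0 (mem_torus_of_commute hC aC haCM n (by rintro _ ⟨s, rfl⟩; exact hn s))
  have hconjd : ∀ (n : PT ⟶ C) (z : PT ⟶ C), z ∈ rangePts d0 → n ∈ rangePts d0 → n * z * n⁻¹ ∈ rangePts d0 :=
    fun n z hz hn => mul_mem (mul_mem hn hz) (inv_mem hn)
  -- the conjugating element
  have hgν : ∀ z, z ∈ rangePts d0 → g⁻¹ * (ν * z * ν⁻¹) * g ∈ rangePts d0 := fun z hz => by
    obtain ⟨z', rfl⟩ := hz
    refine (rangePts_conjBy g d0 _).mp ⟨z' ≫ f.hom, ?_⟩
    show (z' ≫ f.hom) ≫ AGF.conjBy g d0 = ν * (z' ≫ d0) * ν⁻¹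
    rw [Category.assoc, hf, AGFLib.Borel.conjBy_eq, ← Category.assoc, comp_conjM_pt]
  have hν₁d : ∀ z, z ∈ rangePts d1 → ν₁⁻¹ * z * ν₁ ∈ rangePts d0 := fun z hz => by
    obtain ⟨z', rfl⟩ := hz
    refine ⟨z' ≫ f₁.inv, ?_⟩
    show (z' ≫ f₁.inv) ≫ d0 = _
    have e : ν₁ * ((z' ≫ f₁.inv) ≫ d0) * ν₁⁻¹ = z' ≫ d1 := by
      rw [← comp_conjM_pt, Category.assoc (z' ≫ f₁.inv) d0, ← AGFLib.Borel.conjBy_eq, ← hf₁, Category.assoc,
        Iso.inv_hom_id_assoc]
    show (z' ≫ f₁.inv) ≫ d0 = ν₁⁻¹ * (z' ≫ d1) * ν₁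
    rw [← e]
    group
  have hm' : m ≠ 0 := hm0
  obtain ⟨e₁, he₁, hord₁⟩ := hA₁.finite_order
  obtain ⟨e, he, hord⟩ := hA.finite_order
  rcases TorusLattice.eq_id_or_neg hφ₁ hN0 (hfix _ _ hA₁) he₁ hord₁ hm' with h | hneg₁
  · refine absurd (fun z hz => ?_) hle
    have hn₁ : ν₁ ∈ rangePts d0 := hcenT ν₁ fun s => by
      have h4 : (s ≫ f₁'.hom) ≫ aC = ν₁ * (s ≫ aC) * ν₁⁻¹ := hA₁ s
      rw [show s ≫ f₁'.hom = s from h s] at h4
      exact (mul_inv_eq_iff_eq_mul.mp h4.symm)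
    have := hconjd ν₁ _ (hν₁d z hz) hn₁
    rwa [show ν₁ * (ν₁⁻¹ * z * ν₁) * ν₁⁻¹ = z by group] at this
  rcases TorusLattice.eq_id_or_neg hφ hN0 (hfix _ _ hA) he hord hm' with h | hneg
  · have hn : ν ∈ rangePts d0 := hcenT ν fun s => by
      have h4 : (s ≫ f'.hom) ≫ aC = ν * (s ≫ aC) * ν⁻¹ := hA s
      rw [show s ≫ f'.hom = s from h s] at h4
      exact (mul_inv_eq_iff_eq_mul.mp h4.symm)
    have h5 := hgν _ (hconjd ν⁻¹ _ (hwd0 y) (inv_mem hn))
    rwa [show ν * (ν⁻¹ * (y ≫ wC) * ν⁻¹⁻¹) * ν⁻¹ = y ≫ wC by group] at h5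
  · -- both act by inversion, hence equally
    obtain ⟨e₂, he₂, hord₂⟩ := (hA₁.comp hA₁).finite_order
    obtain ⟨e₃, he₃, hord₃⟩ := (hA.comp hA₁).finite_order
    have hinv := TorusLattice.comp_eq_id hφ₁ hφ₁ hN0 (hfix _ _ hA₁) (hfix _ _ hA₁) hneg₁ hneg₁ he₂ hord₂ hm'
    have hprod := TorusLattice.comp_eq_id hφ hφ₁ hN0 (hfix _ _ hA) (hfix _ _ hA₁) hneg hneg₁ he₃ hord₃ hm'
    have hsame' : ∀ s : PT ⟶ D k (Fin r → ℤ), s ≫ f'.hom = s ≫ f₁'.hom := fun s => by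
      have := hprod (s ≫ f₁'.hom)
      rwa [show (s ≫ f₁'.hom) ≫ f₁'.hom = s from hinv s] at this
    have hn : ν⁻¹ * ν₁ ∈ rangePts d0 := hcenT _ fun s => by
      have h4 : (s ≫ f'.hom) ≫ aC = ν * (s ≫ aC) * ν⁻¹ := hA s
      have h5 : (s ≫ f₁'.hom) ≫ aC = ν₁ * (s ≫ aC) * ν₁⁻¹ := hA₁ s
      rw [hsame' s, h5] at h4
      show ν⁻¹ * ν₁ * (s ≫ aC) = (s ≫ aC) * (ν⁻¹ * ν₁)
      calc ν⁻¹ * ν₁ * (s ≫ aC) = ν⁻¹ * (ν₁ * (s ≫ aC) * ν₁⁻¹) * ν₁ := by group
        _ = ν⁻¹ * (ν * (s ≫ aC) * ν⁻¹) * ν₁ := by rw [h4]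
        _ = _ := by group
    have h5 := hgν _ (hconjd (ν⁻¹ * ν₁) _ (hν₁d _ (hwd1 y)) hn)
    rwa [show ν * (ν⁻¹ * ν₁ * (ν₁⁻¹ * (y ≫ wC) * ν₁) * (ν⁻¹ * ν₁)⁻¹) * ν⁻¹ = y ≫ wC by group] at h5

/-- A solvable subgroup containing a maximal torus and forming a big cell with a unipotent group normalised by the
torus, itself contained in a solvable group containing the torus, is a Borel subgroup. -/
theorem isBorelOver_of_cell (hG : Red.IsReductiveOver k G) (a : D k (Fin r → ℤ) ⟶ G) [IsMonHom a]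
    (hT : AGF.IsMaxTorus a) {P P' U : Over (Spec (CommRingCat.of k))} [GrpObj P] [GrpObj P'] [GrpObj U]
    (iP : P ⟶ G) [IsMonHom iP] [IsClosedImmersion iP.left] [Smooth P.hom] [ConnectedSpace P.left]
    (iP' : P' ⟶ G) [IsMonHom iP'] [IsClosedImmersion iP'.left] [Smooth P'.hom] [ConnectedSpace P'.left]
    (hP : Red.IsSolvableGrp P) (hP' : Red.IsSolvableGrp P') (iU : U ⟶ G) [IsMonHom iU]
    [IsClosedImmersion iU.left] [Smooth U.hom]
    (hu : ∀ x ∈ rangePts iU, IsUnipPt x) (hUP : rangePts iU ≤ rangePts iP) (hTP : rangePts a ≤ rangePts iP)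
    (hTP' : rangePts a ≤ rangePts iP') (hTU : ∀ s ∈ rangePts a, ∀ x ∈ rangePts iU, s * x * s⁻¹ ∈ rangePts iU)
    (hinter : ∀ x ∈ rangePts iU, x ∈ rangePts iP' → x = 1)
    (Z : Set G.left) (hZ : IsClosed Z) (hZ1 : cp (1 : PT ⟶ G) ∉ Z)
    (hcell : ∀ g : PT ⟶ G, cp g ∉ Z → ∃ x ∈ rangePts iU, x⁻¹ * g ∈ rangePts iP') : Red.IsBorelOver k iP' := by
  classical
  haveI : IsReduced G.left := isReduced_of_smooth_field G.hom
  have hTt : Red.IsTorus (D k (Fin r → ℤ)) := hT.2.2.1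
  haveI := hT.2.1
  obtain ⟨haT, hsT, hconnT, -⟩ := torus_props hTt
  haveI := haT
  haveI := hsT
  haveI := hconnT
  obtain ⟨B1, _, i1, hm1, h1, hle1⟩ := exists_borel_containing iP hP
  obtain ⟨B0, _, i0, hm0, h0, hle0⟩ := exists_borel_containing iP' hP'
  haveI := h0.2.1
  haveI := h0.2.2.1
  haveI := h0.2.2.2.1
  haveI := h1.2.1
  haveI := h1.2.2.1
  obtain ⟨haB0, hlB0, hqB0, hmB0, -⟩ := sub_props i0
  haveI := haB0
  haveI := hlB0
  haveI := hqB0
  haveI := hmB0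
  obtain ⟨-, hlP', hqP', hmP', -⟩ := sub_props iP'
  haveI := hlP'
  haveI := hqP'
  obtain ⟨-, hlU, hqU, -, -⟩ := sub_props iU
  haveI := hlU
  haveI := hqU
  -- the unipotent group meets the Borel subgroup finitely
  let Γ : Subgroup (PT ⟶ G) := rangePts iU ⊓ rangePts i0
  have hΓ : PtsClosed (Γ : Set (PT ⟶ G)) := by
    obtain ⟨Z₁, hZ₁, hm₁⟩ := ptsClosed_range iU
    obtain ⟨Z₂, hZ₂, hm₂⟩ := ptsClosed_range i0
    exact ⟨Z₁ ∩ Z₂, hZ₁.inter hZ₂, fun g => and_congr (hm₁ g) (hm₂ g)⟩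
  obtain ⟨V, _, v, hv, hcv, hsV, hcV, haV, hVle, R, hR, hRΓ, hcov⟩ := exists_connSub Γ hΓ
  haveI := hv
  haveI := hcv
  haveI := hsV
  haveI := hcV
  haveI := haV
  obtain ⟨-, hlV, hqV, hmV, hevV⟩ := sub_props v
  haveI := hlV
  haveI := hqV
  haveI := hmV
  haveI : IsReduced V.left := isReduced_of_smooth_field V.hom
  have hTΓ : ∀ s ∈ rangePts a, ∀ x ∈ Γ, s * x * s⁻¹ ∈ Γ := fun s hs x hx =>
    ⟨hTU s hs x hx.1, (rangePts i0).mul_mem ((rangePts i0).mul_mem (hle0 (hTP' hs)) hx.2)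
      ((rangePts i0).inv_mem (hle0 (hTP' hs)))⟩
  have hTV : ∀ s ∈ rangePts a, ∀ x : PT ⟶ V, s * (x ≫ v) * s⁻¹ ∈ rangePts v := by
    intro s hs x
    haveI : IsMonHom (v ≫ AGFLib.Borel.conjM s) := inferInstance
    refine rangePts_le_of_finite (v ≫ AGFLib.Borel.conjM s) _ (ptsClosed_range v) R hR ?_ ⟨x, ?_⟩
    · rintro _ ⟨y, rfl⟩
      refine hcov _ ?_
      show y ≫ v ≫ AGFLib.Borel.conjM s ∈ Γ
      rw [← Category.assoc, comp_conjM_pt]
      exact hTΓ s hs _ (hVle ⟨y, rfl⟩)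
    · show x ≫ v ≫ AGFLib.Borel.conjM s = _
      rw [← Category.assoc, comp_conjM_pt]
  have huV : ∀ x : PT ⟶ V, IsUnipPt x := fun x => IsUnipPt.map v hevV (hu _ (hVle ⟨x, rfl⟩).1)
  have hVtriv : ∀ x : PT ⟶ V, x = 1 := by
    by_contra hne
    push Not at hne
    haveI : Group.IsNilpotent (PT ⟶ V) := isNilpotent_pts huV
    haveI : Nontrivial (PT ⟶ V) := ⟨⟨_, 1, hne.choose_spec⟩⟩
    obtain ⟨n, hn⟩ := (inferInstance : Group.IsSolvable (PT ⟶ V)).solvable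
    obtain ⟨l, hl, hl'⟩ : ∃ l, derivedSeries (PT ⟶ V) l ≠ ⊥ ∧ derivedSeries (PT ⟶ V) (l + 1) = ⊥ := by
      by_contra h
      push Not at h
      have hall : ∀ j, derivedSeries (PT ⟶ V) j ≠ ⊥ := fun j => by
        induction j with
        | zero => rw [derivedSeries_zero]; exact top_ne_bot
        | succ j ih => exact h j ih
      exact hall n hn
    obtain ⟨V0, _, j, hj, hcj, hsj, hconn0, hr⟩ := exists_derivedSub (G := V) l
    haveI := hj
    haveI := hcj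
    haveI := hsj
    haveI := hconn0
    obtain ⟨haV0, hlV0, hqV0, hmV0, hevj⟩ := sub_props j
    haveI := hlV0
    haveI := hmV0
    haveI : IsClosedImmersion (j ≫ v).left := inferInstanceAs (IsClosedImmersion (j.left ≫ v.left))
    haveI : Mono (j ≫ v) := mono_comp j v
    have hcm : ∀ x y : PT ⟶ V0, Commute x y := fun x y => (cancel_mono j).mp (by
      rw [MonObj.mul_comp, MonObj.mul_comp]
      exact (commutatorElement_eq_one_iff_commute.mp (Subgroup.mem_bot.mp (hl' ▸ (derivedSeries_succ (PT ⟶ V) l).symm ▸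
        Subgroup.commutator_mem_commutator (hr.le ⟨x, rfl⟩) (hr.le ⟨y, rfl⟩)))).eq)
    have hne0 : ∃ x : PT ⟶ V0, x ≠ 1 := by
      obtain ⟨⟨z, hz⟩, hz1⟩ := Subgroup.ne_bot_iff_exists_ne_one.mp hl
      obtain ⟨x, rfl⟩ := hr.ge hz
      exact ⟨x, fun h => hz1 (Subtype.ext (by show x ≫ j = 1; rw [h, MonObj.one_comp]))⟩
    have hnorm : ∀ (s : PT ⟶ D k (Fin r → ℤ)) (x : PT ⟶ V0),
        (s ≫ a) * (x ≫ j ≫ v) * (s ≫ a)⁻¹ ∈ rangePts (j ≫ v) := by
      intro s x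
      have hlift : ∀ y : PT ⟶ V, ∃ z : PT ⟶ V, z ≫ v = (s ≫ a) * (y ≫ v) * (s ≫ a)⁻¹ := fun y => hTV _ ⟨s, rfl⟩ y
      choose cs hcs using hlift
      let ψ : (PT ⟶ V) →* (PT ⟶ V) := MonoidHom.mk' cs fun y z => (cancel_mono v).mp (by
        rw [hcs, MonObj.mul_comp, MonObj.mul_comp, hcs, hcs]; group)
      obtain ⟨x', hx'⟩ := hr.ge (map_derivedSeries_le_derivedSeries ψ l
        (Subgroup.mem_map_of_mem ψ (hr.le (⟨x, rfl⟩ : x ≫ j ∈ rangePts j))))
      change x' ≫ j = cs (x ≫ j) at hx'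
      refine ⟨x', ?_⟩
      show x' ≫ j ≫ v = _
      rw [← Category.assoc, hx', hcs, Category.assoc]
    have hu0 : ∀ x : PT ⟶ V0, IsUnipPt x := fun x => IsUnipPt.map j hevj (huV _)
    obtain ⟨W, _, w, hw, m, hcw, hsw, hconnw, hlew, ⟨x₀, hx₀⟩, hcomm⟩ :=
      exists_singular a (j ≫ v) hu0 hne0 hcm hnorm
    haveI := hw
    haveI := hcw
    haveI := hsw
    haveI := hconnw
    have hwΓ : rangePts w ≤ Γ := hlew.trans ((rangePts_comp v j).trans hVle)
    obtain ⟨-, -, -, hmw, -⟩ := sub_props w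
    haveI := hmw
    refine hx₀ ((cancel_mono w).mp ?_)
    rw [MonObj.one_comp]
    exact unip_inter_trivial hG a hT i0 h0 i1 h1 (hTP'.trans hle0) (hTP.trans hle1) (rangePts iU) (rangePts iP')
      (hUP.trans hle1) hle0 hTP' hTU hinter Z hZ hZ1 hcell w (fun x => hu _ (hwΓ ⟨x, rfl⟩).1)
      (hwΓ.trans inf_le_right) ((hwΓ.trans inf_le_left).trans (hUP.trans hle1)) m hcomm x₀
  have hΓ1 : ∀ x ∈ Γ, x = 1 := fun x hx => by
    have hΓfin : ∀ y ∈ Γ, y ∈ R := fun y hy => by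
      obtain ⟨s, hs, z, hz⟩ := hcov y hy
      change z ≫ v = _ at hz
      rw [hVtriv z, MonObj.one_comp] at hz
      exact (inv_mul_eq_one.mp hz.symm) ▸ hs
    -- the torus centralises the finite group
    let sel : (PT ⟶ G) → (PT ⟶ G) := fun y => if h : ∃ s ∈ rangePts a, s * x * s⁻¹ = y then h.choose else 1
    have hcent : rangePts a ≤ centPt x := rangePts_le_of_finite a _ (ptsClosed_centralizer x) (sel '' R) (hR.image _)
      fun s hs => by
        refine ⟨sel (s * x * s⁻¹), ⟨_, hΓfin _ (hTΓ s hs x hx), rfl⟩, ?_⟩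
        have hex : ∃ t ∈ rangePts a, t * x * t⁻¹ = s * x * s⁻¹ := ⟨s, hs, rfl⟩
        simp only [sel, dif_pos hex]
        obtain ⟨-, ht⟩ := hex.choose_spec
        refine mem_centPt.mpr ?_
        show hex.choose⁻¹ * s * x = x * (hex.choose⁻¹ * s)
        calc hex.choose⁻¹ * s * x = hex.choose⁻¹ * (s * x * s⁻¹) * s := by group
          _ = hex.choose⁻¹ * (hex.choose * x * hex.choose⁻¹) * s := by rw [ht]
          _ = _ := by group
    obtain ⟨s, hs⟩ := mem_torus_of_commute hG a hT x fun s hs => (mem_centPt.mp (hcent hs)).symm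
    change s ≫ a = x at hs
    exact eq_one_of_isSsPt_isUnipPt (hs ▸ isSsPt_of_torus hTt a s) (hu x hx.1)
  -- the Borel subgroup is the given group
  have heq : ∀ b : PT ⟶ B0, b ≫ i0 ∈ rangePts iP' := by
    have hcl : PtsClosed (((rangePts iP').comap (ptsHom i0) : Subgroup (PT ⟶ B0)) : Set (PT ⟶ B0)) :=
      (ptsClosed_range iP').preimage i0
    refine mem_of_open_subset _ hcl (i0.left ⁻¹' Z) (hZ.preimage i0.left.continuous) ?_ ?_
    · show cp ((1 : PT ⟶ B0) ≫ i0) ∉ Z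
      rwa [MonObj.one_comp]
    intro b hb
    obtain ⟨x, hx, hp⟩ := hcell (b ≫ i0) hb
    have hx0 : x ∈ rangePts i0 := by
      have := mul_mem (⟨b, rfl⟩ : b ≫ i0 ∈ rangePts i0) (inv_mem (hle0 hp))
      rwa [mul_inv_rev, _root_.inv_inv, mul_inv_cancel_left] at this
    rw [hΓ1 x ⟨hx, hx0⟩, inv_one, _root_.one_mul] at hp
    exact hp
  obtain ⟨f, -, hf⟩ := exists_fac_sub i0 iP' hle0
  obtain ⟨g, -, hg⟩ := exists_fac_sub iP' i0 (by rintro _ ⟨b, rfl⟩; exact heq b)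
  haveI := hmP'
  refine isBorelOver_iso h0 ⟨f, g, ?_, ?_⟩ hf
  · rw [← cancel_mono iP', Category.assoc, hg, hf, Category.id_comp]
  · rw [← cancel_mono i0, Category.assoc, hf, hg, Category.id_comp]

end Groth.Agent.SolvGrp
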