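import Groth.Agent.SolvGrp.CocharTorus
import Groth.Agent.SolvGrp.CellBorel
import Groth.Agent.AGFLib.ProperSpace

/-! Borel subgroups from generic cocharacters of split tori. -/

set_option linter.style.haveILetI false
set_option maxHeartbeats 1000000

universe u

open CategoryTheory Limits MonoidalCategory CartesianMonoidalCategory MonObj AlgebraicGeometry WithConv
open scoped TensorProduct LaurentPolynomial

set_option backward.isDefEq.respectTransparency false
set_option backward.isDefEq.respectTransparency.types false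

noncomputable section

namespace Groth.Agent.SolvGrp.DynPts

open SolvGrp GrpSchLib GrpSchLib.Kunneth GrpSchLib.LineGroups GrpSchLib.SplitTorusPoints WeilCmp.Unip AGFLib AGFLib.Gen
  AGFLib.BorelFixed AffineHopf DynLimit

attribute [local instance 2000] DynLimit.ptGroup

variable {k : Type u} [Field k] {K : Type u} [Field K] [Algebra k K] [IsAlgClosed K]
  {A : Type u} [CommRing A] [HopfAlgebra k A] {r : ℕ} (f : A →ₐc[k] MonoidAlgebra k (Multiplicative (Fin r → ℤ)))

local notation "PK" => 𝟙_ (Over (Spec (CommRingCat.of K)))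
local notation "GK" => Red.bc (σK k K) (sp k A)

/-- The functional gives a cocharacter with the centraliser of the torus. -/
def Generic (K : Type u) [Field K] [Algebra k K] (f : A →ₐc[k] MonoidAlgebra k (Multiplicative (Fin r → ℤ)))
    (n : (Fin r → ℤ) →+ ℤ) : Prop :=
  ∀ g : 𝟙_ (Over (Spec (CommRingCat.of K))) ⟶ Red.bc (σK k K) (sp k A),
    (∀ φ : k[T;T⁻¹] →ₐ[k] K, Commute (lamPt ((proj k n).comp f) φ) (Ψ K A g)) →
      ∀ s, Commute g (s ≫ torA K f)

omit [IsAlgClosed K] in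
theorem props_bc [Algebra.Smooth k A] (hconn : ∀ e : A, IsIdempotentElem e → e = 0 ∨ e = 1) :
    IsAffine (GK).left ∧ Smooth (GK).hom ∧ ConnectedSpace (GK).left := by
  haveI : Nontrivial A := (Bialgebra.counitAlgHom k A).toRingHom.domain_nontrivial
  haveI : Smooth (sp k A).hom :=
    (HasRingHomProperty.Spec_iff (P := @Smooth)).mpr (RingHom.smooth_algebraMap.mpr inferInstance)
  haveI : ConnectedSpace (sp k A).left := MultTypeLib.connectedSpace_of_idem hconn
  exact ⟨inferInstanceAs (IsAffine (Limits.pullback _ _)), inferInstanceAs (Smooth (Limits.pullback.snd _ _)),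
    AntiAffine.connectedSpace_bc (sp k A) (algebraMap k K)⟩

/-- All functionals avoiding finitely many nonzero vectors are generic. -/
theorem exists_generic_finset [Algebra.Smooth k A] (hconn : ∀ e : A, IsIdempotentElem e → e = 0 ∨ e = 1) :
    ∃ S : Finset (Fin r → ℤ), (0 : Fin r → ℤ) ∉ S ∧
      ∀ n : (Fin r → ℤ) →+ ℤ, (∀ y ∈ S, n y ≠ 0) → Generic K f n := by
  classical
  obtain ⟨haff, hsm, hcn⟩ := props_bc (k := k) (K := K) hconn
  haveI := haff
  haveI := hsm
  haveI : IsReduced (GK).left := isReduced_of_smooth_field (GK).hom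
  obtain ⟨hR, hF⟩ := TorusLattice.props K r
  haveI := hR
  haveI := hF
  obtain ⟨N, w, χ, hli, hgen, hst, hw⟩ := exists_weights (torA K f)
    (isTorus_of_iso (SplitTorusPoints.isSplitTorusWith_D (k := K) (M := Fin r → ℤ)).some (TorusQI.isTorus_DS r))
  have hx : ∀ a, ∃ x : PK ⟶ GK, vl x (w a) ≠ 0 := fun a => by
    by_contra h
    push Not at h
    exact hli.ne_zero a (eq_of_vl fun x => by rw [h, map_zero])
  have hmono : ∀ a, ∃ m, χ a = mon K m := fun a => by
    obtain ⟨x, hx⟩ := hx a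
    refine TorusLattice.exists_eq_mon (χ a) ?_ fun s t => ?_
    · have h1 := congrArg (vl x) (hw 1 a)
      rw [MonObj.one_comp, rl_one, Module.End.one_apply, map_smul, smul_eq_mul] at h1
      exact (mul_eq_right₀ hx).mp h1.symm
    · have h1 := congrArg (vl x) (hw (s * t) a)
      rw [MonObj.mul_comp, rl_mul, Module.End.mul_apply, hw, map_smul, hw, smul_smul, map_smul, map_smul, smul_eq_mul,
        smul_eq_mul] at h1
      exact (mul_right_cancel₀ hx (h1.symm.trans (by ring)))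
  choose m hm using hmono
  refine ⟨(Finset.univ.image fun p : Fin N × Fin N => m p.1 - m p.2).filter (· ≠ 0), by simp, fun n hn g hg s => ?_⟩
  refine eq_of_rl_eqOn hgen ?_
  rintro _ ⟨a, rfl⟩
  rw [rl_mul, rl_mul, Module.End.mul_apply, Module.End.mul_apply, hw, map_smul]
  obtain ⟨c, hc⟩ := (Submodule.mem_span_range_iff_exists_fun K).mp (hst g a)
  have h1 : ∀ b, c b ≠ 0 → m b = m a := fun b hb => by
    by_contra hne
    have hmem : m b - m a ∈ (Finset.univ.image fun p : Fin N × Fin N => m p.1 - m p.2).filter (· ≠ 0) :=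
      Finset.mem_filter.mpr ⟨Finset.mem_image.mpr ⟨(b, a), Finset.mem_univ _, rfl⟩, sub_ne_zero.mpr hne⟩
    have hd := Int.natAbs_ne_zero.mpr (hn _ hmem)
    set d := (n (m b - m a)).natAbs
    obtain ⟨u, hu⟩ : ∃ u : Kˣ, u ^ d ≠ 1 := by
      have hP : (Polynomial.X ^ d - Polynomial.C 1 : Polynomial K) * Polynomial.X ≠ 0 :=
        mul_ne_zero (Polynomial.X_pow_sub_C_ne_zero (Nat.pos_of_ne_zero hd) 1) Polynomial.X_ne_zero
      obtain ⟨z, hz⟩ := Polynomial.exists_eval_ne_zero_of_natDegree_lt_card _ hP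
        ((Cardinal.nat_lt_aleph0 _).trans_le (Cardinal.aleph0_le_mk K))
      simp only [Polynomial.eval_mul, Polynomial.eval_sub, Polynomial.eval_pow, Polynomial.eval_X, Polynomial.eval_C,
        ne_eq, mul_eq_zero, sub_eq_zero, not_or] at hz
      exact ⟨Units.mk0 z hz.2, fun e => hz.1 (congrArg Units.val e)⟩
    let φ : k[T;T⁻¹] →ₐ[k] K := AddMonoidAlgebra.lift k K ℤ ((Units.coeHom K).comp (zpowersHom Kˣ u))
    obtain ⟨t, ht, htΨ⟩ := exists_cocharPt f n φ
    have hcomm : Commute g (t ≫ torA K f) := by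
      have h2 := (hg φ).map (Ψ K A).symm
      rw [MulEquiv.symm_apply_apply, ← htΨ, MulEquiv.symm_apply_apply] at h2
      exact h2.symm
    have h2 := LinearMap.congr_fun (rl_commute hcomm) (w a)
    rw [Module.End.mul_apply, Module.End.mul_apply, hw, map_smul, ← hc, map_sum, Finset.smul_sum] at h2
    simp only [map_smul, hw, smul_smul] at h2
    have h3 := Fintype.linearIndependent_iff.mp hli (fun b => c b * vl t (χ b) - c b * vl t (χ a)) (by
      simp only [sub_smul, Finset.sum_sub_distrib]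
      rw [sub_eq_zero, ← h2]
      exact Finset.sum_congr rfl fun b _ => by rw [mul_comm]) b
    have h4 : ∀ y, φ (AddMonoidAlgebra.single y 1) = ((u ^ y : Kˣ) : K) := fun y => by
      show AddMonoidAlgebra.lift k K ℤ _ (AddMonoidAlgebra.single y 1) = _
      rw [AddMonoidAlgebra.lift_single, one_smul]
      rfl
    rw [← mul_sub, hm b, hm a, ht, ht, h4, h4] at h3
    have h5 : u ^ n (m b) = u ^ n (m a) := Units.ext (sub_eq_zero.mp ((mul_eq_zero.mp h3).resolve_left hb))
    refine hu ?_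
    have h6 : u ^ n (m b - m a) = 1 := by rw [map_sub, zpow_sub, h5, mul_inv_cancel]
    rcases Int.natAbs_eq (n (m b - m a)) with e | e
    · rwa [e, zpow_natCast] at h6
    · rwa [e, zpow_neg, zpow_natCast, inv_eq_one] at h6
  rw [← hc, map_sum, Finset.smul_sum]
  refine Finset.sum_congr rfl fun b _ => ?_
  rw [map_smul, hw, smul_smul, smul_smul]
  by_cases hcb : c b = 0
  · rw [hcb, zero_mul, mul_zero]
  · rw [hm b, hm a, h1 b hcb, mul_comm]

omit [IsAlgClosed K] in
/-- A functional avoiding finitely many nonzero vectors. -/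
theorem exists_functional (S : Finset (Fin r → ℤ)) (h0 : (0 : Fin r → ℤ) ∉ S) :
    ∃ n : (Fin r → ℤ) →+ ℤ, ∀ y ∈ S, n y ≠ 0 := by
  classical
  let P : (Fin r → ℤ) → Polynomial ℤ := fun y => ∑ i : Fin r, Polynomial.C (y i) * Polynomial.X ^ (i : ℕ)
  have hP : ∀ y ∈ S, P y ≠ 0 := fun y hy h => h0 (by
    convert hy using 1
    funext i
    have h1 := congrArg (fun p => Polynomial.coeff p (i : ℕ)) h
    simp only [P, Polynomial.finsetSum_coeff, Polynomial.coeff_C_mul, Polynomial.coeff_X_pow, Fin.val_inj,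
      mul_ite, mul_zero, Finset.sum_ite_eq, Finset.mem_univ, if_true, Polynomial.coeff_zero] at h1
    simpa using h1.symm)
  obtain ⟨t, ht⟩ : ∃ t : ℤ, (∏ y ∈ S, P y).eval t ≠ 0 :=
    Polynomial.exists_eval_ne_zero_of_natDegree_lt_card _ (Finset.prod_ne_zero_iff.mpr hP)
      ((Cardinal.nat_lt_aleph0 _).trans_le (Cardinal.aleph0_le_mk ℤ))
  refine ⟨AddMonoidHom.mk' (fun y => (P y).eval t) fun a b => by
    simp [P, Polynomial.eval_finsetSum, add_mul, Finset.sum_add_distrib], fun y hy => ?_⟩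
  rw [Polynomial.eval_prod] at ht
  exact Finset.prod_ne_zero_iff.mp ht y hy

omit [IsAlgClosed K] in
/-- The torus lies in the limit subgroup, rationally. -/
theorem f_kills (n : (Fin r → ℤ) →+ ℤ) {J : Ideal A}
    (hJ : Dyn.Represents k A J (fun R _ _ g => Dyn.LimExists k A ((proj k n).comp f) R g)) :
    ∀ a ∈ J, f a = 0 := by
  have h := (mem_lim_both_iff ((proj k n).comp f) (RatCochar.hneg_invB _)
    (pull f (toConv (AlgHom.id k (MonoidAlgebra k (Multiplicative (Fin r → ℤ))))))).2 (orbit_pull f n _)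
  exact (hJ _ _).2 ((limExists_iff _ _ _).2 h.1)

omit [IsAlgClosed K] in
/-- A group that is a product of a commutative group and a normal nilpotent one is solvable on points. -/
theorem solvable_of_dec {P U G H : Over (Spec (CommRingCat.of K))} [GrpObj P] [GrpObj U] [GrpObj G] [GrpObj H]
    (iP : P ⟶ G) [IsMonHom iP] [Mono iP] (iU : U ⟶ G) [IsMonHom iU] (iT : H ⟶ G) [IsMonHom iT] (j : U ⟶ P)
    [IsMonHom j] (hjP : j ≫ iP = iU) [Group.IsNilpotent (PK ⟶ U)]
    (hn : ∀ x ∈ rangePts iU, ∀ g ∈ rangePts iP, g * x * g⁻¹ ∈ rangePts iU)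
    (hdec : ∀ g ∈ rangePts iP, ∃ t ∈ rangePts iT, t⁻¹ * g ∈ rangePts iU)
    (hcomm : ∀ s t : PK ⟶ H, s * t = t * s) : Group.IsSolvable (PK ⟶ P) := by
  let Q : Subgroup (PK ⟶ P) := (ptsHom j).range
  have hQ : ∀ x : PK ⟶ P, x ∈ Q ↔ x ≫ iP ∈ rangePts iU := fun x => by
    constructor
    · rintro ⟨u, rfl⟩
      exact ⟨u, by show u ≫ iU = (u ≫ j) ≫ iP; rw [Category.assoc, hjP]⟩
    · rintro ⟨u, hu⟩
      exact ⟨u, (cancel_mono iP).mp (by show (u ≫ j) ≫ iP = _; rw [Category.assoc, hjP]; exact hu)⟩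
  haveI hQn : Q.Normal := ⟨fun x hx g => (hQ _).mpr (by
    rw [MonObj.mul_comp, MonObj.mul_comp, GrpObj.inv_comp]
    exact hn _ ((hQ x).mp hx) _ ⟨g, rfl⟩)⟩
  have hrep : ∀ a : PK ⟶ P, ∃ (s : PK ⟶ H) (a' : PK ⟶ P), a' ≫ iP = s ≫ iT ∧ (a' : (PK ⟶ P) ⧸ Q) = a := fun a => by
    obtain ⟨_, ⟨s, rfl⟩, v, hv⟩ := hdec _ ⟨a, rfl⟩
    change v ≫ iU = (s ≫ iT)⁻¹ * (a ≫ iP) at hv
    refine ⟨s, a * (v ≫ j)⁻¹, ?_, QuotientGroup.eq.mpr ?_⟩
    · rw [MonObj.mul_comp, GrpObj.inv_comp, Category.assoc, hjP, hv]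
      group
    · rw [mul_inv_rev, _root_.inv_inv, _root_.mul_assoc, inv_mul_cancel, _root_.mul_one]
      exact ⟨v, rfl⟩
  haveI : Group.IsSolvable ((PK ⟶ P) ⧸ Q) := Group.isSolvable_of_comm fun a b => by
    obtain ⟨a, rfl⟩ := QuotientGroup.mk_surjective a
    obtain ⟨b, rfl⟩ := QuotientGroup.mk_surjective b
    obtain ⟨s, a', ha, ha'⟩ := hrep a
    obtain ⟨t, b', hb, hb'⟩ := hrep b
    rw [← ha', ← hb', ← QuotientGroup.mk_mul, ← QuotientGroup.mk_mul]
    congr 1
    exact (cancel_mono iP).mp (by rw [MonObj.mul_comp, MonObj.mul_comp, ha, hb, ← MonObj.mul_comp, ← MonObj.mul_comp, hcomm])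
  exact Group.isSolvable_of_ker_le_range (ptsHom j) (QuotientGroup.mk' Q) (by rw [QuotientGroup.ker_mk'])

variable [Algebra.Smooth k A] (hconn : ∀ e : A, IsIdempotentElem e → e = 0 ∨ e = 1)

omit [IsAlgClosed K] in
include hconn in
theorem props_sub {J : Ideal A} [J.IsHopfIdeal k] [Algebra.Smooth k (A ⧸ J)]
    (hc : ∀ e : A ⧸ J, IsIdempotentElem e → e = 0 ∨ e = 1) :
    IsMonHom ((Over.pullback (σK k K)).map (incl (k := k) A J)) ∧
      IsClosedImmersion ((Over.pullback (σK k K)).map (incl (k := k) A J)).left ∧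
      Smooth (Red.bc (σK k K) (sp k (A ⧸ J))).hom ∧ ConnectedSpace (Red.bc (σK k K) (sp k (A ⧸ J))).left ∧
      IsAffine (Red.bc (σK k K) (sp k (A ⧸ J))).left := by
  obtain ⟨h1, h2, h3⟩ := props_bc (k := k) (K := K) (A := A ⧸ J) hc
  haveI : (Over.pullback (σK k K)).IsRightAdjoint := (Over.mapPullbackAdj (σK k K)).isRightAdjoint
  exact ⟨inferInstance, isClosedImmersion_incl_bc J, h2, h3, h1⟩

include hconn in
/-- The limit subgroup of a cocharacter centralising only the torus is solvable. -/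
theorem isSolvable_lim (hG : Red.IsReductiveOver K GK) (hT : AGF.IsMaxTorus (torA K f)) (cc : A →ₐc[k] k[T;T⁻¹])
    (hμ : ∀ g : PK ⟶ GK, (∀ φ : k[T;T⁻¹] →ₐ[k] K, Commute (lamPt cc φ) (Ψ K A g)) → g ∈ rangePts (torA K f))
    (hTμ : ∀ g ∈ rangePts (torA K f), Ψ K A g ∈ limSubgroup cc K)
    {Jp Ju : Ideal A} [Jp.IsHopfIdeal k] [Ju.IsHopfIdeal k] [Algebra.FinitePresentation k A]
    (hp : Dyn.Represents k A Jp (fun R _ _ g => Dyn.LimExists k A cc R g))
    (hu : Dyn.Represents k A Ju (fun R _ _ g => Dyn.LimIsOne k A cc R g)) :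
    Red.IsSolvableGrp (Red.bc (σK k K) (sp k (A ⧸ Jp))) := by
  obtain ⟨haff, hsm, hcn⟩ := props_bc (k := k) (K := K) hconn
  haveI := haff
  haveI := hsm
  haveI := smooth_lim cc hp
  haveI := smooth_limOne cc hu
  haveI : Algebra.FiniteType k A := inferInstance
  obtain ⟨hmP, hcP, hsP, hconnP, haP⟩ := props_sub (k := k) (K := K) hconn
    (J := Jp) fun e he => eq_zero_or_one_lim cc hp hconn he
  haveI := hmP
  haveI := hcP
  haveI := hsP
  haveI := hconnP
  haveI := haP
  obtain ⟨hmU, hcU, hsU, hconnU, haU⟩ := props_sub (k := k) (K := K) hconn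
    (J := Ju) fun e he => eq_zero_or_one_of_isIdempotentElem cc hu he
  haveI := hmU
  haveI := hcU
  haveI := hsU
  haveI := hconnU
  haveI := haU
  haveI : IsReduced (Red.bc (σK k K) (sp k (A ⧸ Ju))).left := isReduced_of_smooth_field (Red.bc (σK k K) (sp k (A ⧸ Ju))).hom
  obtain ⟨-, hlP, -, hmonoP, -⟩ := sub_props ((Over.pullback (σK k K)).map (incl (k := k) A Jp))
  haveI := hlP
  haveI := hmonoP
  let iP := (Over.pullback (σK k K)).map (incl (k := k) A Jp)
  let iU := (Over.pullback (σK k K)).map (incl (k := k) A Ju)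
  obtain ⟨j, hj, hjP⟩ := exists_fac_sub iP iU (fun g hg =>
    (mem_lim_iff hp g).mpr (limOne_le_lim cc ((mem_limOne_iff hu g).mp hg)))
  haveI := hj
  haveI : Group.IsNilpotent (PK ⟶ Red.bc (σK k K) (sp k (A ⧸ Ju))) := isNilpotent_pts (isUnipPt_limOne cc hu)
  haveI := hT.1
  have hsolv := solvable_of_dec iP iU (torA K f) j hjP
    (fun x hx g hg => by
      refine (mem_limOne_iff hu _).mpr ?_
      rw [map_mul, map_mul, map_inv]
      exact conj_mem_limOne cc ((mem_lim_iff hp _).mp hg) ((mem_limOne_iff hu _).mp hx))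
    (fun g hg => by
      obtain ⟨⟨z, u⟩, ⟨hz, hu', hzu⟩, -⟩ := existsUnique_decomp cc ((mem_lim_iff hp _).mp hg)
      simp only at hz hu' hzu
      refine ⟨(Ψ K A).symm z, hμ _ fun φ => ?_, (mem_limOne_iff hu _).mpr ?_⟩
      · rw [MulEquiv.apply_symm_apply]
        exact commute_of_orbit_eq cc hz φ
      · rw [map_mul, map_inv, MulEquiv.apply_symm_apply, ← hzu, inv_mul_cancel_left]
        exact hu')
    (fun s t => (torus_commute hT.2.2.1 s t).eq)
  obtain ⟨n, hn⟩ := hsolv.solvable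
  exact AGFLib.ProperSpace.isSolvableGrp_of_pts n hn

include hconn in
/-- The limit subgroup of a generic cocharacter is a Borel subgroup containing the torus. -/
theorem isBorel_lim [Algebra.FinitePresentation k A] (hG : Red.IsReductiveOver K GK)
    (hT : AGF.IsMaxTorus (torA K f)) {n : (Fin r → ℤ) →+ ℤ} (hn : Generic K f n) {Jp : Ideal A} [Jp.IsHopfIdeal k]
    (hp : Dyn.Represents k A Jp (fun R _ _ g => Dyn.LimExists k A ((proj k n).comp f) R g)) :
    Red.IsBorelOver K ((Over.pullback (σK k K)).map (incl (k := k) A Jp)) := by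
  obtain ⟨haff, hsm, hcn⟩ := props_bc (k := k) (K := K) hconn
  haveI := haff
  haveI := hsm
  haveI := hcn
  haveI : Algebra.FiniteType k A := inferInstance
  set lam := (proj k n).comp f with hlam
  let neg := (RatCochar.invB k).comp lam
  have hneg := RatCochar.hneg_invB lam
  haveI := isHopfIdeal_negIdeal neg
  haveI := isHopfIdeal_npIdeal neg
  haveI := isHopfIdeal_npIdeal lam
  have hpn := represents_negIdeal neg
  have hun := represents_npIdeal neg
  have hT1 : ∀ g ∈ rangePts (torA K f),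
      orbit lam K (Ψ K A g) = push (cst k K) (Ψ K A g) := by
    rintro _ ⟨s, rfl⟩
    show orbit lam K (Ψ K A (s ≫ torMap k K r ≫ (Over.pullback (σK k K)).map (spMap (f : A →ₐ[k] _)))) =
      push (cst k K) (Ψ K A (s ≫ torMap k K r ≫ (Over.pullback (σK k K)).map (spMap (f : A →ₐ[k] _))))
    rw [← Category.assoc, Ψ_map]
    exact orbit_pull f n _
  have hlim : ∀ g ∈ rangePts (torA K f), Ψ K A g ∈ limSubgroup lam K ∧ Ψ K A g ∈ limSubgroup neg K := fun g hg =>
    (mem_lim_both_iff lam hneg _).2 (hT1 g hg)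
  have hcent : ∀ g : PK ⟶ GK, (∀ φ : k[T;T⁻¹] →ₐ[k] K, Commute (lamPt lam φ) (Ψ K A g)) →
      g ∈ rangePts (torA K f) := fun g hg => by
    haveI := hT.1
    exact mem_torus_of_commute hG (torA K f) hT g (by rintro _ ⟨s, rfl⟩; exact hn g hg s)
  have hcentn : ∀ g : PK ⟶ GK, (∀ φ : k[T;T⁻¹] →ₐ[k] K, Commute (lamPt neg φ) (Ψ K A g)) →
      g ∈ rangePts (torA K f) := fun g hg => hcent g fun φ => by
    have h := hg (φ.comp (RatCochar.invB k : k[T;T⁻¹] →ₐ[k] k[T;T⁻¹]))
    rw [show lamPt neg (φ.comp (RatCochar.invB k : k[T;T⁻¹] →ₐ[k] k[T;T⁻¹])) = lamPt lam φ by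
      refine WithConv.ext (AlgHom.ext fun a => ?_)
      exact congrArg φ (RatCochar.invB_invB _)] at h
    exact h
  haveI := smooth_lim lam hp
  haveI := smooth_lim neg hpn
  haveI := smooth_limOne neg hun
  obtain ⟨hmP', hcP', hsP', hconnP', -⟩ := props_sub (k := k) (K := K) hconn (J := Jp) fun e he => eq_zero_or_one_lim lam hp hconn he
  obtain ⟨hmP, hcP, hsP, hconnP, -⟩ := props_sub (k := k) (K := K) hconn (J := negIdeal neg)
    fun e he => eq_zero_or_one_lim neg hpn hconn he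
  obtain ⟨hmU, hcU, hsU, hconnU, haU⟩ := props_sub (k := k) (K := K) hconn (J := npIdeal neg)
    fun e he => eq_zero_or_one_of_isIdempotentElem neg hun he
  haveI := hmP'; haveI := hcP'; haveI := hsP'; haveI := hconnP'
  haveI := hmP; haveI := hcP; haveI := hsP; haveI := hconnP
  haveI := hmU; haveI := hcU; haveI := hsU; haveI := haU
  haveI : IsReduced (Red.bc (σK k K) (sp k (A ⧸ npIdeal neg))).left :=
    isReduced_of_smooth_field (Red.bc (σK k K) (sp k (A ⧸ npIdeal neg))).hom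
  haveI : IsReduced (GK).left := isReduced_of_smooth_field (GK).hom
  have hopen := isOpenImmersion_cell_field lam hneg hp hun
  haveI := hopen
  let cell := Spec.map (CommRingCat.ofHom (cellMap (k := k) (npIdeal neg) Jp).toRingHom)
  let fst' : (GK).left ⟶ Spec (CommRingCat.of A) := pullback.fst _ _
  let Z : Set (GK).left := fst' ⁻¹' (Set.range cell)ᶜ
  have hcp : ∀ g : PK ⟶ GK, fst' (cp g) = Spec.map (CommRingCat.ofHom (Ψ K A g).ofConv.toRingHom) (IsLocalRing.closedPoint K) := by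
    intro g
    rw [Ψ_fst]
    rfl
  refine isBorelOver_of_cell (k := K) hG (torA K f) hT
    ((Over.pullback (σK k K)).map (incl (k := k) A (negIdeal neg))) ((Over.pullback (σK k K)).map (incl (k := k) A Jp))
    (isSolvable_lim f hconn hG hT neg hcentn (fun g hg => (hlim g hg).2) hpn hun)
    (isSolvable_lim f hconn hG hT lam hcent (fun g hg => (hlim g hg).1) hp (represents_npIdeal lam))
    ((Over.pullback (σK k K)).map (incl (k := k) A (npIdeal neg))) ?_ ?_ ?_ ?_ ?_ ?_ Z ?_ ?_ ?_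
  · rintro _ ⟨x, rfl⟩
    exact (map_isSsPt_isUnipPt _ x).2 (isUnipPt_limOne neg hun x)
  · exact fun g hg => (mem_lim_iff hpn g).mpr (limOne_le_lim neg ((mem_limOne_iff hun g).mp hg))
  · exact fun g hg => (mem_lim_iff hpn g).mpr (hlim g hg).2
  · exact fun g hg => (mem_lim_iff hp g).mpr (hlim g hg).1
  · intro s hs x hx
    refine (mem_limOne_iff hun _).mpr ?_
    rw [map_mul, map_mul, map_inv]
    exact conj_mem_limOne neg (hlim s hs).2 ((mem_limOne_iff hun x).mp hx)
  · intro x hx hx'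
    have hu := (mem_limOne_iff hun x).mp hx
    have hconst := (mem_lim_both_iff lam hneg _).1 ⟨(mem_lim_iff hp x).mp hx', limOne_le_lim neg hu⟩
    have horb : orbit neg K (Ψ K A x) = push (cst k K) (Ψ K A x) := by
      rw [orbit_neg lam hneg, hconst, push_push,
        show ((LaurentPolynomial.invert (R := K)).toAlgHom.restrictScalars k).comp (cst k K) = cst k K from
          AlgHom.ext fun c => LaurentPolynomial.invert_C c]
    obtain ⟨h, h0, hh⟩ := (mem_limOneSubgroup neg K).mp hu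
    rw [horb] at hh
    have he : h = push ((Algebra.ofId K (Polynomial K)).restrictScalars k) (Ψ K A x) :=
      push_injective (toL_injective K (k := k)) (hh.trans (by rw [push_push, toL_comp_const]))
    rw [he, push_push, evz_comp_const, push_id] at h0
    exact (Ψ K A).injective (h0.trans (map_one (Ψ K A)).symm)
  · exact (cell.isOpenEmbedding.isOpen_range.isClosed_compl).preimage fst'.continuous
  · show ¬ fst' (cp 1) ∈ (Set.range cell)ᶜ
    rw [Set.notMem_compl_iff, hcp, map_one]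
    have h1m : ∀ a ∈ npIdeal neg, (1 : WithConv (A →ₐ[k] K)).ofConv a = 0 :=
      (hun K (1 : WithConv (A →ₐ[k] K)).ofConv).2 ((limIsOne_iff neg K _).2 (one_mem _))
    have h1p : ∀ a ∈ Jp, (1 : WithConv (A →ₐ[k] K)).ofConv a = 0 :=
      (hp K (1 : WithConv (A →ₐ[k] K)).ofConv).2 ((limExists_iff lam K _).2 (one_mem _))
    let f1 : (A ⧸ npIdeal neg) ⊗[k] (A ⧸ Jp) →ₐ[k] K := Algebra.TensorProduct.lift
      (Ideal.Quotient.liftₐ _ _ h1m) (Ideal.Quotient.liftₐ _ _ h1p) (fun _ _ => Commute.all _ _)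
    have e1 : cfst f1 = 1 := WithConv.ext (AlgHom.ext fun a => by simp [cfst, f1])
    have e2 : csnd f1 = 1 := WithConv.ext (AlgHom.ext fun a => by simp [csnd, f1])
    have e3 : f1.comp (cellMap (k := k) (npIdeal neg) Jp) = (1 : WithConv (A →ₐ[k] K)).ofConv :=
      congrArg WithConv.ofConv ((comp_cellMap f1).trans (by rw [e1, e2, _root_.mul_one]))
    refine ⟨Spec.map (CommRingCat.ofHom f1.toRingHom) (IsLocalRing.closedPoint K), ?_⟩
    rw [← e3, show CommRingCat.ofHom (f1.comp (cellMap (k := k) (npIdeal neg) Jp)).toRingHom =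
      CommRingCat.ofHom (cellMap (k := k) (npIdeal neg) Jp).toRingHom ≫ CommRingCat.ofHom f1.toRingHom from rfl,
      Spec.map_comp]
    rfl
  · intro g hg
    have hg' : fst' (cp g) ∈ Set.range cell := Set.notMem_compl_iff.mp hg
    rw [hcp] at hg'
    let l := IsOpenImmersion.lift cell (Spec.map (CommRingCat.ofHom (Ψ K A g).ofConv.toRingHom)) (by
      rintro _ ⟨p, rfl⟩
      rw [Subsingleton.elim (α := PrimeSpectrum K) p (IsLocalRing.closedPoint K)]
      exact hg')
    let ψ := Spec.preimage l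
    have hψ : CommRingCat.ofHom (cellMap (k := k) (npIdeal neg) Jp).toRingHom ≫ ψ =
        CommRingCat.ofHom (Ψ K A g).ofConv.toRingHom := Spec.map_injective (by
      rw [Spec.map_comp, Spec.map_preimage]
      exact IsOpenImmersion.lift_fac _ _ _)
    have hψ' : ∀ a, ψ.hom (cellMap (k := k) (npIdeal neg) Jp a) = (Ψ K A g).ofConv a := fun a =>
      RingHom.congr_fun (congrArg CommRingCat.Hom.hom hψ) a
    let φ : (A ⧸ npIdeal neg) ⊗[k] (A ⧸ Jp) →ₐ[k] K :=
      { ψ.hom with
        commutes' := fun c => by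
          show ψ.hom (algebraMap k _ c) = algebraMap k K c
          rw [← (cellMap (k := k) (npIdeal neg) Jp).commutes c, hψ', AlgHom.commutes] }
    have hprod : cfst φ * csnd φ = Ψ K A g :=
      (comp_cellMap φ).symm.trans (WithConv.ext (AlgHom.ext fun a => hψ' a))
    refine ⟨(Ψ K A).symm (cfst φ), (mem_limOne_iff hun _).mpr ?_, (mem_lim_iff hp _).mpr ?_⟩
    · rw [MulEquiv.apply_symm_apply]
      exact cfst_mem hun φ
    · rw [map_mul, map_inv, MulEquiv.apply_symm_apply, ← hprod, inv_mul_cancel_left]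
      exact csnd_mem hp φ

include hconn in
/-- The conjugate of a generic limit Borel subgroup by a normalising element is one. -/
theorem conj_generic [Infinite K] (hT : AGF.IsMaxTorus (torA K f)) {n : (Fin r → ℤ) →+ ℤ} (hn : Generic K f n)
    (ν : PK ⟶ GK) (q qi : D K (Fin r → ℤ) ⟶ D K (Fin r → ℤ))
    (hq : Acts (torA K f) ν (fun s => s ≫ q)) (hqi : Acts (torA K f) ν⁻¹ (fun s => s ≫ qi))
    {φ : (Fin r → ℤ) →+ (Fin r → ℤ)} (hφ : TorusLattice.IsMon (fun s : PK ⟶ D K (Fin r → ℤ) => s ≫ q) φ) :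
    Generic K f (n.comp φ) ∧
      ∀ g, Ψ K A g ∈ limSubgroup ((proj k n).comp f) K →
        Ψ K A (ν * g * ν⁻¹) ∈ limSubgroup ((proj k (n.comp φ)).comp f) K := by
  obtain ⟨haff, hsm, hcn⟩ := props_bc (k := k) (K := K) hconn
  haveI := hT.1
  haveI := hT.2.1
  have key : ∀ ψ : k[T;T⁻¹] →ₐ[k] K, lamPt ((proj k (n.comp φ)).comp f) ψ =
      Ψ K A ν * lamPt ((proj k n).comp f) ψ * (Ψ K A ν)⁻¹ := fun ψ => by
    obtain ⟨s, hs, hsΨ⟩ := exists_cocharPt f n ψ
    obtain ⟨s', hs', hsΨ'⟩ := exists_cocharPt f (n.comp φ) ψ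
    have he : s ≫ q = s' := ext_mon fun m => (ProjAct.toK (k := K)).injective (by
      show vl (s ≫ q) (mon K m) = vl s' (mon K m)
      rw [hφ.eq, hs, hs']
      rfl)
    rw [← hsΨ', ← he, ← hsΨ, ← map_inv, ← map_mul, ← map_mul]
    exact congrArg _ (hq s)
  constructor
  · intro g hg s
    have h1 : ∀ t, Commute (ν⁻¹ * g * ν) (t ≫ torA K f) := hn _ fun ψ => by
      have h2 := (hg ψ).map (MulAut.conj (Ψ K A ν)⁻¹).toMonoidHom
      simp only [MulEquiv.coe_toMonoidHom, MulAut.conj_apply, key, inv_inv] at h2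
      rw [map_mul, map_mul, map_inv]
      rwa [show (Ψ K A ν)⁻¹ * (Ψ K A ν * lamPt ((proj k n).comp f) ψ * (Ψ K A ν)⁻¹) * Ψ K A ν =
        lamPt ((proj k n).comp f) ψ by group] at h2
    have h3 := h1 (s ≫ qi)
    rw [show (s ≫ qi) ≫ torA K f = ν⁻¹ * (s ≫ torA K f) * ν⁻¹⁻¹ from hqi s] at h3
    have h4 : Commute (ν * (ν⁻¹ * g * ν) * ν⁻¹) (ν * (ν⁻¹ * (s ≫ torA K f) * ν⁻¹⁻¹) * ν⁻¹) :=
      h3.map (MulAut.conj ν).toMonoidHom
    rwa [show ν * (ν⁻¹ * g * ν) * ν⁻¹ = g by group,
      show ν * (ν⁻¹ * (s ≫ torA K f) * ν⁻¹⁻¹) * ν⁻¹ = s ≫ torA K f by group] at h4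
  · intro g hg
    obtain ⟨h, hh⟩ := (mem_limSubgroup _ K).mp hg
    set c := (Algebra.ofId K (Polynomial K)).restrictScalars k with hc
    refine (mem_limSubgroup _ K).mpr ⟨push c (Ψ K A ν) * h * (push c (Ψ K A ν))⁻¹, ?_⟩
    have hev : lamPt ((proj k (n.comp φ)).comp f) (mapT k K) = push (cst k K) (Ψ K A ν) *
        lamPt ((proj k n).comp f) (mapT k K) * (push (cst k K) (Ψ K A ν))⁻¹ := eq_of_eval fun χ => by
      have e : (χ.restrictScalars k).comp (cst k K) = AlgHom.id k K := AlgHom.ext fun z => χ.commutes z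
      rw [map_mul, map_mul, map_inv, push_lamPt, push_lamPt, push_push, e, push_id]
      exact key _
    rw [map_mul, map_mul, map_inv, push_push, hc, toL_comp_const, hh, orbit_apply, orbit_apply, hev, map_mul, map_mul,
      map_inv, map_mul, map_mul, map_inv]
    group

end Groth.Agent.SolvGrp.DynPts
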