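import Groth.Agent.SolvGrp.DynPts
import Groth.Agent.GrpSchLib.IsogGm
import Groth.Agent.AGFLib.RatCochar

/-! Cocharacters of a split torus read on the points over an extension field. -/

set_option backward.isDefEq.respectTransparency.types false
set_option linter.style.haveILetI false
set_option maxHeartbeats 1000000

universe u

open CategoryTheory Limits MonoidalCategory CartesianMonoidalCategory MonObj AlgebraicGeometry WithConv
open scoped TensorProduct LaurentPolynomial

noncomputable section

namespace Groth.Agent.SolvGrp.DynPts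

open SolvGrp GrpSchLib GrpSchLib.Kunneth GrpSchLib.LineGroups GrpSchLib.SplitTorusPoints WeilCmp.Unip AGFLib AGFLib.Gen
  AGFLib.BorelFixed AffineHopf DynLimit

/-- The Hopf algebra of a lattice, found quickly. -/
instance (priority := high) hopfLat (k : Type u) [Field k] (r : ℕ) :
    HopfAlgebra k (MonoidAlgebra k (Multiplicative (Fin r → ℤ))) := inferInstance

set_option backward.isDefEq.respectTransparency false

attribute [local instance 2000] DynLimit.ptGroup

variable {k : Type u} [Field k] {K : Type u} [Field K] [Algebra k K]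

local notation "PK" => 𝟙_ (Over (Spec (CommRingCat.of K)))

/-- The value of a coordinate at a point given by a ring map. -/
theorem vl_fnSp_of_left {B : Type u} [CommRing B] [Algebra K B] (s : PK ⟶ sp K B) (ψ : B →+* K)
    (h : s.left = Spec.map (CommRingCat.ofHom ψ)) (b : B) : vl s (fnSp K B b) = ψ b := by
  show ProjAct.toK (k := K) (s.left.appTop.hom ((Scheme.ΓSpecIso (CommRingCat.of B)).inv.hom b)) = ψ b
  rw [h]
  have h1 := ConcreteCategory.congr_hom (Scheme.ΓSpecIso_inv_naturality (CommRingCat.ofHom ψ)) b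
  refine (congrArg (ProjAct.toK (k := K)) h1.symm).trans (Eq.trans ?_ (ProjAct.toK_algebraMap (ψ b)))
  congr 1

variable (k K) in
/-- The base change of the spectrum of a Hopf algebra. -/
def bcSp (B : Type u) [CommRing B] [HopfAlgebra k B] :
    Grp.mk (Red.bc (σK k K) (sp k B)) ≅ Grp.mk (sp K (K ⊗[k] B)) :=
  letI g : Red.bc (σK k K) (sp k B) ⟶ sp K (K ⊗[k] B) :=
    (pullbackSymmetry .. ≪≫ pullbackSpecIso' k K B).hom.asOver (Spec (CommRingCat.of K))
  haveI : IsMonHom g := inferInstanceAs (IsMonHom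
    ((pullbackSymmetry .. ≪≫ pullbackSpecIso' k K B).hom.asOver (Spec (CommRingCat.of K))))
  haveI : IsIso g.left := inferInstanceAs (IsIso (pullbackSymmetry .. ≪≫ pullbackSpecIso' k K B).hom)
  haveI : IsIso ((Over.forget _).map g) := ‹IsIso g.left›
  haveI : IsIso g := isIso_of_reflects_iso g (Over.forget _)
  Grp.mkIso' (asIso g)

theorem bcSp_inv_fst (B : Type u) [CommRing B] [HopfAlgebra k B] :
    (bcSp k K B).inv.hom.hom.left ≫ pullback.fst _ _ =
      Spec.map (CommRingCat.ofHom (Algebra.TensorProduct.includeRight : B →ₐ[k] K ⊗[k] B).toRingHom) := by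
  have h : (bcSp k K B).inv.hom.hom.left = ((pullbackSymmetry .. ≪≫ pullbackSpecIso' k K B).inv) := by
    refine (cancel_epi (pullbackSymmetry .. ≪≫ pullbackSpecIso' k K B).hom).mp ?_
    rw [Iso.hom_inv_id]
    show (bcSp k K B).hom.hom.hom.left ≫ (bcSp k K B).inv.hom.hom.left = _
    rw [← Over.comp_left]
    exact congrArg (fun q => q.hom.hom.left) (bcSp k K B).hom_inv_id
  rw [h, Iso.trans_inv]
  refine (Category.assoc _ _ _).trans ?_
  refine (congrArg (fun q => (pullbackSpecIso' k K B).inv ≫ q) (pullbackSymmetry_inv_comp_fst _ _)).trans ?_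
  exact pullbackSpecIso_inv_snd k K B

variable (k K) in
/-- The split torus over the extension and the base change of the split torus. -/
def torIso (r : ℕ) : Grp.mk (D K (Fin r → ℤ)) ≅
    Grp.mk (Red.bc (σK k K) (sp k (MonoidAlgebra k (Multiplicative (Fin r → ℤ))))) :=
  Iso.trans (spIso (R := K) (A := K ⊗[k] MonoidAlgebra k (Multiplicative (Fin r → ℤ)))
      (B := MonoidAlgebra K (Multiplicative (Fin r → ℤ))) (scalarBialgEquiv k K (Multiplicative (Fin r → ℤ)))).symm
    (bcSp k K (MonoidAlgebra k (Multiplicative (Fin r → ℤ)))).symm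

variable (k K) in
/-- The scalar identification. -/
abbrev scal (r : ℕ) : K ⊗[k] MonoidAlgebra k (Multiplicative (Fin r → ℤ)) →+* MonoidAlgebra K (Multiplicative (Fin r → ℤ)) :=
  (((scalarBialgEquiv k K (Multiplicative (Fin r → ℤ))).symm :
      K ⊗[k] MonoidAlgebra k (Multiplicative (Fin r → ℤ)) →ₐc[K] MonoidAlgebra K (Multiplicative (Fin r → ℤ))) :
    K ⊗[k] MonoidAlgebra k (Multiplicative (Fin r → ℤ)) →ₐ[K] MonoidAlgebra K (Multiplicative (Fin r → ℤ))).toRingHom

/-- The comparison on the torus. -/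
abbrev torMap (k K : Type u) [Field k] [Field K] [Algebra k K] (r : ℕ) :
    D K (Fin r → ℤ) ⟶ Red.bc (σK k K) (sp k (MonoidAlgebra k (Multiplicative (Fin r → ℤ)))) :=
  (torIso k K r).hom.hom.hom

theorem torMap_fst (r : ℕ) : (torMap k K r).left ≫ pullback.fst _ _ =
    Spec.map (CommRingCat.ofHom ((scal k K r).comp
      (Algebra.TensorProduct.includeRight : MonoidAlgebra k (Multiplicative (Fin r → ℤ)) →ₐ[k]
        K ⊗[k] MonoidAlgebra k (Multiplicative (Fin r → ℤ))).toRingHom)) := by
  rw [CommRingCat.ofHom_comp, Spec.map_comp]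
  show (Spec.map _ ≫ (bcSp k K _).inv.hom.hom.left) ≫ pullback.fst _ _ = _
  rw [Category.assoc, bcSp_inv_fst]

/-- The values of the monomials at a point of the torus. -/
theorem Ψ_torMap {r : ℕ} (s : PK ⟶ D K (Fin r → ℤ)) (m : Fin r → ℤ) :
    (Ψ K _ (s ≫ torMap k K r)).ofConv (MonoidAlgebra.single (Multiplicative.ofAdd m) 1) = vl s (mon K m) := by
  let ψ : CommRingCat.of (MonoidAlgebra K (Multiplicative (Fin r → ℤ))) ⟶ CommRingCat.of K := Spec.preimage s.left
  have hψ : s.left = Spec.map ψ := (Spec.map_preimage _).symm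
  rw [mon, vl_fnSp_of_left s ψ.hom hψ]
  let g : MonoidAlgebra k (Multiplicative (Fin r → ℤ)) →+* K :=
    ψ.hom.comp ((scal k K r).comp
      (Algebra.TensorProduct.includeRight : MonoidAlgebra k (Multiplicative (Fin r → ℤ)) →ₐ[k]
        K ⊗[k] MonoidAlgebra k (Multiplicative (Fin r → ℤ))).toRingHom)
  have h1 : (Ψ K _ (s ≫ torMap k K r)).ofConv.toRingHom = g :=
    congrArg CommRingCat.Hom.hom (Spec.map_injective (a₁ := CommRingCat.ofHom _) (a₂ := CommRingCat.ofHom g) (by
      refine (Ψ_fst _).trans ?_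
      show (s.left ≫ (torMap k K r).left) ≫ pullback.fst _ _ = _
      refine (Category.assoc _ _ _).trans ?_
      rw [torMap_fst, hψ]
      exact (Spec.map_comp _ _).symm))
  refine (RingHom.congr_fun h1 _).trans (congrArg ψ.hom ?_)
  show (scalarBialgEquiv k K (Multiplicative (Fin r → ℤ))).symm (1 ⊗ₜ MonoidAlgebra.single _ 1) = _
  show (MonoidAlgebra.scalarTensorEquiv k K (M := Multiplicative (Fin r → ℤ))).symm.symm
    (1 ⊗ₜ MonoidAlgebra.single (Multiplicative.ofAdd m) 1) = _
  simp

/-- The cocharacter of a functional on the lattice. -/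
def proj (k : Type u) [Field k] {r : ℕ} (n : (Fin r → ℤ) →+ ℤ) :
    MonoidAlgebra k (Multiplicative (Fin r → ℤ)) →ₐc[k] k[T;T⁻¹] :=
  ((AddMonoidAlgebra.toMultiplicativeBialgEquiv k k (M := ℤ)).symm :
      MonoidAlgebra k (Multiplicative ℤ) →ₐc[k] k[T;T⁻¹]).comp
    (MonoidAlgebra.mapDomainBialgHom k (AddMonoidHom.toMultiplicative n))

theorem proj_single {r : ℕ} (n : (Fin r → ℤ) →+ ℤ) (m : Fin r → ℤ) :
    proj k n (MonoidAlgebra.single (Multiplicative.ofAdd m) 1) = AddMonoidAlgebra.single (n m) 1 := by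
  have h : (AddMonoidAlgebra.toMultiplicativeBialgEquiv k k (M := ℤ)) (AddMonoidAlgebra.single (n m) 1) =
      MonoidAlgebra.single (Multiplicative.ofAdd (n m)) 1 := by
    simp [AddMonoidAlgebra.toMultiplicativeBialgEquiv, -LaurentPolynomial.single_eq_C_mul_T]
  show (AddMonoidAlgebra.toMultiplicativeBialgEquiv k k (M := ℤ)).symm (MonoidAlgebra.mapDomain _
    (MonoidAlgebra.single (Multiplicative.ofAdd m) 1)) = _
  rw [MonoidAlgebra.mapDomain_single]
  exact (congrArg _ h.symm).trans ((AddMonoidAlgebra.toMultiplicativeBialgEquiv k k (M := ℤ)).symm_apply_apply _)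

variable {A : Type u} [CommRing A] [HopfAlgebra k A] {r : ℕ}
  (f : A →ₐc[k] MonoidAlgebra k (Multiplicative (Fin r → ℤ)))

/-- The torus inside the group over the extension. -/
abbrev torA (K : Type u) [Field K] [Algebra k K] (f : A →ₐc[k] MonoidAlgebra k (Multiplicative (Fin r → ℤ))) :
    D K (Fin r → ℤ) ⟶ Red.bc (σK k K) (sp k A) :=
  torMap k K r ≫ (Over.pullback (σK k K)).map (spMap (f : A →ₐ[k] _))

instance isMonHom_torA : IsMonHom (torA K f) := by
  haveI : IsMonHom (torMap k K r) := (torIso k K r).hom.hom.isMonHom_hom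
  haveI : (Over.pullback (σK k K)).IsRightAdjoint := (Over.mapPullbackAdj (σK k K)).isRightAdjoint
  infer_instance

/-- The point of the torus over the extension with the values of a map of Laurent polynomials. -/
theorem exists_cocharPt (n : (Fin r → ℤ) →+ ℤ) (φ : k[T;T⁻¹] →ₐ[k] K) :
    ∃ s : PK ⟶ D K (Fin r → ℤ), (∀ m, vl s (mon K m) = φ (AddMonoidAlgebra.single (n m) 1)) ∧
      Ψ K A (s ≫ torA K f) = lamPt ((proj k n).comp f) φ := by
  obtain ⟨s, hs⟩ := exists_hom (k := K) (Z := PK) (M := Fin r → ℤ)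
    { toFun := fun m => algebraMap K (Fn PK) (φ (AddMonoidAlgebra.single (n (Multiplicative.toAdd m)) 1))
      map_one' := by
        show algebraMap K (Fn PK) (φ (AddMonoidAlgebra.single (n 0) 1)) = 1
        rw [map_zero, show AddMonoidAlgebra.single (0 : ℤ) (1 : k) = 1 from rfl, map_one, map_one]
      map_mul' := fun a b => by
        rw [← map_mul, ← map_mul, AddMonoidAlgebra.single_mul_single, _root_.one_mul]
        exact congrArg (fun z => algebraMap K (Fn PK) (φ (AddMonoidAlgebra.single z 1)))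
          (map_add n (Multiplicative.toAdd a) (Multiplicative.toAdd b)) }
  have hs' : ∀ m, vl s (mon K m) = φ (AddMonoidAlgebra.single (n m) 1) := fun m => by
    show ProjAct.toK (ev s (mon K m)) = _
    rw [hs m]
    exact ProjAct.toK_algebraMap _
  refine ⟨s, hs', ?_⟩
  rw [← Category.assoc, Ψ_map]
  refine WithConv.ext ?_
  show (Ψ K _ (s ≫ torMap k K r)).ofConv.comp (f : A →ₐ[k] _) = φ.comp (((proj k n).comp f : A →ₐc[k] k[T;T⁻¹]) : A →ₐ[k] _)
  rw [show (Ψ K _ (s ≫ torMap k K r)).ofConv = φ.comp (proj k n : _ →ₐ[k] k[T;T⁻¹]) from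
    MonoidAlgebra.algHom_ext (fun m => by
      refine (Ψ_torMap s (Multiplicative.toAdd m)).trans ((hs' _).trans ?_)
      exact congrArg φ (proj_single n _).symm) (by ext)]
  rfl

/-- Points of the torus commute with the cocharacter. -/
theorem orbit_pull (n : (Fin r → ℤ) →+ ℤ) {R : Type u} [CommRing R] [Algebra k R]
    (t : WithConv (MonoidAlgebra k (Multiplicative (Fin r → ℤ)) →ₐ[k] R)) :
    orbit ((proj k n).comp f) R (pull f t) = push (cst k R) (pull f t) := by
  have hcomm : Commute (lamPt ((proj k n).comp f) (mapT k R)) (push (cst k R) (pull f t)) := by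
    rw [show lamPt ((proj k n).comp f) (mapT k R) = pull f (lamPt (proj k n) (mapT k R)) from rfl,
      show push (cst k R) (pull f t) = pull f (push (cst k R) t) from rfl]
    refine Commute.map ?_ (pull f)
    refine WithConv.ext (MonoidAlgebra.algHom_ext (fun m => ?_) (by ext))
    show ((lamPt (proj k n) (mapT k R)) * push (cst k R) t) (MonoidAlgebra.single m 1) =
      (push (cst k R) t * lamPt (proj k n) (mapT k R)) (MonoidAlgebra.single m 1)
    rw [AlgHom.convMul_apply, AlgHom.convMul_apply]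
    simp only [MonoidAlgebra.comul_single, CommSemiring.comul_apply, TensorProduct.map_tmul,
      MonoidAlgebra.lsingle_apply, Algebra.TensorProduct.lift_tmul]
    exact mul_comm _ _
  rw [orbit_apply, hcomm.eq, mul_inv_cancel_right]

/-- Two points over Laurent polynomials with the same values are equal. -/
theorem eq_of_eval [Infinite K] {x y : WithConv (A →ₐ[k] K[T;T⁻¹])}
    (h : ∀ φ : K[T;T⁻¹] →ₐ[K] K, push (φ.restrictScalars k) x = push (φ.restrictScalars k) y) : x = y := by
  refine WithConv.ext (AlgHom.ext fun a => ?_)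
  rw [← sub_eq_zero]
  set p := x.ofConv a - y.ofConv a
  let χ : Multiplicative ℤ → (Kˣ →* K) := fun n =>
    (Units.coeHom K).comp (zpowGroupHom (Multiplicative.toAdd n))
  have hp : ∀ c : Kˣ, ∑ n ∈ p.coeff.support, p.coeff n * χ (Multiplicative.ofAdd n) c = 0 := fun c => by
    let φ : K[T;T⁻¹] →ₐ[K] K := AddMonoidAlgebra.lift K K ℤ ((Units.coeHom K).comp (zpowersHom Kˣ c))
    have h1 := congrArg (fun z : WithConv (A →ₐ[k] K) => z.ofConv a) (h φ)
    have h2 : φ p = 0 := by
      show φ (x.ofConv a - y.ofConv a) = 0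
      rw [map_sub, sub_eq_zero]
      exact h1
    rw [AddMonoidAlgebra.lift_apply, Finsupp.sum] at h2
    refine Eq.trans (Finset.sum_congr rfl fun n _ => ?_) h2
    rfl
  have hinj : Function.Injective χ := fun a b hab => by
    by_contra hne
    have hd : (Multiplicative.toAdd a - Multiplicative.toAdd b).natAbs ≠ 0 :=
      Int.natAbs_ne_zero.mpr (sub_ne_zero.mpr fun e => hne (Multiplicative.toAdd.injective e))
    set d := (Multiplicative.toAdd a - Multiplicative.toAdd b).natAbs
    obtain ⟨c, hc⟩ : ∃ c : Kˣ, c ^ d ≠ 1 := by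
      have hP : (Polynomial.X ^ d - Polynomial.C 1 : Polynomial K) * Polynomial.X ≠ 0 :=
        mul_ne_zero (Polynomial.X_pow_sub_C_ne_zero (Nat.pos_of_ne_zero hd) 1) Polynomial.X_ne_zero
      obtain ⟨c, hc⟩ := Polynomial.exists_eval_ne_zero_of_natDegree_lt_card _ hP
        ((Cardinal.nat_lt_aleph0 _).trans_le (Cardinal.aleph0_le_mk K))
      simp only [Polynomial.eval_mul, Polynomial.eval_sub, Polynomial.eval_pow, Polynomial.eval_X, Polynomial.eval_C,
        ne_eq, mul_eq_zero, sub_eq_zero, not_or] at hc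
      exact ⟨Units.mk0 c hc.2, fun e => hc.1 (congrArg Units.val e)⟩
    refine hc ?_
    have h1 : c ^ Multiplicative.toAdd a = c ^ Multiplicative.toAdd b := Units.ext (DFunLike.congr_fun hab c)
    have h2 : c ^ (Multiplicative.toAdd a - Multiplicative.toAdd b) = 1 := by rw [zpow_sub, h1, mul_inv_cancel]
    rcases Int.natAbs_eq (Multiplicative.toAdd a - Multiplicative.toAdd b) with e | e
    · rwa [e, zpow_natCast] at h2
    · rwa [e, zpow_neg, zpow_natCast, inv_eq_one] at h2
  have hli := (linearIndependent_monoidHom Kˣ K).comp (fun n : p.coeff.support => χ (Multiplicative.ofAdd (n : ℤ)))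
    fun a b hab => Subtype.ext (Multiplicative.ofAdd.injective (hinj hab))
  refine LaurentPolynomial.ext fun n => ?_
  by_contra hn
  refine hn ?_
  have h0 := Fintype.linearIndependent_iff.mp hli (fun n => p.coeff n) (funext fun c => by
    rw [Finset.sum_apply, Pi.zero_apply]
    simp only [Pi.smul_apply, smul_eq_mul, Function.comp_apply]
    rw [Finset.sum_coe_sort p.coeff.support (fun n => p.coeff n * χ (Multiplicative.ofAdd n) c)]
    exact hp c) ⟨n, Finsupp.mem_support_iff.mpr hn⟩
  exact h0

end Groth.Agent.SolvGrp.DynPts
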