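import Groth.Agent.SolvGrp.Closed
import Groth.Agent.SolvGrp.TorusPts

/-! A connected commutative smooth affine group is the product of a torus and its unipotent points. -/

set_option backward.isDefEq.respectTransparency false
set_option backward.isDefEq.respectTransparency.types false
set_option linter.style.haveILetI false

universe u

open CategoryTheory MonoidalCategory CartesianMonoidalCategory MonObj AlgebraicGeometry

namespace Groth.Agent.SolvGrp

open GrpSchLib GrpSchLib.Kunneth GrpSchLib.LineGroups WeilCmp.Unip AGFLib AGFLib.Gen AGFLib.BorelFixed AGFLib.BorelExist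

variable {k : Type u} [Field k] [IsAlgClosed k]

local notation "PT" => 𝟙_ (Over (Spec (CommRingCat.of k)))

/-- In a connected commutative group there is a torus containing every semisimple point. -/
theorem exists_torus_comm {G : Over (Spec (CommRingCat.of k))} [GrpObj G] [IsAffine G.left] [Smooth G.hom]
    [ConnectedSpace G.left] (hcomm : ∀ a b : PT ⟶ G, Commute a b) :
    ∃ (T : Over (Spec (CommRingCat.of k))) (_ : GrpObj T) (i : T ⟶ G) (_ : IsMonHom i),
      IsClosedImmersion i.left ∧ Red.IsTorus T ∧ ∀ g : PT ⟶ G, IsSsPt g → g ∈ rangePts i := by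
  haveI : IsReduced G.left := isReduced_of_smooth_field G.hom
  obtain ⟨E, -, hS, hEss, -⟩ := exists_eigSub {g : PT ⟶ G | IsSsPt g} (fun g hg => hg) (fun g _ h _ => hcomm g h)
  obtain ⟨D, _, i, hi, hci, hsm, hconn, haff, hle, R, hRf, hR, hcov⟩ := exists_connSub (eigSub E) (ptsClosed_eigPts E)
  obtain ⟨-, hlft, hqc, hmono, hev⟩ := sub_props i
  haveI := hlft
  haveI := hqc
  haveI : IsReduced D.left := isReduced_of_smooth_field D.hom
  have hinj : ∀ a b : PT ⟶ D, a ≫ i = b ≫ i → a = b := fun a b h => (cancel_mono i).mp h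
  have hT : Red.IsTorus D := isTorus_of_pts D (fun d => (hEss _ (hle ⟨d, rfl⟩)).map i hev)
    (fun a b => hinj _ _ (by rw [MonObj.mul_comp, MonObj.mul_comp]; exact hcomm _ _))
  -- the unipotent subgroup and the product
  let U : Subgroup (PT ⟶ G) :=
    { carrier := {g | IsUnipPt g}
      one_mem' := isUnipPt_one
      mul_mem' := fun {a b} ha hb => IsUnipPt.mul ha hb (hcomm a b)
      inv_mem' := fun {a} ha => by
        obtain ⟨s, u, hsu, hc, hs, hu, -⟩ := exists_jordan a⁻¹
        have h1 : (1 : PT ⟶ G) = s * (u * a) := by rw [← _root_.mul_assoc, ← hsu, inv_mul_cancel]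
        have h2 := jordan_unique h1 (hc.mul_right (hcomm s a)) hs (IsUnipPt.mul hu ha (hcomm u a))
          (_root_.one_mul (1 : PT ⟶ G)).symm (Commute.one_left _) isSsPt_one isUnipPt_one
        show IsUnipPt a⁻¹
        rw [hsu, h2.1, _root_.one_mul]
        exact hu }
  obtain ⟨Du, _, iu, hiu, hciu, hsmu, haffu, hru⟩ := exists_sub U ptsClosed_unip
  obtain ⟨-, hlftu, hqcu, -, -⟩ := sub_props iu
  haveI := hlftu
  haveI := hqcu
  let φ : D ⊗ Du ⟶ G := (fst D Du ≫ i) * (snd D Du ≫ iu)
  haveI : IsMonHom φ := AGFLib.isMonHom_of_mul φ fun T a b => by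
    simp only [φ, MonObj.comp_mul, ← Category.assoc, MonObj.mul_comp]
    letI : CommSemigroup (T ⟶ G) := { (inferInstance : Monoid (T ⟶ G)) with mul_comm := mul_comm_of_pts hcomm }
    ac_rfl
  haveI : LocallyOfFiniteType (D ⊗ Du).hom :=
    inferInstanceAs (LocallyOfFiniteType (Limits.pullback.fst D.hom Du.hom ≫ D.hom))
  haveI : QuasiCompact (D ⊗ Du).hom := inferInstanceAs (QuasiCompact (Limits.pullback.fst D.hom Du.hom ≫ D.hom))
  have hmem : ∀ (d : PT ⟶ D) (u : PT ⟶ G), IsUnipPt u → (d ≫ i) * u ∈ rangePts φ := fun d u hu => by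
    obtain ⟨x, hx⟩ : u ∈ rangePts iu := hru.symm ▸ hu
    refine ⟨lift d x, ?_⟩
    simp only [φ, MonObj.comp_mul, lift_fst_assoc, lift_snd_assoc]
    rw [← hx]
  have htop : rangePts φ = ⊤ := eq_top_of_finite _ (ptsClosed_range φ) R hRf fun g => by
    obtain ⟨s, u, rfl, -, hs, hu, -⟩ := exists_jordan g
    obtain ⟨r, hr, d, hd⟩ := hcov s (hS hs)
    refine ⟨r, hr, ?_⟩
    rw [← _root_.mul_assoc]
    exact hd ▸ hmem d u hu
  refine ⟨D, inferInstance, i, hi, hci, hT, fun g hg => ?_⟩
  obtain ⟨x, hx⟩ : g ∈ rangePts φ := htop ▸ Subgroup.mem_top g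
  simp only [φ, MonObj.comp_mul, ← Category.assoc] at hx
  have hu : IsUnipPt ((x ≫ snd D Du) ≫ iu) := (hru ▸ ⟨_, rfl⟩ : (x ≫ snd D Du) ≫ iu ∈ U)
  have h2 := jordan_unique hx.symm (hcomm _ _) (isSsPt_of_torus hT i _) hu (_root_.mul_one g).symm (Commute.one_right g)
    hg isUnipPt_one
  exact ⟨x ≫ fst D Du, h2.1⟩

/-- A connected commutative group without subtori has only unipotent points. -/
theorem isUnipPt_comm {G : Over (Spec (CommRingCat.of k))} [GrpObj G] [IsAffine G.left] [Smooth G.hom]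
    [ConnectedSpace G.left] (hcomm : ∀ a b : PT ⟶ G, Commute a b) (h : Red.HasNoSubtorus k G) (g : PT ⟶ G) :
    IsUnipPt g := by
  haveI : IsReduced G.left := isReduced_of_smooth_field G.hom
  obtain ⟨T, _, i, hi, hci, hT, hmem⟩ := exists_torus_comm hcomm
  haveI := hi
  haveI := hci
  haveI := (mono_of_closedImmersion i)
  obtain ⟨s, u, rfl, -, hs, hu, -⟩ := exists_jordan g
  obtain ⟨t, rfl⟩ := hmem s hs
  have htriv : IsIso T.hom := h T i hT
  have ht : t = 1 := Over.OverMorphism.ext ((cancel_mono T.hom).mp ((Over.w t).trans (Over.w (1 : PT ⟶ T)).symm))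
  show IsUnipPt ((t ≫ i) * u)
  rw [ht, MonObj.one_comp, _root_.one_mul]
  exact hu

end Groth.Agent.SolvGrp
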