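import Groth.Agent.SolvGrp.Cartan
import Groth.Agent.AGFLib.FibrePts
import Groth.Agent.AGFLib.LargestNormal
import Groth.Agent.FlatMisc.ComponentsNear

/-! The conjugates of a Cartan subgroup fill a nonempty open subset. -/

set_option backward.isDefEq.respectTransparency false
set_option backward.isDefEq.respectTransparency.types false
set_option linter.style.haveILetI false

universe u

open CategoryTheory MonoidalCategory CartesianMonoidalCategory MonObj AlgebraicGeometry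

namespace Groth.Agent.SolvGrp

open GrpSchLib GrpSchLib.Kunneth GrpSchLib.LineGroups WeilCmp.Unip AGFLib AGFLib.Gen AGFLib.BorelFixed AGFLib.BorelExist

variable {k : Type u} [Field k] [IsAlgClosed k]

local notation "PT" => 𝟙_ (Over (Spec (CommRingCat.of k)))

/-- A morphism with one small fibre has image containing a nonempty open. -/
theorem exists_open_of_fibre {Z Y : Over (Spec (CommRingCat.of k))} [LocallyOfFiniteType Z.hom]
    [LocallyOfFiniteType Y.hom] [IsSeparated Y.hom] [IrreducibleSpace Z.left] [IrreducibleSpace Y.left] (f : Z ⟶ Y)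
    (w : PT ⟶ Z) (h : ∀ z : Z.left, f.left z = cp (w ≫ f) →
      VarDim.deg Z.hom z + VarDim.deg Y.hom (genericPoint Y.left) ≤ VarDim.deg Z.hom (genericPoint Z.left)) :
    ∃ V : Y.left.Opens, (V : Set Y.left).Nonempty ∧ ∀ y ∈ V, ∃ x, f.left x = y := by
  haveI : LocallyOfFiniteType (f.left ≫ Y.hom) := by rw [Over.w f]; infer_instance
  haveI : LocallyOfFiniteType f.left := locallyOfFiniteType_of_comp f.left Y.hom
  obtain ⟨x, -, -, hx, hge⟩ := VarDim.exists_fdeg_ge (k := k) f.left Y.hom (genericPoint_specializes (cp w))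
  have hx' : f.left x = cp (w ≫ f) := hx
  have h1 := VarDim.deg_eq_add f.left Y.hom (Over.w f) x
  have h2 := VarDim.deg_eq_add f.left Y.hom (Over.w f) (genericPoint Z.left)
  rw [hx', (VarDim.closedPoint_iff_deg_eq_zero Y.hom _).1 (isClosed_cp (w ≫ f))] at h1
  have h3 := h x hx'
  have hgen : f.left (genericPoint Z.left) = genericPoint Y.left := by
    by_contra hne
    have h4 : VarDim.deg Y.hom (f.left (genericPoint Z.left)) < VarDim.deg Y.hom (genericPoint Y.left) :=
      VarDim.deg_strictMono Y.hom (lt_iff_le_not_ge.2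
        ⟨genericPoint_specializes (f.left (genericPoint Z.left)),
          fun hle => hne ((Specializes.antisymm hle (genericPoint_specializes _))).eq⟩)
    omega
  obtain ⟨V, hV, hVi⟩ := FlatMisc.ComponentsNear.exists_open_subset_image f.left ⊤ ⟨_, trivial, hgen⟩
  exact ⟨V, hV, fun y hy => (hVi y hy).imp fun x hx => hx.2⟩

variable {G : Over (Spec (CommRingCat.of k))} [GrpObj G] [IsAffine G.left] [Smooth G.hom] [ConnectedSpace G.left]

/-- The points conjugating a generic element of a maximal torus into the connected centraliser normalise the torus. -/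
theorem normalizes_of_conj {T C : Over (Spec (CommRingCat.of k))} [GrpObj T] [GrpObj C] (iT : T ⟶ G) [IsMonHom iT]
    [Mono iT] (hT : Red.IsTorus T) (i : C ⟶ G) [IsMonHom i] [LocallyOfFiniteType C.hom] [QuasiCompact C.hom]
    (hc : ∀ g ∈ rangePts i, ∀ s ∈ rangePts iT, Commute g s)
    (hd : ∀ g ∈ rangePts i, ∃ t ∈ rangePts iT, IsUnipPt (t⁻¹ * g))
    (R : Set (PT ⟶ G)) (hR : R.Finite)
    (hcov : ∀ g : PT ⟶ G, (∀ s ∈ rangePts iT, Commute g s) → ∃ r ∈ R, r⁻¹ * g ∈ rangePts i)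
    (t₀ : PT ⟶ T) (ht₀ : ∀ g : PT ⟶ G, Commute g (t₀ ≫ iT) → ∀ s : PT ⟶ T, Commute g (s ≫ iT))
    (g : PT ⟶ G) (y : PT ⟶ C) (h : g * (y ≫ i) * g⁻¹ = t₀ ≫ iT) :
    ∀ s ∈ rangePts iT, g⁻¹ * s * g ∈ rangePts iT := by
  haveI : IsReduced G.left := isReduced_of_smooth_field G.hom
  obtain ⟨hcT, hsmT, hconnT, haffT, hlT, hqT, -⟩ := torus_sub hT iT
  haveI := hcT
  haveI := hsmT
  haveI := hconnT
  haveI := haffT
  haveI := hlT
  haveI := hqT
  have hyi : y ≫ i ∈ rangePts iT := mem_torus_of_ss iT hT i hc hd ⟨y, rfl⟩ (by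
    have := (isSsPt_of_torus hT iT t₀).conj g⁻¹
    rw [← h] at this
    simpa [_root_.mul_assoc] using this)
  haveI : IsMonHom (AGF.conjBy g iT) := by rw [AGFLib.Borel.conjBy_eq]; infer_instance
  have hle : rangePts (AGF.conjBy g iT) ≤ rangePts i :=
    rangePts_le_of_finite (AGF.conjBy g iT) _ (ptsClosed_range i) R hR fun x hx => by
      rw [rangePts_conjBy] at hx
      obtain ⟨a, ha⟩ := hx
      obtain ⟨b, hb⟩ := hyi
      refine hcov x ?_
      rintro _ ⟨s, rfl⟩
      refine ht₀ x ?_ s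
      have h1 : Commute (g⁻¹ * x * g) (y ≫ i) := by
        rw [← show a ≫ iT = g⁻¹ * x * g from ha, ← show b ≫ iT = y ≫ i from hb, Commute, SemiconjBy,
          ← MonObj.mul_comp, ← MonObj.mul_comp, (torus_commute hT a b).eq]
      have h2 := h1.map (MulAut.conj g).toMonoidHom
      rw [← h]
      simpa [_root_.mul_assoc] using h2
  obtain ⟨φ, -, hφ⟩ := exists_fac_sub iT (AGF.conjBy g iT) fun x hx => by
    refine mem_torus_of_ss iT hT i hc hd (hle hx) ?_
    obtain ⟨a, ha⟩ := hx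
    rw [← show a ≫ AGF.conjBy g iT = x from ha]
    exact isSsPt_of_torus hT (AGF.conjBy g iT) a
  haveI : IsClosedImmersion (AGF.conjBy g iT).left := by
    rw [AGFLib.Borel.conjBy_eq]
    exact inferInstanceAs (IsClosedImmersion (iT.left ≫ (AGFLib.Borel.conjM g).left))
  haveI : IsClosedImmersion (φ.left ≫ iT.left) := by rw [← Over.comp_left, hφ]; infer_instance
  haveI : IsClosedImmersion φ.left := IsClosedImmersion.of_comp φ.left iT.left
  haveI := AGFLib.Borel.isIso_endo φ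
  rintro _ ⟨s, rfl⟩
  refine ⟨s ≫ inv φ, ?_⟩
  show (s ≫ inv φ) ≫ iT = g⁻¹ * (s ≫ iT) * g
  have h3 : s ≫ iT = g * ((s ≫ inv φ) ≫ iT) * g⁻¹ := by
    rw [← comp_conjM_pt, Category.assoc (s ≫ inv φ), ← AGFLib.Borel.conjBy_eq, ← hφ, Category.assoc,
      IsIso.inv_hom_id_assoc]
  rw [h3]
  group

/-- The conjugates of the connected centraliser of a maximal torus contain a nonempty open set. -/
theorem exists_open_conj {T C : Over (Spec (CommRingCat.of k))} [GrpObj T] [GrpObj C] (iT : T ⟶ G) [IsMonHom iT]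
    [Mono iT] (hT : Red.IsTorus T) (i : C ⟶ G) [IsMonHom i] [IsClosedImmersion i.left] [Smooth C.hom]
    [ConnectedSpace C.left] (hTC : rangePts iT ≤ rangePts i) (hc : ∀ g ∈ rangePts i, ∀ s ∈ rangePts iT, Commute g s)
    (hd : ∀ g ∈ rangePts i, ∃ t ∈ rangePts iT, IsUnipPt (t⁻¹ * g))
    (R : Set (PT ⟶ G)) (hR : R.Finite)
    (hcov : ∀ g : PT ⟶ G, (∀ s ∈ rangePts iT, Commute g s) → ∃ r ∈ R, r⁻¹ * g ∈ rangePts i) :
    ∃ V : G.left.Opens, (V : Set G.left).Nonempty ∧
      ∀ x : PT ⟶ G, cp x ∈ V → ∃ (g : PT ⟶ G) (y : PT ⟶ C), g * (y ≫ i) * g⁻¹ = x := by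
  haveI : IsReduced G.left := isReduced_of_smooth_field G.hom
  obtain ⟨haC, hlC, hqC, hmono, -⟩ := sub_props i
  haveI := haC
  haveI := hlC
  haveI := hqC
  haveI := hmono
  haveI : QuasiCompact G.hom := inferInstance
  haveI := GrpSchLib.AntiAffine.isSeparated_grp G
  haveI := GrpSchLib.AntiAffine.isSeparated_grp C
  obtain ⟨t₀, ht₀⟩ := exists_generic iT hT
  obtain ⟨N, hN, hNcov⟩ := finite_normalizer iT hT
  haveI := Adjoint.geometricallyIrreducible (G := G)
  haveI := Adjoint.geometricallyIrreducible (G := C)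
  haveI : IrreducibleSpace G.left := Groth.Agent.S0348.result k G
  haveI : IrreducibleSpace C.left := Groth.Agent.S0348.result k C
  haveI : IrreducibleSpace (G ⊗ C).left := by
    haveI : UniversallyOpen G.hom := inferInstance
    exact GeometricallyIrreducible.irreducibleSpace (f := Limits.pullback.snd G.hom C.hom)
      (Limits.pullback.snd G.hom C.hom).isOpenMap
  haveI : LocallyOfFiniteType (G ⊗ C).hom :=
    inferInstanceAs (LocallyOfFiniteType (Limits.pullback.fst G.hom C.hom ≫ G.hom))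
  haveI : IsSeparated (G ⊗ C).hom :=
    inferInstanceAs (IsSeparated (Limits.pullback.fst G.hom C.hom ≫ G.hom))
  let φ : G ⊗ C ⟶ G := fst G C * (snd G C ≫ i) * (fst G C)⁻¹
  have hφ : ∀ w : PT ⟶ G ⊗ C, w ≫ φ = (w ≫ fst G C) * ((w ≫ snd G C) ≫ i) * (w ≫ fst G C)⁻¹ := fun w => by
    simp only [φ, MonObj.comp_mul, GrpObj.comp_inv, Category.assoc]
  obtain ⟨y₀, hy₀⟩ := hTC (⟨t₀, rfl⟩ : t₀ ≫ iT ∈ rangePts iT)
  let w₀ : PT ⟶ G ⊗ C := lift 1 y₀
  have hw₀ : w₀ ≫ φ = t₀ ≫ iT := by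
    rw [hφ, lift_fst, lift_snd, inv_one, _root_.mul_one, _root_.one_mul]
    exact hy₀
  obtain ⟨V, hV, hVi⟩ := exists_open_of_fibre φ w₀ (by
    intro z hz
    let F : Set (G ⊗ C).left := φ.left ⁻¹' {cp (w₀ ≫ φ)}
    have hF : IsClosed F := (isClosed_cp _).preimage φ.left.continuous
    have hfin : ∀ g : PT ⟶ G, {w : PT ⟶ G ⊗ C | cp w ∈ F ∧ w ≫ fst G C = g}.Finite := fun g => by
      refine Set.Subsingleton.finite fun a ha b hb => ?_
      have h1 : a ≫ φ = b ≫ φ := cp_injective ((show cp (a ≫ φ) = cp (w₀ ≫ φ) from ha.1).trans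
        (show cp (b ≫ φ) = cp (w₀ ≫ φ) from hb.1).symm)
      rw [hφ, hφ, ha.2, hb.2, mul_left_inj, mul_right_inj, cancel_mono] at h1
      exact CartesianMonoidalCategory.hom_ext _ _ (ha.2.trans hb.2.symm) h1
    have hdeg := AGFLib.FibrePts.deg_eq_of_finite (fst G C) hF hfin (show z ∈ F from hz)
    have hsub : F ⊆ ⋃ r ∈ R ×ˢ N, (fst G C).left ⁻¹'
        closure (Set.range ((toUnit C ≫ r.1) * i * (toUnit C ≫ r.2)).left) := by
      refine AGFLib.FibrePts.subset_of_pts hF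
        ((hR.prod hN).isClosed_biUnion fun r _ => isClosed_closure.preimage (fst G C).left.continuous) fun w hw => ?_
      have h1 : w ≫ φ = t₀ ≫ iT := hw₀ ▸ cp_injective hw
      rw [hφ] at h1
      obtain ⟨n, hn, hcomm⟩ := hNcov _ (normalizes_of_conj iT hT i hc hd R hR hcov t₀ ht₀ _ _ h1)
      obtain ⟨r, hr, x, hx⟩ := hcov _ hcomm
      refine Set.mem_biUnion (Set.mk_mem_prod hr hn) (subset_closure ⟨cp x, ?_⟩)
      show cp (x ≫ ((toUnit C ≫ r) * i * (toUnit C ≫ n))) = cp (w ≫ fst G C)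
      refine congrArg cp ?_
      rw [MonObj.comp_mul, MonObj.comp_mul, ← Category.assoc, ← Category.assoc, toUnit_unique (x ≫ toUnit C) (𝟙 _),
        Category.id_comp, Category.id_comp, show x ≫ i = r⁻¹ * ((w ≫ fst G C) * n⁻¹) from hx, mul_inv_cancel_left,
        inv_mul_cancel_right]
    obtain ⟨r, -, hr⟩ := Set.mem_iUnion₂.mp (hsub (show z ∈ F from hz))
    have h2 := AGFLib.FibrePts.deg_le_of_mem_closure ((toUnit C ≫ r.1) * i * (toUnit C ≫ r.2)) hr
    have h3 := AGFLib.FibrePts.deg_prod (Z := G) (Y := C)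
    omega)
  refine ⟨V, hV, fun x hx => ?_⟩
  obtain ⟨w, rfl⟩ := exists_of_mem_range φ x (hVi _ hx)
  exact ⟨w ≫ fst G C, w ≫ snd G C, (hφ w).symm⟩

end Groth.Agent.SolvGrp
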