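import Groth.Agent.S3278
import Groth.Agent.AGFLib.GenSubgroup
import Groth.Agent.AGFLib.Hull
import Groth.Agent.SolvGrp.Sub
import Groth.Agent.GrpSchLib.AdjointQuot
import Mathlib.RingTheory.Ideal.KrullsHeightTheorem

/-! The derived subgroup over an arbitrary field, as the schematic image of products of commutators. -/

set_option backward.isDefEq.respectTransparency false
set_option backward.isDefEq.respectTransparency.types false
set_option linter.style.haveILetI false

universe u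

open CategoryTheory MonoidalCategory CartesianMonoidalCategory MonObj AlgebraicGeometry

namespace Groth.Agent.SolvGrp.DerField

open GrpSchLib GrpSchLib.Kunneth GrpSchLib.LineGroups AGFLib.Gen

variable {k : Type u} [Field k]

local notation "PT" => 𝟙_ (Over (Spec (CommRingCat.of k)))

variable {X : Over (Spec (CommRingCat.of k))} [IsAffine X.left]

/-- The schematic image of a morphism of affine schemes. -/
theorem exists_image {W : Over (Spec (CommRingCat.of k))} (f : W ⟶ X) :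
    ∃ (D : Over (Spec (CommRingCat.of k))) (i : D ⟶ X) (f' : W ⟶ D), IsAffine D.left ∧ IsClosedImmersion i.left ∧
      f' ≫ i = f ∧ Function.Injective (ev f') ∧
      ∀ {T : Over (Spec (CommRingCat.of k))} (h : T ⟶ X), (∀ x, ev f x = 0 → ev h x = 0) → ∃ h' : T ⟶ D, h' ≫ i = h := by
  let I : Ideal (Fn X) := RingHom.ker (ev f)
  let D : Over (Spec (CommRingCat.of k)) := Over.mk (Spec.map (CommRingCat.ofHom (algebraMap k (Fn X ⧸ I))))
  haveI : IsAffine D.left := inferInstanceAs (IsAffine (Spec (CommRingCat.of (Fn X ⧸ I))))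
  let e : (Fn X ⧸ I) ≃ₐ[k] Fn D := spEquiv (Fn X ⧸ I)
  obtain ⟨i, hi⟩ := exists_hom_ev (T := D) (X := X) (e.toAlgHom.comp (Ideal.Quotient.mkₐ k I))
  have hsurj : Function.Surjective (ev i) := by
    rw [hi]
    intro y
    obtain ⟨x, hx⟩ := Ideal.Quotient.mkₐ_surjective k I (e.symm y)
    exact ⟨x, by show e (Ideal.Quotient.mkₐ k I x) = y; rw [hx, AlgEquiv.apply_symm_apply]⟩
  let φ : (Fn X ⧸ I) →ₐ[k] Fn W := Ideal.Quotient.liftₐ I (ev f) fun x hx => hx
  obtain ⟨f', hf'⟩ := exists_hom_ev (T := W) (X := D) (φ.comp e.symm.toAlgHom)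
  have hff : f' ≫ i = f := by
    refine ext_ev (AlgHom.ext fun x => ?_)
    rw [← ev_ev, hi, hf']
    show φ (e.symm (e (Ideal.Quotient.mkₐ k I x))) = _
    rw [AlgEquiv.symm_apply_apply]
    rfl
  refine ⟨D, i, f', inferInstance, IsClosedImmersion.of_surjective_of_isAffine i.left hsurj, hff, ?_,
    fun {T} h hh => ?_⟩
  · refine (injective_iff_map_eq_zero _).mpr fun y hy => ?_
    obtain ⟨x, rfl⟩ := hsurj y
    rw [ev_ev, hff] at hy
    rw [hi]
    show e (Ideal.Quotient.mkₐ k I x) = 0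
    rw [show Ideal.Quotient.mkₐ k I x = 0 from Ideal.Quotient.eq_zero_iff_mem.mpr hy, map_zero]
  · let ψ : (Fn X ⧸ I) →ₐ[k] Fn T := Ideal.Quotient.liftₐ I (ev h) fun x hx => hh x hx
    obtain ⟨h', hh'⟩ := exists_hom_ev (T := T) (X := D) (ψ.comp e.symm.toAlgHom)
    refine ⟨h', ext_ev (AlgHom.ext fun x => ?_)⟩
    rw [← ev_ev, hi, hh']
    show ψ (e.symm (e (Ideal.Quotient.mkₐ k I x))) = _
    rw [AlgEquiv.symm_apply_apply]
    rfl

/-- A product of schematically dominant maps of affine schemes is schematically dominant. -/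
theorem ev_tensorHom_injective {W W' D D' : Over (Spec (CommRingCat.of k))} [IsAffine W.left] [IsAffine W'.left]
    [IsAffine D.left] [IsAffine D'.left] (f : W ⟶ D) (g : W' ⟶ D') (hf : Function.Injective (ev f))
    (hg : Function.Injective (ev g)) : Function.Injective (ev (f ⊗ₘ g)) := by
  have e : (ev (f ⊗ₘ g)).comp (toProd D D') = (toProd W W').comp (Algebra.TensorProduct.map (ev f) (ev g)) := by
    refine Algebra.TensorProduct.ext' fun a b => ?_
    simp only [AlgHom.comp_apply, toProd, Algebra.TensorProduct.lift_tmul, Algebra.TensorProduct.map_tmul, map_mul,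
      ev_ev, tensorHom_fst, tensorHom_snd]
  intro a b hab
  obtain ⟨a, rfl⟩ := (toProd_bijective D D').2 a
  obtain ⟨b, rfl⟩ := (toProd_bijective D D').2 b
  refine congrArg _ ?_
  have h1 := (DFunLike.congr_fun e a).symm.trans (hab.trans (DFunLike.congr_fun e b))
  have h2 := (toProd_bijective W W').1 h1
  exact _root_.TensorProduct.map_injective_of_flat_flat (ev f).toLinearMap (ev g).toLinearMap hf hg h2

variable {G : Over (Spec (CommRingCat.of k))} [GrpObj G]

/-- The commutator map. -/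
noncomputable def comm (G : Over (Spec (CommRingCat.of k))) [GrpObj G] : G ⊗ G ⟶ G :=
  fst G G * snd G G * (fst G G)⁻¹ * (snd G G)⁻¹

theorem lift_comm {T : Over (Spec (CommRingCat.of k))} (a b : T ⟶ G) : lift a b ≫ comm G = a * b * a⁻¹ * b⁻¹ := by
  simp only [comm, MonObj.comp_mul, GrpObj.comp_inv, lift_fst, lift_snd]

theorem comp_comm {T : Over (Spec (CommRingCat.of k))} (w : T ⟶ G ⊗ G) :
    w ≫ comm G = (w ≫ fst G G) * (w ≫ snd G G) * (w ≫ fst G G)⁻¹ * (w ≫ snd G G)⁻¹ := by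
  simp only [comm, MonObj.comp_mul, GrpObj.comp_inv]

/-- Products of `n` commutators of points over `T`. -/
def IsProd (n : ℕ) {T : Over (Spec (CommRingCat.of k))} (g : T ⟶ G) : Prop :=
  ∃ w : T ⟶ Wn (G ⊗ G) n, w ≫ fn (comm G) n = g

theorem isProd_zero_iff {T : Over (Spec (CommRingCat.of k))} (g : T ⟶ G) : IsProd 0 g ↔ g = 1 := by
  constructor
  · rintro ⟨w, rfl⟩
    show w ≫ η[G] = 1
    rw [Hom.one_def, show (w : T ⟶ 𝟙_ (Over (Spec (CommRingCat.of k)))) = toUnit T from toUnit_unique _ _]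
  · rintro rfl
    exact ⟨toUnit T, (Hom.one_def (M := G)).symm⟩

theorem isProd_succ_iff {T : Over (Spec (CommRingCat.of k))} {n : ℕ} (g : T ⟶ G) :
    IsProd (n + 1) g ↔ ∃ (a b : T ⟶ G) (h : T ⟶ G), IsProd n h ∧ (a * b * a⁻¹ * b⁻¹) * h = g := by
  constructor
  · rintro ⟨w, rfl⟩
    refine ⟨((w : T ⟶ (G ⊗ G) ⊗ Wn (G ⊗ G) n) ≫ fst _ _) ≫ fst G G, ((w : T ⟶ (G ⊗ G) ⊗ Wn (G ⊗ G) n) ≫ fst _ _) ≫ snd G G,
      _, ⟨(w : T ⟶ (G ⊗ G) ⊗ Wn (G ⊗ G) n) ≫ snd _ _, rfl⟩, ?_⟩
    show _ = (w : T ⟶ (G ⊗ G) ⊗ Wn (G ⊗ G) n) ≫ ((fst _ _ ≫ comm G) * (snd _ _ ≫ fn (comm G) n))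
    rw [MonObj.comp_mul, ← comp_comm, Category.assoc, Category.assoc]
  · rintro ⟨a, b, h, ⟨v, rfl⟩, rfl⟩
    refine ⟨lift (lift a b) v, ?_⟩
    show lift (lift a b) v ≫ ((fst _ _ ≫ comm G) * (snd _ _ ≫ fn (comm G) n)) = _
    rw [MonObj.comp_mul, lift_fst_assoc, lift_snd_assoc, lift_comm]

theorem IsProd.mul {T : Over (Spec (CommRingCat.of k))} {a b : ℕ} {g h : T ⟶ G} (hg : IsProd a g) (hh : IsProd b h) :
    IsProd (a + b) (g * h) := by
  induction a generalizing g with
  | zero => rw [(isProd_zero_iff g).mp hg, _root_.one_mul, zero_add]; exact hh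
  | succ a ih =>
    obtain ⟨x, y, g', hg', rfl⟩ := (isProd_succ_iff g).mp hg
    rw [Nat.add_right_comm, _root_.mul_assoc _ g' h]
    exact (isProd_succ_iff _).mpr ⟨x, y, _, ih hg', rfl⟩

theorem isProd_comm {T : Over (Spec (CommRingCat.of k))} (a b : T ⟶ G) : IsProd 1 (a * b * a⁻¹ * b⁻¹) :=
  (isProd_succ_iff _).mpr ⟨a, b, 1, (isProd_zero_iff _).mpr rfl, _root_.mul_one _⟩

theorem IsProd.inv {T : Over (Spec (CommRingCat.of k))} {a : ℕ} {g : T ⟶ G} (hg : IsProd a g) : IsProd a g⁻¹ := by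
  induction a generalizing g with
  | zero => rw [(isProd_zero_iff g).mp hg, _root_.inv_one]; exact (isProd_zero_iff _).mpr rfl
  | succ a ih =>
    obtain ⟨x, y, g', hg', rfl⟩ := (isProd_succ_iff g).mp hg
    rw [_root_.mul_inv_rev, show (x * y * x⁻¹ * y⁻¹)⁻¹ = y * x * y⁻¹ * x⁻¹ by group]
    exact (ih hg').mul (isProd_comm y x)

theorem IsProd.conj {T : Over (Spec (CommRingCat.of k))} {a : ℕ} {g : T ⟶ G} (hg : IsProd a g) (c : T ⟶ G) :
    IsProd a (c * g * c⁻¹) := by
  induction a generalizing g with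
  | zero => rw [(isProd_zero_iff g).mp hg, _root_.mul_one, mul_inv_cancel]; exact (isProd_zero_iff _).mpr rfl
  | succ a ih =>
    obtain ⟨x, y, g', hg', rfl⟩ := (isProd_succ_iff g).mp hg
    exact (isProd_succ_iff _).mpr ⟨c * x * c⁻¹, c * y * c⁻¹, _, ih hg', by group⟩

variable [IsAffine G.left] [Smooth G.hom] [ConnectedSpace G.left]

theorem wn_isAffine : ∀ n, IsAffine (Wn (G ⊗ G) n).left
  | 0 => inferInstanceAs (IsAffine (Spec (CommRingCat.of k)))
  | n + 1 => by
    haveI := wn_isAffine n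
    haveI : IsAffine (G ⊗ G).left := inferInstanceAs (IsAffine (Limits.pullback G.hom G.hom))
    exact inferInstanceAs (IsAffine (Limits.pullback (G ⊗ G).hom (Wn (G ⊗ G) n).hom))

theorem wn_geom : ∀ n, GeometricallyIrreducible (Wn (G ⊗ G) n).hom ∧ Smooth (Wn (G ⊗ G) n).hom
  | 0 => ⟨⟨geometrically_iff_of_isClosedUnderIsomorphisms.mpr fun K _ x =>
      (Scheme.Hom.homeomorph (Limits.pullback.snd (𝟙 (Spec (CommRingCat.of k))) x)).irreducibleSpace_iff.mpr inferInstance⟩,
      inferInstanceAs (Smooth (𝟙 (Spec (CommRingCat.of k))))⟩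
  | n + 1 => by
    obtain ⟨_, _⟩ := wn_geom n
    haveI : QuasiCompact G.hom := inferInstance
    haveI := GrpSchLib.Adjoint.geometricallyIrreducible (G := G)
    haveI h2 : GeometricallyIrreducible (G ⊗ G).hom ∧ Smooth (G ⊗ G).hom :=
      ⟨GeometricallyIrreducible.comp (Limits.pullback.fst G.hom G.hom) G.hom,
        inferInstanceAs (Smooth (Limits.pullback.fst G.hom G.hom ≫ G.hom))⟩
    haveI := h2.1
    haveI := h2.2
    exact ⟨GeometricallyIrreducible.comp (Limits.pullback.fst (G ⊗ G).hom (Wn (G ⊗ G) n).hom) (G ⊗ G).hom,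
      inferInstanceAs (Smooth (Limits.pullback.fst (G ⊗ G).hom (Wn (G ⊗ G) n).hom ≫ (G ⊗ G).hom))⟩

theorem wn_integral (n : ℕ) : IsIntegral (Wn (G ⊗ G) n).left := by
  obtain ⟨_, _⟩ := wn_geom (G := G) n
  haveI : IrreducibleSpace (Wn (G ⊗ G) n).left :=
    GeometricallyIrreducible.irreducibleSpace_of_subsingleton (Wn (G ⊗ G) n).hom
  haveI : IsReduced (Wn (G ⊗ G) n).left := isReduced_of_smooth_field (Wn (G ⊗ G) n).hom
  exact isIntegral_of_irreducibleSpace_of_isReduced _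

/-- The kernels of the product maps are prime, so the descending chain stabilises. -/
theorem exists_stable : ∃ n, ∀ m x, ev (fn (comm G) n) x = 0 → ev (fn (comm G) m) x = 0 := by
  haveI : QuasiCompact G.hom := inferInstance
  haveI : ∀ n, IsAffine (Wn (G ⊗ G) n).left := wn_isAffine
  haveI := AGFLib.finiteType_fn G
  haveI : IsNoetherianRing (Fn G) := Algebra.FiniteType.isNoetherianRing k (Fn G)
  have hmono : ∀ m n, m ≤ n → ∀ x, ev (fn (comm G) n) x = 0 → ev (fn (comm G) m) x = 0 := by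
    intro m n hmn
    induction hmn with
    | refl => exact fun _ h => h
    | @step n _ ih =>
      intro x hx
      refine ih x ?_
      let j : Wn (G ⊗ G) n ⟶ Wn (G ⊗ G) (n + 1) := lift (lift 1 1) (𝟙 _)
      have e : j ≫ fn (comm G) (n + 1) = fn (comm G) n := by
        show lift (lift 1 1) (𝟙 _) ≫ ((fst _ _ ≫ comm G) * (snd _ _ ≫ fn (comm G) n)) = _
        rw [MonObj.comp_mul, lift_fst_assoc, lift_snd_assoc, lift_comm, Category.id_comp]
        simp
      rw [← e, ← ev_ev, hx, map_zero]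
  haveI hint : ∀ n, IsIntegral (Wn (G ⊗ G) n).left := wn_integral
  have hp : ∀ n, (RingHom.ker (ev (fn (comm G) n))).IsPrime := fun n => by
    haveI := hint n
    exact RingHom.ker_isPrime _
  let P : ℕ → PrimeSpectrum (Fn G) := fun n => ⟨_, hp n⟩
  have hP : Antitone P := fun m n h x hx => hmono m n h x hx
  obtain ⟨_, ⟨n, rfl⟩, hmin⟩ := (wellFounded_lt (α := ℕ∞)).has_min
    (Set.range fun m => (P m).asIdeal.height) ⟨_, 0, rfl⟩
  refine ⟨n, fun m x hx => hmono m (max m n) (le_max_left m n) x ?_⟩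
  have e : P (max m n) = P n := by
    refine ((hP (le_max_right m n)).lt_or_eq).resolve_left ?_
    intro hlt
    haveI := (P (max m n)).isPrime
    haveI := (P n).isPrime
    exact hmin _ ⟨_, rfl⟩ (Ideal.height_strict_mono_of_isPrime hlt)
  have : x ∈ (P n).asIdeal := hx
  rwa [← e] at this

/-- The derived subgroup: a closed normal subgroup through which all commutators factor, dominated by products of
commutators. -/
theorem exists_derived :
    ∃ (D : Over (Spec (CommRingCat.of k))) (_ : GrpObj D) (i : D ⟶ G) (_ : IsMonHom i) (n : ℕ)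
      (f : Wn (G ⊗ G) n ⟶ D), IsClosedImmersion i.left ∧ IsAffine D.left ∧ AlgGrp.IsNormalHom i ∧
      f ≫ i = fn (comm G) n ∧ Function.Injective (ev f) ∧ ∃ c : G ⊗ G ⟶ D, c ≫ i = comm G := by
  haveI : ∀ n, IsAffine (Wn (G ⊗ G) n).left := wn_isAffine
  obtain ⟨n, hn⟩ := exists_stable (G := G)
  obtain ⟨D, i, f, haD, hci, hf, hinj, hlift⟩ := exists_image (fn (comm G) n)
  haveI := haD
  haveI := hci
  haveI : IsAffine (D ⊗ D).left := inferInstanceAs (IsAffine (Limits.pullback D.hom D.hom))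
  haveI : IsAffine (G ⊗ D).left := inferInstanceAs (IsAffine (Limits.pullback G.hom D.hom))
  haveI : IsAffine (G ⊗ Wn (G ⊗ G) n).left := inferInstanceAs (IsAffine (Limits.pullback G.hom (Wn (G ⊗ G) n).hom))
  haveI : IsAffine (Wn (G ⊗ G) n ⊗ Wn (G ⊗ G) n).left :=
    inferInstanceAs (IsAffine (Limits.pullback (Wn (G ⊗ G) n).hom (Wn (G ⊗ G) n).hom))
  haveI : Mono i.left := inferInstance
  haveI : Mono i := (Over.forget _).mono_of_mono_map (inferInstanceAs (Mono i.left))
  have hprod : ∀ {T : Over (Spec (CommRingCat.of k))} (g : T ⟶ G) (m : ℕ), IsProd m g → ∃ g' : T ⟶ D, g' ≫ i = g := by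
    rintro T g m ⟨w, rfl⟩
    exact hlift _ fun x hx => by rw [← ev_ev, hn m x hx, map_zero]
  have hdesc : ∀ {W' D' : Over (Spec (CommRingCat.of k))} [IsAffine D'.left] (p : W' ⟶ D') (h : D' ⟶ G) (m : ℕ),
      Function.Injective (ev p) → IsProd m (p ≫ h) → ∃ g : D' ⟶ D, g ≫ i = h := by
    intro W' D' _ p h m hp hm
    obtain ⟨w, hw⟩ := hm
    refine hlift h fun x hx => hp ?_
    rw [map_zero, ev_ev, ← hw, ← ev_ev, hn m x hx, map_zero]
  have hfp : IsProd n (f ≫ i) := ⟨𝟙 _, by rw [Category.id_comp, hf]⟩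
  obtain ⟨e, he⟩ := hprod (η[G]) 0 ((isProd_zero_iff _).mpr (MonObj.one_eq_one (M := G)))
  obtain ⟨v, hv⟩ := hdesc f i⁻¹ n hinj (by rw [GrpObj.comp_inv]; exact hfp.inv)
  obtain ⟨μ', hμ'⟩ := hdesc (f ⊗ₘ f) ((fst D D ≫ i) * (snd D D ≫ i)) (n + n) (ev_tensorHom_injective f f hinj hinj) (by
    rw [MonObj.comp_mul, tensorHom_fst_assoc, tensorHom_snd_assoc, hf]
    exact IsProd.mul ⟨fst _ _, rfl⟩ ⟨snd _ _, rfl⟩)
  obtain ⟨str, hmi⟩ := GrpSchLib.exists_grpObj_of_mono i e he μ' hμ' v hv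
  obtain ⟨c', hc'⟩ := hdesc (𝟙 G ⊗ₘ f) (fst G D * (snd G D ≫ i) * (fst G D)⁻¹) n
    (ev_tensorHom_injective (𝟙 G) f (fun a b h => h) hinj) (by
      simp only [MonObj.comp_mul, GrpObj.comp_inv, tensorHom_fst, tensorHom_snd_assoc, Category.comp_id, hf]
      exact IsProd.conj ⟨snd _ _, rfl⟩ _)
  refine ⟨D, str, i, hmi, n, f, hci, haD, fun X g d => ⟨lift g d ≫ c', ?_⟩, hf, hinj,
    hprod (comm G) 1 ((isProd_succ_iff _).mpr ⟨fst G G, snd G G, 1, (isProd_zero_iff _).mpr rfl, _root_.mul_one _⟩)⟩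
  rw [Category.assoc, hc']
  simp only [MonObj.comp_mul, GrpObj.comp_inv, lift_fst, lift_snd_assoc]

/-- The maximal commutative quotient. -/
theorem exists_abelianQuot :
    ∃ (Q : Over (Spec (CommRingCat.of k))) (_ : GrpObj Q) (_ : IsCommMonObj Q) (q : G ⟶ Q) (_ : IsMonHom q)
      (D : Over (Spec (CommRingCat.of k))) (_ : GrpObj D) (i : D ⟶ G) (n : ℕ) (f : Wn (G ⊗ G) n ⟶ D),
      IsMonHom i ∧ IsClosedImmersion i.left ∧ IsAffine D.left ∧ IsAffine Q.left ∧ LocallyOfFiniteType Q.hom ∧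
      AlgGrp.IsKernel i q ∧ f ≫ i = fn (comm G) n ∧ Function.Injective (ev f) := by
  obtain ⟨D, _, i, hi, n, f, hci, haD, hnorm, hf, hinj, c, hc⟩ := exists_derived (G := G)
  haveI := hi
  haveI := hci
  obtain ⟨Q, _, q, hq, haQ, hlQ, hflat, hsurj, hker⟩ := Groth.Agent.S3278.result k G D i hnorm
  haveI := hq
  haveI := haQ
  haveI := hflat
  haveI := hsurj
  have hq1 : comm G ≫ q = 1 := by
    rw [← hc, Category.assoc, hker.w, ← Category.assoc, Hom.one_def, toUnit_unique (c ≫ toUnit D) (toUnit _)]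
  have hcomm : (fst G G ≫ q) * (snd G G ≫ q) = (snd G G ≫ q) * (fst G G ≫ q) := by
    rw [comm, MonObj.mul_comp, MonObj.mul_comp, MonObj.mul_comp, GrpObj.inv_comp, GrpObj.inv_comp] at hq1
    exact mul_inv_eq_iff_eq_mul.mp (mul_inv_eq_one.mp hq1)
  haveI : QuasiCompact q.left := by
    haveI : IsAffineHom q.left := isAffineHom_of_isAffine q.left
    infer_instance
  haveI : ∀ W : Over (Spec (CommRingCat.of k)), Epi (W ◁ q) := fun W => by
    have hp := GrpSchLib.isPullback_whiskerLeft (W := W) q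
    have : Surjective (W ◁ q).left := MorphismProperty.of_isPullback (P := @Surjective) hp.flip inferInstance
    have : Flat (W ◁ q).left := MorphismProperty.of_isPullback (P := @Flat) hp.flip inferInstance
    haveI : Epi (W ◁ q).left := Flat.epi_of_flat_of_surjective _
    exact Over.epi_of_epi_left _
  haveI : Epi (q ▷ G) := by
    rw [show q ▷ G = (β_ G G).hom ≫ (G ◁ q) ≫ (β_ Q G).inv by
      rw [← Category.assoc, ← BraidedCategory.braiding_naturality_left, Category.assoc, Iso.hom_inv_id, Category.comp_id]]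
    infer_instance
  haveI : Epi (q ⊗ₘ q) := by rw [MonoidalCategory.tensorHom_def]; infer_instance
  have hQ : fst Q Q * snd Q Q = snd Q Q * fst Q Q := by
    rw [← cancel_epi (q ⊗ₘ q), MonObj.comp_mul, MonObj.comp_mul, tensorHom_fst, tensorHom_snd]
    exact hcomm
  haveI : IsCommMonObj Q := ⟨by
    rw [show μ[Q] = fst Q Q * snd Q Q by rw [Hom.mul_def, lift_fst_snd, Category.id_comp], MonObj.comp_mul,
      braiding_hom_fst, braiding_hom_snd, hQ]⟩
  exact ⟨Q, inferInstance, inferInstance, q, hq, D, inferInstance, i, n, f, hi, hci, haD, haQ, hlQ, hker, hf, hinj⟩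

end Groth.Agent.SolvGrp.DerField
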