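import Groth.Agent.SolvGrp.TorusLattice
import Groth.Agent.GrpSchLib.LineInUnip
import Groth.Agent.AGFLib.Stable
import Groth.Agent.SolvGrp.Cartan
import Groth.Agent.SolvGrp.Torus

/-! A torus normalising a connected unipotent group has an additive eigenfunction on it; singular subtori. -/

set_option backward.isDefEq.respectTransparency false
set_option backward.isDefEq.respectTransparency.types false
set_option linter.style.haveILetI false
set_option maxHeartbeats 1000000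

universe u

open CategoryTheory MonoidalCategory CartesianMonoidalCategory MonObj AlgebraicGeometry TopologicalSpace

namespace Groth.Agent.SolvGrp

open GrpSchLib GrpSchLib.Kunneth GrpSchLib.LineGroups GrpSchLib.SplitTorusPoints WeilCmp.Unip AGFLib AGFLib.Gen
  AGFLib.BorelFixed AGFLib.BorelExist

variable {k : Type u} [Field k] [IsAlgClosed k]

local notation "PT" => 𝟙_ (Over (Spec (CommRingCat.of k)))

/-- Commuting endomorphisms of a finite-dimensional space have a common eigenvector. -/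
theorem exists_common_eigen {M : Type*} [AddCommGroup M] [Module k M] {ι₀ : Type*} (L : ι₀ → Module.End k M)
    (hcomm : ∀ a b, L a * L b = L b * L a) (W : Submodule k M) [FiniteDimensional k W] (hW : W ≠ ⊥)
    (hst : ∀ a, ∀ x ∈ W, L a x ∈ W) : ∃ v ∈ W, v ≠ 0 ∧ ∀ a, ∃ c : k, L a v = c • v := by
  classical
  suffices key : ∀ (n : ℕ) (V : Submodule k M), V ≤ W → V ≠ ⊥ → Module.finrank k V ≤ n →
      (∀ a, ∀ x ∈ V, L a x ∈ V) → ∃ v ∈ V, v ≠ 0 ∧ ∀ a, ∃ c : k, L a v = c • v from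
    key _ W le_rfl hW le_rfl hst
  intro n
  induction n with
  | zero =>
    intro V hle hV hn _
    haveI := Submodule.finiteDimensional_of_le hle
    exact absurd (Submodule.finrank_eq_zero.mp (Nat.le_zero.mp hn)) hV
  | succ n ih =>
    intro V hle hV hn hstV
    haveI := Submodule.finiteDimensional_of_le hle
    haveI : Nontrivial V := Submodule.nontrivial_iff_ne_bot.mpr hV
    by_cases hall : ∀ a, ∃ c : k, ∀ x ∈ V, L a x = c • x
    · obtain ⟨v, hv, hv0⟩ := Submodule.exists_mem_ne_zero_of_ne_bot hV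
      exact ⟨v, hv, hv0, fun a => ⟨(hall a).choose, (hall a).choose_spec v hv⟩⟩
    push Not at hall
    obtain ⟨a, ha⟩ := hall
    obtain ⟨c, hc⟩ := Module.End.exists_eigenvalue ((L a).restrict (hstV a))
    obtain ⟨⟨v, hv⟩, hve, hv0⟩ := hc.exists_hasEigenvector
    let V' : Submodule k M := V ⊓ (L a).eigenspace c
    have hne : V' ≠ ⊥ := fun h => by
      have hmem : v ∈ V' := ⟨hv, Module.End.mem_eigenspace_iff.mpr
        (congrArg Subtype.val (Module.End.mem_eigenspace_iff.mp hve))⟩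
      rw [h, Submodule.mem_bot] at hmem
      exact hv0 (Subtype.ext hmem)
    have hlt : V' < V := lt_of_le_of_ne inf_le_left fun h => by
      obtain ⟨x, hx, hxc⟩ := ha c
      exact hxc (Module.End.mem_eigenspace_iff.mp ((h ▸ hx : x ∈ V').2))
    obtain ⟨w, hw, hw0, hwe⟩ := ih V' (inf_le_left.trans hle) hne
      (by have := Submodule.finrank_lt_finrank_of_lt hlt; omega) (fun b x hx => ⟨hstV b x hx.1, by
        refine Module.End.mem_eigenspace_iff.mpr ?_
        rw [← Module.End.mul_apply, hcomm, Module.End.mul_apply, Module.End.mem_eigenspace_iff.mp hx.2, map_smul]⟩)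
    exact ⟨w, hw.1, hw0, hwe⟩

/-- A morphism of smooth groups multiplicative on rational points is a homomorphism. -/
theorem isMonHom_of_ptsMul {X Y : Over (Spec (CommRingCat.of k))} [GrpObj X] [GrpObj Y] [Smooth X.hom]
    [LocallyOfFiniteType Y.hom] (δ : X ⟶ Y) (h : ∀ a b : PT ⟶ X, (a * b) ≫ δ = (a ≫ δ) * (b ≫ δ)) : IsMonHom δ := by
  haveI : IsReduced X.left := isReduced_of_smooth_field X.hom
  haveI : IsReduced (X ⊗ X).left := GrpSchLib.isReduced_pullback_of_perfectField X.hom X.hom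
  haveI : LocallyOfFiniteType (X ⊗ X).hom :=
    inferInstanceAs (LocallyOfFiniteType (Limits.pullback.fst X.hom X.hom ≫ X.hom))
  haveI := GrpSchLib.AntiAffine.isSeparated_grp Y
  have key : (fst X X * snd X X) ≫ δ = (fst X X ≫ δ) * (snd X X ≫ δ) := AGFLib.BorelFixed.hom_ext_pts fun t => by
    rw [← Category.assoc, MonObj.comp_mul, MonObj.comp_mul, h, ← Category.assoc, ← Category.assoc]
  refine AGFLib.isMonHom_of_mul δ fun T a b => ?_
  have h2 := congrArg (fun q => lift a b ≫ q) key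
  simp only [← Category.assoc, MonObj.comp_mul, lift_fst, lift_snd] at h2
  exact h2

variable {G : Over (Spec (CommRingCat.of k))} [GrpObj G] [IsAffine G.left] [Smooth G.hom]

/-- An additive eigenfunction for a torus normalising a connected unipotent group. -/
theorem exists_eigen_additive {T V : Over (Spec (CommRingCat.of k))} [GrpObj T] [GrpObj V] (iT : T ⟶ G) [IsMonHom iT]
    (hT : Red.IsTorus T) (iV : V ⟶ G) [IsMonHom iV] [IsClosedImmersion iV.left] [Smooth V.hom] [ConnectedSpace V.left]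
    (hu : ∀ v : PT ⟶ V, IsUnipPt v) (hne : ∃ v : PT ⟶ V, v ≠ 1)
    (hnorm : ∀ (s : PT ⟶ T) (x : PT ⟶ V), (s ≫ iT) * (x ≫ iV) * (s ≫ iT)⁻¹ ∈ rangePts iV) :
    ∃ (a : Fn V) (χ : Fn T), (∀ x y : PT ⟶ V, vl (x * y) a = vl x a + vl y a) ∧ (∃ x : PT ⟶ V, vl x a ≠ 0) ∧
      vl (1 : PT ⟶ T) χ = 1 ∧ (∀ s t : PT ⟶ T, vl (s * t) χ = vl s χ * vl t χ) ∧
      ∀ (s : PT ⟶ T) (x y : PT ⟶ V), y ≫ iV = (s ≫ iT) * (x ≫ iV) * (s ≫ iT)⁻¹ → vl y a = vl s χ * vl x a := by
  classical
  haveI : IsReduced G.left := isReduced_of_smooth_field G.hom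
  obtain ⟨haV, hlV, hqV, hmV, hevV⟩ := sub_props iV
  haveI := haV
  haveI := hlV
  haveI := hmV
  haveI : IsReduced V.left := isReduced_of_smooth_field V.hom
  obtain ⟨haT, hsT, -, -⟩ := torus_props hT
  haveI := haT
  haveI := hsT
  haveI : IsReduced T.left := isReduced_of_smooth_field T.hom
  have hTc : ∀ s t : PT ⟶ T, s * t = t * s := fun s t => (torus_commute hT s t).eq
  -- conjugation by a point of the torus
  let cG : (PT ⟶ T) → (V ⟶ G) := fun s => (toUnit V ≫ s ≫ iT) * iV * (toUnit V ≫ (s ≫ iT)⁻¹)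
  have hcG : ∀ s (x : PT ⟶ V), x ≫ cG s = (s ≫ iT) * (x ≫ iV) * (s ≫ iT)⁻¹ := fun s x => by
    simp only [cG, MonObj.comp_mul, ← Category.assoc]
    rw [toUnit_unique (x ≫ toUnit V) (𝟙 _)]
    simp
  have hlift : ∀ s, ∃ c : V ⟶ V, c ≫ iV = cG s := fun s => exists_lift_pts iV (cG s) fun x => by
    obtain ⟨z, hz⟩ := hnorm s x
    exact ⟨z, hz.trans (hcG s x).symm⟩
  choose cV hcV using hlift
  let Lc : (PT ⟶ T) → Module.End k (Fn V) := fun s => (ev (cV s)).toLinearMap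
  have hvL : ∀ s (f : Fn V) (x : PT ⟶ V), vl x (Lc s f) = vl (x ≫ cV s) f := fun s f x => vl_ev x (cV s) f
  have hcomp : ∀ s t (x : PT ⟶ V), (x ≫ cV s) ≫ cV t = x ≫ cV (t * s) := fun s t x => (cancel_mono iV).mp (by
    rw [Category.assoc, hcV, hcG, Category.assoc, hcV, hcG, Category.assoc, hcV, hcG, MonObj.mul_comp]
    group)
  have hLmul : ∀ s t f, Lc s (Lc t f) = Lc (t * s) f := fun s t f => eq_of_vl fun x => by
    rw [hvL, hvL, hvL, hcomp]
  obtain ⟨a0, ⟨g0, hg0⟩, hadd0⟩ := LineInUnip.exists_additive hu hne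
  obtain ⟨f0, hf0⟩ := hevV a0
  haveI : QuasiCompact G.hom := inferInstance
  obtain ⟨n, w, Nm, hNm, -, hFw, hw⟩ := AGFLib.exists_stable (G := G) {f0}
  obtain ⟨c0, hc0⟩ := (Submodule.mem_span_range_iff_exists_fun k).mp (hFw (Finset.mem_singleton_self f0))
  let A : (PT ⟶ T) → Fn V := fun s => Lc s a0
  let E : Submodule k (Fn V) := Submodule.span k (Set.range fun p : Fin n × Fin n => ev iV (Nm p.1 p.2))
  have hconst : ∀ (s : PT ⟶ G) (f : Fn G), ev (toUnit V ≫ s) f = algebraMap k (Fn V) (vl s f) := fun s f => by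
    rw [← ev_ev]
    conv_lhs => rw [← AGFLib.ProjAct.algebraMap_toK (k := k) (ev s f)]
    exact AlgHom.commutes _ _
  have hAE : ∀ s, A s ∈ E := fun s => by
    show ev (cV s) a0 ∈ E
    rw [← hf0, ev_ev, hcV, ← hc0, map_sum]
    refine Submodule.sum_mem _ fun j _ => ?_
    rw [map_smul]
    refine Submodule.smul_mem _ _ ?_
    rw [show cG s = (toUnit V ≫ s ≫ iT) * (iV * (toUnit V ≫ (s ≫ iT)⁻¹)) from _root_.mul_assoc _ _ _, hw]
    refine Submodule.sum_mem _ fun i _ => ?_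
    rw [hconst, ← Algebra.smul_def]
    refine Submodule.smul_mem _ _ ?_
    have h1 := congrFun (congrFun (hNm.mul V iV (toUnit V ≫ (s ≫ iT)⁻¹)) i) j
    simp only [Matrix.map_apply, Matrix.mul_apply] at h1
    rw [h1]
    refine Submodule.sum_mem _ fun l _ => ?_
    rw [hconst, mul_comm, ← Algebra.smul_def]
    exact Submodule.smul_mem _ _ (Submodule.subset_span ⟨(i, l), rfl⟩)
  haveI : FiniteDimensional k E := FiniteDimensional.span_of_finite k (Set.finite_range _)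
  let M : Submodule k (Fn V) := Submodule.span k (Set.range A)
  haveI : FiniteDimensional k M :=
    Submodule.finiteDimensional_of_le (show M ≤ E from Submodule.span_le.mpr (by rintro _ ⟨s, rfl⟩; exact hAE s))
  have hst : ∀ s, ∀ f ∈ M, Lc s f ∈ M := fun s f hf => by
    induction hf using Submodule.span_induction with
    | mem y hy =>
      obtain ⟨t, rfl⟩ := hy
      exact Submodule.subset_span ⟨t * s, (hLmul s t a0).symm⟩
    | zero => rw [map_zero]; exact Submodule.zero_mem _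
    | add p q _ _ hp hq => rw [map_add]; exact Submodule.add_mem _ hp hq
    | smul c p _ hp => rw [map_smul]; exact Submodule.smul_mem _ _ hp
  have hM : ∀ f ∈ M, ∀ x y : PT ⟶ V, vl (x * y) f = vl x f + vl y f := fun f hf => by
    induction hf using Submodule.span_induction with
    | mem z hz =>
      obtain ⟨s, rfl⟩ := hz
      intro x y
      rw [hvL, hvL, hvL, ← hadd0, show (x * y) ≫ cV s = (x ≫ cV s) * (y ≫ cV s) from (cancel_mono iV).mp (by
        rw [Category.assoc, hcV, hcG, MonObj.mul_comp, MonObj.mul_comp, Category.assoc, hcV, hcG, Category.assoc, hcV,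
          hcG]
        group)]
    | zero => intro x y; simp
    | add p q _ _ hp hq => intro x y; rw [map_add, map_add, map_add, hp, hq]; ring
    | smul c p _ hp => intro x y; rw [map_smul, map_smul, map_smul, hp, smul_add]
  have hA1 : ∀ x, vl x (A 1) = vl x a0 := fun x => by
    rw [hvL, show x ≫ cV 1 = x from (cancel_mono iV).mp (by rw [Category.assoc, hcV, hcG, MonObj.one_comp]; group)]
  have hM0 : M ≠ ⊥ := fun h => hg0 (by
    have hm : A 1 ∈ M := Submodule.subset_span ⟨1, rfl⟩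
    rw [h, Submodule.mem_bot] at hm
    rw [← hA1, hm, map_zero])
  obtain ⟨a, haM, ha0, hae⟩ := exists_common_eigen Lc (fun s t => LinearMap.ext fun f => by
    rw [Module.End.mul_apply, Module.End.mul_apply, hLmul, hLmul, hTc]) M hM0 hst
  obtain ⟨x0, hx0⟩ : ∃ x0 : PT ⟶ V, vl x0 a ≠ 0 := by
    by_contra h
    push Not at h
    exact ha0 (eq_of_vl fun x => by rw [h, map_zero])
  -- the orbit of a point as a morphism
  obtain ⟨o, ho⟩ := exists_lift_pts iV (iT * (toUnit T ≫ x0 ≫ iV) * (iT)⁻¹) (fun s => by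
    obtain ⟨z, hz⟩ := hnorm s x0
    refine ⟨z, hz.trans ?_⟩
    rw [MonObj.comp_mul, MonObj.comp_mul, GrpObj.comp_inv, ← Category.assoc s, toUnit_unique (s ≫ toUnit T) (𝟙 _),
      Category.id_comp])
  have hos : ∀ s : PT ⟶ T, s ≫ o = x0 ≫ cV s := fun s => (cancel_mono iV).mp (by
    rw [Category.assoc, ho, Category.assoc, hcV, hcG, MonObj.comp_mul, MonObj.comp_mul, GrpObj.comp_inv,
      ← Category.assoc s, toUnit_unique (s ≫ toUnit T) (𝟙 _), Category.id_comp])
  choose c hc using hae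
  have hcs : ∀ s (x : PT ⟶ V), vl (x ≫ cV s) a = c s * vl x a := fun s x => by
    rw [← hvL, hc, map_smul, smul_eq_mul]
  have hχ : ∀ s, vl s ((vl x0 a)⁻¹ • ev o a) = c s := fun s => by
    rw [map_smul, vl_ev, hos, hcs, smul_eq_mul]
    field_simp
  refine ⟨a, (vl x0 a)⁻¹ • ev o a, hM a haM, ⟨x0, hx0⟩, ?_, fun s t => ?_, fun s x y hy => ?_⟩
  · rw [hχ]
    refine mul_right_cancel₀ hx0 ?_
    rw [← hcs, _root_.one_mul,
      show x0 ≫ cV 1 = x0 from (cancel_mono iV).mp (by rw [Category.assoc, hcV, hcG, MonObj.one_comp]; group)]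
  · rw [hχ, hχ, hχ]
    refine mul_right_cancel₀ hx0 ?_
    rw [← hcs, ← hcomp, hcs, hcs, _root_.mul_assoc]
  · rw [show y = x ≫ cV s from (cancel_mono iV).mp (by rw [hy, Category.assoc, hcV, hcG]), hcs, hχ]

/-- A torus normalising a nontrivial connected commutative unipotent group centralises, up to a character, a
nontrivial connected subgroup of it. -/
theorem exists_singular {r : ℕ} (a : D k (Fin r → ℤ) ⟶ G) [IsMonHom a]
    {V : Over (Spec (CommRingCat.of k))} [GrpObj V] (iV : V ⟶ G) [IsMonHom iV] [IsClosedImmersion iV.left]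
    [Smooth V.hom] [ConnectedSpace V.left] (hu : ∀ v : PT ⟶ V, IsUnipPt v) (hne : ∃ v : PT ⟶ V, v ≠ 1)
    (hcm : ∀ v w : PT ⟶ V, Commute v w)
    (hnorm : ∀ (s : PT ⟶ D k (Fin r → ℤ)) (x : PT ⟶ V), (s ≫ a) * (x ≫ iV) * (s ≫ a)⁻¹ ∈ rangePts iV) :
    ∃ (W : Over (Spec (CommRingCat.of k))) (_ : GrpObj W) (w : W ⟶ G) (_ : IsMonHom w) (m : Fin r → ℤ),
      IsClosedImmersion w.left ∧ Smooth W.hom ∧ ConnectedSpace W.left ∧ rangePts w ≤ rangePts iV ∧
      (∃ x : PT ⟶ W, x ≠ 1) ∧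
      ∀ s : PT ⟶ D k (Fin r → ℤ), vl s (mon k m) = 1 → ∀ x : PT ⟶ W, Commute (x ≫ w) (s ≫ a) := by
  classical
  haveI : IsReduced G.left := isReduced_of_smooth_field G.hom
  haveI : IsLocallyNoetherian G.left := LocallyOfFiniteType.isLocallyNoetherian G.hom
  haveI : IsNoetherian G.left := {}
  have hT : Red.IsTorus (D k (Fin r → ℤ)) :=
    isTorus_of_iso (SplitTorusPoints.isSplitTorusWith_D (k := k) (M := Fin r → ℤ)).some (TorusQI.isTorus_DS r)
  suffices key : ∀ (C : Closeds G.left) (W : Over (Spec (CommRingCat.of k))) [GrpObj W] (w : W ⟶ G) [IsMonHom w]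
      [IsClosedImmersion w.left] [Smooth W.hom] [ConnectedSpace W.left], clo (rangePts w : Set (PT ⟶ G)) ≤ C →
      rangePts w ≤ rangePts iV → (∃ x : PT ⟶ W, x ≠ 1) →
      (∀ (s : PT ⟶ D k (Fin r → ℤ)) (x : PT ⟶ W), (s ≫ a) * (x ≫ w) * (s ≫ a)⁻¹ ∈ rangePts w) →
      ∃ (W' : Over (Spec (CommRingCat.of k))) (_ : GrpObj W') (w' : W' ⟶ G) (_ : IsMonHom w') (m : Fin r → ℤ),
        IsClosedImmersion w'.left ∧ Smooth W'.hom ∧ ConnectedSpace W'.left ∧ rangePts w' ≤ rangePts iV ∧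
        (∃ x : PT ⟶ W', x ≠ 1) ∧
        ∀ s : PT ⟶ D k (Fin r → ℤ), vl s (mon k m) = 1 → ∀ x : PT ⟶ W', Commute (x ≫ w') (s ≫ a) from
    key ⊤ V iV le_top le_rfl hne hnorm
  intro C
  induction C using WellFoundedLT.induction with
  | _ C ih =>
    intro W _ w _ _ _ _ hC hle hneW hnW
    obtain ⟨haW, hlW, hqW, hmW, hevW⟩ := sub_props w
    haveI := haW
    haveI := hlW
    haveI := hqW
    haveI := hmW
    haveI : IsReduced W.left := isReduced_of_smooth_field W.hom
    obtain ⟨haV, hlV, -, hmV, hevV⟩ := sub_props iV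
    haveI := haV
    haveI := hlV
    haveI := hmV
    haveI : IsReduced V.left := isReduced_of_smooth_field V.hom
    obtain ⟨j, hj, hjw⟩ := exists_fac_sub iV w hle
    haveI := hj
    have huW : ∀ v : PT ⟶ W, IsUnipPt v := fun v => IsUnipPt.map w hevW (by
      rw [← hjw, ← Category.assoc]
      exact (map_isSsPt_isUnipPt iV _).2 (hu _))
    have hcW : ∀ x y : PT ⟶ W, Commute x y := fun x y => (cancel_mono w).mp (by
      rw [← hjw, ← Category.assoc, ← Category.assoc, MonObj.mul_comp x y j, MonObj.mul_comp y x j,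
        (hcm (x ≫ j) (y ≫ j)).eq])
    obtain ⟨f, χ, hadd, ⟨x0, hx0⟩, hχ1, hχm, hf⟩ := exists_eigen_additive a hT w huW hneW hnW
    obtain ⟨m, rfl⟩ := TorusLattice.exists_eq_mon χ hχ1 hχm
    by_cases hall : ∀ s : PT ⟶ D k (Fin r → ℤ), vl s (mon k m) = 1 → ∀ x : PT ⟶ W, Commute (x ≫ w) (s ≫ a)
    · exact ⟨W, inferInstance, w, inferInstance, m, inferInstance, inferInstance, inferInstance, hle, hneW, hall⟩
    push Not at hall
    obtain ⟨s, hs, x, hx⟩ := hall
    -- the image of `x ↦ [s, x]`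
    let g : W ⟶ G := (toUnit W ≫ s ≫ a) * w * (toUnit W ≫ (s ≫ a)⁻¹) * w⁻¹
    have hg : ∀ y : PT ⟶ W, y ≫ g = (s ≫ a) * (y ≫ w) * (s ≫ a)⁻¹ * (y ≫ w)⁻¹ := fun y => by
      simp only [g, MonObj.comp_mul, GrpObj.comp_inv, ← Category.assoc]
      rw [toUnit_unique (y ≫ toUnit W) (𝟙 _)]
      simp
    obtain ⟨δ, hδ⟩ := exists_lift_pts w g (fun y => by
      obtain ⟨z, hz⟩ := mul_mem (hnW s y) (inv_mem (⟨y, rfl⟩ : y ≫ w ∈ rangePts w))
      exact ⟨z, hz.trans (hg y).symm⟩)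
    have hδw : ∀ y : PT ⟶ W, (y ≫ δ) ≫ w = (s ≫ a) * (y ≫ w) * (s ≫ a)⁻¹ * (y ≫ w)⁻¹ := fun y => by
      rw [Category.assoc, hδ, hg]
    haveI : IsMonHom δ := isMonHom_of_ptsMul δ fun y z => (cancel_mono w).mp (by
      rw [hδw, MonObj.mul_comp, MonObj.mul_comp, hδw, hδw]
      have hc1 : Commute ((y ≫ w)⁻¹) ((s ≫ a) * (z ≫ w) * (s ≫ a)⁻¹) := by
        obtain ⟨q, hq⟩ := hnW s z
        rw [← show q ≫ w = _ from hq]
        refine Commute.inv_left ?_
        show (y ≫ w) * (q ≫ w) = (q ≫ w) * (y ≫ w)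
        rw [← MonObj.mul_comp, ← MonObj.mul_comp, (hcW y q).eq]
      have hc2 : (z ≫ w)⁻¹ * (y ≫ w)⁻¹ = (y ≫ w)⁻¹ * (z ≫ w)⁻¹ := by
        have hc : Commute (y ≫ w) (z ≫ w) := by
          show (y ≫ w) * (z ≫ w) = (z ≫ w) * (y ≫ w)
          rw [← MonObj.mul_comp, ← MonObj.mul_comp, (hcW y z).eq]
        exact (hc.inv_inv.eq).symm
      calc (s ≫ a) * ((y ≫ w) * (z ≫ w)) * (s ≫ a)⁻¹ * ((y ≫ w) * (z ≫ w))⁻¹
          = (s ≫ a) * (y ≫ w) * (s ≫ a)⁻¹ * (((s ≫ a) * (z ≫ w) * (s ≫ a)⁻¹) * ((z ≫ w)⁻¹ * (y ≫ w)⁻¹)) := by group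
        _ = (s ≫ a) * (y ≫ w) * (s ≫ a)⁻¹ * ((((s ≫ a) * (z ≫ w) * (s ≫ a)⁻¹) * (y ≫ w)⁻¹) * (z ≫ w)⁻¹) := by
            rw [hc2]; group
        _ = (s ≫ a) * (y ≫ w) * (s ≫ a)⁻¹ * (((y ≫ w)⁻¹ * ((s ≫ a) * (z ≫ w) * (s ≫ a)⁻¹)) * (z ≫ w)⁻¹) := by
            rw [hc1.eq]
        _ = _ := by group)
    haveI : IsMonHom (δ ≫ w) := inferInstance
    obtain ⟨W', _, w', hw', hcl', hsm', hconn', haff', hle', S, hS, -, hcov⟩ :=
      exists_connSub (rangePts (δ ≫ w)) (ptsClosed_range (δ ≫ w))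
    haveI := hw'
    haveI := hcl'
    haveI := hsm'
    haveI := hconn'
    obtain ⟨-, hlW', hqW', hmW', -⟩ := sub_props w'
    haveI := hlW'
    haveI := hqW'
    have heq : rangePts w' = rangePts (δ ≫ w) :=
      le_antisymm hle' (rangePts_le_of_finite (δ ≫ w) _ (ptsClosed_range w') S hS fun y hy => hcov y hy)
    have hf0 : ∀ y : PT ⟶ W, vl (y ≫ δ) f = 0 := fun y => by
      obtain ⟨q, hq⟩ := hnW s y
      change q ≫ w = _ at hq
      have h1 := hadd (y ≫ δ) y
      rw [show (y ≫ δ) * y = q from (cancel_mono w).mp (by rw [MonObj.mul_comp, hδw, hq]; group), hf s y q hq, hs,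
        _root_.one_mul] at h1
      exact add_eq_right.mp h1.symm
    refine ih (clo (rangePts w' : Set (PT ⟶ G))) ?_ W' w' le_rfl ?_ ?_ ?_
    · refine lt_of_lt_of_le (lt_of_le_of_ne (clo_mono ?_) fun he => hx0 ?_) hC
      · rw [heq]
        exact rangePts_comp w δ
      · obtain ⟨y, hy⟩ := heq ▸ mem_of_clo_le (ptsClosed_range w') he.ge (⟨x0, rfl⟩ : x0 ≫ w ∈ rangePts w)
        rw [← show y ≫ δ = x0 from (cancel_mono w).mp (by rw [Category.assoc]; exact hy)]
        exact hf0 y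
    · rw [heq]
      exact (rangePts_comp w δ).trans hle
    · obtain ⟨z, hz⟩ := heq.ge (⟨x, rfl⟩ : x ≫ δ ≫ w ∈ rangePts (δ ≫ w))
      refine ⟨z, fun h1 => hx ?_⟩
      change z ≫ w' = x ≫ δ ≫ w at hz
      rw [h1, MonObj.one_comp, ← Category.assoc, hδw] at hz
      have h2 := mul_inv_eq_one.mp hz.symm
      exact (mul_inv_eq_iff_eq_mul.mp h2).symm
    · intro t y
      obtain ⟨z, hz⟩ := hle' (⟨y, rfl⟩ : y ≫ w' ∈ rangePts w')
      change z ≫ δ ≫ w = y ≫ w' at hz
      rw [heq, ← hz, ← Category.assoc, hδw]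
      obtain ⟨q, hq⟩ := hnW t z
      change q ≫ w = _ at hq
      refine ⟨q, ?_⟩
      show q ≫ δ ≫ w = _
      rw [← Category.assoc, hδw, hq]
      have hts : Commute (t ≫ a) (s ≫ a) := by
        show (t ≫ a) * (s ≫ a) = (s ≫ a) * (t ≫ a)
        rw [← MonObj.mul_comp, ← MonObj.mul_comp, (torus_commute hT t s).eq]
      simp only [mul_inv_rev, _root_.inv_inv, _root_.mul_assoc]
      rw [← _root_.mul_assoc (s ≫ a) (t ≫ a), ← hts.eq]
      simp only [_root_.mul_assoc]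
      congr 1
      congr 1
      congr 1
      rw [← _root_.mul_assoc (t ≫ a)⁻¹, hts.inv_inv.eq, _root_.mul_assoc, inv_mul_cancel_left]

end Groth.Agent.SolvGrp
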