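import Groth.Agent.SolvGrp.Quot
import Groth.Agent.SolvGrp.Comm

/-! Extensions of groups of semisimple points by commutative unipotent groups: tori and their conjugacy. -/

set_option backward.isDefEq.respectTransparency false
set_option backward.isDefEq.respectTransparency.types false
set_option linter.style.haveILetI false

universe u

open CategoryTheory MonoidalCategory CartesianMonoidalCategory MonObj AlgebraicGeometry
open scoped commutatorElement

namespace Groth.Agent.SolvGrp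

open GrpSchLib GrpSchLib.Kunneth GrpSchLib.LineGroups WeilCmp.Unip AGFLib AGFLib.Gen AGFLib.BorelFixed AGFLib.BorelExist
open TopologicalSpace

variable {k : Type u} [Field k] [IsAlgClosed k]

local notation "PT" => 𝟙_ (Over (Spec (CommRingCat.of k)))

/-- Composition with a homomorphism, on rational points. -/
noncomputable def ptsHom {G Q : Over (Spec (CommRingCat.of k))} [GrpObj G] [GrpObj Q] (q : G ⟶ Q) [IsMonHom q] :
    (𝟙_ (Over (Spec (CommRingCat.of k))) ⟶ G) →* (𝟙_ (Over (Spec (CommRingCat.of k))) ⟶ Q) where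
  toFun g := g ≫ q
  map_one' := MonObj.one_comp q
  map_mul' a b := MonObj.mul_comp a b q

variable {G : Over (Spec (CommRingCat.of k))} [GrpObj G]

/-- Conjugation by a rational point preserves semisimplicity. -/
theorem IsSsPt.conj {s : PT ⟶ G} (hs : IsSsPt s) (b : PT ⟶ G) : IsSsPt (b * s * b⁻¹) := by
  refine eq_top_iff.mpr fun v _ => ?_
  have hv : rl b⁻¹ v ∈ ⨆ c, (rl s).eigenspace c := hs ▸ Submodule.mem_top
  have hback : rl b (rl b⁻¹ v) = v := by rw [← Module.End.mul_apply, ← rl_mul, mul_inv_cancel, rl_one]; rfl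
  rw [← hback]
  generalize rl b⁻¹ v = w at hv ⊢
  induction hv using Submodule.iSup_induction' with
  | mem c x hx =>
    refine Submodule.mem_iSup_of_mem c (Module.End.mem_eigenspace_iff.mpr ?_)
    rw [← Module.End.mul_apply, ← rl_mul, inv_mul_cancel_right, rl_mul, Module.End.mul_apply,
      Module.End.mem_eigenspace_iff.mp hx, map_smul]
  | zero => simp
  | add x y _ _ hx hy => rw [map_add]; exact Submodule.add_mem _ hx hy

/-- The points commuting with a given point form a closed set. -/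
theorem ptsClosed_centralizer [LocallyOfFiniteType G.hom] [QuasiCompact G.hom] (s : PT ⟶ G) :
    PtsClosed {g : PT ⟶ G | g * s = s * g} := by
  have hc := (ptsClosed_one (G := G)).preimage (𝟙 G * (toUnit G ≫ s) * (𝟙 G)⁻¹ * (toUnit G ≫ s)⁻¹)
  convert hc using 1
  ext g
  show g * s = s * g ↔ g ≫ _ = 1
  rw [MonObj.comp_mul, MonObj.comp_mul, MonObj.comp_mul, GrpObj.comp_inv, GrpObj.comp_inv, Category.comp_id,
    ← Category.assoc, toUnit_unique (g ≫ toUnit G) (𝟙 _), Category.id_comp, mul_inv_eq_one, mul_inv_eq_iff_eq_mul]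

variable [IsAffine G.left] [Smooth G.hom]

/-- If a product of a unipotent point and a semisimple one is semisimple and their commutator dies in a quotient,
then so does the unipotent one. -/
theorem mem_of_ss (W : Subgroup (PT ⟶ G)) (hWc : PtsClosed (W : Set (PT ⟶ G))) (hWn : W.Normal) {t v : PT ⟶ G}
    (ht : IsSsPt t) (hv : IsUnipPt v) (hvt : IsSsPt (v * t)) (hc : ⁅t, v⁆ ∈ W) : v ∈ W := by
  obtain ⟨Q, _, q, hq, haQ, hsQ, hrQ, -, -, hker⟩ := exists_quot W hWc hWn
  haveI := hq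
  haveI := haQ
  haveI := hsQ
  haveI := hrQ
  haveI : IsReduced G.left := isReduced_of_smooth_field G.hom
  have hcomm : Commute (t ≫ q) (v ≫ q) := by
    have h1 : ptsHom q ⁅t, v⁆ = 1 := (hker _).mpr hc
    rw [map_commutatorElement] at h1
    exact commutatorElement_eq_one_iff_commute.mp h1
  have hm : (v * t) ≫ q = (t ≫ q) * (v ≫ q) := by rw [MonObj.mul_comp, hcomm.eq]
  have h := jordan_unique hm hcomm ((map_isSsPt_isUnipPt q t).1 ht) ((map_isSsPt_isUnipPt q v).2 hv)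
    (_root_.mul_one ((v * t) ≫ q)).symm (Commute.one_right _) ((map_isSsPt_isUnipPt q (v * t)).1 hvt) isUnipPt_one
  exact (hker v).mp h.2

/-- A closed commutative normal subgroup of unipotent points. -/
structure UKer (V : Subgroup (PT ⟶ G)) : Prop where
  closed : PtsClosed (V : Set (PT ⟶ G))
  normal : V.Normal
  comm : ∀ a ∈ V, ∀ b ∈ V, Commute a b
  unip : ∀ v ∈ V, IsUnipPt v

/-- The image of `v ↦ ⁅s, v⁆` on such a subgroup. -/
theorem exists_comImage {V : Subgroup (PT ⟶ G)} (hV : UKer V) (s : PT ⟶ G)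
    (hs : ∀ g : PT ⟶ G, ∀ v ∈ V, Commute ⁅g, s⁆ v) :
    ∃ W : Subgroup (PT ⟶ G), PtsClosed (W : Set (PT ⟶ G)) ∧ W.Normal ∧
      ∀ g, g ∈ W ↔ ∃ v ∈ V, ⁅s, v⁆ = g := by
  obtain ⟨D, _, i, hi, hci, hsm, haff, hr⟩ := exists_sub V hV.closed
  obtain ⟨-, hlft, hqc, hmono, -⟩ := sub_props i
  haveI := hi
  haveI := hci
  haveI := hsm
  haveI := haff
  haveI := hlft
  haveI := hqc
  have hD : ∀ (T : Over (Spec (CommRingCat.of k))) (a b : T ⟶ D), a * b = b * a := fun T => mul_comm_of_pts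
    fun a b => (cancel_mono i).mp (by
      rw [MonObj.mul_comp, MonObj.mul_comp]
      exact hV.comm _ (hr ▸ ⟨a, rfl⟩) _ (hr ▸ ⟨b, rfl⟩))
  have hN : AlgGrp.IsNormalHom i := AGFLib.LinPart.isNormal_of_pts i fun g n => by
    obtain ⟨n', hn'⟩ : g * (n ≫ i) * g⁻¹ ∈ rangePts i := hr ▸ hV.normal.conj_mem _ (hr ▸ ⟨n, rfl⟩) g
    exact ⟨n', hn'.symm⟩
  let φ : D ⟶ G := (toUnit D ≫ s) * i * (toUnit D ≫ s⁻¹) * i⁻¹
  have hφ : ∀ {T : Over (Spec (CommRingCat.of k))} (a : T ⟶ D),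
      a ≫ φ = (toUnit T ≫ s) * (a ≫ i) * (toUnit T ≫ s)⁻¹ * (a ≫ i)⁻¹ := fun {T} a => by
    simp only [φ, MonObj.comp_mul, GrpObj.comp_inv, ← Category.assoc, toUnit_unique (a ≫ toUnit D) (toUnit T)]
  haveI : IsMonHom φ := AGFLib.isMonHom_of_mul φ fun T a b => by
    rw [hφ, hφ, hφ, MonObj.mul_comp]
    obtain ⟨a', ha'⟩ := hN T (toUnit T ≫ s) a
    obtain ⟨b', hb'⟩ := hN T (toUnit T ≫ s) b
    have e : (toUnit T ≫ s) * ((a ≫ i) * (b ≫ i)) * (toUnit T ≫ s)⁻¹ = (a' ≫ i) * (b' ≫ i) := by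
      rw [← ha', ← hb']; group
    rw [ha', hb', e, ← GrpObj.inv_comp, ← GrpObj.inv_comp, ← MonObj.mul_comp, ← MonObj.mul_comp, ← MonObj.mul_comp,
      ← MonObj.mul_comp, ← GrpObj.inv_comp, ← MonObj.mul_comp]
    rw [← MonObj.mul_comp]
    refine congrArg (· ≫ i) ?_
    letI : CommGroup (T ⟶ D) := { (inferInstance : Group (T ⟶ D)) with mul_comm := hD T }
    rw [_root_.mul_inv]
    ac_rfl
  have hmem : ∀ g, g ∈ rangePts φ ↔ ∃ v ∈ V, ⁅s, v⁆ = g := fun g => by
    constructor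
    · rintro ⟨d, rfl⟩
      refine ⟨d ≫ i, hr ▸ ⟨d, rfl⟩, ?_⟩
      show _ = d ≫ φ
      rw [hφ, toUnit_unique (toUnit PT) (𝟙 _), Category.id_comp, commutatorElement_def]
    · rintro ⟨v, hv, rfl⟩
      obtain ⟨d, rfl⟩ : v ∈ rangePts i := hr.symm ▸ hv
      refine ⟨d, ?_⟩
      show d ≫ φ = ⁅s, d ≫ i⁆
      rw [hφ, toUnit_unique (toUnit PT) (𝟙 _), Category.id_comp, commutatorElement_def]
  refine ⟨rangePts φ, ptsClosed_range φ, ⟨fun w hw g => ?_⟩, hmem⟩
  obtain ⟨v, hv, rfl⟩ := (hmem w).mp hw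
  refine (hmem _).mpr ⟨g * v * g⁻¹, hV.normal.conj_mem v hv g, ?_⟩
  have key : ∀ c : PT ⟶ G, (∀ y ∈ V, Commute c y) → ∀ x ∈ V, ⁅c * s, x⁆ = ⁅s, x⁆ := fun c hc x hx => by
    have h1 : s * x * s⁻¹ ∈ V := hV.normal.conj_mem x hx s
    rw [commutatorElement_def, commutatorElement_def,
      show c * s * x * (c * s)⁻¹ * x⁻¹ = c * (s * x * s⁻¹) * c⁻¹ * x⁻¹ by group,
      (hc _ h1).eq, mul_inv_cancel_right]
  have hx : g * v * g⁻¹ ∈ V := hV.normal.conj_mem v hv g
  rw [← key _ (hs g) _ hx, commutatorElement_def, commutatorElement_def, commutatorElement_def]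
  group

/-- The closed set of a set of points. -/
noncomputable def clo (S : Set (PT ⟶ G)) : Closeds G.left := ⟨closure (cp '' S), isClosed_closure⟩

theorem mem_of_clo_le {S : Set (PT ⟶ G)} (hS : PtsClosed S) {S' : Set (PT ⟶ G)} (h : clo S' ≤ clo S) {g : PT ⟶ G}
    (hg : g ∈ S') : g ∈ S := by
  obtain ⟨Z, hZ, hmem⟩ := hS
  refine (hmem g).mpr ?_
  exact closure_minimal (by rintro _ ⟨x, hx, rfl⟩; exact (hmem x).mp hx) hZ (h (subset_closure ⟨g, hg, rfl⟩))

theorem clo_mono {S S' : Set (PT ⟶ G)} (h : S ⊆ S') : clo S ≤ clo S' := closure_mono (Set.image_mono h)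

/-- An extension of semisimple points by such a kernel: existence of a complementary torus. -/
theorem exists_torus_ext [ConnectedSpace G.left] {V : Subgroup (PT ⟶ G)} (hV : UKer V)
    (hcom : ∀ a b : PT ⟶ G, ⁅a, b⁆ ∈ V) (hu : ∀ u : PT ⟶ G, IsUnipPt u → u ∈ V) :
    ∃ (T : Over (Spec (CommRingCat.of k))) (_ : GrpObj T) (i : T ⟶ G) (_ : IsMonHom i),
      IsClosedImmersion i.left ∧ Red.IsTorus T ∧ ∀ g : PT ⟶ G, ∃ t ∈ rangePts i, t⁻¹ * g ∈ V := by
  haveI : IsReduced G.left := isReduced_of_smooth_field G.hom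
  haveI : IsLocallyNoetherian G.left := LocallyOfFiniteType.isLocallyNoetherian G.hom
  haveI : IsNoetherian G.left := {}
  suffices key : ∀ (C : Closeds G.left) (D : Over (Spec (CommRingCat.of k))) [GrpObj D] (j : D ⟶ G) [IsMonHom j]
      [IsClosedImmersion j.left] [Smooth D.hom] [ConnectedSpace D.left], clo (rangePts j : Set (PT ⟶ G)) ≤ C →
      ∃ (T : Over (Spec (CommRingCat.of k))) (_ : GrpObj T) (i : T ⟶ G) (_ : IsMonHom i),
      IsClosedImmersion i.left ∧ Red.IsTorus T ∧ rangePts i ≤ rangePts j ∧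
        ∀ g ∈ rangePts j, ∃ t ∈ rangePts i, t⁻¹ * g ∈ V by
    haveI : IsClosedImmersion (𝟙 G : G ⟶ G).left := inferInstanceAs (IsClosedImmersion (𝟙 G.left))
    obtain ⟨T, inst, i, hi, hci, hT, -, hall⟩ := key ⊤ G (𝟙 G) le_top
    exact ⟨T, inst, i, hi, hci, hT, fun g => hall g ⟨g, Category.comp_id g⟩⟩
  intro C
  induction C using WellFoundedLT.induction with
  | _ C ih =>
    intro D _ j _ _ _ _ hC
    obtain ⟨haff, hlft, hqc, hmono, hev⟩ := sub_props j
    haveI := haff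
    haveI := hlft
    haveI := hqc
    haveI : IsReduced D.left := isReduced_of_smooth_field D.hom
    let V' : Subgroup (PT ⟶ D) := V.comap (ptsHom j)
    have hinj : ∀ a b : PT ⟶ D, a ≫ j = b ≫ j → a = b := fun a b h => (cancel_mono j).mp h
    have hV' : UKer V' :=
      { closed := hV.closed.preimage j
        normal := hV.normal.comap _
        comm := fun a ha b hb => hinj _ _ (by rw [MonObj.mul_comp, MonObj.mul_comp]; exact hV.comm _ ha _ hb)
        unip := fun v hv => (hV.unip _ hv).map j hev }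
    have hcom' : ∀ a b : PT ⟶ D, ⁅a, b⁆ ∈ V' := fun a b => by
      show ptsHom j ⁅a, b⁆ ∈ V
      rw [map_commutatorElement]
      exact hcom _ _
    have hu' : ∀ u : PT ⟶ D, IsUnipPt u → u ∈ V' := fun u huu => hu _ ((map_isSsPt_isUnipPt j u).2 huu)
    by_cases hall : ∀ s : PT ⟶ D, IsSsPt s → ∀ v ∈ V', Commute s v
    · have hss : ∀ s t : PT ⟶ D, IsSsPt s → IsSsPt t → Commute s t := fun s t hs ht => by
        have h1 : ⁅t, s⁆ ∈ (⊥ : Subgroup (PT ⟶ D)) := by
          refine mem_of_ss (⊥ : Subgroup (PT ⟶ D)) (by rw [Subgroup.coe_bot]; exact ptsClosed_one) inferInstance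
            hs (hV'.unip _ (hcom' t s)) ?_ ?_
          · rw [commutatorElement_def, inv_mul_cancel_right]
            exact hs.conj t
          · rw [Subgroup.mem_bot]
            exact commutatorElement_eq_one_iff_commute.mpr (hall s hs _ (hcom' t s))
        exact (commutatorElement_eq_one_iff_commute.mp (Subgroup.mem_bot.mp h1)).symm
      have hcommD : ∀ a b : PT ⟶ D, Commute a b := fun a b => by
        obtain ⟨s, u, rfl, -, hs, hu1, -⟩ := exists_jordan a
        obtain ⟨t, w, rfl, -, ht, hw1, -⟩ := exists_jordan b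
        exact (((hss s t hs ht).mul_right (hall s hs _ (hu' w hw1)))).mul_left
          (((hall t ht _ (hu' u hu1)).symm).mul_right (hV'.comm _ (hu' u hu1) _ (hu' w hw1)))
      obtain ⟨T, _, i, hi, hci, hT, hmem⟩ := exists_torus_comm hcommD
      haveI := hi
      haveI := hci
      haveI : IsClosedImmersion (i ≫ j).left := inferInstanceAs (IsClosedImmersion (i.left ≫ j.left))
      refine ⟨T, inferInstance, i ≫ j, inferInstance, inferInstance, hT, rangePts_comp j i, ?_⟩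
      rintro _ ⟨d, rfl⟩
      obtain ⟨s, u, rfl, -, hs, hu1, -⟩ := exists_jordan d
      obtain ⟨x, rfl⟩ := hmem s hs
      refine ⟨x ≫ i ≫ j, ⟨x, rfl⟩, ?_⟩
      show (x ≫ i ≫ j)⁻¹ * ((x ≫ i) * u) ≫ j ∈ V
      rw [MonObj.mul_comp, Category.assoc, inv_mul_cancel_left]
      exact hu' u hu1
    push Not at hall
    obtain ⟨s, hs, v₀, hv₀, hne⟩ := hall
    obtain ⟨W, hWc, hWn, hWmem⟩ := exists_comImage hV' s fun g v hv => hV'.comm _ (hcom' g s) v hv
    let Z : Subgroup (PT ⟶ D) :=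
      { carrier := {g | g * s = s * g}
        one_mem' := by simp
        mul_mem' := fun {a b} ha hb => (Commute.mul_left (show Commute a s from ha) (show Commute b s from hb)).eq
        inv_mem' := fun {a} ha => ((show Commute a s from ha).inv_left).eq }
    obtain ⟨D₀, _, i₀, hi₀, hci₀, hsm₀, hconn₀, -, hle₀, R, hRf, -, hcov⟩ := exists_connSub Z (ptsClosed_centralizer s)
    haveI := hi₀
    haveI := hci₀
    haveI := hsm₀
    haveI := hconn₀
    haveI : IsClosedImmersion (i₀ ≫ j).left := inferInstanceAs (IsClosedImmersion (i₀.left ≫ j.left))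
    obtain ⟨-, hlft₀, hqc₀, -, -⟩ := sub_props i₀
    haveI := hlft₀
    haveI := hqc₀
    haveI : LocallyOfFiniteType G.hom := inferInstance
    have hlt : clo (rangePts (i₀ ≫ j) : Set (PT ⟶ G)) < C := by
      refine lt_of_le_of_ne ((clo_mono (rangePts_comp j i₀)).trans hC) fun e => hne ?_
      obtain ⟨x, hx⟩ := mem_of_clo_le (ptsClosed_range (i₀ ≫ j)) (hC.trans_eq e.symm) (⟨v₀, rfl⟩ : v₀ ≫ j ∈ rangePts j)
      have h1 : v₀ ∈ Z := hle₀ ⟨x, hinj _ _ ((Category.assoc _ _ _).trans hx)⟩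
      exact (show Commute v₀ s from h1).symm
    obtain ⟨T, instT, i, hi, hci, hT, hle, hTV⟩ := ih _ hlt D₀ (i₀ ≫ j) le_rfl
    refine ⟨T, instT, i, hi, hci, hT, hle.trans (rangePts_comp j i₀), ?_⟩
    obtain ⟨Q, _, q, hq, haQ, hsQ, -, -, -, hker⟩ := exists_quot V' hV'.closed hV'.normal
    haveI := hq
    haveI := haQ
    haveI := hsQ
    let Γ : Subgroup (PT ⟶ D) := (rangePts (i₀ ≫ q)).comap (ptsHom q)
    have htop : Γ = ⊤ := eq_top_of_finite Γ ((ptsClosed_range (i₀ ≫ q)).preimage q) R hRf fun g => by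
      have hcW : ⁅s, g⁆⁻¹ ∈ W := by
        refine mem_of_ss W hWc hWn hs (hV'.unip _ (V'.inv_mem (hcom' s g))) ?_
          ((hWmem _).mpr ⟨_, V'.inv_mem (hcom' s g), rfl⟩)
        rw [show ⁅s, g⁆⁻¹ * s = g * s * g⁻¹ by rw [commutatorElement_def]; group]
        exact hs.conj g
      obtain ⟨v, hv, hvs⟩ := (hWmem _).mp (inv_inv ⁅s, g⁆ ▸ W.inv_mem hcW)
      have hz : v⁻¹ * g ∈ Z := by
        show v⁻¹ * g * s = s * (v⁻¹ * g)
        rw [commutatorElement_def, commutatorElement_def] at hvs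
        have h2 : v * s⁻¹ * v⁻¹ * g = g * s⁻¹ := by
          have h4 := congrArg (fun x => s⁻¹ * x * g) hvs
          simpa [_root_.mul_assoc] using h4
        have h3 : Commute (v⁻¹ * g) s⁻¹ := by
          show v⁻¹ * g * s⁻¹ = s⁻¹ * (v⁻¹ * g)
          rw [_root_.mul_assoc, ← h2]; group
        simpa using h3.inv_right.eq
      obtain ⟨r, hr, d, hd⟩ := hcov _ hz
      refine ⟨r, hr, d, ?_⟩
      show d ≫ i₀ ≫ q = (r⁻¹ * g) ≫ q
      rw [← Category.assoc, show d ≫ i₀ = r⁻¹ * (v⁻¹ * g) from hd, MonObj.mul_comp, MonObj.mul_comp, MonObj.mul_comp,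
        GrpObj.inv_comp v q, (hker v).mpr hv, _root_.inv_one, _root_.one_mul]
    rintro _ ⟨g, rfl⟩
    obtain ⟨d, hd⟩ : g ≫ q ∈ rangePts (i₀ ≫ q) := (htop ▸ Subgroup.mem_top g : g ∈ Γ)
    obtain ⟨t, ht, htv⟩ := hTV _ ⟨d, rfl⟩
    refine ⟨t, ht, ?_⟩
    have h2 : (d ≫ i₀)⁻¹ * g ∈ V' := (hker _).mp (by
      rw [MonObj.mul_comp, GrpObj.inv_comp, Category.assoc, show d ≫ i₀ ≫ q = g ≫ q from hd, inv_mul_cancel])
    have h3 : ((d ≫ i₀) ≫ j)⁻¹ * (g ≫ j) ∈ V := by
      have : ptsHom j ((d ≫ i₀)⁻¹ * g) ∈ V := h2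
      rwa [map_mul, map_inv] at this
    have := V.mul_mem htv h3
    simpa only [Category.assoc, _root_.mul_assoc, mul_inv_cancel_left] using this

/-- Commuting semisimple points are conjugate into a complementary torus. -/
theorem exists_conj_ext {V : Subgroup (PT ⟶ G)} (hV : UKer V) {T : Over (Spec (CommRingCat.of k))} [GrpObj T]
    (hT : Red.IsTorus T) (i : T ⟶ G) [IsMonHom i] (hTV : ∀ g : PT ⟶ G, ∃ t ∈ rangePts i, t⁻¹ * g ∈ V)
    (S : Set (PT ⟶ G)) (hS : ∀ s ∈ S, IsSsPt s) (hcomm : ∀ a ∈ S, ∀ b ∈ S, Commute a b) :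
    ∃ b ∈ V, ∀ s ∈ S, b * s * b⁻¹ ∈ rangePts i := by
  haveI : IsReduced G.left := isReduced_of_smooth_field G.hom
  haveI : IsLocallyNoetherian G.left := LocallyOfFiniteType.isLocallyNoetherian G.hom
  haveI : IsNoetherian G.left := {}
  have hTss : ∀ t ∈ rangePts i, IsSsPt t := by rintro _ ⟨x, rfl⟩; exact isSsPt_of_torus hT i x
  have hTc : ∀ a ∈ rangePts i, ∀ b ∈ rangePts i, Commute a b := by
    rintro _ ⟨x, rfl⟩ _ ⟨y, rfl⟩
    show (x ≫ i) * (y ≫ i) = (y ≫ i) * (x ≫ i)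
    rw [← MonObj.mul_comp, ← MonObj.mul_comp, (torus_commute hT x y).eq]
  suffices key : ∀ (C : Closeds G.left) (V' : Subgroup (PT ⟶ G)), V' ≤ V → V'.Normal →
      PtsClosed (V' : Set (PT ⟶ G)) → clo (V' : Set (PT ⟶ G)) ≤ C →
      ∀ S : Set (PT ⟶ G), (∀ s ∈ S, IsSsPt s) → (∀ a ∈ S, ∀ b ∈ S, Commute a b) →
      (∀ s ∈ S, ∃ t ∈ rangePts i, t⁻¹ * s ∈ V') → ∃ b ∈ V', ∀ s ∈ S, b * s * b⁻¹ ∈ rangePts i from
    key ⊤ V le_rfl hV.normal hV.closed le_top S hS hcomm fun s _ => hTV s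
  intro C
  induction C using WellFoundedLT.induction with
  | _ C ih =>
    intro V' hle hn hc hC S hS hcomm hdec
    have hcV : ∀ a ∈ V', ∀ b ∈ V', Commute a b := fun a ha b hb => hV.comm a (hle ha) b (hle hb)
    by_cases hall : ∀ s ∈ S, ∀ v ∈ V', Commute s v
    · refine ⟨1, V'.one_mem, fun s hs => ?_⟩
      obtain ⟨t, ht, hv⟩ := hdec s hs
      set v := t⁻¹ * s with hvdef
      have hs' : s = t * v := by rw [hvdef, mul_inv_cancel_left]
      have htv : Commute t v := by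
        have h1 := hall s hs v hv
        rw [hs'] at h1
        have h2 := h1.mul_left ((Commute.refl v).inv_left)
        rwa [mul_inv_cancel_right] at h2
      have h := jordan_unique hs' htv (hTss t ht) (hV.unip v (hle hv)) (_root_.mul_one s).symm
        (Commute.one_right s) (hS s hs) isUnipPt_one
      simpa [← h.1] using ht
    push Not at hall
    obtain ⟨s₀, hs₀, a, ha, hne⟩ := hall
    obtain ⟨t, ht, hv⟩ := hdec s₀ hs₀
    let v' := t * (t⁻¹ * s₀) * t⁻¹
    have hv' : v' ∈ V' := hn.conj_mem _ hv t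
    have hs₀' : s₀ = v' * t := by simp only [v']; group
    have hU : UKer V' := ⟨hc, hn, hcV, fun v hv => hV.unip v (hle hv)⟩
    have hta : ¬ Commute t a := fun h => hne (by rw [hs₀']; exact (hcV v' hv' a ha).mul_left h)
    obtain ⟨W, hWc, hWn, hWmem⟩ := exists_comImage hU t fun g x hx => by
      obtain ⟨t', ht', hw⟩ := hTV g
      set w := t'⁻¹ * g with hwdef
      have hg : g = t' * w := by rw [hwdef, mul_inv_cancel_left]
      have hcomm1 : ⁅t', t⁆ = 1 := commutatorElement_eq_one_iff_commute.mpr (hTc t' ht' t ht)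
      have h1 : ⁅w, t⁆ ∈ V := by
        rw [commutatorElement_def, show w * t * w⁻¹ * t⁻¹ = w * (t * w⁻¹ * t⁻¹) by group]
        exact V.mul_mem hw (hV.normal.conj_mem _ (V.inv_mem hw) t)
      have h2 : ⁅g, t⁆ ∈ V := by
        rw [hg, show ⁅t' * w, t⁆ = t' * ⁅w, t⁆ * t'⁻¹ * ⁅t', t⁆ by simp only [commutatorElement_def]; group,
          hcomm1, _root_.mul_one]
        exact hV.normal.conj_mem _ h1 t'
      exact hV.comm _ h2 x (hle hx)
    have hv'W : v' ∈ W := mem_of_ss W hWc hWn (hTss t ht) (hV.unip v' (hle hv')) (hs₀' ▸ hS s₀ hs₀)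
      ((hWmem _).mpr ⟨v', hv', rfl⟩)
    obtain ⟨w, hw, hwv⟩ := (hWmem _).mp hv'W
    have hst : w * s₀ * w⁻¹ = t := by
      rw [hs₀', ← hwv, commutatorElement_def, (hcV _ (hn.conj_mem w hw t) w⁻¹ (V'.inv_mem hw)).eq]
      group
    let Ct : Subgroup (PT ⟶ G) :=
      { carrier := {g | g * t = t * g}
        one_mem' := by simp
        mul_mem' := fun {a b} ha hb => (Commute.mul_left (show Commute a t from ha) (show Commute b t from hb)).eq
        inv_mem' := fun {a} ha => ((show Commute a t from ha).inv_left).eq }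
    have hn'' : (V' ⊓ Ct).Normal := ⟨fun x hx g => ⟨hn.conj_mem x hx.1 g, by
      obtain ⟨t', ht', hg⟩ := hTV g
      set u := t'⁻¹ * g with hudef
      rw [show g = t' * u by rw [hudef, mul_inv_cancel_left],
        show t' * u * x * (t' * u)⁻¹ = t' * (u * x * u⁻¹) * t'⁻¹ by group,
        (hV.comm u hg x (hle hx.1)).eq, mul_inv_cancel_right]
      have h1 := (hTc t' ht' t ht)
      exact ((h1.mul_left (show Commute x t from hx.2)).mul_left h1.inv_left).eq⟩⟩
    have hlt : clo ((V' ⊓ Ct : Subgroup (PT ⟶ G)) : Set (PT ⟶ G)) < C := by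
      refine lt_of_le_of_ne ((clo_mono inf_le_left).trans hC) fun e => hta ?_
      have hcl : PtsClosed ((V' ⊓ Ct : Subgroup (PT ⟶ G)) : Set (PT ⟶ G)) := hc.inter (ptsClosed_centralizer t)
      exact ((mem_of_clo_le hcl (hC.trans_eq e.symm) (show a ∈ (V' : Set (PT ⟶ G)) from ha)).2 : a * t = t * a).symm
    obtain ⟨b, hb, hbS⟩ := ih _ hlt (V' ⊓ Ct) (inf_le_left.trans hle) hn'' (hc.inter (ptsClosed_centralizer t)) le_rfl
      ((fun s => w * s * w⁻¹) '' S) (by rintro _ ⟨s, hs, rfl⟩; exact (hS s hs).conj w)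
      (by
        rintro _ ⟨s, hs, rfl⟩ _ ⟨s', hs', rfl⟩
        show (w * s * w⁻¹) * (w * s' * w⁻¹) = (w * s' * w⁻¹) * (w * s * w⁻¹)
        rw [show (w * s * w⁻¹) * (w * s' * w⁻¹) = w * (s * s') * w⁻¹ by group, (hcomm s hs s' hs').eq]
        group)
      (by
        rintro _ ⟨s, hs, rfl⟩
        obtain ⟨t₁, ht₁, hv₁⟩ := hdec s hs
        refine ⟨t₁, ht₁, ?_, ?_⟩
        · rw [show t₁⁻¹ * (w * s * w⁻¹) = (t₁⁻¹ * w * t₁) * (t₁⁻¹ * s) * w⁻¹ by group]
          refine V'.mul_mem (V'.mul_mem ?_ hv₁) (V'.inv_mem hw)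
          simpa using hn.conj_mem w hw t₁⁻¹
        · have h1 : Commute (w * s * w⁻¹) t := by
            rw [← hst]
            show _ = _
            rw [show (w * s * w⁻¹) * (w * s₀ * w⁻¹) = w * (s * s₀) * w⁻¹ by group, (hcomm s hs s₀ hs₀).eq]
            group
          exact ((hTc t₁ ht₁ t ht).inv_left.mul_left h1).eq)
    refine ⟨b * w, V'.mul_mem hb.1 hw, fun s hs => ?_⟩
    have := hbS _ ⟨s, hs, rfl⟩
    rwa [show b * (w * s * w⁻¹) * b⁻¹ = b * w * s * (b * w)⁻¹ by group] at this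

end Groth.Agent.SolvGrp
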