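import Groth.Agent.SolvGrp.FrobPts
import Groth.Agent.SolvGrp.Sub

/-! A subgroup stable under the Frobenius is defined over the finite field. -/

set_option backward.isDefEq.respectTransparency false
set_option backward.isDefEq.respectTransparency.types false
set_option linter.style.haveILetI false

universe u

open CategoryTheory MonoidalCategory CartesianMonoidalCategory MonObj AlgebraicGeometry

namespace Groth.Agent.SolvGrp.Frob

open GrpSchLib GrpSchLib.Kunneth GrpSchLib.LineGroups WeilCmp.Unip AGFLib AGFLib.Gen AGFLib.BorelFixed AGFLib.BorelExist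

variable {k : Type u} [Field k] [Finite k] {K : Type u} [Field K] [IsAlgClosed K] (φ : k →+* K)

local notation "σ" => Spec.map (CommRingCat.ofHom φ)
local notation "PK" => 𝟙_ (Over (Spec (CommRingCat.of K)))
set_option quotPrecheck false in
local notation "WK" => (Over.map (Spec.map (CommRingCat.ofHom φ))).obj (𝟙_ (Over (Spec (CommRingCat.of K))))

omit [Finite k] [IsAlgClosed K] in
/-- Whether a function vanishes at a point over the larger field depends only on the image of the point. -/
theorem ev_eq_zero_iff {X : Over (Spec (CommRingCat.of k))} (w : WK ⟶ X) (s : Fn X) :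
    ev w s = 0 ↔ w.left (IsLocalRing.closedPoint K) ∉ X.left.basicOpen s := by
  constructor
  · intro h hx
    have h1 : IsLocalRing.closedPoint K ∈ w.left ⁻¹ᵁ X.left.basicOpen s := hx
    rw [Scheme.preimage_basicOpen_top, ← ev_apply, h, Scheme.basicOpen_zero] at h1
    exact h1
  · intro h
    by_contra hne
    refine h ?_
    let e := (Scheme.ΓSpecIso (CommRingCat.of K)).commRingCatIsoToRingEquiv
    have hu : IsUnit (ev w s) := (MulEquiv.isUnit_map e.toMulEquiv).mp ((map_ne_zero_iff e e.injective).mpr hne).isUnit
    have h2 : IsLocalRing.closedPoint K ∈ (WK).left.basicOpen (ev w s) := by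
      rw [Scheme.basicOpen_of_isUnit _ hu]; trivial
    rw [ev_apply, ← Scheme.preimage_basicOpen_top] at h2
    exact h2

/-- A reduced subgroup over the algebraic closure whose points are stable under the Frobenius is defined over the
finite field. -/
theorem exists_sub_of_frobStable (hφ : φ.IsIntegral) {G : Over (Spec (CommRingCat.of k))} [GrpObj G] [IsAffine G.left]
    [LocallyOfFiniteType G.hom] {T' : Over (Spec (CommRingCat.of K))} [GrpObj T'] (iT : T' ⟶ Red.bc σ G) [IsMonHom iT]
    [IsClosedImmersion iT.left] [IsReduced T'.left] (hst : ∀ y ∈ rangePts iT, y ≫ frK φ G ∈ rangePts iT) :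
    ∃ (Z : Over (Spec (CommRingCat.of k))) (_ : GrpObj Z) (i : Z ⟶ G) (e : Red.bc σ Z ≅ T'),
      IsMonHom i ∧ IsClosedImmersion i.left ∧ IsMonHom e.hom ∧ e.hom ≫ iT = (Over.pullback σ).map i := by
  classical
  letI := φ.toAlgebra
  haveI : Algebra.IsIntegral k K := ⟨hφ⟩
  haveI : Algebra.IsAlgebraic k K := Algebra.IsIntegral.isAlgebraic
  haveI : IsAlgClosure k K := ⟨inferInstance, inferInstance⟩
  haveI : IsIntegralHom σ := (IsIntegralHom.SpecMap_iff (φ := CommRingCat.ofHom φ)).mpr hφ
  let p := Limits.pullback.fst G.hom σ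
  haveI : IsIntegralHom p := inferInstance
  let C : TopologicalSpace.Closeds G.left :=
    ⟨p '' Set.range iT.left, p.isClosedMap _ iT.left.isClosedEmbedding.isClosed_range⟩
  let Z : Over (Spec (CommRingCat.of k)) :=
    Over.mk ((Scheme.IdealSheafData.vanishingIdeal C).subschemeι ≫ G.hom)
  let i : Z ⟶ G := Over.homMk (Scheme.IdealSheafData.vanishingIdeal C).subschemeι rfl
  haveI : IsClosedImmersion i.left :=
    inferInstanceAs (IsClosedImmersion (Scheme.IdealSheafData.vanishingIdeal C).subschemeι)
  haveI : IsReduced Z.left := H23.RedSub.isReduced_vanishingIdeal _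
  haveI : PerfectField k := inferInstance
  haveI : IsReduced (Red.bc σ Z).left := GrpSchLib.isReduced_pullback_of_perfectField Z.hom σ
  have hri : Set.range i.left = C := H23.RedSub.range_vanishingIdeal _
  let F := Over.pullback σ
  haveI : IsClosedImmersion (F.map i).left := MorphismProperty.baseChange_map (P := @IsClosedImmersion) σ i inferInstance
  haveI : LocallyOfFiniteType Z.hom := by rw [← Over.w i]; infer_instance
  haveI : LocallyOfFiniteType (Red.bc σ G).hom := inferInstanceAs (LocallyOfFiniteType (Limits.pullback.snd G.hom σ))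
  haveI : LocallyOfFiniteType (Red.bc σ Z).hom := inferInstanceAs (LocallyOfFiniteType (Limits.pullback.snd Z.hom σ))
  haveI : LocallyOfFiniteType T'.hom := by rw [← Over.w iT]; infer_instance
  haveI := GrpSchLib.AntiAffine.isSeparated_grp (Red.bc σ G)
  have hpt : ∀ w : WK ⟶ G, p ((AVTors.bcPts σ PK G w).left (IsLocalRing.closedPoint K)) =
      w.left (IsLocalRing.closedPoint K) := fun w => by
    rw [← fst_extPt]
    exact congrArg (fun m : WK ⟶ G => m.left (IsLocalRing.closedPoint K)) (Equiv.symm_apply_apply _ w)
  haveI : Subsingleton ↥(WK).left := inferInstanceAs (Subsingleton ↥(Spec (CommRingCat.of K)))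
  haveI : IsReduced (WK).left := inferInstanceAs (IsReduced (Spec (CommRingCat.of K)))
  have hrange : Set.range (F.map i).left = Set.range iT.left := by
    refine Set.Subset.antisymm ?_ ?_
    · have hu := eq_univ_of_forall_cp
        (iT.left.isClosedEmbedding.isClosed_range.preimage (F.map i).left.continuous) fun z => by
        obtain ⟨w, hw⟩ := (AVTors.bcPts σ PK G).surjective (z ≫ F.map i)
        show (F.map i).left (cp z) ∈ Set.range iT.left
        rw [← cp_comp, ← hw]
        -- the image lies in the image of the subgroup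
        have hx : w.left (IsLocalRing.closedPoint K) ∈ (C : Set G.left) := by
          obtain ⟨v, rfl⟩ := ((Over.mapPullbackAdj σ).homEquiv PK Z).surjective z
          have h2 : w = v ≫ i := (AVTors.bcPts σ PK G).injective
            (hw.trans ((Over.mapPullbackAdj σ).homEquiv_naturality_right v i).symm)
          rw [h2, ← hri]
          exact ⟨v.left (IsLocalRing.closedPoint K), rfl⟩
        obtain ⟨q₀, hq₀, hq₀x⟩ := hx
        haveI : JacobsonSpace (Red.bc σ G).left := LocallyOfFiniteType.jacobsonSpace (Red.bc σ G).hom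
        have hxc : IsClosed ({w.left (IsLocalRing.closedPoint K)} : Set G.left) := by
          rw [← hpt, show ({p ((AVTors.bcPts σ PK G w).left (IsLocalRing.closedPoint K))} : Set G.left) =
            p '' {(AVTors.bcPts σ PK G w).left (IsLocalRing.closedPoint K)} from Set.image_singleton.symm]
          exact p.isClosedMap _ (isClosed_cp _)
        obtain ⟨q, hq1, hq2⟩ := nonempty_inter_closedPoints
          (Z := Set.range iT.left ∩ p ⁻¹' {w.left (IsLocalRing.closedPoint K)}) ⟨q₀, hq₀, hq₀x⟩
          ((iT.left.isClosedEmbedding.isClosed_range.inter (hxc.preimage p.continuous)).isLocallyClosed)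
        obtain ⟨y₀, rfl⟩ := exists_cp hq2
        obtain ⟨w₀, rfl⟩ := (AVTors.bcPts σ PK G).surjective y₀
        obtain ⟨t₀, ht₀⟩ := exists_of_mem_range iT _ hq1.1
        have hw0 : w₀.left (IsLocalRing.closedPoint K) = w.left (IsLocalRing.closedPoint K) := (hpt w₀).symm.trans hq1.2
        -- they differ by a power of the Frobenius
        obtain ⟨e⟩ := exists_fnEquiv φ
        haveI := AGFLib.finiteType_fn G
        obtain ⟨n, hn⟩ := exists_pow_of_ker_eq (e.symm.toAlgHom.comp (ev w₀)) (e.symm.toAlgHom.comp (ev w)) fun s => by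
          show e.symm (ev w₀ s) = 0 ↔ e.symm (ev w s) = 0
          rw [map_eq_zero_iff _ e.symm.injective, map_eq_zero_iff _ e.symm.injective, ev_eq_zero_iff, ev_eq_zero_iff, hw0]
        have hiter : ∀ m : ℕ, ∃ v : WK ⟶ G, AVTors.bcPts σ PK G v ∈ rangePts iT ∧
            ∀ s, ev v s = ev w₀ s ^ Nat.card k ^ m := by
          intro m
          induction m with
          | zero => exact ⟨w₀, ⟨t₀, ht₀⟩, fun s => by rw [pow_zero, pow_one]⟩
          | succ m ih =>
            obtain ⟨v, hv, hv'⟩ := ih
            refine ⟨v ≫ fr G, ?_, fun s => ?_⟩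
            · rw [bcPts_frK]
              exact hst _ hv
            · rw [← ev_ev, ev_fr, frobFn_apply, map_pow, hv', ← pow_mul, pow_succ]
        obtain ⟨v, ⟨t, ht⟩, hv⟩ := hiter n
        have hvw : v = w := ext_ev (AlgHom.ext fun s => e.symm.injective (by
          rw [hv, map_pow]
          exact (hn s).symm))
        exact ⟨cp t, by rw [← cp_comp, show t ≫ iT = _ from ht, hvw]⟩
      rintro _ ⟨q, rfl⟩
      exact hu.ge (Set.mem_univ q)
    · have hu := eq_univ_of_forall_cp
        ((F.map i).left.isClosedEmbedding.isClosed_range.preimage iT.left.continuous) fun t => by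
        obtain ⟨w, hw⟩ := (AVTors.bcPts σ PK G).surjective (t ≫ iT)
        show iT.left (cp t) ∈ Set.range (F.map i).left
        rw [← cp_comp, ← hw]
        have hx : w.left (IsLocalRing.closedPoint K) ∈ Set.range i.left := by
          rw [hri, ← hpt, hw]
          exact ⟨_, ⟨cp t, rfl⟩, rfl⟩
        obtain ⟨g, hg⟩ := H23.RedSub.exists_lift_closed w.left i.left (by
          rintro _ ⟨q, rfl⟩
          rw [Subsingleton.elim q (IsLocalRing.closedPoint K)]
          exact hx)
        let v : WK ⟶ Z := Over.homMk g (by rw [← Over.w i, reassoc_of% hg, Over.w w])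
        have hv : v ≫ i = w := Over.OverMorphism.ext hg
        refine ⟨cp ((Over.mapPullbackAdj σ).homEquiv PK Z v), ?_⟩
        rw [← cp_comp, ← hv]
        exact congrArg cp ((Over.mapPullbackAdj σ).homEquiv_naturality_right v i).symm
      rintro _ ⟨q, rfl⟩
      exact hu.ge (Set.mem_univ q)
  obtain ⟨strZ, hiZ, e, hem, he⟩ := exists_grpObj_of_bc φ G T' iT i hrange
  exact ⟨Z, strZ, i, e, hiZ, inferInstance, hem, he⟩

end Groth.Agent.SolvGrp.Frob
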