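import Groth.Agent.SolvGrp.TorusSepBase
import Groth.Agent.SolvGrp.SubgroupDescend
import Groth.Agent.S3934
import Mathlib.FieldTheory.Finite.Extension

/-! The Frobenius on the points of an affine group over a finite field. -/

set_option backward.isDefEq.respectTransparency false
set_option backward.isDefEq.respectTransparency.types false
set_option linter.style.haveILetI false

universe u

open CategoryTheory MonoidalCategory CartesianMonoidalCategory MonObj AlgebraicGeometry

namespace Groth.Agent.SolvGrp.Frob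

open GrpSchLib GrpSchLib.Kunneth GrpSchLib.LineGroups WeilCmp.Unip AGFLib AGFLib.Gen AGFLib.BorelFixed AGFLib.BorelExist

variable {k : Type u} [Field k] [Finite k]

local notation "PT" => 𝟙_ (Over (Spec (CommRingCat.of k)))

/-- The `q`-power map on functions. -/
noncomputable def frobFn (X : Over (Spec (CommRingCat.of k))) : Fn X →ₐ[k] Fn X :=
  letI := Fintype.ofFinite k
  FiniteField.frobeniusAlgHom k (Fn X)

theorem frobFn_apply (X : Over (Spec (CommRingCat.of k))) (s : Fn X) : frobFn X s = s ^ Nat.card k := by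
  letI := Fintype.ofFinite k
  rw [Nat.card_eq_fintype_card]
  rfl

/-- The Frobenius endomorphism of an affine scheme. -/
noncomputable def fr (X : Over (Spec (CommRingCat.of k))) [IsAffine X.left] : X ⟶ X :=
  (exists_hom_ev (T := X) (X := X) (frobFn X)).choose

theorem ev_fr (X : Over (Spec (CommRingCat.of k))) [IsAffine X.left] : ev (fr X) = frobFn X :=
  (exists_hom_ev (T := X) (X := X) (frobFn X)).choose_spec

theorem fr_comp {X Y : Over (Spec (CommRingCat.of k))} [IsAffine X.left] [IsAffine Y.left] (f : X ⟶ Y) :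
    f ≫ fr Y = fr X ≫ f := by
  refine ext_ev (AlgHom.ext fun s => ?_)
  rw [← ev_ev, ← ev_ev, ev_fr, ev_fr, frobFn_apply, frobFn_apply, map_pow]

theorem fr_unit [IsAffine (PT).left] : fr PT = 𝟙 _ := toUnit_unique _ _

instance isMonHom_fr (G : Over (Spec (CommRingCat.of k))) [GrpObj G] [IsAffine G.left] : IsMonHom (fr G) := by
  haveI : IsAffine (PT).left := inferInstanceAs (IsAffine (Spec (CommRingCat.of k)))
  haveI : IsAffineHom G.hom := isAffineHom_of_isAffine G.hom
  haveI : IsAffine (G ⊗ G).left := inferInstanceAs (IsAffine (Limits.pullback G.hom G.hom))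
  have h : fr G ⊗ₘ fr G = fr (G ⊗ G) := by
    apply CartesianMonoidalCategory.hom_ext <;> simp [fr_comp]
  exact ⟨by rw [fr_comp, fr_unit, Category.id_comp], by rw [fr_comp, h]⟩

variable {K : Type u} [Field K] [IsAlgClosed K] (φ : k →+* K)

local notation "σ" => Spec.map (CommRingCat.ofHom φ)
local notation "PK" => 𝟙_ (Over (Spec (CommRingCat.of K)))
set_option quotPrecheck false in
local notation "WK" => (Over.map (Spec.map (CommRingCat.ofHom φ))).obj (𝟙_ (Over (Spec (CommRingCat.of K))))

instance isAffine_map_unit : IsAffine (WK).left := inferInstanceAs (IsAffine (Spec (CommRingCat.of K)))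

/-- The point of the larger field as an algebra. -/
theorem exists_fnEquiv :
    letI := φ.toAlgebra
    Nonempty (K ≃ₐ[k] Fn WK) := by
  letI := φ.toAlgebra
  let e : WK ≅ Over.mk (Spec.map (CommRingCat.ofHom (algebraMap k K))) :=
    Over.isoMk (Iso.refl _) (by
      show 𝟙 _ ≫ Spec.map (CommRingCat.ofHom φ) = 𝟙 _ ≫ Spec.map (CommRingCat.ofHom φ)
      rfl)
  exact ⟨(spEquiv (k := k) K).trans (fnEquiv e)⟩

/-- The Frobenius on the points over an algebraically closed field. -/
noncomputable abbrev frK (X : Over (Spec (CommRingCat.of k))) [IsAffine X.left] : Red.bc σ X ⟶ Red.bc σ X :=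
  (Over.pullback σ).map (fr X)

theorem bcPts_frK {G : Over (Spec (CommRingCat.of k))} [GrpObj G] [IsAffine G.left] (w : WK ⟶ G) :
    AVTors.bcPts σ PK G (w ≫ fr G) = AVTors.bcPts σ PK G w ≫ frK φ G := AVTors.bcPts_comp _ _ _

/-- The Frobenius commutes with homomorphisms. -/
theorem map_frK {X Y : Over (Spec (CommRingCat.of k))} [IsAffine X.left] [IsAffine Y.left] (f : X ⟶ Y)
    (y : PK ⟶ Red.bc σ X) :
    (y ≫ (Over.pullback σ).map f) ≫ frK φ Y = (y ≫ frK φ X) ≫ (Over.pullback σ).map f := by
  rw [Category.assoc, Category.assoc, ← Functor.map_comp, ← Functor.map_comp, fr_comp]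

/-- The fixed points of the Frobenius are the rational points. -/
theorem exists_rational_of_fixed {G : Over (Spec (CommRingCat.of k))} [GrpObj G] [IsAffine G.left]
    (y : PK ⟶ Red.bc σ G) (hy : y ≫ frK φ G = y) : ∃ r : PT ⟶ G, extPt σ r = y := by
  classical
  letI := φ.toAlgebra
  letI := Fintype.ofFinite k
  obtain ⟨e⟩ := exists_fnEquiv φ
  obtain ⟨w, rfl⟩ := (AVTors.bcPts σ PK G).surjective y
  rw [← bcPts_frK] at hy
  have hw := (AVTors.bcPts σ PK G).injective hy
  have hfix : ∀ s : Fn G, e.symm (ev w s) ^ Fintype.card k = e.symm (ev w s) := fun s => by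
    conv_rhs => rw [← hw, ← ev_ev, ev_fr, frobFn_apply, map_pow, map_pow, Nat.card_eq_fintype_card]
  have hmem : ∀ x : K, x ^ Fintype.card k = x → ∃ c, algebraMap k K c = x := by
    intro x hx
    let P : Polynomial K := Polynomial.X ^ Fintype.card k - Polynomial.X
    have hP : P ≠ 0 := FiniteField.X_pow_card_sub_X_ne_zero K Fintype.one_lt_card
    have hdeg : P.natDegree = Fintype.card k := FiniteField.X_pow_card_sub_X_natDegree_eq K Fintype.one_lt_card
    by_contra hne
    push Not at hne
    let S : Finset K := insert x (Finset.univ.image (algebraMap k K))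
    have hS : S.card = Fintype.card k + 1 := by
      rw [Finset.card_insert_of_notMem (by simpa using hne), Finset.card_image_of_injective _ (algebraMap k K).injective]
      rfl
    have := Polynomial.card_le_degree_of_subset_roots (p := P) (Z := S) (fun a ha => by
      rw [Polynomial.mem_roots hP]
      simp only [Polynomial.IsRoot, P, Polynomial.eval_sub, Polynomial.eval_pow, Polynomial.eval_X, sub_eq_zero]
      rcases Finset.mem_insert.mp ha with rfl | ha
      · exact hx
      · obtain ⟨c, -, rfl⟩ := Finset.mem_image.mp ha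
        rw [← map_pow, FiniteField.pow_card])
    omega
  choose c hc using fun s => hmem _ (hfix s)
  let ψ : Fn G →ₐ[k] k :=
    { toFun := c
      map_one' := (algebraMap k K).injective (by rw [hc, map_one, map_one, map_one])
      map_mul' := fun a b => (algebraMap k K).injective (by rw [map_mul (algebraMap k K), hc, hc, hc, map_mul, map_mul])
      map_zero' := (algebraMap k K).injective (by rw [hc, map_zero, map_zero, map_zero])
      map_add' := fun a b => (algebraMap k K).injective (by rw [map_add (algebraMap k K), hc, hc, hc, map_add, map_add])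
      commutes' := fun a => (algebraMap k K).injective (by rw [hc, AlgHom.commutes, AlgEquiv.commutes]; rfl) }
  obtain ⟨r, hr⟩ := exists_pt ψ
  refine ⟨r, ?_⟩
  show AVTors.bcPts σ PK G (toUnit _ ≫ r) = _
  congr 1
  refine ext_ev (AlgHom.ext fun s => e.symm.injective ?_)
  rw [← ev_ev, ← AGFLib.ProjAct.algebraMap_toK (k := k) (ev r s), AlgHom.commutes, AlgEquiv.commutes, ← hc]
  congr 1
  exact DFunLike.congr_fun hr s

/-- Lang's theorem on the points over an algebraically closed field. -/
theorem exists_lang {G : Over (Spec (CommRingCat.of k))} [GrpObj G] [IsAffine G.left] [Smooth G.hom]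
    [ConnectedSpace G.left] (c : PK ⟶ Red.bc σ G) : ∃ d : PK ⟶ Red.bc σ G, d * (d ≫ frK φ G)⁻¹ = c := by
  let L : G ⟶ G := 𝟙 G * (fr G)⁻¹
  haveI : Surjective L.left := Groth.Agent.S3934.result k G (fr G) (fun s => by
    show ev (fr G) s = _
    rw [ev_fr, frobFn_apply])
  haveI : Surjective ((Over.pullback σ).map L).left := MorphismProperty.overPullbackMap (P := @Surjective) _ L ‹_›
  haveI : LocallyOfFiniteType (Red.bc σ G).hom :=
    inferInstanceAs (LocallyOfFiniteType (Limits.pullback.snd G.hom σ))
  haveI := GrpSchLib.AntiAffine.isSeparated_grp (Red.bc σ G)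
  obtain ⟨d, hd⟩ := exists_of_mem_range ((Over.pullback σ).map L) c (((Over.pullback σ).map L).left.surjective _)
  refine ⟨d, ?_⟩
  obtain ⟨w, rfl⟩ := (AVTors.bcPts σ PK G).surjective d
  rw [← hd, ← bcPts_frK, ← AVTors.bcPts_comp, MonObj.comp_mul, GrpObj.comp_inv, Category.comp_id, map_mul, map_inv]

/-- The Frobenius is surjective on points. -/
theorem exists_frK_eq {G : Over (Spec (CommRingCat.of k))} [GrpObj G] [IsAffine G.left] (y : PK ⟶ Red.bc σ G) :
    ∃ x : PK ⟶ Red.bc σ G, x ≫ frK φ G = y := by
  letI := φ.toAlgebra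
  obtain ⟨e⟩ := exists_fnEquiv φ
  obtain ⟨w, rfl⟩ := (AVTors.bcPts σ PK G).surjective y
  have hb : Function.Bijective (frobFn WK) := by
    refine ⟨fun a b h => e.symm.injective ?_, fun a => ?_⟩
    · rw [frobFn_apply, frobFn_apply] at h
      haveI : Fintype k := Fintype.ofFinite k
      have h2 := congrArg e.symm h
      rw [map_pow, map_pow, Nat.card_eq_fintype_card] at h2
      exact (FiniteField.frobeniusAlgHom k K).toRingHom.injective h2
    · obtain ⟨b, hb⟩ := IsAlgClosed.exists_pow_nat_eq (e.symm a) (n := Nat.card k) Nat.card_pos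
      exact ⟨e b, by rw [frobFn_apply, ← map_pow, hb, AlgEquiv.apply_symm_apply]⟩
  let fe : Fn WK ≃ₐ[k] Fn WK := AlgEquiv.ofBijective (frobFn WK) hb
  obtain ⟨v, hv⟩ := exists_hom_ev (T := WK) (X := G) (fe.symm.toAlgHom.comp (ev w))
  refine ⟨AVTors.bcPts σ PK G v, ?_⟩
  rw [← bcPts_frK]
  congr 1
  rw [fr_comp]
  refine ext_ev (AlgHom.ext fun s => ?_)
  rw [← ev_ev, ev_fr, hv]
  exact fe.apply_symm_apply (ev w s)

/-- The Frobenius is injective on points. -/
theorem frK_injective {G : Over (Spec (CommRingCat.of k))} [GrpObj G] [IsAffine G.left] {a b : PK ⟶ Red.bc σ G}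
    (h : a ≫ frK φ G = b ≫ frK φ G) : a = b := by
  letI := φ.toAlgebra
  haveI : Fintype k := Fintype.ofFinite k
  obtain ⟨e⟩ := exists_fnEquiv φ
  obtain ⟨v, rfl⟩ := (AVTors.bcPts σ PK G).surjective a
  obtain ⟨w, rfl⟩ := (AVTors.bcPts σ PK G).surjective b
  rw [← bcPts_frK, ← bcPts_frK] at h
  have h2 := (AVTors.bcPts σ PK G).injective h
  congr 1
  refine ext_ev (AlgHom.ext fun s => e.symm.injective ?_)
  have h3 := congrArg (fun m => e.symm (ev m s)) h2
  simp only [← ev_ev, ev_fr, frobFn_apply, map_pow, Nat.card_eq_fintype_card] at h3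
  exact (FiniteField.frobeniusAlgHom k K).toRingHom.injective h3

omit [IsAlgClosed K] in
/-- Two algebra maps to an algebraic extension of a finite field with the same kernel differ by a Frobenius power. -/
theorem exists_pow_of_ker_eq [Algebra k K] [Algebra.IsAlgebraic k K] [IsAlgClosure k K] {A : Type u} [CommRing A]
    [Algebra k A] [Algebra.FiniteType k A] (f f' : A →ₐ[k] K) (hker : ∀ a, f a = 0 ↔ f' a = 0) :
    ∃ i : ℕ, ∀ a, f' a = f a ^ Nat.card k ^ i := by
  classical
  haveI : Fintype k := Fintype.ofFinite k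
  obtain ⟨s, hs⟩ := (inferInstance : Algebra.FiniteType k A).out
  let L : IntermediateField k K := IntermediateField.adjoin k (f '' s)
  have hL : L.toSubalgebra = f.range := by
    rw [IntermediateField.adjoin_toSubalgebra_of_isAlgebraic fun x _ => Algebra.IsAlgebraic.isAlgebraic x,
      Algebra.adjoin_image, hs, Algebra.map_top]
  haveI : FiniteDimensional k L :=
    IntermediateField.finiteDimensional_adjoin fun x _ => (Algebra.IsAlgebraic.isAlgebraic (R := k) x).isIntegral
  haveI : Finite L := Module.finite_of_finite k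
  have hmem : ∀ a, f a ∈ L := fun a => by
    rw [← IntermediateField.mem_toSubalgebra, hL]
    exact ⟨a, rfl⟩
  let g : A →ₐ[k] L := AlgHom.codRestrict f L.toSubalgebra hmem
  have hg : Function.Surjective g := fun x => by
    obtain ⟨a, ha⟩ : (x : K) ∈ f.range := hL ▸ x.2
    exact ⟨a, Subtype.ext ha⟩
  let Θ : L →ₐ[k] K := (Ideal.Quotient.liftₐ (RingHom.ker g) f' fun a ha => (hker a).mp
    (congrArg Subtype.val (RingHom.mem_ker.mp ha))).comp (Ideal.quotientKerAlgEquivOfSurjective hg).symm.toAlgHom
  have hΘ : ∀ a, Θ (g a) = f' a := fun a => by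
    have h1 : (Ideal.quotientKerAlgEquivOfSurjective hg).symm (g a) = Ideal.Quotient.mk (RingHom.ker g) a := by
      rw [AlgEquiv.symm_apply_eq, Ideal.quotientKerAlgEquivOfSurjective_mk]
    simp only [Θ, AlgHom.comp_apply, AlgEquiv.toAlgHom_eq_coe]
    refine (congrArg (Ideal.Quotient.liftₐ (RingHom.ker g) f' _) (show _ = Ideal.Quotient.mk (RingHom.ker g) a from h1)).trans ?_
    rfl
  haveI : Normal k K := IsAlgClosure.normal k K
  haveI : IsGalois k L := inferInstance
  let ψ : K →ₐ[k] K := Θ.liftNormal K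
  let τ : L ≃ₐ[k] L := AlgHom.restrictNormal' ψ L
  obtain ⟨⟨i, hi⟩, hτ⟩ := (FiniteField.bijective_frobeniusAlgEquivOfAlgebraic_pow k L).2 τ
  refine ⟨i, fun a => ?_⟩
  have h2 : ((τ (g a) : L) : K) = ψ (g a : K) := AlgHom.restrictNormal_commutes ψ L (g a)
  rw [show ψ (g a : K) = Θ (g a) from AlgHom.liftNormal_commutes Θ K (g a), hΘ] at h2
  rw [← h2, ← hτ]
  simp only [AlgEquiv.coe_pow, FiniteField.coe_frobeniusAlgEquivOfAlgebraic, pow_iterate, Nat.card_eq_fintype_card]
  rfl

end Groth.Agent.SolvGrp.Frob
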