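import Groth.Agent.SolvGrp.GrothNilp
import Mathlib.RingTheory.Bialgebra.MonoidAlgebra
import Mathlib.Data.ZMod.Basic

/-! The weights of a split torus against the derivations of the torus. -/

universe u

open TensorProduct WithConv

noncomputable section

namespace Groth.Agent.SolvGrp.Groth

open GrpSchLib

/-- The character group of the torsion subgroup of level `N` of the split torus of rank `r`. -/
abbrev Chr (r N : ℕ) : Type := Multiplicative (Fin r → ZMod N)

/-- The character group of the split torus of rank `r`. -/
abbrev Lat (r : ℕ) : Type := Multiplicative (Fin r → ℤ)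

/-- The reduction of the characters. -/
def red (r N : ℕ) : Lat r →* Chr r N :=
  (Pi.addMonoidHom fun i => ((Int.castRingHom (ZMod N)).toAddMonoidHom.comp
    (Pi.evalAddMonoidHom (fun _ : Fin r => ℤ) i))).toMultiplicative

theorem red_apply (r N : ℕ) (v : Lat r) (i : Fin r) :
    Multiplicative.toAdd (red r N v) i = ((Multiplicative.toAdd v i : ℤ) : ZMod N) := rfl

variable {K : Type u} [Field K] {C : Type u} [CommRing C] [HopfAlgebra K C]

/-- The derivations of the split torus. -/
def lam (r : ℕ) (i : Fin r) : CartDual.D K (MonoidAlgebra K (Lat r)) :=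
  toConv ((MonoidAlgebra.basis (Lat r) K).constr K fun v => ((Multiplicative.toAdd v i : ℤ) : K))

theorem lam_single (r : ℕ) (i : Fin r) (v : Lat r) (c : K) :
    (lam r i).ofConv (MonoidAlgebra.single v c) = c * ((Multiplicative.toAdd v i : ℤ) : K) := by
  rw [show MonoidAlgebra.single v c = c • MonoidAlgebra.basis (Lat r) K v by simp, map_smul, lam, ofConv_toConv,
    Module.Basis.constr_basis, smul_eq_mul]

theorem isDer_lam (r : ℕ) (i : Fin r) : IsDer (lam (K := K) r i) := by
  intro a b
  induction a using MonoidAlgebra.induction_linear with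
  | zero => simp
  | add s t hs ht => rw [add_mul, map_add, hs, ht, map_add, map_add]; ring
  | single v c =>
    induction b using MonoidAlgebra.induction_linear with
    | zero => simp
    | add s t hs ht => rw [mul_add, map_add, hs, ht, map_add, map_add]; ring
    | single w d =>
      rw [MonoidAlgebra.single_mul_single, lam_single, lam_single, lam_single, MonoidAlgebra.counit_single,
        MonoidAlgebra.counit_single, CommSemiring.counit_apply, CommSemiring.counit_apply, toAdd_mul, Pi.add_apply,
        Int.cast_add]
      ring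

/-- The coordinate at a character. -/
def crd (r : ℕ) (v : Lat r) : CartDual.D K (MonoidAlgebra K (Lat r)) :=
  toConv ((MonoidAlgebra.basis (Lat r) K).coord v)

theorem formOp_crd (r : ℕ) (v : Lat r) (x : MonoidAlgebra K (Lat r)) :
    formOp (crd r v) x = MonoidAlgebra.single v (x.coeff v) := by
  classical
  induction x using MonoidAlgebra.induction_linear with
  | zero => simp
  | add s t hs ht =>
    rw [map_add, hs, ht, MonoidAlgebra.coeff_add, Finsupp.add_apply, MonoidAlgebra.single_add]
  | single w c =>
    have e : (crd (K := K) r v).ofConv (MonoidAlgebra.single w (1 : K)) = if v = w then 1 else 0 := by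
      show (MonoidAlgebra.basis (Lat r) K).coord v (MonoidAlgebra.single w 1) = _
      rw [← MonoidAlgebra.basis_apply, Module.Basis.coord_apply, Module.Basis.repr_self, Finsupp.single_apply]
      by_cases h : v = w
      · subst h; simp
      · rw [if_neg (Ne.symm h), if_neg h]
    rw [show MonoidAlgebra.single w c = c • MonoidAlgebra.single w (1 : K) by simp, map_smul, formOp_apply,
      MonoidAlgebra.comul_single, CommSemiring.comul_apply, TensorProduct.map_tmul,
      LinearMap.lTensor_tmul, TensorProduct.rid_tmul]
    simp only [MonoidAlgebra.lsingle_apply]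
    rw [e, MonoidAlgebra.coeff_smul, MonoidAlgebra.coeff_single, Finsupp.smul_apply, smul_eq_mul]
    by_cases h : v = w
    · subst h; simp
    · simp [h, Finsupp.single_apply, Ne.symm h]

/-- If the derivations of the torus are topologically nilpotent, the weights are divisible by the characteristic. -/
theorem red_eq_one_of_coeff (p : ℕ) [CharP K p] {r : ℕ} (ρ : C →ₐc[K] MonoidAlgebra K (Lat r))
    (h : ∀ i, IsTopNilp (pull ρ (lam r i))) (c : C) (v : Lat r) (hv : (ρ c).coeff v ≠ 0) : red r p v = 1 := by
  classical
  refine Multiplicative.toAdd.injective (funext fun i => ?_)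
  rw [red_apply, toAdd_one, Pi.zero_apply]
  suffices h0 : ((Multiplicative.toAdd v i : ℤ) : K) = 0 by
    rwa [CharP.intCast_eq_zero_iff K p, ← ZMod.intCast_zmod_eq_zero_iff_dvd] at h0
  obtain ⟨n, hn⟩ := h i (formOp (pull ρ (crd r v)) c)
  have h1 := hn (n + 1) (Nat.le_succ n)
  rw [pull_pow, pull_apply, formOp_pull, formOp_crd] at h1
  have hg : ((lam (K := K) r i) ^ (n + 1)).ofConv (MonoidAlgebra.single v 1) =
      (lam (K := K) r i).ofConv (MonoidAlgebra.single v 1) ^ (n + 1) :=
    pow_apply_groupLike _ (MonoidAlgebra.isGroupLikeElem_single_one v) _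
  rw [show MonoidAlgebra.single v ((ρ c).coeff v) = (ρ c).coeff v • MonoidAlgebra.single v (1 : K) by simp,
    map_smul, hg, lam_single, _root_.one_mul, smul_eq_mul, mul_eq_zero] at h1
  exact eq_zero_of_pow_eq_zero (h1.resolve_left hv)

/-- If the derivations of the torus are topologically nilpotent, the torsion of level the characteristic is killed. -/
theorem red_eq_counit (p : ℕ) [CharP K p] {r : ℕ} (ρ : C →ₐc[K] MonoidAlgebra K (Lat r))
    (h : ∀ i, IsTopNilp (pull ρ (lam r i))) (c : C) :
    MonoidAlgebra.mapDomainBialgHom K (red r p) (ρ c) = algebraMap K _ (Coalgebra.counit (R := K) c) := by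
  classical
  have hv : ∀ v, (ρ c).coeff v ≠ 0 → red r p v = 1 := red_eq_one_of_coeff p ρ h c
  have key : ∀ x : MonoidAlgebra K (Lat r), (∀ v, x.coeff v ≠ 0 → red r p v = 1) →
      MonoidAlgebra.mapDomainBialgHom K (red r p) x = algebraMap K _ (Coalgebra.counit (R := K) x) := by
    intro x hx
    have e : x = ∑ v ∈ x.coeff.support, MonoidAlgebra.single v (x.coeff v) := (MonoidAlgebra.sum_coeff_single x).symm
    rw [e, map_sum, map_sum, map_sum]
    refine Finset.sum_congr rfl fun v hv => ?_
    rw [MonoidAlgebra.counit_single, CommSemiring.counit_apply]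
    show MonoidAlgebra.mapDomain _ (MonoidAlgebra.single v (x.coeff v)) = _
    rw [MonoidAlgebra.mapDomain_single, hx v (Finsupp.mem_support_iff.1 hv)]
    rfl
  rw [key _ hv, CoalgHomClass.counit_comp_apply]

/-- A non-trivial homomorphism of the split torus is non-trivial on some torsion of prime power level. -/
theorem exists_level (p : ℕ) (hp : p ≠ 1) {r : ℕ} (ρ : C →ₐc[K] MonoidAlgebra K (Lat r)) (c : C)
    (hc : ρ c ≠ algebraMap K _ (Coalgebra.counit (R := K) c)) :
    ∃ n, MonoidAlgebra.mapDomainBialgHom K (red r (p ^ n)) (ρ c) ≠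
      algebraMap K _ (Coalgebra.counit (R := K) c) := by
  classical
  let x := ρ c
  let S : Finset (Lat r) := insert 1 x.coeff.support
  let bd : ℕ := S.sup fun v => Finset.univ.sup fun i => (Multiplicative.toAdd v i : ℤ).natAbs
  obtain ⟨n, hn⟩ : ∃ n, p ^ n = 0 ∨ 2 * bd < p ^ n := by
    rcases Nat.eq_zero_or_pos p with h0 | h0
    · exact ⟨1, Or.inl (by simp [h0])⟩
    · exact ⟨2 * bd, Or.inr (Nat.lt_pow_self (by omega))⟩
  have hinj : Set.InjOn (red r (p ^ n)) (S : Set (Lat r)) := by
    intro v hv w hw hvw
    refine Multiplicative.toAdd.injective (funext fun i => ?_)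
    have h1 := congrArg (fun u : Chr r (p ^ n) => Multiplicative.toAdd u i) hvw
    simp only [red_apply, ZMod.intCast_eq_intCast_iff_dvd_sub] at h1
    rcases hn with hn | hn
    · rw [hn, Nat.cast_zero, zero_dvd_iff, sub_eq_zero] at h1
      exact h1.symm
    · have b1 : (Multiplicative.toAdd v i : ℤ).natAbs ≤ bd :=
        (Finset.le_sup (f := fun i => (Multiplicative.toAdd v i : ℤ).natAbs) (Finset.mem_univ i)).trans
          (Finset.le_sup (f := fun v : Lat r => Finset.univ.sup fun i => (Multiplicative.toAdd v i : ℤ).natAbs) hv)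
      have b2 : (Multiplicative.toAdd w i : ℤ).natAbs ≤ bd :=
        (Finset.le_sup (f := fun i => (Multiplicative.toAdd w i : ℤ).natAbs) (Finset.mem_univ i)).trans
          (Finset.le_sup (f := fun v : Lat r => Finset.univ.sup fun i => (Multiplicative.toAdd v i : ℤ).natAbs) hw)
      have h2 := Int.eq_zero_of_dvd_of_natAbs_lt_natAbs h1 (by
        rw [Int.natAbs_natCast]
        exact lt_of_le_of_lt ((Int.natAbs_sub_le _ _).trans (by omega)) hn)
      exact (sub_eq_zero.1 h2).symm
  refine ⟨n, fun h => hc (MonoidAlgebra.coeff_injective (Finsupp.ext fun v => ?_))⟩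
  have h1 := congrArg MonoidAlgebra.coeff h
  rw [show MonoidAlgebra.mapDomainBialgHom K (red r (p ^ n)) x = MonoidAlgebra.mapDomain (red r (p ^ n)) x from rfl,
    MonoidAlgebra.coeff_mapDomain] at h1
  by_cases hv : v ∈ S
  · have h2 := DFunLike.congr_fun h1 (red r (p ^ n) v)
    rw [Finsupp.mapDomain_apply' (S : Set (Lat r)) x.coeff (fun w hw => Finset.mem_insert_of_mem hw) hinj hv] at h2
    rw [show x.coeff v = _ from h2, MonoidAlgebra.coe_algebraMap, MonoidAlgebra.coe_algebraMap, Function.comp_apply,
      Function.comp_apply, MonoidAlgebra.coeff_single, MonoidAlgebra.coeff_single, Finsupp.single_apply,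
      Finsupp.single_apply]
    have h1S : (1 : Lat r) ∈ S := Finset.mem_insert_self _ _
    by_cases he : (1 : Lat r) = v
    · subst he; simp
    · have : (1 : Chr r (p ^ n)) ≠ red r (p ^ n) v := fun e => he (hinj h1S hv ((map_one _).trans e))
      rw [if_neg he, if_neg this]
  · have h2 : x.coeff v = 0 := Finsupp.notMem_support_iff.1 fun h' => hv (Finset.mem_insert_of_mem h')
    have h3 : (1 : Lat r) ≠ v := fun e => hv (e ▸ Finset.mem_insert_self _ _)
    rw [h2, MonoidAlgebra.coe_algebraMap, Function.comp_apply, MonoidAlgebra.coeff_single, Finsupp.single_apply,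
      if_neg h3]

end Groth.Agent.SolvGrp.Groth
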