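import Groth.Agent.SolvGrp.GrothDense
import Groth.Agent.SolvGrp.GrothWeights
import Mathlib.Algebra.CharP.Lemmas
import Mathlib.Algebra.MvPolynomial.Funext

/-! Derivations at the counit which kill the ideal of a subgroup. -/

set_option backward.isDefEq.respectTransparency false
set_option backward.isDefEq.respectTransparency.types false

universe u

open TensorProduct WithConv

noncomputable section

namespace Groth.Agent.SolvGrp.Groth

open GrpSchLib

variable {k : Type u} [Field k] {A : Type u} [CommRing A] [HopfAlgebra k A] {B : Type u} [CommRing B] [HopfAlgebra k B]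

/-- A `p`-power of a derivation is a derivation. -/
theorem IsDer.pow_char (p : ℕ) [Fact p.Prime] [CharP k p] {X : CartDual.D k A} (hX : IsDer X) :
    ∀ j : ℕ, IsDer (X ^ p ^ j)
  | 0 => by rw [pow_zero, pow_one]; exact hX
  | j + 1 => by
    rw [pow_succ, pow_mul]
    exact fun a b => deriv_pow_char p (hX.pow_char p j) a b

/-- The derivations at the counit, as a submodule. -/
def derSubmodule (k : Type u) [Field k] (A : Type u) [CommRing A] [HopfAlgebra k A] :
    Submodule k (CartDual.D k A) where
  carrier := {X | IsDer X}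
  zero_mem' := fun a b => by simp
  add_mem' := fun {x y} hx hy a b => by
    simp only [WithConv.ofConv_add, LinearMap.add_apply, hx a b, hy a b]; ring
  smul_mem' := fun c x hx a b => by
    simp only [WithConv.ofConv_smul, LinearMap.smul_apply, smul_eq_mul, hx a b]; ring

theorem finite_derSubmodule [Algebra.FiniteType k A] : Module.Finite k (derSubmodule k A) := by
  obtain ⟨s, hs⟩ := Algebra.FiniteType.out (R := k) (A := A)
  let f : derSubmodule k A →ₗ[k] (s → k) :=
    { toFun := fun X a => X.1.ofConv (a : A)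
      map_add' := fun X Y => funext fun a => by simp
      map_smul' := fun c X => funext fun a => by simp }
  refine Module.Finite.of_injective f fun X X' hXX => sub_eq_zero.mp (Subtype.ext ?_)
  have hX : f (X - X') = 0 := (LinearMap.map_sub f X X').trans (sub_eq_zero.mpr hXX)
  generalize X - X' = X at hX ⊢
  refine WithConv.ext (LinearMap.ext fun a => ?_)
  have ha : a ∈ Algebra.adjoin k (s : Set A) := hs ▸ Algebra.mem_top
  induction ha using Algebra.adjoin_induction with
  | mem x hx => exact congrFun hX ⟨x, hx⟩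
  | algebraMap c =>
    rw [Algebra.algebraMap_eq_smul_one, map_smul, deriv_apply_one X.2, smul_zero]
    simp
  | add x y _ _ hx hy => rw [map_add, map_add, hx, hy]
  | mul x y _ _ hx hy => rw [X.2 x y, hx, hy]; simp

/-- Membership in a span of high `p`-powers is stable under the `p`-th power. -/
theorem pow_char_span_shift (p : ℕ) [Fact p.Prime] [CharP k p] (X : CartDual.D k A) {i m : ℕ}
    (h : X ^ p ^ i ∈ Submodule.span k ((fun l => X ^ p ^ l) '' Set.Ici m)) :
    X ^ p ^ (i + 1) ∈ Submodule.span k ((fun l => X ^ p ^ l) '' Set.Ici (m + 1)) := by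
  let φ : Polynomial k →ₐ[k] CartDual.D k A := Polynomial.aeval X
  have hφ : ∀ l, φ (Polynomial.X ^ p ^ l) = X ^ p ^ l := fun l => by
    rw [map_pow]; exact congrArg (· ^ p ^ l) (Polynomial.aeval_X X)
  have hV : Submodule.span k ((fun l => X ^ p ^ l) '' Set.Ici m) =
      (Submodule.span k ((fun l => (Polynomial.X : Polynomial k) ^ p ^ l) '' Set.Ici m)).map φ.toLinearMap := by
    rw [Submodule.map_span, ← Set.image_comp]
    exact congrArg _ (Set.image_congr fun l _ => (hφ l).symm)
  rw [hV] at h
  obtain ⟨P, hP, hPi⟩ := h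
  have hPi' : φ P = X ^ p ^ i := hPi
  have key : φ (P ^ p) ∈ Submodule.span k ((fun l => X ^ p ^ l) '' Set.Ici (m + 1)) := by
    clear hPi hPi'
    induction hP using Submodule.span_induction with
    | mem x hx =>
      obtain ⟨l, hl, rfl⟩ := hx
      rw [← pow_mul, ← pow_succ, hφ]
      exact Submodule.subset_span ⟨l + 1, Set.mem_Ici.mpr (Nat.succ_le_succ hl), rfl⟩
    | zero => rw [zero_pow (Fact.out : p.Prime).ne_zero, map_zero]; exact Submodule.zero_mem _
    | add x y _ _ hx hy => rw [add_pow_char, map_add]; exact Submodule.add_mem _ hx hy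
    | smul c x _ hx => rw [smul_pow, map_smul]; exact Submodule.smul_mem _ _ hx
  rw [map_pow, hPi', ← pow_mul, ← pow_succ] at key
  exact key

theorem linearRelation_low {V : Type*} [AddCommGroup V] [Module k V] {n : ℕ} (Y : ℕ → V)
    (h : ¬ LinearIndependent k fun i : Fin (n + 1) => Y i) :
    ∃ e ≤ n, Y e ∈ Submodule.span k (Y '' Set.Ici (e + 1)) := by
  classical
  obtain ⟨g, hg, i, hi⟩ := Fintype.not_linearIndependent_iff.mp h
  let S := Finset.univ.filter fun i => g i ≠ 0
  have hS : S.Nonempty := ⟨i, by simp [S, hi]⟩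
  let e := S.min' hS
  have hge : g e ≠ 0 := (Finset.mem_filter.mp (S.min'_mem hS)).2
  refine ⟨e, Nat.lt_succ_iff.mp e.2, ?_⟩
  rw [← Finset.add_sum_erase _ _ (Finset.mem_univ e), add_eq_zero_iff_eq_neg] at hg
  rw [← inv_smul_smul₀ hge (Y e), hg]
  refine Submodule.smul_mem _ _ (Submodule.neg_mem _ (Submodule.sum_mem _ fun j hj => ?_))
  by_cases hj0 : g j = 0
  · rw [hj0, zero_smul]; exact Submodule.zero_mem _
  have hle : e ≤ j := S.min'_le j (by simp [S, hj0])
  exact Submodule.smul_mem _ _ (Submodule.subset_span ⟨_, Set.mem_Ici.mpr (Nat.succ_le_of_lt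
    (lt_of_le_of_ne (Fin.le_def.mp hle) fun h => (Finset.mem_erase.mp hj).1 (Fin.ext h.symm))), rfl⟩)

theorem span_Ici_tail {V : Type*} [AddCommGroup V] [Module k V] (Y : ℕ → V) (e : ℕ)
    (hrel : ∀ j, e ≤ j → Y j ∈ Submodule.span k (Y '' Set.Ici (j + 1))) (M : ℕ) :
    Y e ∈ Submodule.span k (Y '' Set.Ici M) := by
  have hanti : ∀ {a b : ℕ}, a ≤ b → Submodule.span k (Y '' Set.Ici b) ≤ Submodule.span k (Y '' Set.Ici a) :=
    fun h => Submodule.span_mono (Set.image_mono (Set.Ici_subset_Ici.mpr h))
  have hall : ∀ d j, e ≤ j → Y j ∈ Submodule.span k (Y '' Set.Ici (j + d)) := fun d => by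
    induction d with
    | zero => exact fun j _ => Submodule.subset_span ⟨j, Set.mem_Ici.mpr (le_refl j), rfl⟩
    | succ d ih =>
      intro j hj
      refine Submodule.span_le.mpr ?_ (ih j hj)
      rintro _ ⟨l, hl, rfl⟩
      rcases Nat.eq_or_lt_of_le (Set.mem_Ici.mp hl) with h | h
      · subst h
        exact hanti (by omega) (hrel _ (by omega))
      · exact Submodule.subset_span ⟨l, Set.mem_Ici.mpr (by omega), rfl⟩
  exact hanti (Nat.le_add_left M e) (hall M e (le_refl e))

/-- From some index on, every `p`-power of a derivation lies in the span of arbitrarily high ones. -/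
theorem exists_pow_char_span (p : ℕ) [Fact p.Prime] [CharP k p] [Algebra.FiniteType k A] :
    ∃ n : ℕ, ∀ X : CartDual.D k A, IsDer X → ∀ M : ℕ,
      X ^ p ^ n ∈ Submodule.span k ((fun i => X ^ p ^ i) '' Set.Ici M) := by
  haveI := finite_derSubmodule (k := k) (A := A)
  obtain ⟨n, hn⟩ : ∃ n, Module.finrank k (derSubmodule k A) = n := ⟨_, rfl⟩
  refine ⟨n, fun X hX M => ?_⟩
  have hdep : ¬ LinearIndependent k fun i : Fin (n + 1) => X ^ p ^ (i : ℕ) := by
    intro h
    have h' : LinearIndependent k fun i : Fin (n + 1) => (⟨X ^ p ^ (i : ℕ), hX.pow_char p i⟩ : derSubmodule k A) :=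
      LinearIndependent.of_comp (derSubmodule k A).subtype h
    have hcard := h'.fintype_card_le_finrank
    rw [Fintype.card_fin, hn] at hcard
    exact Nat.not_succ_le_self n hcard
  obtain ⟨e, he, hrel⟩ := linearRelation_low (k := k) (fun i => X ^ p ^ i) hdep
  have hrel' : ∀ j, e ≤ j → X ^ p ^ j ∈ Submodule.span k ((fun i => X ^ p ^ i) '' Set.Ici (j + 1)) := fun j hj => by
    induction j, hj using Nat.le_induction with
    | base => exact hrel
    | succ j _ ih => exact pow_char_span_shift p X ih
  exact span_Ici_tail (k := k) (fun i => X ^ p ^ i) n (fun j hj => hrel' j (he.trans hj)) M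

/-- High `p`-powers of a derivation vanish on the ideal generated by what a nilpotent pullback sees. -/
theorem eventually_kill (p : ℕ) [Fact p.Prime] [CharP k p] {X : CartDual.D k A} (hX : IsDer X) (φ : B →ₐc[k] A)
    (hn : IsTopNilp (pull φ X)) {z : A}
    (hz : z ∈ Ideal.map (φ : B →+* A) (RingHom.ker (Bialgebra.counitAlgHom k B))) :
    ∃ M, ∀ j, M ≤ j → (X ^ p ^ j).ofConv z = 0 := by
  suffices h : Coalgebra.counit (R := k) z = 0 ∧ ∃ M, ∀ j, M ≤ j → (X ^ p ^ j).ofConv z = 0 from h.2
  induction hz using Submodule.span_induction with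
  | mem x hx =>
    obtain ⟨b, hb, rfl⟩ := hx
    refine ⟨(CoalgHomClass.counit_comp_apply φ b).trans (show Coalgebra.counit (R := k) b = 0 from hb), ?_⟩
    obtain ⟨n, hn⟩ := hn b
    refine ⟨n, fun j hj => ?_⟩
    have := hn (p ^ j) (hj.trans (Nat.lt_pow_self (Fact.out : p.Prime).one_lt).le)
    rwa [pull_pow, pull_apply] at this
  | zero => exact ⟨map_zero _, 0, fun j _ => map_zero _⟩
  | add x y _ _ hx hy =>
    obtain ⟨hx0, a, ha⟩ := hx
    obtain ⟨hy0, b, hb⟩ := hy
    exact ⟨by rw [map_add, hx0, hy0, add_zero], max a b, fun j hj => by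
      rw [map_add, ha j (le_trans (le_max_left _ _) hj), hb j (le_trans (le_max_right _ _) hj), add_zero]⟩
  | smul c x _ hx =>
    obtain ⟨hx0, a, ha⟩ := hx
    refine ⟨by rw [smul_eq_mul, Bialgebra.counit_mul, hx0, mul_zero], a, fun j hj => ?_⟩
    rw [smul_eq_mul, hX.pow_char p j c x, hx0, ha j hj]
    simp

/-- High `p`-powers of a derivation vanish on the ideal of the multiplicative part. -/
theorem eventually_kill_multIdeal (p : ℕ) [Fact p.Prime] [CharP k p] [Coalgebra.IsCocomm k A] {X : CartDual.D k A}
    (hX : IsDer X) {z : A} (hz : z ∈ UniPart.multIdeal k A) :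
    ∃ M, ∀ j, M ≤ j → (X ^ p ^ j).ofConv z = 0 := by
  letI := UniPart.hopfU k A
  refine eventually_kill p hX (UniPart.inclU k A) (isTopNilp_of_multIdeal hX _ fun b => ?_) hz
  have h : UniPart.inclU k A (b - algebraMap k _ (Coalgebra.counit (R := k) b)) ∈ UniPart.multIdeal k A :=
    Ideal.mem_map_of_mem (UniPart.inclU k A : UniPart.U k A →+* A)
      (I := RingHom.ker (Bialgebra.counitAlgHom k (UniPart.U k A))) (show Coalgebra.counit (R := k) (b - algebraMap k _ (Coalgebra.counit (R := k) b)) = 0 by
      rw [map_sub, Bialgebra.counit_algebraMap, sub_self])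
  rwa [map_sub, AlgHomClass.commutes] at h

/-- A polynomial condition on the rational derivations holds for all derivations. -/
theorem exists_poly_tensor (K : Type u) [Field K] [Algebra k K] {n : ℕ} (X : Fin n → CartDual.D k A) (d : ℕ)
    (z : K ⊗[k] A) :
    ∃ P : MvPolynomial (Fin n) K,
      (∀ c : Fin n → k, MvPolynomial.eval (fun j => algebraMap k K (c j)) P = (bcD K (∑ j, c j • X j) ^ d).ofConv z) ∧
      ∀ (c : Fin n → K) (Y : CartDual.D K (K ⊗[k] A)),
        (∀ a, Y.ofConv ((1 : K) ⊗ₜ[k] a) = ∑ j, c j * algebraMap k K ((X j).ofConv a)) →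
          MvPolynomial.eval c P = (Y ^ d).ofConv z := by
  induction z using TensorProduct.induction_on with
  | zero => exact ⟨0, fun c => by rw [map_zero, map_zero], fun c Y _ => by rw [map_zero, map_zero]⟩
  | add s t hs ht =>
    obtain ⟨P, hP1, hP2⟩ := hs
    obtain ⟨Q, hQ1, hQ2⟩ := ht
    exact ⟨P + Q, fun c => by rw [map_add, map_add, hP1, hQ1],
      fun c Y hY => by rw [map_add, map_add, hP2 c Y hY, hQ2 c Y hY]⟩
  | tmul s a =>
    obtain ⟨P, hP1, hP2⟩ := exists_poly K X d a
    have e : s ⊗ₜ[k] a = s • ((1 : K) ⊗ₜ[k] a) := by rw [TensorProduct.smul_tmul', smul_eq_mul, mul_one]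
    refine ⟨MvPolynomial.C s * MvPolynomial.map (algebraMap k K) P, fun c => ?_, fun c Y hY => ?_⟩
    · rw [e, map_smul, map_mul, MvPolynomial.eval_C, pow_bcD_apply, ← hP1 c, smul_eq_mul, MvPolynomial.eval_map,
        MvPolynomial.eval₂_comp]
      congr 1
    · rw [e, map_smul, map_mul, MvPolynomial.eval_C, ← hP2 c Y hY, smul_eq_mul, MvPolynomial.eval_map,
        MvPolynomial.aeval_def]

/-- A vanishing condition on a power of the rational derivations holds for all derivations. -/
theorem kills_of_rational [Infinite k] [Algebra.FiniteType k A] (K : Type u) [Field K] [Algebra k K] (d : ℕ)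
    (z : K ⊗[k] A) (h : ∀ X : CartDual.D k A, IsDer X → (bcD K X ^ d).ofConv z = 0)
    (Y : CartDual.D K (K ⊗[k] A)) (hY : IsDer Y) : (Y ^ d).ofConv z = 0 := by
  obtain ⟨n, X, hX, hdec⟩ := exists_der_basis (k := k) (A := A)
  obtain ⟨c, hc⟩ := hdec K Y hY
  obtain ⟨P, hP, hPK⟩ := exists_poly_tensor K X d z
  have hP0 : P = 0 := MvPolynomial.funext_set (fun _ => Set.range (algebraMap k K))
    (fun _ => Set.infinite_range_of_injective (algebraMap k K).injective) fun x hx => by
    choose y hy using fun j => hx j (Set.mem_univ j)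
    rw [map_zero, show x = fun j => algebraMap k K (y j) from funext fun j => (hy j).symm, hP]
    exact h _ ((derSubmodule k A).sum_mem fun j _ => (derSubmodule k A).smul_mem _ (hX j))
  rw [← hPK c Y hc, hP0, map_zero]

/-- A linear condition holding on the derivations which are not nilpotent holds on all derivations. -/
theorem kills_of_not_nilp [Infinite k] [Algebra.FiniteType k A] (K : Type u) [Field K] [Algebra k K]
    (ψ : B →ₐc[k] A) (z : K ⊗[k] A)
    (h : ∀ X : CartDual.D k A, IsDer X → ¬ IsTopNilp (pull ψ X) → (bcD K X).ofConv z = 0)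
    {X₀ : CartDual.D k A} (hX₀ : IsDer X₀) (hn : ¬ IsTopNilp (pull ψ X₀))
    (Y : CartDual.D K (K ⊗[k] A)) (hY : IsDer Y) : Y.ofConv z = 0 := by
  classical
  obtain ⟨n, X, hX, hdec⟩ := exists_der_basis (k := k) (A := A)
  obtain ⟨c, hc⟩ := hdec K Y hY
  obtain ⟨P, hP, hPK⟩ := exists_poly_tensor K X 1 z
  unfold IsTopNilp at hn
  push Not at hn
  obtain ⟨b, hb⟩ := hn
  obtain ⟨d, hd⟩ := exists_bound (k := k) b
  obtain ⟨m, hm, hbm⟩ := hb d
  obtain ⟨W, hW, -⟩ := exists_poly K (fun j => pull ψ (X j)) m b
  have hpull : ∀ x : Fin n → k, (∑ j, x j • pull ψ (X j)) = pull ψ (∑ j, x j • X j) := fun x =>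
    WithConv.ext (LinearMap.ext fun a => by simp [pull_apply])
  have hder : ∀ x : Fin n → k, IsDer (∑ j, x j • X j) := fun x =>
    (derSubmodule k A).sum_mem fun j _ => (derSubmodule k A).smul_mem _ (hX j)
  have h0 : P * MvPolynomial.map (algebraMap k K) W = 0 :=
    MvPolynomial.funext_set (fun _ => Set.range (algebraMap k K))
      (fun _ => Set.infinite_range_of_injective (algebraMap k K).injective) fun x hx => by
    choose y hy using fun j => hx j (Set.mem_univ j)
    rw [map_zero, show x = fun j => algebraMap k K (y j) from funext fun j => (hy j).symm, map_mul, hP, pow_one]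
    by_cases hnil : IsTopNilp (pull ψ (∑ j, y j • X j))
    · rw [MvPolynomial.eval_map, show (fun j => algebraMap k K (y j)) = algebraMap k K ∘ y from rfl,
        ← MvPolynomial.eval₂_comp, hW, hpull, hd _ hnil m hm, map_zero, mul_zero]
    · rw [h _ (hder y) hnil, zero_mul]
  have hW0 : MvPolynomial.map (algebraMap k K) W ≠ 0 := by
    intro hW0
    obtain ⟨c₀, hc₀⟩ := hdec K (bcD K X₀) hX₀.bcD
    have hW' : W = 0 := MvPolynomial.map_injective _ (algebraMap k K).injective (by rw [hW0, map_zero])
    obtain ⟨W₂, hW₂, hW₂K⟩ := exists_poly K (fun j => pull ψ (X j)) m b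
    have hWW : W₂ = W := MvPolynomial.funext fun x => by rw [hW, hW₂]
    have h2 := hW₂K c₀ (bcD K (pull ψ X₀)) fun a => by
      rw [bcD_tmul, pull_apply]
      have := hc₀ (ψ a)
      rwa [bcD_tmul] at this
    rw [hWW, hW', map_zero, pow_bcD_apply] at h2
    exact hbm ((algebraMap k K).injective (h2.symm.trans (map_zero _).symm))
  rw [← pow_one Y, ← hPK c Y hc, (mul_eq_zero.mp h0).resolve_right hW0, map_zero]

section Range

variable {C : Type u} [CommRing C] [HopfAlgebra k C]

/-- Pullback of forms is an algebra homomorphism. -/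
def pullHom (π : A →ₐc[k] C) : CartDual.D k C →ₐ[k] CartDual.D k A :=
  AlgHom.ofLinearMap
    { toFun := pull π
      map_add' := fun x y => WithConv.ext (LinearMap.ext fun a => by simp [pull_apply])
      map_smul' := fun c x => WithConv.ext (LinearMap.ext fun a => by simp [pull_apply]) }
    (WithConv.ext (LinearMap.ext fun a => by
      simp only [LinearMap.coe_mk, AddHom.coe_mk, pull_apply, LinearMap.convOne_apply,
        CoalgHomClass.counit_comp_apply]))
    fun x y => WithConv.ext (LinearMap.ext fun a => by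
      simp only [LinearMap.coe_mk, AddHom.coe_mk, pull_apply, LinearMap.convMul_apply]
      rw [← CoalgHomClass.map_comp_comul_apply π a]
      generalize Coalgebra.comul (R := k) a = t
      induction t using TensorProduct.induction_on with
      | zero => simp
      | tmul u v => rfl
      | add s t hs ht => simp only [map_add, hs, ht])

theorem pullHom_apply (π : A →ₐc[k] C) (x : CartDual.D k C) : pullHom π x = pull π x := rfl

/-- A form killing the kernel of a surjection comes from the quotient. -/
theorem mem_range_pullHom (π : A →ₐc[k] C) (hπ : Function.Surjective π) (f : CartDual.D k A)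
    (hf : ∀ z, π z = 0 → f.ofConv z = 0) : f ∈ (pullHom π).range := by
  obtain ⟨s, hs⟩ := LinearMap.exists_rightInverse_of_surjective ((π : A →ₐ[k] C) : A →ₗ[k] C)
    (LinearMap.range_eq_top.mpr hπ)
  refine ⟨toConv (f.ofConv ∘ₗ s), WithConv.ext (LinearMap.ext fun a => ?_)⟩
  show f.ofConv (s (π a)) = f.ofConv a
  refine sub_eq_zero.mp ?_
  rw [← map_sub]
  refine hf _ ?_
  have h : π (s (π a)) = π a := LinearMap.congr_fun hs (π a)
  rw [map_sub, h, sub_self]

end Range

section Torsion

variable {K : Type u} [Field K] {A₁ C₁ : Type u} [CommRing A₁] [HopfAlgebra K A₁] [CommRing C₁] [HopfAlgebra K C₁]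

/-- If the derivations of the torus land in a closed subgroup, so does its torsion of level `p`. -/
theorem red_eq_zero_of_lam (p : ℕ) [CharP K p] {r : ℕ} (ρ : A₁ →ₐc[K] MonoidAlgebra K (Lat r)) (π : A₁ →ₐc[K] C₁)
    (h : ∀ i, pull ρ (lam r i) ∈ (pullHom π).range) {z : A₁} (hz : π z = 0) :
    MonoidAlgebra.mapDomainBialgHom K (red r p) (ρ z) = 0 := by
  classical
  let x := ρ z
  let S := Algebra.adjoin K (Set.range (lam (K := K) r))
  let ev : CartDual.D K (MonoidAlgebra K (Lat r)) → Lat r → K := fun f v => f.ofConv (MonoidAlgebra.single v 1)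
  have hev_mul : ∀ f g v, ev (f * g) v = ev f v * ev g v := fun f g v => by
    simp [ev, LinearMap.convMul_apply, MonoidAlgebra.comul_single, CommSemiring.comul_apply]
  have hev_one : ∀ v, ev 1 v = 1 := fun v => by
    simp [ev, LinearMap.convOne_apply, MonoidAlgebra.counit_single]
  have hev_lam : ∀ i v, ev (lam r i) v = ((Multiplicative.toAdd v i : ℤ) : K) := fun i v => by simp [ev, lam_single]
  have hclass : ∀ f ∈ S, ∀ v w, red r p v = red r p w → ev f v = ev f w := by
    intro f hf v w hvw
    induction hf using Algebra.adjoin_induction with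
    | mem g hg =>
      obtain ⟨i, rfl⟩ := hg
      rw [hev_lam, hev_lam, CharP.intCast_eq_intCast K p]
      exact (ZMod.intCast_eq_intCast_iff _ _ _).mp
        ((red_apply r p v i).symm.trans ((congrArg (fun u : Chr r p => Multiplicative.toAdd u i) hvw).trans
          (red_apply r p w i)))
    | algebraMap c =>
      show ev (algebraMap K _ c) v = ev (algebraMap K _ c) w
      simp only [Algebra.algebraMap_eq_smul_one, ev, WithConv.ofConv_smul, LinearMap.smul_apply]
      rw [show (1 : CartDual.D K (MonoidAlgebra K (Lat r))).ofConv (MonoidAlgebra.single v 1) = 1 from hev_one v,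
        show (1 : CartDual.D K (MonoidAlgebra K (Lat r))).ofConv (MonoidAlgebra.single w 1) = 1 from hev_one w]
    | add a b _ _ ha hb => simp only [ev, WithConv.ofConv_add, LinearMap.add_apply] at ha hb ⊢; rw [ha, hb]
    | mul a b _ _ ha hb => rw [hev_mul, hev_mul, ha, hb]
  refine MonoidAlgebra.coeff_injective (Finsupp.ext fun c₀ => ?_)
  rw [show MonoidAlgebra.mapDomainBialgHom K (red r p) x = MonoidAlgebra.mapDomain (red r p) x from rfl,
    MonoidAlgebra.coeff_mapDomain, MonoidAlgebra.coeff_zero, Finsupp.zero_apply, Finsupp.mapDomain,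
    Finsupp.sum_apply, Finsupp.sum]
  by_cases hc₀ : ∃ v₀ ∈ x.coeff.support, red r p v₀ = c₀
  swap
  · push Not at hc₀
    exact Finset.sum_eq_zero fun v hv => Finsupp.single_eq_of_ne' (hc₀ v hv)
  obtain ⟨v₀, -, rfl⟩ := hc₀
  -- a form in the algebra of the derivations cutting out the class
  have hcut : ∀ T : Finset (Lat r), ∃ E ∈ S, ev E v₀ = 1 ∧
      ∀ v ∈ T, red r p v ≠ red r p v₀ → ev E v = 0 := by
    intro T
    induction T using Finset.induction with
    | empty => exact ⟨1, one_mem _, hev_one _, by simp⟩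
    | @insert w T hw ih =>
      obtain ⟨E, hE, hE1, hE0⟩ := ih
      by_cases hwc : red r p w = red r p v₀
      · refine ⟨E, hE, hE1, fun v hv hne => ?_⟩
        rcases Finset.mem_insert.mp hv with rfl | hv
        · exact absurd hwc hne
        · exact hE0 v hv hne
      obtain ⟨i, hi⟩ : ∃ i, ((Multiplicative.toAdd w i : ℤ) : K) ≠ ((Multiplicative.toAdd v₀ i : ℤ) : K) := by
        by_contra hh
        push Not at hh
        refine hwc (Multiplicative.toAdd.injective (funext fun i => ?_))
        rw [red_apply, red_apply]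
        exact (ZMod.intCast_eq_intCast_iff _ _ _).mpr ((CharP.intCast_eq_intCast K p).mp (hh i))
      set a : K := ((Multiplicative.toAdd w i : ℤ) : K)
      set b : K := ((Multiplicative.toAdd v₀ i : ℤ) : K)
      let L := (b - a)⁻¹ • (lam (K := K) r i - a • 1)
      have hevL : ∀ v, ev L v = (b - a)⁻¹ * (((Multiplicative.toAdd v i : ℤ) : K) - a) := fun v => by
        have h1 := hev_one v
        have h2 := hev_lam i v
        simp only [ev] at h1 h2
        simp only [L, ev, WithConv.ofConv_smul, WithConv.ofConv_sub, LinearMap.smul_apply, LinearMap.sub_apply,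
          smul_eq_mul, h1, h2, _root_.mul_one]
      refine ⟨E * L, mul_mem hE (Subalgebra.smul_mem _ (sub_mem (Algebra.subset_adjoin (Set.mem_range_self i))
        (Subalgebra.smul_mem _ (one_mem _) _)) _), ?_, fun v hv hne => ?_⟩
      · rw [hev_mul, hE1, _root_.one_mul, hevL]
        exact inv_mul_cancel₀ (sub_ne_zero.mpr (Ne.symm hi))
      · rcases Finset.mem_insert.mp hv with rfl | hv
        · rw [hev_mul, hevL, show ((Multiplicative.toAdd v i : ℤ) : K) = a from rfl, sub_self, mul_zero, mul_zero]
        · rw [hev_mul, hE0 v hv hne, zero_mul]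
  obtain ⟨E, hE, hE1, hE0⟩ := hcut x.coeff.support
  have hmem : pull ρ E ∈ (pullHom π).range := by
    have : S ≤ (pullHom π).range.comap (pullHom ρ) := Algebra.adjoin_le (by rintro _ ⟨i, rfl⟩; exact h i)
    exact this hE
  obtain ⟨g, hg⟩ := hmem
  have hEx : E.ofConv x = 0 := by
    rw [show E.ofConv x = (pull ρ E).ofConv z from rfl, ← hg]
    show g.ofConv (π z) = 0
    rw [hz, map_zero]
  rw [← MonoidAlgebra.sum_coeff_single x, Finsupp.sum, map_sum] at hEx
  rw [← hEx]
  refine Finset.sum_congr rfl fun v hv => ?_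
  rw [show MonoidAlgebra.single v (x.coeff v) = x.coeff v • MonoidAlgebra.single v (1 : K) by simp, map_smul,
    smul_eq_mul]
  by_cases hvc : red r p v = red r p v₀
  · rw [hvc, Finsupp.single_eq_same, show E.ofConv (MonoidAlgebra.single v 1) = 1 from
      (hclass E hE v v₀ hvc).trans hE1, _root_.mul_one]
  · rw [Finsupp.single_eq_of_ne' hvc, show E.ofConv (MonoidAlgebra.single v 1) = 0 from hE0 v hv hvc, mul_zero]

/-- The derivations of a torus are their own `p`-th powers. -/
theorem lam_pow_char (p : ℕ) [Fact p.Prime] [CharP K p] (r : ℕ) (i : Fin r) (j : ℕ) :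
    lam (K := K) r i ^ p ^ j = lam r i := by
  refine WithConv.ext (LinearMap.ext fun x => ?_)
  induction x using MonoidAlgebra.induction_linear with
  | zero => simp
  | add s t hs ht => rw [map_add, map_add, hs, ht]
  | single v c =>
    rw [show MonoidAlgebra.single v c = c • MonoidAlgebra.single v (1 : K) by simp, map_smul, map_smul,
      pow_apply_groupLike, lam_single, _root_.one_mul]
    · congr 1
      induction j with
      | zero => simp
      | succ j ih =>
        rw [pow_succ, pow_mul, ih]
        exact (map_intCast (frobenius K p) _)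
    · exact ⟨by simp [MonoidAlgebra.counit_single], by
        simp [MonoidAlgebra.comul_single, CommSemiring.comul_apply]⟩

end Torsion

end Groth.Agent.SolvGrp.Groth
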