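import Groth.Agent.SolvGrp.GrothCaseA
import Groth.Agent.SolvGrp.GenForms
import Groth.Agent.SolvGrp.GenPts
import Groth.Agent.GrpSchLib.Cartier

/-! Rational derivations against a closed subgroup containing the Cartan subgroups. -/

set_option backward.isDefEq.respectTransparency false
set_option backward.isDefEq.respectTransparency.types false
set_option linter.style.haveILetI false
set_option synthInstance.maxHeartbeats 1000000

universe u

open CategoryTheory MonoidalCategory CartesianMonoidalCategory MonObj GrpObj AlgebraicGeometry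
open scoped TensorProduct
open WithConv

noncomputable section

namespace Groth.Agent.SolvGrp.Groth

open GrpSchLib GrpSchLib.AffineHopf GrpSchLib.Kunneth GrpSchLib.LineGroups WeilCmp.Unip AGFLib AGFLib.Gen
  AGFLib.BorelFixed AGFLib.BorelExist

variable {k : Type u} [Field k] {K : Type u} [Field K] [Algebra k K]

local notation "σ" => Spec.map (CommRingCat.ofHom (algebraMap k K))
local notation "PK" => 𝟙_ (Over (Spec (CommRingCat.of K)))

section Coord

variable {A A₂ : Type u} [CommRing A] [HopfAlgebra k A] [CommRing A₂] [HopfAlgebra k A₂]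

theorem bcA_tmul (χ : A →ₐc[k] A₂) (s : K) (a : A) : bcA (K := K) χ (s ⊗ₜ[k] a) = s ⊗ₜ[k] χ a := rfl

/-- A form killing what dies in a quotient. -/
theorem bcD_eq_zero_of_bcA (χ : A →ₐc[k] A₂) (g : CartDual.D k A₂) (z : K ⊗[k] A) (hz : bcA (K := K) χ z = 0) :
    (bcD K (pull χ g)).ofConv z = 0 := by
  have e : ∀ w, (bcD K (pull χ g)).ofConv w = (bcD K g).ofConv (bcA (K := K) χ w) := fun w => by
    induction w using TensorProduct.induction_on with
    | zero => simp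
    | tmul s a => rw [bcA_tmul, bcD_tmul, bcD_tmul, pull_apply]
    | add s t hs ht => simp only [map_add, hs, ht]
  rw [e, hz, map_zero]

/-- An element dying in a quotient is carried by finitely many elements dying there. -/
theorem exists_kernel_support (χ : A →ₐc[k] A₂) (z : K ⊗[k] A) (hz : bcA (K := K) χ z = 0) :
    ∃ S : Finset A, (∀ a ∈ S, χ a = 0) ∧
      ∀ D : CartDual.D k A, (∀ a ∈ S, D.ofConv a = 0) → (bcD K D).ofConv z = 0 := by
  classical
  let b := Module.Free.chooseBasis k K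
  let e := TensorProduct.equivFinsuppOfBasisLeft (N := A) b
  let c := e z
  have hc : z = c.sum fun i m => b i ⊗ₜ[k] m := (e.symm_apply_apply z).symm.trans (by
    rw [TensorProduct.equivFinsuppOfBasisLeft_symm_apply])
  have hχ : ∀ i, χ (c i) = 0 := fun i => by
    let e₂ := TensorProduct.equivFinsuppOfBasisLeft (N := A₂) b
    have h1 : e₂ (bcA (K := K) χ z) = c.mapRange χ (map_zero χ) := by
      rw [e₂.eq_symm_apply.mp ?_]
      rw [hc, Finsupp.sum, map_sum, TensorProduct.equivFinsuppOfBasisLeft_symm_apply,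
        Finsupp.sum_mapRange_index (fun i => TensorProduct.tmul_zero _ _)]
      exact Finset.sum_congr rfl fun i _ => bcA_tmul χ (b i) (c i)
    rw [hz, map_zero] at h1
    have h2 := DFunLike.congr_fun h1 i
    rw [Finsupp.mapRange_apply] at h2
    exact h2.symm
  refine ⟨c.support.image c, fun a ha => ?_, fun D hD => ?_⟩
  · obtain ⟨i, -, rfl⟩ := Finset.mem_image.mp ha
    exact hχ i
  · rw [hc, Finsupp.sum, map_sum]
    exact Finset.sum_eq_zero fun i hi => by
      rw [bcD_tmul, hD _ (Finset.mem_image_of_mem _ hi), zero_smul]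

theorem bcD_pow (X : CartDual.D k A) (m : ℕ) : bcD K X ^ m = bcD K (X ^ m) := by
  refine WithConv.ext (LinearMap.ext fun z => ?_)
  induction z using TensorProduct.induction_on with
  | zero => simp
  | add s t hs ht => rw [map_add, map_add, hs, ht]
  | tmul s a =>
    rw [bcD_tmul, show s ⊗ₜ[k] a = s • ((1 : K) ⊗ₜ[k] a) by rw [TensorProduct.smul_tmul', smul_eq_mul, _root_.mul_one],
      map_smul, pow_bcD_apply, smul_eq_mul, Algebra.smul_def, _root_.mul_comm]

end Coord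

variable [IsAlgClosed K] {G : Over (Spec (CommRingCat.of k))} [GrpObj G] (D : Adj G)
  {C₁ : Type u} [CommRing C₁] [HopfAlgebra K C₁]

/-- Coordinates of a point inside a closed subgroup kill its ideal. -/
theorem Adj.ker_le_of_fac (π : K ⊗[k] D.A →ₐc[K] C₁) {h : sp K C₁ ⟶ Red.bc σ G}
    (hh : toA D.a h = spMap (π : K ⊗[k] D.A →ₐ[K] C₁)) {A₂ : Type u} [CommRing A₂] [HopfAlgebra k A₂]
    (χ : D.A →ₐc[k] A₂)
    (hx : ∃ l, l ≫ h = (Over.pullback σ).map (spMap (χ : D.A →ₐ[k] A₂) ≫ D.a.hom))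
    {z : K ⊗[k] D.A} (hz : π z = 0) : bcA (K := K) χ z = 0 := by
  obtain ⟨l, hl⟩ := hx
  have h1 : toA D.a ((bcIso (k := k) (K := K) A₂).inv ≫ l ≫ h) = spMap (bcA (K := K) χ : K ⊗[k] D.A →ₐ[K] K ⊗[k] A₂) := by
    rw [hl]
    simp only [toA, Category.assoc, ← Functor.map_comp_assoc, Iso.hom_inv_id, Category.comp_id]
    rw [bc_spMap, Iso.inv_hom_id_assoc]
  obtain ⟨l', hl'⟩ := exists_eq_spMap ((bcIso (k := k) (K := K) A₂).inv ≫ l)
  rw [show toA D.a ((bcIso (k := k) (K := K) A₂).inv ≫ l ≫ h) = ((bcIso (k := k) (K := K) A₂).inv ≫ l) ≫ toA D.a h by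
    simp only [toA, Category.assoc], hh, hl', spMap_comp] at h1
  have h2 := DFunLike.congr_fun (spMap_injective h1) z
  rw [show bcA (K := K) χ z = (bcA (K := K) χ : K ⊗[k] D.A →ₐ[K] K ⊗[k] A₂) z from rfl, ← h2]
  show l' (π z) = 0
  rw [hz, map_zero]

variable [IsAffine G.left] [Smooth G.hom] [ConnectedSpace G.left]

/-- A derivation whose hull lies in a group with central maximal torus is nilpotent in the adjoint group. -/
theorem Adj.nilp_of_central {A' : Type u} [CommRing A'] [HopfAlgebra k A'] (π : D.A →ₐc[k] A')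
    {X' : CartDual.D k A'} (hX' : IsDer X') {C₀ : Over (Spec (CommRingCat.of k))} [GrpObj C₀] [IsAffine C₀.left]
    [Smooth C₀.hom] [ConnectedSpace C₀.left] (c₀ : C₀ ⟶ G) [IsMonHom c₀] (w₀ : sp k A' ⟶ C₀) [IsMonHom w₀]
    (hw : w₀ ≫ c₀ = spMap (π : D.A →ₐ[k] A') ≫ D.a.hom) {T : Over (Spec (CommRingCat.of k))} [GrpObj T]
    (t : T ⟶ C₀) (htmax : AGF.IsMaxTorus ((Over.pullback σ).map t)) (hcen : (t ≫ c₀) ≫ D.q = 1) :
    IsTopNilp (pull D.ψ (pull π X')) := by
  have hqx : (spMap (π : D.A →ₐ[k] A') ≫ D.a.hom) ≫ D.q =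
      spMap ((π.comp D.ψ : D.B →ₐc[k] A') : D.B →ₐ[k] A') ≫ D.b.hom := by
    rw [show spMap ((π.comp D.ψ : D.B →ₐc[k] A') : D.B →ₐ[k] A') =
      spMap (π : D.A →ₐ[k] A') ≫ spMap (D.ψ : D.B →ₐ[k] D.A) by rw [spMap_comp]; rfl, ← D.hψ]
    simp
  let F := Over.pullback σ
  obtain ⟨hA, hS, hC⟩ := Frob.bcG_props (algebraMap k K) (G := C₀)
  haveI := hA
  haveI := hS
  haveI := hC
  obtain ⟨hA', hS', hC'⟩ := Frob.bcG_props (algebraMap k K) (G := D.Q)
  haveI := hA'
  haveI := hS'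
  obtain ⟨R, _, _, p, m, hp, hm, hpm, hexh⟩ := exists_unipotent_image (F.map (c₀ ≫ D.q)) (F.map t) htmax (by
    rw [← Functor.map_comp, ← Category.assoc, hcen]
    exact map_one F.homMonoidHom)
  haveI := hp
  haveI := hm
  haveI := isMonHom_toA (K := K) D.b m
  obtain ⟨cu, hcu⟩ := exists_bialgHom (A := R) (B := K ⊗[k] D.B) (toA D.b m)
  haveI := isMonHom_inv (bcIso (k := k) (K := K) A')
  obtain ⟨ρ, hρ⟩ := exists_bialgHom (A := K ⊗[k] A') (B := R) ((bcIso (k := k) (K := K) A').inv ≫ F.map w₀ ≫ p)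
  have e : spMap ((bcA (K := K) (π.comp D.ψ) : K ⊗[k] D.B →ₐ[K] K ⊗[k] A')) =
      spMap ((ρ.comp cu : K ⊗[k] D.B →ₐc[K] K ⊗[k] A') : K ⊗[k] D.B →ₐ[K] K ⊗[k] A') := by
    rw [show spMap ((ρ.comp cu : K ⊗[k] D.B →ₐc[K] K ⊗[k] A') : K ⊗[k] D.B →ₐ[K] K ⊗[k] A') =
      spMap (ρ : R →ₐ[K] K ⊗[k] A') ≫ spMap (cu : K ⊗[k] D.B →ₐ[K] R) by rw [spMap_comp]; rfl, ← hρ, ← hcu,
      ← Iso.inv_hom_id_assoc (bcIso (k := k) (K := K) A') (spMap _), ← bc_spMap]
    simp only [toA, Category.assoc, reassoc_of% hpm]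
    rw [← Functor.map_comp_assoc, ← Functor.map_comp_assoc]
    congr 3
    simp only [Category.assoc]
    rw [reassoc_of% hw, reassoc_of% hqx, Iso.hom_inv_id, Category.comp_id]
  have e' := spMap_injective e
  have h1 : IsTopNilp (pull (bcA (K := K) (π.comp D.ψ)) (bcD K X')) := by
    have h2 := ((isTopNilp_of_exh (hX'.bcD.pull ρ) hexh).pull cu)
    convert h2 using 1
    refine WithConv.ext (LinearMap.ext fun z => ?_)
    show (bcD K X').ofConv (bcA (K := K) (π.comp D.ψ) z) = (bcD K X').ofConv (ρ (cu z))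
    congr 1
    exact DFunLike.congr_fun e' z
  intro z
  obtain ⟨n, hn'⟩ := h1 ((1 : K) ⊗ₜ[k] z)
  refine ⟨n, fun j hj => ?_⟩
  have h3 := hn' j hj
  rw [pull_pow, pull_apply] at h3
  change (bcD K X' ^ j).ofConv ((1 : K) ⊗ₜ[k] π (D.ψ z)) = 0 at h3
  rw [pow_bcD_apply] at h3
  rw [pull_pow, pull_apply, pull_pow, pull_apply]
  exact (algebraMap k K).injective (h3.trans (map_zero _).symm)

/-- The ideal of a subgroup containing the centre and the proper centralisers of tori. -/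
structure KillData (π₁ : K ⊗[k] D.A →ₐc[K] C₁) (h : sp K C₁ ⟶ Red.bc σ G) : Prop where
  coord : toA D.a h = spMap (π₁ : K ⊗[k] D.A →ₐ[K] C₁)
  centre : ∃ l, l ≫ h = (Over.pullback σ).map D.i
  cent : ∀ (S : Over (Spec (CommRingCat.of k))) [GrpObj S] (s : S ⟶ G) [IsMonHom s] [Mono s], Red.IsTorus S →
    s ≫ D.q ≠ 1 → ∀ (C : Over (Spec (CommRingCat.of k))) [GrpObj C] (c : C ⟶ G), Red.IsCentralizerOf s c →
      ∃ l, l ≫ h = (Over.pullback σ).map c

omit [IsAlgClosed K] [IsAffine G.left] [Smooth G.hom] [ConnectedSpace G.left] in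
theorem KillData.fac {D : Adj G} {π₁ : K ⊗[k] D.A →ₐc[K] C₁} {h : sp K C₁ ⟶ Red.bc σ G}
    {W C : Over (Spec (CommRingCat.of k))} (x : W ⟶ G) (c : C ⟶ G) (hx : ∃ f, f ≫ c = x)
    (hc : ∃ l, l ≫ h = (Over.pullback σ).map c) : ∃ l, l ≫ h = (Over.pullback σ).map x := by
  obtain ⟨f, rfl⟩ := hx
  obtain ⟨l, hl⟩ := hc
  exact ⟨(Over.pullback σ).map f ≫ l, by rw [Category.assoc, hl, Functor.map_comp]⟩

/-- In characteristic `p`, high powers of a rational derivation kill the ideal of the subgroup. -/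
theorem KillData.eventually_kill {D : Adj G} {π₁ : K ⊗[k] D.A →ₐc[K] C₁} {h : sp K C₁ ⟶ Red.bc σ G}
    (hk : KillData D π₁ h) (p : ℕ) [Fact p.Prime] [CharP k p] {X : CartDual.D k D.A} (hX : IsDer X)
    {z : K ⊗[k] D.A} (hz : π₁ z = 0) : ∃ M, ∀ j, M ≤ j → (bcD K (X ^ p ^ j)).ofConv z = 0 := by
  classical
  suffices hh : ∃ S : Finset D.A, (∀ a ∈ S, ∃ M, ∀ j, M ≤ j → (X ^ p ^ j).ofConv a = 0) ∧
      ∀ D' : CartDual.D k D.A, (∀ a ∈ S, D'.ofConv a = 0) → (bcD K D').ofConv z = 0 by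
    obtain ⟨S, hS, hD⟩ := hh
    choose M hM using hS
    exact ⟨S.attach.sup fun a => M a.1 a.2, fun j hj => hD _ fun a ha => hM a ha j
      (le_trans (Finset.le_sup (f := fun a : S => M a.1 a.2) (Finset.mem_attach S ⟨a, ha⟩)) hj)⟩
  by_cases hn : IsTopNilp (pull D.ψ X)
  · haveI : (Ideal.map (D.ψ : D.B →+* D.A) (RingHom.ker (Bialgebra.counitAlgHom k D.B))).IsHopfIdeal k :=
      MultTypeLib.isHopfIdeal_map_ker D.ψ
    let mk₀ : D.A →ₐc[k] D.A ⧸ Ideal.map (D.ψ : D.B →+* D.A) (RingHom.ker (Bialgebra.counitAlgHom k D.B)) :=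
      Bialgebra.Quotient.mkBialgHom (R := k) _
    let x : sp k (D.A ⧸ Ideal.map (D.ψ : D.B →+* D.A) (RingHom.ker (Bialgebra.counitAlgHom k D.B))) ⟶ G :=
      spMap (mk₀ : D.A →ₐ[k] _) ≫ D.a.hom
    have hxq : x ≫ D.q = toUnit _ ≫ η[D.Q] := by
      let mkψ : D.B →ₐc[k] D.A ⧸ Ideal.map (D.ψ : D.B →+* D.A) (RingHom.ker (Bialgebra.counitAlgHom k D.B)) := mk₀.comp D.ψ
      have h1 : spMap (mkψ : D.B →ₐ[k] D.A ⧸ Ideal.map (D.ψ : D.B →+* D.A) (RingHom.ker (Bialgebra.counitAlgHom k D.B))) = 1 := (spMap_eq_one_iff (mkψ : D.B →ₐ[k] D.A ⧸ Ideal.map (D.ψ : D.B →+* D.A) (RingHom.ker (Bialgebra.counitAlgHom k D.B)))).mpr fun b => by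
        have h2 : D.ψ (b - algebraMap k D.B (Coalgebra.counit (R := k) b)) ∈
            Ideal.map (D.ψ : D.B →+* D.A) (RingHom.ker (Bialgebra.counitAlgHom k D.B)) :=
          Ideal.mem_map_of_mem (D.ψ : D.B →+* D.A) (I := RingHom.ker (Bialgebra.counitAlgHom k D.B))
            (show Coalgebra.counit (R := k) (b - algebraMap k D.B (Coalgebra.counit (R := k) b)) = 0 by
              rw [map_sub, Bialgebra.counit_algebraMap, sub_self])
        rw [map_sub, AlgHomClass.commutes, ← Ideal.Quotient.mk_eq_mk_iff_sub_mem] at h2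
        exact h2
      have h3 : x ≫ D.q = spMap (mkψ : D.B →ₐ[k] D.A ⧸ Ideal.map (D.ψ : D.B →+* D.A) (RingHom.ker (Bialgebra.counitAlgHom k D.B))) ≫ D.b.hom := by
        rw [show spMap (mkψ : D.B →ₐ[k] D.A ⧸ Ideal.map (D.ψ : D.B →+* D.A) (RingHom.ker (Bialgebra.counitAlgHom k D.B))) =
          spMap (mk₀ : D.A →ₐ[k] D.A ⧸ Ideal.map (D.ψ : D.B →+* D.A) (RingHom.ker (Bialgebra.counitAlgHom k D.B))) ≫ spMap (D.ψ : D.B →ₐ[k] D.A) by rw [spMap_comp]; rfl, ← D.hψ]
        simp [x]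
      rw [← Hom.one_def, h3, h1, MonObj.one_comp]
    have hfac := KillData.fac (π₁ := π₁) x D.i ⟨D.hk.lift x (toUnit _) hxq, D.hk.lift_fst _ _ hxq⟩ hk.centre
    obtain ⟨S, hS, hD⟩ := exists_kernel_support mk₀ z (Adj.ker_le_of_fac D π₁ hk.coord mk₀ hfac hz)
    exact ⟨S, fun a ha => Groth.eventually_kill p hX D.ψ hn (Ideal.Quotient.eq_zero_iff_mem.mp (hS a ha)), hD⟩
  obtain ⟨A', _, _, π, X', hco, hft, hπ, hX', hXX', hsep⟩ := exists_hull hX
  haveI := hco
  haveI := hft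
  let x₀ : sp k A' ⟶ G := spMap (π : D.A →ₐ[k] A') ≫ D.a.hom
  haveI : IsMonHom x₀ := inferInstance
  let mk : A' →ₐc[k] A' ⧸ UniPart.multIdeal k A' := Bialgebra.Quotient.mkBialgHom (R := k) (UniPart.multIdeal k A')
  let u : sp k (A' ⧸ UniPart.multIdeal k A') ⟶ G := spMap (mk : A' →ₐ[k] A' ⧸ UniPart.multIdeal k A') ≫ x₀
  haveI : IsMonHom u := inferInstance
  have hqx : x₀ ≫ D.q = spMap ((π.comp D.ψ : D.B →ₐc[k] A') : D.B →ₐ[k] A') ≫ D.b.hom := by
    rw [show spMap ((π.comp D.ψ : D.B →ₐc[k] A') : D.B →ₐ[k] A') =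
      spMap (π : D.A →ₐ[k] A') ≫ spMap (D.ψ : D.B →ₐ[k] D.A) by rw [spMap_comp]; rfl, ← D.hψ]
    simp [x₀]
  -- the multiplicative part is not central
  have hu : u ≫ D.q ≠ 1 := by
    intro h
    refine hn ?_
    rw [← hXX', show pull D.ψ (pull π X') = pull (π.comp D.ψ) X' from rfl]
    refine isTopNilp_of_multIdeal hX' (π.comp D.ψ) fun z => ?_
    have h1 : (u ≫ D.q) ≫ D.b.inv = 1 := by rw [h, MonObj.one_comp]
    rw [Category.assoc (spMap _) x₀, hqx, Category.assoc, Category.assoc, Iso.hom_inv_id, Category.comp_id,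
      spMap_comp, spMap_eq_one_iff] at h1
    refine Ideal.Quotient.eq_zero_iff_mem.mp ?_
    rw [map_sub, sub_eq_zero]
    exact (h1 z).trans (AlgHom.commutes (Ideal.Quotient.mkₐ k _) _).symm
  haveI : IsAffineHom G.hom := isAffineHom_of_isAffine G.hom
  obtain ⟨C, _, c, hc, hcl, hsm⟩ := Groth.Agent.S5247.result _ G (UniPart.isMultTypeFT_multPart (k := k) (A := A'))
    inferInstance inferInstance u
  haveI := hc.1
  haveI := hcl
  haveI := hsm
  haveI : Mono c := hc.2.1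
  haveI : IsAffine C.left := isAffine_of_isAffineHom c.left
  -- the hull lies in the centralizer
  obtain ⟨z₀, hz₀⟩ := (hc.2.2 (sp k A') x₀).mpr fun X' y h => by
    rw [show h ≫ u = (h ≫ spMap (mk : A' →ₐ[k] A' ⧸ UniPart.multIdeal k A')) ≫ x₀ from (Category.assoc _ _ _).symm,
      ← MonObj.mul_comp, ← MonObj.mul_comp]
    haveI : IsCommMonObj (sp k A') := inferInstance
    rw [_root_.mul_comm]
  obtain ⟨C₀, _, i₀, hi₀, hci₀, hfl, -, hgi, hcpt⟩ := GrpSchLib.exists_identityComponent (G := C)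
  haveI := hi₀
  haveI := hci₀
  haveI := hfl
  haveI := hgi
  haveI := hcpt
  haveI : LocallyOfFinitePresentation i₀.left := by
    haveI : LocallyOfFiniteType (i₀.left ≫ C.hom) := inferInstance
    haveI : LocallyOfFinitePresentation (i₀.left ≫ C.hom) := AlgSpPts.locallyOfFinitePresentation_of_comp _ (𝟙 _)
    exact AlgSpPts.locallyOfFinitePresentation_of_comp i₀.left C.hom
  haveI : IsOpenImmersion i₀.left := IsOpenImmersion.of_flat_of_mono _
  haveI : Smooth C₀.hom := by rw [← Over.w i₀]; infer_instance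
  haveI : IrreducibleSpace C₀.left := GeometricallyIrreducible.irreducibleSpace_of_subsingleton C₀.hom
  haveI : IsAffine C₀.left := isAffine_of_isAffineHom i₀.left
  haveI : IsClosedImmersion (i₀ ≫ c).left := inferInstanceAs (IsClosedImmersion (i₀.left ≫ c.left))
  haveI : IsMonHom (i₀ ≫ c) := inferInstance
  haveI : Mono (i₀ ≫ c) := (Over.forget _).mono_of_mono_map (inferInstanceAs (Mono (i₀ ≫ c).left))
  obtain ⟨T, _, t, htcl, htmax'⟩ := exists_isMaximalTorus C₀
  haveI := htcl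
  haveI := htmax'.1
  haveI : Mono t := htmax'.2.1
  have hT := htmax'.2.2.1
  have htmax : AGF.IsMaxTorus ((Over.pullback σ).map t) :=
    isMaxTorus_bc (algebraMap k K) t ((isMaxTorus_iff t).mpr htmax')
  haveI : IsClosedImmersion (i₀ ≫ c).left := inferInstanceAs (IsClosedImmersion (i₀.left ≫ c.left))
  haveI : IsMonHom (i₀ ≫ c) := inferInstance
  haveI : Mono (i₀ ≫ c) := (Over.forget _).mono_of_mono_map (inferInstanceAs (Mono (i₀ ≫ c).left))
  have hnc : (t ≫ i₀ ≫ c) ≫ D.q ≠ 1 := by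
    intro hcen
    -- the hull lands in the identity component
    haveI := connectedSpace_hull hX' hsep
    have he : η[sp k A'] ≫ z₀ = η[C] := by
      rw [← cancel_mono c, Category.assoc, hz₀, IsMonHom.one_hom x₀, IsMonHom.one_hom c]
    obtain ⟨w₀, hw₀⟩ := UnipRadSep.exists_fac_openSubgroup i₀ z₀ η[sp k A'] he
    have hw : w₀ ≫ i₀ ≫ c = x₀ := by rw [reassoc_of% hw₀, hz₀]
    haveI : IsMonHom w₀ := SekSuwaLib.CharLift.isMonHom_of_mul w₀ fun {Y} a b => by
      rw [← cancel_mono (i₀ ≫ c), Category.assoc, hw, MonObj.mul_comp, MonObj.mul_comp, Category.assoc, Category.assoc,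
        hw]
    refine hn ?_
    rw [← hXX']
    exact D.nilp_of_central π hX' (i₀ ≫ c) w₀ hw t htmax hcen
  haveI : Mono (t ≫ i₀ ≫ c) := mono_comp t (i₀ ≫ c)
  obtain ⟨C', _, c', -, -, -, -, hc', -⟩ := exists_centralizer (algebraMap k K) (t ≫ i₀ ≫ c) hT
  have hfacu : ∃ f, f ≫ c' = u := (hc'.2.2 _ u).mpr fun X a h => by
    have h1 := (hc.2.2 _ (t ≫ i₀ ≫ c)).mp ⟨t ≫ i₀, Category.assoc _ _ _⟩ X h a
    exact h1.symm
  let mk' : D.A →ₐc[k] A' ⧸ UniPart.multIdeal k A' := mk.comp π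
  have hu' : spMap (mk' : D.A →ₐ[k] A' ⧸ UniPart.multIdeal k A') ≫ D.a.hom = u := by
    rw [show spMap (mk' : D.A →ₐ[k] A' ⧸ UniPart.multIdeal k A') =
      spMap (mk : A' →ₐ[k] A' ⧸ UniPart.multIdeal k A') ≫ spMap (π : D.A →ₐ[k] A') by rw [spMap_comp]; rfl]
    exact Category.assoc _ _ _
  have hfac := KillData.fac (π₁ := π₁) u c' hfacu (hk.cent T (t ≫ i₀ ≫ c) hT hnc C' c' hc')
  rw [← hu'] at hfac
  obtain ⟨S, hS, hD⟩ := exists_kernel_support mk' z (Adj.ker_le_of_fac D π₁ hk.coord mk' hfac hz)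
  refine ⟨S, fun a ha => ?_, hD⟩
  obtain ⟨M, hM⟩ := eventually_kill_multIdeal p hX' (Ideal.Quotient.eq_zero_iff_mem.mp (hS a ha))
  refine ⟨M, fun j hj => ?_⟩
  rw [← hXX', pull_pow, pull_apply]
  exact hM j hj

/-- In characteristic `p`, a uniform power of every derivation kills the ideal of the subgroup. -/
theorem KillData.exists_kill {D : Adj G} {π₁ : K ⊗[k] D.A →ₐc[K] C₁} {h : sp K C₁ ⟶ Red.bc σ G}
    (hk : KillData D π₁ h) [Infinite k] (p : ℕ) [Fact p.Prime] [CharP k p] :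
    ∃ n : ℕ, ∀ Y : CartDual.D K (K ⊗[k] D.A), IsDer Y → ∀ z, π₁ z = 0 → (Y ^ p ^ n).ofConv z = 0 := by
  obtain ⟨n, hn⟩ := exists_pow_char_span (k := k) (A := D.A) p
  refine ⟨n, fun Y hY z hz => kills_of_rational K _ z (fun X hX => ?_) Y hY⟩
  obtain ⟨M, hM⟩ := hk.eventually_kill p hX hz
  rw [bcD_pow]
  have key : ∀ W ∈ Submodule.span k ((fun i => X ^ p ^ i) '' Set.Ici M), (bcD K W).ofConv z = 0 := by
    intro W hW
    induction hW using Submodule.span_induction with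
    | mem x hx => obtain ⟨l, hl, rfl⟩ := hx; exact hM l hl
    | zero => simp [bcD]
    | add x y _ _ hx hy =>
      rw [show bcD K (x + y) = bcD K x + bcD K y by simp [bcD, LinearMap.baseChange_add, LinearMap.comp_add]]
      simp [hx, hy]
    | smul c x _ hx =>
      rw [show bcD K (c • x) = c • bcD K x by simp [bcD, LinearMap.baseChange_smul, LinearMap.comp_smul]]
      simp [hx]
  exact key _ (hn X hX M)

/-- In characteristic zero, a rational derivation which is not nilpotent in the adjoint group kills the ideal. -/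
theorem KillData.kill_charZero {D : Adj G} {π₁ : K ⊗[k] D.A →ₐc[K] C₁} {h : sp K C₁ ⟶ Red.bc σ G}
    (hk : KillData D π₁ h) [CharZero k] {X : CartDual.D k D.A} (hX : IsDer X) (hn : ¬ IsTopNilp (pull D.ψ X))
    {z : K ⊗[k] D.A} (hz : π₁ z = 0) : (bcD K X).ofConv z = 0 := by
  obtain ⟨A', _, _, π, X', hco, hft, hπ, hX', hXX', hsep⟩ := exists_hull hX
  haveI := hco
  haveI := hft
  haveI := connectedSpace_hull hX' hsep
  let x₀ : sp k A' ⟶ G := spMap (π : D.A →ₐ[k] A') ≫ D.a.hom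
  haveI : IsMonHom x₀ := inferInstance
  haveI : LocallyOfFiniteType (sp k A').hom := HasRingHomProperty.Spec_iff.mpr (RingHom.finiteType_algebraMap.mpr hft)
  haveI : Smooth (sp k A').hom := smooth_of_charZero _
  haveI : IsClosedImmersion x₀.left := by
    haveI : IsClosedImmersion (spMap (π : D.A →ₐ[k] A')).left := IsClosedImmersion.spec_of_surjective _ hπ
    haveI : IsIso D.a.hom.left := ((Over.forget _).mapIso D.a).isIso_hom
    exact inferInstanceAs (IsClosedImmersion ((spMap (π : D.A →ₐ[k] A')).left ≫ D.a.hom.left))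
  haveI : Mono x₀ := (Over.forget _).mono_of_mono_map (inferInstanceAs (Mono x₀.left))
  obtain ⟨T, _, t, htcl, htmax'⟩ := exists_isMaximalTorus (sp k A')
  haveI := htcl
  haveI := htmax'.1
  haveI : Mono t := htmax'.2.1
  have hT := htmax'.2.2.1
  have htmax : AGF.IsMaxTorus ((Over.pullback σ).map t) :=
    isMaxTorus_bc (algebraMap k K) t ((isMaxTorus_iff t).mpr htmax')
  haveI : IsMonHom (𝟙 (sp k A')) := inferInstance
  have hnc : (t ≫ x₀) ≫ D.q ≠ 1 := by
    intro hcen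
    refine hn ?_
    rw [← hXX']
    exact D.nilp_of_central π hX' x₀ (𝟙 _) (Category.id_comp x₀) t htmax hcen
  haveI : Mono (t ≫ x₀) := mono_comp t x₀
  obtain ⟨C', _, c', -, -, -, -, hc', -⟩ := exists_centralizer (algebraMap k K) (t ≫ x₀) hT
  have hfacx : ∃ f, f ≫ c' = x₀ := (hc'.2.2 _ x₀).mpr fun X' a b => by
    rw [← Category.assoc b t x₀, ← MonObj.mul_comp, ← MonObj.mul_comp]
    haveI : IsCommMonObj (sp k A') := inferInstance
    rw [_root_.mul_comm]
  have hfac := KillData.fac (π₁ := π₁) x₀ c' hfacx (hk.cent T (t ≫ x₀) hT hnc C' c' hc')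
  rw [← hXX']
  exact bcD_eq_zero_of_bcA π X' z (Adj.ker_le_of_fac D π₁ hk.coord π hfac hz)

end Groth.Agent.SolvGrp.Groth
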