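import Groth.Agent.SolvGrp.GenKill
import Groth.Agent.SolvGrp.RadAlgClosed

/-! The torsion of a torus: homomorphisms, connectedness, descent to the ground field. -/

set_option backward.isDefEq.respectTransparency false
set_option backward.isDefEq.respectTransparency.types false
set_option linter.style.haveILetI false
set_option synthInstance.maxHeartbeats 1000000

universe u

open CategoryTheory MonoidalCategory CartesianMonoidalCategory MonObj GrpObj AlgebraicGeometry
open scoped TensorProduct
open WithConv

noncomputable section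

namespace Groth.Agent.SolvGrp.Groth

open GrpSchLib GrpSchLib.AffineHopf GrpSchLib.Kunneth GrpSchLib.LineGroups WeilCmp.Unip AGFLib AGFLib.Gen
  AGFLib.BorelFixed AGFLib.BorelExist

section Field

variable {K : Type u} [Field K]

/-- The torsion of a torus. -/
abbrev torC (K : Type u) [Field K] (r N : ℕ) : Over (Spec (CommRingCat.of K)) := sp K (MonoidAlgebra K (Chr r N))

/-- A homomorphism of character groups killing the multiples of `N` factors through the reduction. -/
theorem exists_red_factor {r₀ : ℕ} (N : ℕ) {M : Type*} [CommGroup M] (ν : Lat r₀ →* M)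
    (hM : ∀ v : Lat r₀, ν v ^ N = 1) : ∃ mu : Chr r₀ N →* M, mu.comp (red r₀ N) = ν := by
  classical
  let e : Fin r₀ → M := fun i => ν (Multiplicative.ofAdd (Pi.single i 1))
  let f : ∀ i : Fin r₀, ZMod N →+ Additive M := fun i => ZMod.lift N ⟨zmultiplesHom (Additive M) (Additive.ofMul (e i)), by
    simp only [zmultiplesHom_apply, natCast_zsmul]
    exact congrArg Additive.ofMul (hM _)⟩
  let g : (Fin r₀ → ZMod N) →+ Additive M := ∑ i, (f i).comp (Pi.evalAddMonoidHom (fun _ : Fin r₀ => ZMod N) i)
  let cst : (Fin r₀ → ℤ) →+ (Fin r₀ → ZMod N) :=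
    AddMonoidHom.mk' (fun v j => ((v j : ℤ) : ZMod N)) fun v w => funext fun j => Int.cast_add _ _
  let ν' : (Fin r₀ → ℤ) →+ Additive M :=
    AddMonoidHom.mk' (fun v => Additive.ofMul (ν (Multiplicative.ofAdd v))) fun v w => by
      rw [ofAdd_add, map_mul, ofMul_mul]
  have key : g.comp cst = ν' := by
    refine AddMonoidHom.functions_ext (Additive M) _ _ fun i x => ?_
    refine DFunLike.congr_fun (AddMonoidHom.ext_int (f := (g.comp cst).comp (AddMonoidHom.single (fun _ : Fin r₀ => ℤ) i))
      (g := ν'.comp (AddMonoidHom.single (fun _ : Fin r₀ => ℤ) i)) ?_) x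
    show g (fun j => ((Pi.single i 1 : Fin r₀ → ℤ) j : ZMod N)) = Additive.ofMul (e i)
    simp only [g, AddMonoidHom.finsetSum_apply, AddMonoidHom.comp_apply, Pi.evalAddMonoidHom_apply]
    rw [Finset.sum_eq_single i (fun j _ hj => by rw [Pi.single_eq_of_ne hj, Int.cast_zero, map_zero]) (by simp),
      Pi.single_eq_same]
    show ZMod.lift N _ ((1 : ℤ) : ZMod N) = _
    rw [ZMod.lift_coe]
    simp
  refine ⟨AddMonoidHom.toMultiplicativeLeft g, MonoidHom.ext fun v => ?_⟩
  exact congrArg Additive.toMul (DFunLike.congr_fun key (Multiplicative.toAdd v))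

theorem chr_pow_eq_one (r N : ℕ) (c : Chr r N) : c ^ N = 1 := by
  refine Multiplicative.toAdd.injective (funext fun i => ?_)
  simp

/-- A homomorphism from the torsion to a split torus lands in the torsion. -/
theorem exists_tor_hom {r r₀ N : ℕ} (g : torC K r N ⟶ spT K r₀) [IsMonHom g] :
    ∃ mu : Chr r₀ N →* Chr r N,
      g = spMap (MonoidAlgebra.mapDomainBialgHom K mu : MonoidAlgebra K (Chr r₀ N) →ₐ[K] MonoidAlgebra K (Chr r N)) ≫
        tor K r₀ N := by
  obtain ⟨f, rfl⟩ := exists_bialgHom g
  obtain ⟨mu, hmu⟩ := exists_red_factor N (MonoidAlgebra.mapDomainOfBialgHom f) fun v => chr_pow_eq_one r N _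
  refine ⟨mu, ?_⟩
  rw [spMap_comp]
  congr 1
  refine AlgHom.ext fun x => ?_
  show f x = MonoidAlgebra.mapDomainBialgHom K mu (MonoidAlgebra.mapDomainBialgHom K (red r₀ N) x)
  rw [← BialgHom.comp_apply, ← MonoidAlgebra.mapDomainBialgHom_comp, hmu,
    MonoidAlgebra.mapDomainBialgHom_mapDomainOfBialgHom]

/-- A monomorphism between torsion groups of one level is an isomorphism. -/
theorem bijective_of_mono {r N : ℕ} (mu : Chr r N →* Chr r N)
    [Mono (spMap (MonoidAlgebra.mapDomainBialgHom K mu : MonoidAlgebra K (Chr r N) →ₐ[K] MonoidAlgebra K (Chr r N)))] :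
    Function.Bijective mu := by
  have hsurj : Function.Surjective mu := by
    rw [← MonoidHom.range_eq_top]
    by_contra hne
    let q : Chr r N →* Chr r N ⧸ mu.range := QuotientGroup.mk' mu.range
    have h1 : (q.comp mu) = (1 : Chr r N →* Chr r N ⧸ mu.range) :=
      MonoidHom.ext fun x => (QuotientGroup.eq_one_iff _).mpr ⟨x, rfl⟩
    have h2 : spMap (MonoidAlgebra.mapDomainBialgHom K q :
          MonoidAlgebra K (Chr r N) →ₐ[K] MonoidAlgebra K (Chr r N ⧸ mu.range)) =
        spMap (MonoidAlgebra.mapDomainBialgHom K (1 : Chr r N →* Chr r N ⧸ mu.range) :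
          MonoidAlgebra K (Chr r N) →ₐ[K] MonoidAlgebra K (Chr r N ⧸ mu.range)) := by
      rw [← cancel_mono (spMap (MonoidAlgebra.mapDomainBialgHom K mu :
        MonoidAlgebra K (Chr r N) →ₐ[K] MonoidAlgebra K (Chr r N))), spMap_comp, spMap_comp]
      congr 1
      refine AlgHom.ext fun x => ?_
      show MonoidAlgebra.mapDomainBialgHom K q (MonoidAlgebra.mapDomainBialgHom K mu x) =
        MonoidAlgebra.mapDomainBialgHom K 1 (MonoidAlgebra.mapDomainBialgHom K mu x)
      rw [← BialgHom.comp_apply, ← BialgHom.comp_apply, ← MonoidAlgebra.mapDomainBialgHom_comp,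
        ← MonoidAlgebra.mapDomainBialgHom_comp, h1, MonoidHom.one_comp]
    have h3 := spMap_injective h2
    refine hne (eq_top_iff.mpr fun x _ => (QuotientGroup.eq_one_iff x).mp ?_)
    refine MonoidAlgebra.single_left_injective (R := K) one_ne_zero ?_
    have h4 : MonoidAlgebra.mapDomain q (MonoidAlgebra.single x (1 : K)) =
        MonoidAlgebra.mapDomain (1 : Chr r N →* Chr r N ⧸ mu.range) (MonoidAlgebra.single x 1) :=
      DFunLike.congr_fun h3 (MonoidAlgebra.single x 1)
    rwa [MonoidAlgebra.mapDomain_single, MonoidAlgebra.mapDomain_single] at h4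
  haveI : AddGroup.FG (ZMod N) := by
    rw [AddGroup.fg_iff]
    exact ⟨{1}, eq_top_iff.mpr fun x _ => AddSubgroup.mem_closure_singleton.mpr
      ⟨ZMod.cast x, by simp⟩, Set.finite_singleton _⟩
  haveI : Module.Finite ℤ (Fin r → ZMod N) := by
    haveI : Module.Finite ℤ (ZMod N) := Module.Finite.iff_addGroup_fg.mpr inferInstance
    infer_instance
  let l : (Fin r → ZMod N) →ₗ[ℤ] (Fin r → ZMod N) :=
    (AddMonoidHom.mk' (fun v => Multiplicative.toAdd (mu (Multiplicative.ofAdd v)))
      fun v w => by rw [ofAdd_add, map_mul, toAdd_mul] : (Fin r → ZMod N) →+ (Fin r → ZMod N)).toIntLinearMap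
  have hlapp : ∀ v, l v = Multiplicative.toAdd (mu (Multiplicative.ofAdd v)) := fun v => rfl
  have hl : Function.Surjective l := fun y => by
    obtain ⟨x, hx⟩ := hsurj (Multiplicative.ofAdd y)
    exact ⟨Multiplicative.toAdd x, by rw [hlapp, ofAdd_toAdd, hx, toAdd_ofAdd]⟩
  refine ⟨fun x y hxy => ?_, hsurj⟩
  exact Multiplicative.toAdd.injective (OrzechProperty.injective_of_surjective_endomorphism l hl
    (by rw [hlapp, hlapp, ofAdd_toAdd, ofAdd_toAdd, hxy]))

/-- The torsion of level the characteristic is connected. -/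
theorem connectedSpace_torC (r p : ℕ) [CharP K p] : ConnectedSpace (torC K r p).left := by
  rcases CharP.char_is_prime_or_zero K p with hp | rfl
  · haveI : Fact p.Prime := ⟨hp⟩
    haveI : Nontrivial (MonoidAlgebra K (Chr r p)) :=
      (Bialgebra.counitAlgHom K (MonoidAlgebra K (Chr r p))).toRingHom.domain_nontrivial
    haveI : CharP (MonoidAlgebra K (Chr r p)) p :=
      charP_of_injective_algebraMap (algebraMap K (MonoidAlgebra K (Chr r p))).injective p
    refine QRepLib.connectedSpace_of_idempotent fun e he => ?_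
    have key : ∀ x : MonoidAlgebra K (Chr r p), ∃ c : K, x ^ p = algebraMap K _ c := fun x => by
      induction x using MonoidAlgebra.induction_linear with
      | zero => exact ⟨0, by rw [zero_pow hp.ne_zero, map_zero]⟩
      | add s t hs ht =>
        obtain ⟨a, ha⟩ := hs
        obtain ⟨b, hb⟩ := ht
        exact ⟨a + b, by rw [add_pow_char, ha, hb, map_add]⟩
      | single m c => exact ⟨c ^ p, by rw [MonoidAlgebra.single_pow, chr_pow_eq_one]; rfl⟩
    obtain ⟨c, hc⟩ := key e
    rw [show e ^ p = e ^ (p.pred + 1) from congrArg (e ^ ·) (Nat.succ_pred hp.ne_zero).symm, he.pow_succ_eq] at hc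
    have hc2 : IsIdempotentElem c := by
      refine (algebraMap K (MonoidAlgebra K (Chr r p))).injective ?_
      rw [map_mul, ← hc]
      exact he
    rcases IsIdempotentElem.iff_eq_zero_or_one.mp hc2 with rfl | rfl
    · exact Or.inl (by rw [hc, map_zero])
    · exact Or.inr (by rw [hc, map_one])
  · haveI : IsDomain (MonoidAlgebra K (Chr r 0)) := inferInstanceAs (IsDomain (MonoidAlgebra K (Lat r)))
    exact inferInstanceAs (ConnectedSpace (PrimeSpectrum (MonoidAlgebra K (Chr r 0))))

/-- Unipotent groups have no non-trivial homomorphisms from torsion groups. -/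
theorem trivial_of_exh {R : Type u} [CommRing R] [HopfAlgebra K R] (hexh : CoradFil.Exh (Submodule.span K {(1 : R)}))
    {M : Type} [CommGroup M] (f : R →ₐc[K] MonoidAlgebra K M) (x : R) :
    f x = algebraMap K _ (Coalgebra.counit (R := K) x) := by
  classical
  have key : ∀ (n : ℕ) (a : R), a ∈ UniPart.W K R n → f a = algebraMap K _ (Coalgebra.counit (R := K) a) := by
    intro n
    induction n with
    | zero =>
      intro a ha
      obtain ⟨c, rfl⟩ := UniPart.exists_eq_of_mem_zero ha
      rw [map_smul, map_one, map_smul, Bialgebra.counit_one, smul_eq_mul, _root_.mul_one, Algebra.algebraMap_eq_smul_one]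
    | succ n ih =>
      intro a ha
      obtain ⟨t, ht⟩ := UniPart.mem_W_succ.1 ha
      have hdel : Coalgebra.comul (R := K) a = (UniPart.W K R n).subtype.rTensor R t + a ⊗ₜ[K] (1 : R) := by
        rw [ht, sub_add_cancel]
      have h1 : ∃ c : MonoidAlgebra K M, TensorProduct.map (f : R →ₗ[K] MonoidAlgebra K M) (f : R →ₗ[K] MonoidAlgebra K M)
          ((UniPart.W K R n).subtype.rTensor R t) = (1 : MonoidAlgebra K M) ⊗ₜ[K] c := by
        clear ht hdel
        induction t using TensorProduct.induction_on with
        | zero => exact ⟨0, by simp⟩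
        | tmul u v =>
          refine ⟨Coalgebra.counit (R := K) (u : R) • f v, ?_⟩
          rw [LinearMap.rTensor_tmul, TensorProduct.map_tmul, Submodule.coe_subtype]
          show f (u : R) ⊗ₜ[K] f v = _
          rw [ih u u.2, Algebra.algebraMap_eq_smul_one, TensorProduct.smul_tmul]
        | add s t hs ht =>
          obtain ⟨c, hc⟩ := hs
          obtain ⟨d, hd⟩ := ht
          exact ⟨c + d, by rw [map_add, map_add, hc, hd, TensorProduct.tmul_add]⟩
      obtain ⟨c, hc⟩ := h1
      have h2 : Coalgebra.comul (R := K) (f a) = (1 : MonoidAlgebra K M) ⊗ₜ[K] c + f a ⊗ₜ[K] (1 : MonoidAlgebra K M) := by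
        rw [← CoalgHomClass.map_comp_comul_apply f a, hdel, map_add, hc, TensorProduct.map_tmul]
        show _ + f a ⊗ₜ[K] f 1 = _
        rw [map_one]
      have h3 : ∀ m : M, m ≠ 1 → (f a).coeff m = 0 := fun m hm => by
        let φ : MonoidAlgebra K M →ₗ[K] K := (MonoidAlgebra.basis M K).coord m
        have hφ : ∀ v w : M, ∀ d : K, φ (MonoidAlgebra.single v d) = if v = m then d else 0 := fun v w d => by
          show ((MonoidAlgebra.basis M K).repr (MonoidAlgebra.single v d)) m = _
          rw [show MonoidAlgebra.single v d = d • MonoidAlgebra.single v (1 : K) by simp, map_smul,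
            ← MonoidAlgebra.basis_apply, Module.Basis.repr_self, Finsupp.smul_apply, Finsupp.single_apply,
            smul_eq_mul]
          split <;> simp
        have h4 := congrArg (fun z => TensorProduct.lid K K (TensorProduct.map φ φ z)) h2
        simp only [map_add, TensorProduct.map_tmul, TensorProduct.lid_tmul, MonoidAlgebra.one_def,
          hφ 1 1, if_neg (Ne.symm hm), zero_smul, smul_zero, add_zero] at h4
        have h5 : ∀ x : MonoidAlgebra K M, TensorProduct.lid K K (TensorProduct.map φ φ (Coalgebra.comul (R := K) x)) =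
            x.coeff m := fun x => by
          induction x using MonoidAlgebra.induction_linear with
          | zero => simp
          | add s t hs ht => simp only [map_add, hs, ht, MonoidAlgebra.coeff_add, Finsupp.add_apply]
          | single v d =>
            rw [MonoidAlgebra.comul_single, CommSemiring.comul_apply, TensorProduct.map_tmul,
              TensorProduct.map_tmul, TensorProduct.lid_tmul, MonoidAlgebra.lsingle_apply, MonoidAlgebra.lsingle_apply,
              hφ v v, hφ v v, MonoidAlgebra.coeff_single, Finsupp.single_apply]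
            split <;> simp
        rw [← h5]
        exact h4
      have h6 : f a = MonoidAlgebra.single 1 ((f a).coeff 1) := by
        refine MonoidAlgebra.coeff_injective (Finsupp.ext fun m => ?_)
        by_cases hm : m = 1
        · subst hm; simp
        · rw [h3 m hm]; simp [Finsupp.single_apply, Ne.symm hm]
      have h7 := CoalgHomClass.counit_comp_apply f a
      rw [h6] at h7 ⊢
      rw [MonoidAlgebra.counit_single, CommSemiring.counit_apply] at h7
      rw [h7]
      rfl
  obtain ⟨n, hn⟩ := hexh x
  exact key n x hn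

end Field

variable {k : Type u} [Field k] {K : Type u} [Field K] [Algebra k K]

local notation "σ" => Spec.map (CommRingCat.ofHom (algebraMap k K))

/-- Powers of points in coordinates. -/
theorem spMap_pow {B C : Type u} [CommRing B] [Bialgebra k B] [CommRing C] [Algebra k C] (f : B →ₐ[k] C) (m : ℕ) :
    spMap f ^ m = spMap ((toConv f ^ m).ofConv) := by
  induction m with
  | zero => rw [pow_zero, pow_zero]; exact spMap_one
  | succ m ih => rw [pow_succ, pow_succ, ih, spMap_mul]

/-- Points of a split torus killed by `N` are points of its torsion. -/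
theorem exists_fac_tor {r N : ℕ} {C : Type u} [CommRing C] [Algebra k C]
    (f : MonoidAlgebra k (Lat r) →ₐ[k] C) (hf : spMap f ^ N = 1) :
    ∃ y : sp k C ⟶ torC k r N, y ≫ tor k r N = spMap f := by
  rw [spMap_pow, spMap_eq_one_iff] at hf
  have hpow : ∀ (m : ℕ) (v : Lat r), (toConv f ^ m).ofConv (MonoidAlgebra.single v 1) = f (MonoidAlgebra.single v 1) ^ m := by
    intro m v
    induction m with
    | zero => simp [AlgHom.convOne_apply, MonoidAlgebra.counit_single]
    | succ m ih =>
      rw [pow_succ, pow_succ, AlgHom.convMul_apply, MonoidAlgebra.comul_single, CommSemiring.comul_apply]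
      simp [ih]
  have hc : ∀ v : Lat r, f (MonoidAlgebra.single v 1) ^ N = 1 := fun v => by
    rw [← hpow, hf]
    simp [MonoidAlgebra.counit_single]
  let χ : Lat r →* Cˣ := MonoidHom.toHomUnits
    ((f : MonoidAlgebra k (Lat r) →* C).comp (MonoidAlgebra.of k (Lat r)))
  obtain ⟨mu, hmu⟩ := exists_red_factor N χ fun v => Units.ext (by
    rw [Units.val_pow_eq_pow_val, Units.val_one]; exact hc v)
  let g : MonoidAlgebra k (Chr r N) →ₐ[k] C := MonoidAlgebra.lift k C _ ((Units.coeHom C).comp mu)
  refine ⟨spMap g, ?_⟩
  rw [spMap_comp]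
  congr 1
  refine MonoidAlgebra.algHom_ext (fun v => ?_) (AlgHom.ext fun c => ?_)
  · show g (MonoidAlgebra.mapDomain (red r N) (MonoidAlgebra.single v 1)) = f (MonoidAlgebra.single v 1)
    rw [MonoidAlgebra.mapDomain_single]
    simp only [g, MonoidAlgebra.lift_single, one_smul]
    exact congrArg (fun u : Cˣ => (u : C)) (DFunLike.congr_fun hmu v)
  · simp [g, ← MonoidAlgebra.one_def]
    rw [show MonoidAlgebra.single (1 : Lat r) c = c • (1 : MonoidAlgebra k (Lat r)) by simp [MonoidAlgebra.one_def],
      map_smul, map_one]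

end Groth.Agent.SolvGrp.Groth
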