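import Groth.Agent.SolvGrp.GenTorsion

/-! The torsion of a torus is defined over the ground field. -/

set_option backward.isDefEq.respectTransparency false
set_option backward.isDefEq.respectTransparency.types false
set_option linter.style.haveILetI false
set_option synthInstance.maxHeartbeats 1000000

universe u

open CategoryTheory MonoidalCategory CartesianMonoidalCategory MonObj GrpObj AlgebraicGeometry
open WithConv

noncomputable section

namespace Groth.Agent.SolvGrp.Groth

open GrpSchLib GrpSchLib.AffineHopf GrpSchLib.Kunneth GrpSchLib.LineGroups WeilCmp.Unip AGFLib AGFLib.Gen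
  AGFLib.BorelFixed AGFLib.BorelExist

section Cat

variable {S : Scheme.{u}} {X Y A B : Over S} [GrpObj A] [GrpObj B]

theorem pow_comp_hom (x : X ⟶ A) (f : A ⟶ B) [IsMonHom f] (n : ℕ) : (x ≫ f) ^ n = (x ^ n) ≫ f := by
  induction n with
  | zero => rw [pow_zero, pow_zero, MonObj.one_comp]
  | succ n ih => rw [pow_succ, pow_succ, MonObj.mul_comp, ih]

theorem comp_pow_hom (g : Y ⟶ X) (x : X ⟶ A) (n : ℕ) : (g ≫ x) ^ n = g ≫ (x ^ n) := by
  induction n with
  | zero => rw [pow_zero, pow_zero, MonObj.comp_one]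
  | succ n ih => rw [pow_succ, pow_succ, MonObj.comp_mul, ih]

theorem pow_comp_eq_one {x : X ⟶ A} (f : A ⟶ B) [IsMonHom f] {n : ℕ} (h : x ^ n = 1) : (x ≫ f) ^ n = 1 := by
  rw [pow_comp_hom, h, MonObj.one_comp]

theorem comp_pow_eq_one (g : Y ⟶ X) {x : X ⟶ A} {n : ℕ} (h : x ^ n = 1) : (g ≫ x) ^ n = 1 := by
  rw [comp_pow_hom, h, MonObj.comp_one]

end Cat

section Field

variable {K : Type u} [Field K]

theorem isClosedImmersion_tor (r N : ℕ) : IsClosedImmersion (tor K r N).left := by
  refine IsClosedImmersion.spec_of_surjective _ fun x => ?_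
  induction x using MonoidAlgebra.induction_linear with
  | zero => exact ⟨0, map_zero _⟩
  | add s t hs ht =>
    obtain ⟨a, ha⟩ := hs
    obtain ⟨b, hb⟩ := ht
    exact ⟨a + b, by rw [map_add, ha, hb]⟩
  | single m c =>
    refine ⟨MonoidAlgebra.single (Multiplicative.ofAdd fun i => ((Multiplicative.toAdd m i).cast : ℤ)) c, ?_⟩
    show MonoidAlgebra.mapDomain (red r N) (MonoidAlgebra.single _ c) = _
    rw [MonoidAlgebra.mapDomain_single]
    congr 1
    refine Multiplicative.toAdd.injective (funext fun i => ?_)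
    rw [red_apply]
    simp

theorem tor_pow (r N : ℕ) : tor K r N ^ N = 1 := by
  rw [spMap_pow, spMap_eq_one_iff]
  intro z
  let f : MonoidAlgebra K (Lat r) →ₐ[K] MonoidAlgebra K (Chr r N) :=
    (MonoidAlgebra.mapDomainBialgHom K (red r N) : MonoidAlgebra K (Lat r) →ₐ[K] MonoidAlgebra K (Chr r N))
  have hpow : ∀ (m : ℕ) (v : Lat r), (toConv f ^ m).ofConv (MonoidAlgebra.single v 1) = f (MonoidAlgebra.single v 1) ^ m := by
    intro m v
    induction m with
    | zero => simp [AlgHom.convOne_apply, MonoidAlgebra.counit_single, MonoidAlgebra.one_def]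
    | succ m ih =>
      rw [pow_succ, pow_succ, AlgHom.convMul_apply, MonoidAlgebra.comul_single, CommSemiring.comul_apply]
      simp [ih]
  induction z using MonoidAlgebra.induction_linear with
  | zero => rw [map_zero, map_zero, map_zero]
  | add s t hs ht => rw [map_add, map_add, map_add, hs, ht]
  | single v c =>
    rw [show MonoidAlgebra.single v c = c • MonoidAlgebra.single v (1 : K) by simp, map_smul, map_smul,
      Algebra.algebraMap_eq_smul_one, hpow,
      show f (MonoidAlgebra.single v 1) = MonoidAlgebra.single (red r N v) 1 from MonoidAlgebra.mapDomain_single,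
      MonoidAlgebra.single_pow, chr_pow_eq_one, MonoidAlgebra.counit_single, CommSemiring.counit_apply, one_pow,
      smul_eq_mul, _root_.mul_one, MonoidAlgebra.one_def]

/-- Points killed by `N` of a split torus, in any model, come from the torsion. -/
theorem exists_fac_tor_model {r N : ℕ} {A : Over (Spec (CommRingCat.of K))} [GrpObj A] (τ : spT K r ⟶ A) [IsMonHom τ]
    [IsIso τ] {B : Type u} [CommRing B] [Algebra K B] (f : sp K B ⟶ A) (h : f ^ N = 1) :
    ∃ y : sp K B ⟶ torC K r N, y ≫ tor K r N ≫ τ = f := by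
  haveI : IsMonHom (inv τ) := SekSuwaLib.CharLift.isMonHom_of_mul (inv τ) fun {Y} a b => by
    rw [← cancel_mono τ, Category.assoc, IsIso.inv_hom_id, Category.comp_id, MonObj.mul_comp, Category.assoc,
      Category.assoc, IsIso.inv_hom_id, Category.comp_id, Category.comp_id]
  obtain ⟨g, hg⟩ := exists_eq_spMap (f ≫ inv τ)
  have h1 := pow_comp_eq_one (inv τ) h
  rw [hg] at h1
  obtain ⟨y, hy⟩ := exists_fac_tor g h1
  exact ⟨y, by rw [← Category.assoc, hy, ← hg, Category.assoc, IsIso.inv_hom_id, Category.comp_id]⟩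

theorem tor_comp_pow {r N : ℕ} {A : Over (Spec (CommRingCat.of K))} [GrpObj A] (τ : spT K r ⟶ A) [IsMonHom τ] :
    (tor K r N ≫ τ) ^ N = 1 :=
  pow_comp_eq_one τ (tor_pow r N)

end Field

variable {k : Type u} [Field k] {K : Type u} [Field K] [IsAlgClosed K] (φ : k →+* K)

local notation "σ" => Spec.map (CommRingCat.ofHom φ)

omit [IsAlgClosed K] in
/-- The torsion of a torus descends. -/
theorem exists_torsion {T : Over (Spec (CommRingCat.of k))} [GrpObj T] (hT : Red.IsTorus T) {r : ℕ} (N : ℕ)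
    (τ : spT K r ⟶ Red.bc σ T) [IsMonHom τ] [IsIso τ] :
    ∃ (W : Over (Spec (CommRingCat.of k))) (_ : GrpObj W) (u : W ⟶ T) (_ : IsMonHom u) (l : torC K r N ⟶ Red.bc σ W),
      IsIso l ∧ SGA3x.IsMultTypeFT W ∧ l ≫ (Over.pullback σ).map u = tor K r N ≫ τ := by
  classical
  have hcomm := fun (X : Over (Spec (CommRingCat.of k))) (a b : X ⟶ T) =>
    (GrpSchLib.MultTypeComm.points_comm (TorusQI.isMultTypeFT_of_isTorus hT) a b : a * b = b * a)
  let pw : T ⟶ T := (𝟙 T) ^ N
  have hpw : ∀ {X : Over (Spec (CommRingCat.of k))} (a : X ⟶ T), a ≫ pw = a ^ N := fun {X} a => by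
    have key : ∀ n : ℕ, a ≫ ((𝟙 T : T ⟶ T) ^ n) = a ^ n := fun n => by
      induction n with
      | zero => rw [pow_zero, pow_zero, MonObj.comp_one]
      | succ n ih => rw [pow_succ, pow_succ, MonObj.comp_mul, ih, Category.comp_id]
    exact key N
  haveI : IsMonHom pw := SekSuwaLib.CharLift.isMonHom_of_mul pw fun {X} a b => by
    rw [hpw, hpw, hpw]; exact Commute.mul_pow (hcomm X a b) N
  haveI : IsSeparated T.hom := GrpSchLib.AntiAffine.isSeparated_grp T
  let e1 : 𝟙_ (Over (Spec (CommRingCat.of k))) ⟶ T := η[T]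
  haveI : IsMonHom e1 := SekSuwaLib.CharLift.isMonHom_of_mul e1 fun {X} a b => by
    rw [Subsingleton.elim (a * b) (toUnit X), Subsingleton.elim a (toUnit X), Subsingleton.elim b (toUnit X),
      ← Hom.one_def, _root_.mul_one]
  haveI : IsClosedImmersion e1.left := by
    haveI : IsClosedImmersion (e1.left ≫ T.hom) := by
      rw [Over.w e1]
      exact inferInstanceAs (IsClosedImmersion (𝟙 (Spec (CommRingCat.of k))))
    exact IsClosedImmersion.of_comp e1.left T.hom
  obtain ⟨W, _, u, hu, w, hpb⟩ := exists_pullbackGrp pw e1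
  haveI := hu
  haveI : IsClosedImmersion u.left :=
    MorphismProperty.of_isPullback (P := @IsClosedImmersion) (hpb.map (Over.forget _)) ‹_›
  haveI : Mono u := (Over.forget _).mono_of_mono_map (inferInstanceAs (Mono u.left))
  let F := Over.pullback σ
  haveI : F.IsRightAdjoint := (Over.mapPullbackAdj σ).isRightAdjoint
  have hFpw : ∀ {X : Over (Spec (CommRingCat.of K))} (x : X ⟶ Red.bc σ T), x ≫ F.map pw = x ^ N := fun {X} x => by
    have key : ∀ n : ℕ, x ≫ F.map ((𝟙 T : T ⟶ T) ^ n) = x ^ n := fun n => by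
      induction n with
      | zero => rw [pow_zero, pow_zero, show F.map (1 : T ⟶ T) = 1 from map_one F.homMonoidHom, MonObj.comp_one]
      | succ n ih =>
        rw [pow_succ, pow_succ, show F.map ((𝟙 T : T ⟶ T) ^ n * 𝟙 T) = F.map ((𝟙 T : T ⟶ T) ^ n) * F.map (𝟙 T) from
          map_mul F.homMonoidHom _ _, MonObj.comp_mul, ih, F.map_id, Category.comp_id]
    exact key N
  have hker : ∀ {X : Over (Spec (CommRingCat.of K))} (x : X ⟶ Red.bc σ T), x ^ N = 1 →
      ∃ y : X ⟶ Red.bc σ W, y ≫ F.map u = x := fun {X} x hx => by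
    obtain ⟨a, rfl⟩ := (AVTors.bcPts σ X T).surjective x
    rw [← map_pow] at hx
    have h1 : toUnit _ ≫ e1 = a ≫ pw := by
      rw [hpw, ← Hom.one_def]
      exact ((AVTors.bcPts σ X T).injective (hx.trans (map_one _).symm)).symm
    exact ⟨AVTors.bcPts σ X W (hpb.lift (toUnit _) a h1), by rw [← AVTors.bcPts_comp, hpb.lift_snd]⟩
  have htor : (tor K r N ≫ τ) ^ N = 1 := by
    exact tor_comp_pow τ
  obtain ⟨l, hl⟩ := hker _ htor
  haveI : Mono (tor K r N ≫ τ) := by
    haveI : Mono (tor K r N) := by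
      haveI := isClosedImmersion_tor (K := K) r N
      exact (Over.forget _).mono_of_mono_map (inferInstanceAs (Mono (tor K r N).left))
    infer_instance
  -- the inverse
  haveI : IsIso τ.left := ((Over.forget _).mapIso (asIso τ)).isIso_hom
  haveI : IsAffine (Red.bc σ T).left := IsAffine.of_isIso (inv τ.left)
  haveI : IsClosedImmersion (F.map u).left := MorphismProperty.baseChange_map (P := @IsClosedImmersion) σ u inferInstance
  haveI : IsAffine (Red.bc σ W).left := isAffine_of_isAffineHom (F.map u).left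
  obtain ⟨B, _, _, ⟨eW⟩⟩ := exists_hopf (Red.bc σ W)
  let s : sp K B ≅ Red.bc σ W := (Grp.forget _).mapIso eW
  have h3 : u ≫ pw = 1 := by
    rw [← hpb.w, Subsingleton.elim w (toUnit _)]
    exact Hom.one_def.symm
  have h1 : (F.map u) ^ N = 1 :=
    (hFpw (F.map u)).symm.trans ((F.map_comp u pw).symm.trans ((congrArg F.map h3).trans (map_one F.homMonoidHom)))
  obtain ⟨y, hy⟩ := exists_fac_tor_model τ (s.hom ≫ F.map u) (comp_pow_eq_one s.hom h1)
  have hlm : (s.inv ≫ y) ≫ l = 𝟙 _ := by
    rw [← cancel_mono (F.map u), Category.assoc, hl, Category.id_comp, Category.assoc,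
      hy, Iso.inv_hom_id_assoc]
  have hml : l ≫ s.inv ≫ y = 𝟙 _ := by
    rw [← cancel_mono (tor K r N ≫ τ), ← hl, Category.assoc, Category.id_comp]
    rw [← Category.assoc (s.inv ≫ y), hlm, Category.id_comp]
  haveI : IsIso l := ⟨⟨s.inv ≫ y, hml, hlm⟩⟩
  haveI : IsMonHom l := SekSuwaLib.CharLift.isMonHom_of_mul l fun {Y} a b => by
    rw [← cancel_mono (F.map u), Category.assoc, hl, MonObj.mul_comp, MonObj.mul_comp, Category.assoc, Category.assoc, hl]
  refine ⟨W, inferInstance, u, hu, l, inferInstance, ?_, hl⟩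
  let eW' : Grp.mk (torC K r N) ≅ Grp.mk (Red.bc σ W) := Grp.mkIso' (asIso l)
  obtain ⟨eD⟩ := nonempty_DS_iso K (Fin r → ZMod N)
  haveI : AddGroup.FG (ZMod N) := by
    rw [AddGroup.fg_iff]
    exact ⟨{1}, eq_top_iff.mpr fun x _ => AddSubgroup.mem_closure_singleton.mpr
      ⟨ZMod.cast x, by simp⟩, Set.finite_singleton _⟩
  haveI : Flat σ := GrpSchLib.flat_spec_map_field φ
  haveI : Surjective σ := GrpSchLib.surjective_spec_map_field φ
  refine ⟨_, σ, inferInstance, inferInstance, fun V _ => ⟨σ ⁻¹ᵁ V, (Set.toFinite _).isCompact,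
    Set.image_preimage_eq _ (Scheme.Hom.surjective σ)⟩, fun s' => ⟨⊤, trivial, Fin r → ZMod N, inferInstance, inferInstance, ?_⟩⟩
  let t := Scheme.Opens.ι (⊤ : (Spec (CommRingCat.of K)).Opens)
  obtain ⟨e₁⟩ := MultTypeBC.bc_iso t (eW'.symm ≪≫ eD)
  obtain ⟨e₂⟩ := MultTypeBC.bc_DS t (Fin r → ZMod N)
  exact ⟨((Functor.mapGrpCompIso (F := Over.pullback σ) (G := Over.pullback t)).symm ≪≫
    Functor.mapGrpNatIso (Over.pullbackComp t σ).symm).symm.app (Grp.mk W) ≪≫ e₁ ≪≫ e₂⟩

end Groth.Agent.SolvGrp.Groth
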