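import Groth.Agent.SolvGrp.Cent
import Groth.Agent.SolvGrp.CentralIsogeny
import Groth.Agent.SolvGrp.BorelFinite
import Groth.Agent.SolvGrp.TorusSepClosed
import Groth.Agent.SolvGrp.MaxSubtorusUniv
import Groth.Agent.SolvGrp.RadAlgClosed
import Groth.Agent.SolvGrp.NormUnip
import Groth.Agent.GrpSchLib.MultTypeComm
import Groth.Agent.VarDim.Basic
import Groth.Agent.S8197
import Groth.Agent.S8393
import Groth.Agent.S10841
import Groth.Agent.S3901

/-! Maximal tori over a field: reductions to the centre, to the adjoint quotient and to subgroups. -/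

set_option backward.isDefEq.respectTransparency false
set_option backward.isDefEq.respectTransparency.types false
set_option linter.style.haveILetI false

universe u

open CategoryTheory MonoidalCategory CartesianMonoidalCategory MonObj GrpObj AlgebraicGeometry

namespace Groth.Agent.SolvGrp.Groth

open GrpSchLib GrpSchLib.Kunneth GrpSchLib.LineGroups WeilCmp.Unip AGFLib AGFLib.Gen AGFLib.BorelFixed AGFLib.BorelExist

variable {k : Type u} [Field k] {K : Type u} [Field K] [IsAlgClosed K] (φ : k →+* K)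

local notation "σ" => Spec.map (CommRingCat.ofHom φ)
local notation "PT" => 𝟙_ (Over (Spec (CommRingCat.of k)))
local notation "PK" => 𝟙_ (Over (Spec (CommRingCat.of K)))

/-- A torus over `k` which is maximal over `K`. -/
def HasTorus (G : Over (Spec (CommRingCat.of k))) [GrpObj G] : Prop :=
  ∃ (T : Over (Spec (CommRingCat.of k))) (_ : GrpObj T) (i : T ⟶ G), IsMonHom i ∧ Mono i ∧ Red.IsTorus T ∧
    AGF.IsMaxTorus ((Over.pullback σ).map i)

variable {G : Over (Spec (CommRingCat.of k))} [GrpObj G]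

omit [IsAlgClosed K] in
/-- After base change the kernel of the quotient by the centre is central. -/
theorem central_of_comp_eq_one {Z Q : Over (Spec (CommRingCat.of k))} [GrpObj Z] [GrpObj Q] (i : Z ⟶ G) (q : G ⟶ Q)
    [IsMonHom q] (hZ : Red.IsCentre i) (hk : AlgGrp.IsKernel i q) {X : Over (Spec (CommRingCat.of K))}
    (x : X ⟶ Red.bc σ G) (hx : x ≫ (Over.pullback σ).map q = 1) (h : X ⟶ Red.bc σ G) : x * h = h * x := by
  have hZK := isCentralizerOf_bc σ (𝟙 G) i hZ
  obtain ⟨w, rfl⟩ := (AVTors.bcPts σ X G).surjective x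
  have hw : w ≫ q = toUnit _ ≫ η[Q] := by
    rw [← Hom.one_def]
    exact (AVTors.bcPts σ X Q).injective (by rw [AVTors.bcPts_comp, hx, map_one])
  have h1 := (hZK.2.2 X (AVTors.bcPts σ X G w)).mp ⟨AVTors.bcPts σ X Z (hk.lift w (toUnit _) hw), by
    rw [← AVTors.bcPts_comp, hk.lift_fst]⟩ X (𝟙 X) h
  simpa using h1

omit [IsAlgClosed K] in
/-- Commutativity survives base change. -/
theorem comm_bc {H : Over (Spec (CommRingCat.of k))} [GrpObj H]
    (hH : ∀ (X : Over (Spec (CommRingCat.of k))) (g h : X ⟶ H), g * h = h * g) (X : Over (Spec (CommRingCat.of K)))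
    (g h : X ⟶ Red.bc σ H) : g * h = h * g := by
  obtain ⟨a, rfl⟩ := (AVTors.bcPts σ X H).surjective g
  obtain ⟨b, rfl⟩ := (AVTors.bcPts σ X H).surjective h
  rw [← map_mul, ← map_mul, hH]

omit [IsAlgClosed K] in
/-- A torus containing a maximal torus is maximal. -/
theorem isMaxTorus_of_le {G T S : Over (Spec (CommRingCat.of K))} [GrpObj G] [GrpObj T] [GrpObj S] {iT : T ⟶ G}
    (hT : AGF.IsMaxTorus iT) (j : S ⟶ G) [IsMonHom j] [Mono j] (hS : Red.IsTorus S) (l : T ⟶ S) (hl : l ≫ j = iT) :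
    AGF.IsMaxTorus j := by
  haveI := hT.2.2.2 S j l hS hl
  refine ⟨inferInstance, inferInstance, hS, fun W _ m _ _ f hW hf => ?_⟩
  haveI := hT.2.2.2 W m (l ≫ f) hW (by rw [Category.assoc, hf, hl])
  exact IsIso.of_isIso_comp_left l f

variable [IsAffine G.left] [Smooth G.hom] [ConnectedSpace G.left]

/-- A conjugate of a maximal torus is maximal. -/
theorem isMaxTorus_conjBy {G T : Over (Spec (CommRingCat.of K))} [GrpObj G] [GrpObj T] [IsAffine G.left] [Smooth G.hom]
    [ConnectedSpace G.left] {iT : T ⟶ G} (hT : AGF.IsMaxTorus iT) (x : PK ⟶ G) : AGF.IsMaxTorus (AGF.conjBy x iT) := by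
  haveI := hT.1
  haveI := hT.2.1
  haveI : IsMonHom (AGF.conjBy x iT) := by rw [AGFLib.Borel.conjBy_eq]; infer_instance
  haveI : Mono (AGF.conjBy x iT) := by rw [AGFLib.Borel.conjBy_eq]; exact mono_comp iT _
  exact isMaxTorus_of_conj hT.2.2.1 hT x⁻¹ (Iso.refl T) (by
    simp only [AGFLib.Borel.conjBy_eq, Category.assoc, AGFLib.Borel.conjM_comp, inv_mul_cancel,
      AGFLib.Borel.conjM_one, Category.comp_id, Iso.refl_hom, Category.id_comp])

/-- If all tori over `K` are central, the maximal torus is defined over `k`. -/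
theorem hasTorus_of_central {Z Q : Over (Spec (CommRingCat.of k))} [GrpObj Z] [GrpObj Q] (i : Z ⟶ G) (q : G ⟶ Q)
    [IsMonHom q] (hZ : Red.IsCentre i) (hk : AlgGrp.IsKernel i q)
    (hcen : ∀ (T : Over (Spec (CommRingCat.of K))) [GrpObj T] (v : T ⟶ Red.bc σ G) [IsMonHom v],
      Red.IsTorus T → v ≫ (Over.pullback σ).map q = 1) : HasTorus φ G := by
  obtain ⟨hA, hS, hC⟩ := Frob.bcG_props φ (G := G)
  haveI := hA
  haveI := hS
  haveI := hC
  haveI : QuasiCompact G.hom := inferInstance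
  haveI : LocallyOfFiniteType G.hom := inferInstance
  obtain ⟨T₀, _, i₀, h₀⟩ := exists_maxTorus_closed (Red.bc σ G)
  haveI := h₀.1
  obtain ⟨Zm, _, z, hz, hzm, hmt, -, huniv⟩ := Groth.Agent.S8393.result k G
  haveI := hz
  haveI := hzm
  obtain ⟨w, hw⟩ := huniv _ σ T₀ i₀ (TorusQI.isMultTypeFT_of_isTorus h₀.2.2.1) fun X x g =>
    central_of_comp_eq_one φ i q hZ hk (x ≫ i₀) (by rw [Category.assoc, hcen T₀ i₀ h₀.2.2.1, MonObj.comp_one]) g
  obtain ⟨T, _, t, htm, htmono, hT, htu⟩ := MaxSubtorus.exists_maximalTorus_univ hmt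
  haveI := htm
  haveI := htmono
  haveI : (Over.pullback σ).IsRightAdjoint := (Over.mapPullbackAdj σ).isRightAdjoint
  haveI : IsMonHom w := SekSuwaLib.CharLift.isMonHom_of_mul w fun {Y} a b => by
    rw [← cancel_mono ((Over.pullback σ).map z), Category.assoc, hw, MonObj.mul_comp, MonObj.mul_comp, Category.assoc,
      Category.assoc, hw]
  obtain ⟨l, hl⟩ := htu _ σ T₀ w h₀.2.2.1
  refine ⟨T, inferInstance, t ≫ z, inferInstance, mono_comp t z, hT, ?_⟩
  haveI : Mono (t ≫ z) := mono_comp t z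
  exact isMaxTorus_of_le h₀ ((Over.pullback σ).map (t ≫ z)) (isTorus_bc σ hT) l (by
    rw [Functor.map_comp, reassoc_of% hl, hw])

/-- A torus of the quotient by the centre lifts. -/
theorem hasTorus_of_quot {Z Q : Over (Spec (CommRingCat.of k))} [GrpObj Z] [GrpObj Q] (i : Z ⟶ G) (q : G ⟶ Q)
    [IsMonHom q] [IsAffine Q.left] [Smooth Q.hom] [ConnectedSpace Q.left] [Flat q.left] [Surjective q.left]
    (hZ : Red.IsCentre i) (hk : AlgGrp.IsKernel i q) (h : HasTorus φ Q) : HasTorus φ G := by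
  obtain ⟨T, _, iT, hTm, hTmono, hT, hmax⟩ := h
  haveI := hTm
  haveI := hTmono
  haveI : IsClosedImmersion iT.left := (torus_sub_field iT hT).1
  obtain ⟨H, _, v, hv, w, hpb⟩ := exists_pullbackGrp q iT
  haveI := hv
  haveI : IsClosedImmersion v.left :=
    MorphismProperty.of_isPullback (P := @IsClosedImmersion) (hpb.map (Over.forget _)) ‹_›
  haveI : Mono v := (Over.forget _).mono_of_mono_map (inferInstanceAs (Mono v.left))
  haveI : IsAffine H.left := isAffine_of_isAffineHom v.left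
  haveI : LocallyOfFiniteType G.hom := inferInstance
  haveI : LocallyOfFiniteType H.hom := by rw [← Over.w v]; infer_instance
  haveI : QuasiCompact H.hom := by rw [← Over.w v]; infer_instance
  haveI : Flat w.left := MorphismProperty.of_isPullback (P := @Flat) (hpb.map (Over.forget _)).flip ‹_›
  haveI : Surjective w.left := MorphismProperty.of_isPullback (P := @Surjective) (hpb.map (Over.forget _)).flip ‹_›
  haveI : IsMonHom w := SekSuwaLib.CharLift.isMonHom_of_mul w fun {Y} a b => by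
    rw [← cancel_mono iT, Category.assoc, hpb.w, MonObj.mul_comp, MonObj.mul_comp, Category.assoc, Category.assoc, hpb.w]
  have hcomm := Groth.Agent.S8197.result k T H hT w fun X z hz X' x g => by
    rw [← cancel_mono v, MonObj.mul_comp, MonObj.mul_comp]
    have h1 : (z ≫ v) ≫ q = toUnit _ ≫ η[Q] := by
      rw [Category.assoc, ← hpb.w, ← Category.assoc, hz, MonObj.one_comp, Hom.one_def]
    have h2 := (hZ.2.2 X (z ≫ v)).mp ⟨hk.lift (z ≫ v) (toUnit _) h1, hk.lift_fst _ _ h1⟩ X' x (g ≫ v)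
    simpa [Category.assoc] using h2
  obtain ⟨Zm, _, z, hz, hzm, hmt, -, huniv⟩ := Groth.Agent.S8393.result k H
  haveI := hz
  haveI := hzm
  obtain ⟨S, _, s, hsm, hsmono, hS, hsu⟩ := MaxSubtorus.exists_maximalTorus_univ hmt
  haveI := hsm
  haveI := hsmono
  haveI : (Over.pullback σ).IsRightAdjoint := (Over.mapPullbackAdj σ).isRightAdjoint
  let F := Over.pullback σ
  obtain ⟨hA, hS', hC⟩ := Frob.bcG_props φ (G := G)
  haveI := hA
  haveI := hS'
  haveI := hC
  obtain ⟨hA', hS'', hC'⟩ := Frob.bcG_props φ (G := Q)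
  haveI := hA'
  haveI := hS''
  haveI := hC'
  obtain ⟨T₁, _, j, hj⟩ := exists_maxTorus_closed (Red.bc σ G)
  haveI := hj.1
  haveI := hj.2.1
  haveI : Surjective (F.map q).left := MorphismProperty.baseChange_map (P := @Surjective) σ q inferInstance
  obtain ⟨M, _, m, p, hp, hm, -, -, -, hpm⟩ := exists_maxTorus_image (F.map q) j hj
  obtain ⟨g, f', hf'⟩ := Groth.Agent.S3901.result K (Red.bc σ Q) M (F.obj T) m (F.map iT) hm hmax
  haveI : LocallyOfFiniteType (Red.bc σ G).hom := inferInstance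
  haveI : LocallyOfFiniteType (Red.bc σ Q).hom := inferInstance
  haveI : IsSeparated (Red.bc σ Q).hom := GrpSchLib.AntiAffine.isSeparated_grp _
  obtain ⟨g', hg'⟩ := exists_of_mem_range (F.map q) g ((F.map q).left.surjective _)
  have hu := isMaxTorus_conjBy hj g'
  haveI := hu.1
  have hsq : (p ≫ f'.hom) ≫ F.map iT = AGF.conjBy g' j ≫ F.map q := by
    rw [Category.assoc, hf']
    simp only [AGF.conjBy, MonObj.mul_comp, MonObj.comp_mul, GrpObj.inv_comp, GrpObj.comp_inv, Category.assoc, hg']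
    rw [hpm, ← Category.assoc p, comp_toUnit]
  let l₀ : T₁ ⟶ F.obj H := (hpb.map F).lift (p ≫ f'.hom) (AGF.conjBy g' j) hsq
  have hl₀ : l₀ ≫ F.map v = AGF.conjBy g' j := (hpb.map F).lift_snd _ _ _
  haveI : IsMonHom l₀ := SekSuwaLib.CharLift.isMonHom_of_mul l₀ fun {Y} a b => by
    rw [← cancel_mono (F.map v), Category.assoc, hl₀, MonObj.mul_comp, MonObj.mul_comp, Category.assoc, Category.assoc, hl₀]
  obtain ⟨l₁, hl₁⟩ := huniv _ σ T₁ l₀ (TorusQI.isMultTypeFT_of_isTorus hj.2.2.1)
    fun X x g => comm_bc φ hcomm X _ g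
  haveI : IsMonHom l₁ := SekSuwaLib.CharLift.isMonHom_of_mul l₁ fun {Y} a b => by
    rw [← cancel_mono (F.map z), Category.assoc, hl₁, MonObj.mul_comp, MonObj.mul_comp, Category.assoc, Category.assoc, hl₁]
  obtain ⟨l₂, hl₂⟩ := hsu _ σ T₁ l₁ hj.2.2.1
  haveI : Mono (s ≫ z ≫ v) := mono_comp s (z ≫ v)
  refine ⟨S, inferInstance, s ≫ z ≫ v, inferInstance, inferInstance, hS, ?_⟩
  exact isMaxTorus_of_le hu (F.map (s ≫ z ≫ v)) (isTorus_bc σ hS) l₂ (by
    rw [Functor.map_comp, Functor.map_comp, reassoc_of% hl₂, reassoc_of% hl₁, hl₀])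

/-- A subgroup containing a maximal torus over `K`. -/
def ContainsMax {C : Over (Spec (CommRingCat.of k))} (c : C ⟶ G) : Prop :=
  ∃ (W : Over (Spec (CommRingCat.of K))) (_ : GrpObj W) (iW : W ⟶ Red.bc σ G) (f : W ⟶ Red.bc σ C),
    AGF.IsMaxTorus iW ∧ f ≫ (Over.pullback σ).map c = iW

/-- A torus in a subgroup containing a maximal torus. -/
theorem hasTorus_of_sub {C : Over (Spec (CommRingCat.of k))} [GrpObj C] (c : C ⟶ G) [IsMonHom c]
    [IsClosedImmersion c.left] [Smooth C.hom] [ConnectedSpace C.left] (hmax : ContainsMax φ c) (h : HasTorus φ C) :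
    HasTorus φ G := by
  obtain ⟨T, _, t, htm, htmono, hT, htmax⟩ := h
  obtain ⟨W, _, iW, f, hW, hf⟩ := hmax
  haveI := htm
  haveI := htmono
  haveI := hW.1
  haveI := hW.2.1
  haveI : IsAffine C.left := isAffine_of_isAffineHom c.left
  haveI : Mono c := (Over.forget _).mono_of_mono_map (inferInstanceAs (Mono c.left))
  haveI : Mono (t ≫ c) := mono_comp t c
  let F := Over.pullback σ
  haveI : F.IsRightAdjoint := (Over.mapPullbackAdj σ).isRightAdjoint
  obtain ⟨hA, hS, hC⟩ := Frob.bcG_props φ (G := G)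
  haveI := hA
  haveI := hS
  haveI := hC
  obtain ⟨hA', hS', hC'⟩ := Frob.bcG_props φ (G := C)
  haveI := hA'
  haveI := hS'
  haveI := hC'
  haveI : IsMonHom f := SekSuwaLib.CharLift.isMonHom_of_mul f fun {Y} a b => by
    rw [← cancel_mono (F.map c), Category.assoc, hf, MonObj.mul_comp, MonObj.mul_comp, Category.assoc, Category.assoc, hf]
  haveI : Mono f := mono_of_mono_fac hf
  have hfmax : AGF.IsMaxTorus f := ⟨inferInstance, inferInstance, hW.2.2.1, fun W' _ m _ _ e hW' he => by
    haveI : Mono (m ≫ F.map c) := mono_comp m _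
    exact hW.2.2.2 W' (m ≫ F.map c) e hW' (by rw [← Category.assoc, he, hf])⟩
  obtain ⟨x, e, he⟩ := Groth.Agent.S3901.result K (Red.bc σ C) (F.obj T) W (F.map t) f htmax hfmax
  refine ⟨T, inferInstance, t ≫ c, inferInstance, inferInstance, hT,
    isMaxTorus_of_conj (isTorus_bc σ hT) hW (x ≫ F.map c) e ?_⟩
  rw [← hf, ← Category.assoc, he]
  simp only [AGF.conjBy, MonObj.mul_comp, GrpObj.inv_comp, Category.assoc, Functor.map_comp]
  rfl

omit [IsAlgClosed K] [ConnectedSpace G.left] in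
/-- The centralizer of a non-central homomorphism is a proper subgroup. -/
theorem range_ne_univ {H C Z Q : Over (Spec (CommRingCat.of k))} [GrpObj H] [GrpObj C] [GrpObj Z] [GrpObj Q]
    (v : H ⟶ G) (c : C ⟶ G) [IsClosedImmersion c.left] (hc : Red.IsCentralizerOf v c) (i : Z ⟶ G) (q : G ⟶ Q)
    (hZ : Red.IsCentre i) (hk : AlgGrp.IsKernel i q) (hv : v ≫ q ≠ 1) : Set.range c.left ≠ Set.univ := by
  intro h
  haveI : IsReduced G.left := isReduced_of_smooth_field G.hom
  haveI : Surjective c.left := ⟨Set.range_eq_univ.mp h⟩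
  haveI : IsIso c.left := isIso_of_isClosedImmersion_of_surjective c.left
  haveI : IsIso ((Over.forget _).map c) := ‹IsIso c.left›
  haveI := isIso_of_reflects_iso c (Over.forget _)
  refine hv ?_
  obtain ⟨z, hz⟩ := (hZ.2.2 H v).mpr fun X' x h' => by
    have h1 := (hc.2.2 G (𝟙 G)).mp ⟨inv c, IsIso.inv_hom_id c⟩ X' (h' : X' ⟶ G) x
    simpa using h1.symm
  rw [← hz, Category.assoc, hk.w, ← Category.assoc, comp_toUnit, Hom.one_def]

/-- The centralizer of a torus contains a maximal torus. -/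
theorem exists_centralizer {S : Over (Spec (CommRingCat.of k))} [GrpObj S] (iS : S ⟶ G) [IsMonHom iS] [Mono iS]
    (hS : Red.IsTorus S) :
    ∃ (C : Over (Spec (CommRingCat.of k))) (_ : GrpObj C) (c : C ⟶ G), IsMonHom c ∧ IsClosedImmersion c.left ∧
      Smooth C.hom ∧ ConnectedSpace C.left ∧ Red.IsCentralizerOf iS c ∧ ContainsMax φ c := by
  haveI : IsAffineHom G.hom := isAffineHom_of_isAffine G.hom
  obtain ⟨C, _, c, hc, hcl, hsm⟩ := Groth.Agent.S5247.result S G (TorusQI.isMultTypeFT_of_isTorus hS) inferInstance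
    inferInstance iS
  refine ⟨C, inferInstance, c, hc.1, hcl, hsm, connectedSpace_centralizer_field hS hc, hc, ?_⟩
  let F := Over.pullback σ
  haveI : F.IsRightAdjoint := (Over.mapPullbackAdj σ).isRightAdjoint
  obtain ⟨hA, hS', hC⟩ := Frob.bcG_props φ (G := G)
  haveI := hA
  haveI := hS'
  haveI := hC
  obtain ⟨W, _, iW, hWm, hW, hle⟩ := exists_maxTorus_containing (F.map iS) (isTorus_bc σ hS)
  haveI := hWm
  haveI := hW.2.1
  obtain ⟨hciW, hsW, -, -, hlW, -, -⟩ := torus_sub hW.2.2.1 iW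
  haveI := hciW
  haveI := hlW
  haveI : Smooth (F.obj S).hom := by
    obtain ⟨-, h1, -⟩ := torus_sub (isTorus_bc σ hS) (F.map iS)
    exact h1
  obtain ⟨f, hfm, hf⟩ := exists_fac_sub iW (F.map iS) hle
  have hcK := isCentralizerOf_bc σ iS c hc
  obtain ⟨g, hg⟩ := (hcK.2.2 W iW).mpr fun X' x h => by
    rw [show h ≫ F.map iS = (h ≫ f) ≫ iW by rw [Category.assoc, hf], ← MonObj.mul_comp, ← MonObj.mul_comp,
      MultTypeComm.points_comm (TorusQI.isMultTypeFT_of_isTorus hW.2.2.1) x (h ≫ f)]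
  exact ⟨W, inferInstance, iW, g, hW, hg⟩

omit [IsAlgClosed K] in
/-- The dimension is a natural number. -/
theorem exists_dim : ∃ d : ℕ, topologicalKrullDim ↥G.left = d := by
  haveI : IsReduced G.left := isReduced_of_smooth_field G.hom
  haveI : IrreducibleSpace G.left := Groth.Agent.S0348.result k G
  haveI : IsIntegral G.left := isIntegral_of_irreducibleSpace_of_isReduced _
  haveI := AGFLib.finiteType_fn G
  haveI : IsDomain (Fn G) := inferInstanceAs (IsDomain Γ(G.left, ⊤))
  obtain ⟨n, hn, -⟩ := VarDim.exists_dim_eq_trdeg k (Fn G)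
  refine ⟨n, ?_⟩
  rw [IsHomeomorph.topologicalKrullDim_eq _ G.left.isoSpec.hom.homeomorph.isHomeomorph,
    show topologicalKrullDim (Spec Γ(G.left, ⊤)) = ringKrullDim (Fn G) from
      PrimeSpectrum.topologicalKrullDim_eq_ringKrullDim _, hn]

omit [IsAlgClosed K] in
/-- A proper closed subgroup has smaller dimension. -/
theorem dim_lt {C : Over (Spec (CommRingCat.of k))} (c : C ⟶ G) [IsClosedImmersion c.left]
    (hne : Set.range c.left ≠ Set.univ) : topologicalKrullDim ↥C.left < topologicalKrullDim ↥G.left := by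
  haveI : IrreducibleSpace G.left := Groth.Agent.S0348.result k G
  obtain ⟨d, hd⟩ := exists_dim (G := G)
  exact NormUnip.topologicalKrullDim_lt_of_ne c.left hne (by
    rw [hd]; exact (WithBot.coe_lt_coe.mpr (ENat.natCast_lt_top d)).ne)

omit [IsAlgClosed K] in
/-- A quotient has no bigger dimension. -/
theorem dim_le {Q : Over (Spec (CommRingCat.of k))} [GrpObj Q] [IsAffine Q.left] [LocallyOfFiniteType Q.hom]
    [ConnectedSpace Q.left] (q : G ⟶ Q) [Surjective q.left] :
    topologicalKrullDim ↥Q.left ≤ topologicalKrullDim ↥G.left := by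
  haveI : IrreducibleSpace Q.left := Groth.Agent.S0348.result k Q
  haveI : QuasiCompact Q.hom := inferInstance
  haveI : QuasiCompact G.hom := inferInstance
  haveI : LocallyOfFiniteType G.hom := inferInstance
  exact Groth.Agent.S10841.result k Q.hom G.hom q.left (Over.w q) (q.left.surjective _)

end Groth.Agent.SolvGrp.Groth
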