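import Groth.Agent.SolvGrp.GrothWeights
import Groth.Agent.SolvGrp.GrothGroup
import Groth.Agent.GrpSchLib.BCPoints

/-! Homomorphisms to a base change in terms of Hopf algebras. -/

set_option backward.isDefEq.respectTransparency false
set_option backward.isDefEq.respectTransparency.types false
set_option linter.style.haveILetI false
set_option synthInstance.maxHeartbeats 1000000

universe u

open CategoryTheory MonoidalCategory CartesianMonoidalCategory MonObj GrpObj AlgebraicGeometry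
open scoped TensorProduct
open WithConv

noncomputable section

namespace Groth.Agent.SolvGrp.Groth

open GrpSchLib GrpSchLib.AffineHopf

variable {k : Type u} [Field k] {K : Type u} [Field K] [Algebra k K]
  {A B : Type u} [CommRing A] [HopfAlgebra k A] [CommRing B] [HopfAlgebra k B]

local notation "σ" => Spec.map (CommRingCat.ofHom (algebraMap k K))

/-- The base change of the spectrum is the spectrum of the base change. -/
def bcIso (A : Type u) [CommRing A] [HopfAlgebra k A] : Red.bc σ (sp k A) ≅ sp K (K ⊗[k] A) :=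
  haveI : IsIso (bcToSp (R := k) (S := K) (A := A)).left :=
    inferInstanceAs (IsIso (Limits.pullbackSymmetry .. ≪≫ pullbackSpecIso' k K A).hom)
  haveI : IsIso ((Over.forget _).map (bcToSp (R := k) (S := K) (A := A))) :=
    ‹IsIso (bcToSp (R := k) (S := K) (A := A)).left›
  haveI := isIso_of_reflects_iso (bcToSp (R := k) (S := K) (A := A)) (Over.forget _)
  asIso (bcToSp (R := k) (S := K) (A := A))

theorem bcIso_hom (A : Type u) [CommRing A] [HopfAlgebra k A] : (bcIso (k := k) (K := K) A).hom = bcToSp (R := k) (S := K) (A := A) := rfl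

instance (A : Type u) [CommRing A] [HopfAlgebra k A] : IsMonHom (bcIso (k := k) (K := K) A).hom :=
  inferInstanceAs (IsMonHom (bcToSp (R := k) (S := K) (A := A)))

/-- The base change of a map of algebras. -/
abbrev bcA (ψ : B →ₐc[k] A) : K ⊗[k] B →ₐc[K] K ⊗[k] A := Bialgebra.TensorProduct.map (BialgHom.id K K) ψ

/-- The identification is natural. -/
theorem bc_spMap (ψ : B →ₐc[k] A) :
    (Over.pullback σ).map (spMap (ψ : B →ₐ[k] A)) ≫ (bcIso (k := k) (K := K) B).hom =
      (bcIso (k := k) (K := K) A).hom ≫ spMap ((bcA (K := K) ψ : K ⊗[k] B →ₐ[K] K ⊗[k] A)) := by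
  haveI : IsIso (Limits.pullbackSymmetry _ _ ≪≫ pullbackSpecIso' k K B).hom := inferInstance
  refine Over.OverMorphism.ext ?_
  rw [bcIso_hom, bcIso_hom, ← cancel_mono (pullbackSpecIso' k K B).inv]
  refine Limits.pullback.hom_ext ?_ ?_
  · simp only [Category.assoc]
    erw [pullbackSpecIso_inv_fst]
    have h1 := Over.w ((Over.pullback σ).map (spMap (ψ : B →ₐ[k] A)) ≫ bcToSp (R := k) (S := K) (A := B))
    have h2 := Over.w (bcToSp (R := k) (S := K) (A := A) ≫
      spMap ((bcA (K := K) ψ : K ⊗[k] B →ₐ[K] K ⊗[k] A)))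
    exact h1.trans h2.symm
  · simp only [Category.assoc]
    erw [pullbackSpecIso_inv_snd]
    simp only [Over.comp_left, Category.assoc]
    show _ ≫ bcToSp.left ≫ Spec.map (CommRingCat.ofHom (Algebra.TensorProduct.includeRight : B →ₐ[k] K ⊗[k] B).toRingHom) =
      bcToSp.left ≫ Spec.map _ ≫ Spec.map _
    rw [UniPart.spIncl_fst, ← Spec.map_comp, ← CommRingCat.ofHom_comp]
    refine (Limits.pullback.lift_fst _ _ _).trans ?_
    refine ((congrArg (· ≫ Spec.map (CommRingCat.ofHom (ψ : B →ₐ[k] A).toRingHom))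
      (UniPart.spIncl_fst (R := k) (S := K) (A := A))).symm.trans (Category.assoc _ _ _)).trans ?_
    rw [← Spec.map_comp, ← CommRingCat.ofHom_comp]
    rfl

theorem spMap_one {C C' : Type u} [CommRing C] [CommRing C'] [Algebra K C] [Bialgebra K C'] :
    (1 : sp K C ⟶ sp K C') = spMap ((1 : WithConv (C' →ₐ[K] C)).ofConv) := (map_one Spec.mapMulEquiv).symm

theorem spMap_eq_one_iff {C C' : Type u} [CommRing C] [CommRing C'] [Algebra K C] [Bialgebra K C'] (f : C' →ₐ[K] C) :
    spMap f = 1 ↔ ∀ z, f z = algebraMap K C (Coalgebra.counit (R := K) z) := by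
  rw [spMap_one]
  constructor
  · intro h z
    rw [spMap_injective h, AlgHom.convOne_apply]
  · intro h
    congr 1
    exact AlgHom.ext fun z => by rw [h, AlgHom.convOne_apply]

variable {G Q : Over (Spec (CommRingCat.of k))} [GrpObj G] [GrpObj Q]

/-- The coordinates of a map to the base change. -/
def toA (a : sp k A ≅ G) {X : Over (Spec (CommRingCat.of K))} (v : X ⟶ Red.bc σ G) : X ⟶ sp K (K ⊗[k] A) :=
  v ≫ (Over.pullback σ).map a.inv ≫ (bcIso (k := k) (K := K) A).hom

theorem isMonHom_toA (a : sp k A ≅ G) [IsMonHom a.inv] {X : Over (Spec (CommRingCat.of K))} [GrpObj X]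
    (v : X ⟶ Red.bc σ G) [IsMonHom v] : IsMonHom (toA a v) :=
  inferInstanceAs (IsMonHom (v ≫ (Over.pullback σ).map a.inv ≫ (bcIso (k := k) (K := K) A).hom))

/-- The coordinates of a composite with a homomorphism. -/
theorem toA_comp (a : sp k A ≅ G) (b : sp k B ≅ Q) (q : G ⟶ Q) (ψ : B →ₐc[k] A)
    (hψ : a.hom ≫ q ≫ b.inv = spMap (ψ : B →ₐ[k] A)) {X : Over (Spec (CommRingCat.of K))} (v : X ⟶ Red.bc σ G) :
    toA b (v ≫ (Over.pullback σ).map q) = toA a v ≫ spMap ((bcA (K := K) ψ : K ⊗[k] B →ₐ[K] K ⊗[k] A)) := by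
  have h1 : (Over.pullback σ).map q ≫ (Over.pullback σ).map b.inv =
      (Over.pullback σ).map a.inv ≫ (Over.pullback σ).map (spMap (ψ : B →ₐ[k] A)) := by
    rw [← Functor.map_comp, ← Functor.map_comp, ← hψ, Iso.inv_hom_id_assoc]
  simp only [toA, Category.assoc, reassoc_of% h1, bc_spMap]

theorem toA_eq_one_iff (a : sp k A ≅ G) [IsMonHom a.inv] {X : Over (Spec (CommRingCat.of K))}
    (v : X ⟶ Red.bc σ G) : toA a v = toUnit X ≫ η[sp K (K ⊗[k] A)] ↔ v = 1 := by
  have h1 : η[Red.bc σ G] ≫ ((Over.pullback σ).map a.inv ≫ (bcIso (k := k) (K := K) A).hom) =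
      η[sp K (K ⊗[k] A)] := IsMonHom.one_hom _
  haveI hm : Mono ((Over.pullback σ).map a.inv ≫ (bcIso (k := k) (K := K) A).hom) :=
    @mono_comp _ _ _ _ _ _ (@IsIso.mono_of_iso _ _ _ _ _ (Functor.map_isIso _ _)) _
      (@IsIso.mono_of_iso _ _ _ _ _ (Iso.isIso_hom _))
  refine Iff.trans ?_ (hm.right_cancellation v 1 |> fun h => ⟨h, fun e => e ▸ rfl⟩)
  rw [Hom.one_def, Category.assoc (toUnit X), h1]
  rfl

/-- A map from a spectrum is given by an algebra map; its composite with `q` is trivial exactly when the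
composite algebra map is the counit. -/
theorem exists_rho (a : sp k A ≅ G) (b : sp k B ≅ Q) [IsMonHom a.inv] [IsMonHom b.inv] (q : G ⟶ Q) (ψ : B →ₐc[k] A)
    (hψ : a.hom ≫ q ≫ b.inv = spMap (ψ : B →ₐ[k] A)) {C : Type u} [CommRing C] [HopfAlgebra K C]
    (v : sp K C ⟶ Red.bc σ G) [IsMonHom v] :
    ∃ ρ : K ⊗[k] A →ₐc[K] C, toA a v = spMap (ρ : K ⊗[k] A →ₐ[K] C) ∧
      ∀ {C' : Type u} [CommRing C'] [Algebra K C'] (π : C →ₐ[K] C'),
        spMap π ≫ v ≫ (Over.pullback σ).map q = 1 ↔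
          ∀ z, π (ρ (bcA (K := K) ψ z)) = algebraMap K C' (Coalgebra.counit (R := K) z) := by
  haveI := isMonHom_toA a v
  obtain ⟨ρ, hρ⟩ := exists_bialgHom (A := C) (B := K ⊗[k] A) (toA a v)
  refine ⟨ρ, hρ, fun {C'} _ _ π => ?_⟩
  have h : toA b (spMap π ≫ v ≫ (Over.pullback σ).map q) =
      spMap ((π.comp (ρ : K ⊗[k] A →ₐ[K] C)).comp (bcA (K := K) ψ : K ⊗[k] B →ₐ[K] K ⊗[k] A)) := by
    rw [← Category.assoc, toA_comp a b q ψ hψ,
      show toA a (spMap π ≫ v) = spMap π ≫ toA a v from Category.assoc _ _ _, hρ, spMap_comp, spMap_comp]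
  rw [← toA_eq_one_iff b, h, ← Hom.one_def, spMap_eq_one_iff]
  rfl

end Groth.Agent.SolvGrp.Groth
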