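import Groth.Agent.SolvGrp.GrothCases

/-! A derivation which is not nilpotent in the adjoint group cuts the group down. -/

set_option backward.isDefEq.respectTransparency false
set_option backward.isDefEq.respectTransparency.types false
set_option linter.style.haveILetI false
set_option synthInstance.maxHeartbeats 1000000

universe u

open CategoryTheory MonoidalCategory CartesianMonoidalCategory MonObj GrpObj AlgebraicGeometry
open scoped TensorProduct
open WithConv

noncomputable section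

namespace Groth.Agent.SolvGrp.Groth

open GrpSchLib GrpSchLib.AffineHopf GrpSchLib.Kunneth GrpSchLib.LineGroups WeilCmp.Unip AGFLib AGFLib.Gen
  AGFLib.BorelFixed AGFLib.BorelExist

variable {k : Type u} [Field k]

theorem IsTopNilp.pull {A B : Type u} [CommRing A] [HopfAlgebra k A] [CommRing B] [HopfAlgebra k B]
    {X : CartDual.D k A} (h : IsTopNilp X) (φ : B →ₐc[k] A) : IsTopNilp (pull φ X) := fun b => by
  obtain ⟨n, hn⟩ := h (φ b)
  exact ⟨n, fun m hm => by rw [pull_pow, pull_apply, hn m hm]⟩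

/-- The hull of a derivation is connected. -/
theorem connectedSpace_hull {A : Type u} [CommRing A] [HopfAlgebra k A] {X : CartDual.D k A} (hX : IsDer X)
    (hsep : ∀ f : A, (∀ n, (X ^ n).ofConv f = 0) → f = 0) : ConnectedSpace (sp k A).left := by
  haveI : Nontrivial A := (Bialgebra.counitAlgHom k A).toRingHom.domain_nontrivial
  refine QRepLib.connectedSpace_of_idempotent fun e he => ?_
  have key : ∀ e : A, IsIdempotentElem e → Coalgebra.counit (R := k) e = 0 → e = 0 := fun e he h0 => by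
    refine hsep e fun n => pow_form_eq_zero_of_mem hX n (n + 1) e ?_ (Nat.lt_succ_self n)
    rw [← he.pow_succ_eq n]
    exact Ideal.pow_mem_pow h0 _
  have h : IsIdempotentElem (Coalgebra.counit (R := k) e) := he.map (Bialgebra.counitAlgHom k A)
  rcases IsIdempotentElem.iff_eq_zero_or_one.mp h with h0 | h1
  · exact Or.inl (key e he h0)
  · refine Or.inr (sub_eq_zero.mp (key (1 - e) he.one_sub ?_)).symm
    rw [map_sub, Bialgebra.counit_one, h1, sub_self]

variable {K : Type u} [Field K] [Algebra k K] [IsAlgClosed K]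

local notation "σ" => Spec.map (CommRingCat.ofHom (algebraMap k K))
local notation "PK" => 𝟙_ (Over (Spec (CommRingCat.of K)))

variable {G : Over (Spec (CommRingCat.of k))} [GrpObj G] [IsAffine G.left] [Smooth G.hom]
  [ConnectedSpace G.left] (D : Adj G)

/-- If the maximal tori of a group die in the target, its image is unipotent. -/
theorem exists_unipotent_image {C Q : Over (Spec (CommRingCat.of K))} [GrpObj C] [GrpObj Q] [IsAffine C.left]
    [Smooth C.hom] [ConnectedSpace C.left] [IsAffine Q.left] [Smooth Q.hom] (v : C ⟶ Q) [IsMonHom v]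
    {W : Over (Spec (CommRingCat.of K))} [GrpObj W] (iW : W ⟶ C) (hW : AGF.IsMaxTorus iW) (hv : iW ≫ v = 1) :
    ∃ (R : Type u) (_ : CommRing R) (_ : HopfAlgebra K R) (p : C ⟶ sp K R) (m : sp K R ⟶ Q),
      IsMonHom p ∧ IsMonHom m ∧ p ≫ m = v ∧ CoradFil.Exh (Submodule.span K {(1 : R)}) := by
  haveI : IsReduced C.left := isReduced_of_smooth_field C.hom
  haveI : IsReduced Q.left := isReduced_of_smooth_field Q.hom
  haveI : LocallyOfFiniteType C.hom := inferInstance
  haveI : LocallyOfFiniteType Q.hom := inferInstance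
  haveI : QuasiCompact C.hom := inferInstance
  haveI : QuasiCompact Q.hom := inferInstance
  obtain ⟨I, _, p, m, hp, hm, hpm, hcl, hfl, hsurj, hlI, hqI⟩ := ImageFactor.exists_image v
  haveI := hp
  haveI := hm
  haveI := hcl
  haveI := hfl
  haveI := hsurj
  haveI := hlI
  haveI : IsAffine I.left := isAffine_of_isAffineHom m.left
  haveI : Smooth I.hom := smooth_of_quotient p
  haveI : IsReduced I.left := isReduced_of_smooth_field I.hom
  haveI : IsSeparated I.hom := GrpSchLib.AntiAffine.isSeparated_grp I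
  haveI : Mono m := mono_of_closedImmersion m
  have hu : ∀ y : PK ⟶ I, IsUnipPt y := by
    intro y
    obtain ⟨z, rfl⟩ := exists_of_mem_range p y (p.left.surjective _)
    obtain ⟨s, w, hz, -, hs, hw, -⟩ := exists_jordan z
    haveI := hW.1
    obtain ⟨x, t, ht⟩ := exists_conj_maxTorus iW hW s hs
    change t ≫ iW = x * s * x⁻¹ at ht
    have h1 : (x * s * x⁻¹) ≫ v = 1 := by rw [← ht, Category.assoc, hv, MonObj.comp_one]
    rw [MonObj.mul_comp, MonObj.mul_comp, GrpObj.inv_comp, mul_inv_eq_one, mul_eq_left] at h1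
    have h2 : s ≫ p = 1 := by rw [← cancel_mono m, Category.assoc, hpm, h1, MonObj.one_comp]
    rw [hz, MonObj.mul_comp, h2, _root_.one_mul]
    exact (map_isSsPt_isUnipPt p w).2 hw
  obtain ⟨R, _, _, ⟨eR⟩⟩ := exists_hopf I
  let r : sp K R ≅ I := (Grp.forget _).mapIso eR
  haveI : IsMonHom r.hom := eR.hom.hom.isMonHom_hom
  haveI : IsMonHom r.inv := eR.inv.hom.isMonHom_hom
  haveI : LocallyOfFiniteType (sp K R).hom := by rw [← Over.w r.hom]; infer_instance
  haveI := finiteType_of_sp (k := K) R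
  haveI : _root_.IsReduced R := isReduced_of_injective (coordEquiv eR) (coordEquiv eR).injective
  exact ⟨R, inferInstance, inferInstance, p ≫ r.inv, r.hom ≫ m, inferInstance, inferInstance,
    by rw [Category.assoc, Iso.inv_hom_id_assoc, hpm], CoradFil.exh_of_isUnipotent (isUnipotent_of_pts eR hu)⟩

/-- A derivation which is not nilpotent in the adjoint group gives a torus. -/
theorem Adj.hasTorus_of_not_nilp {X : CartDual.D k D.A} (hX : IsDer X) (hn : ¬ IsTopNilp (pull D.ψ X))
    (IH : ∀ (C : Over (Spec (CommRingCat.of k))) [GrpObj C] [IsAffine C.left] [Smooth C.hom] [ConnectedSpace C.left],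
      topologicalKrullDim ↥C.left < topologicalKrullDim ↥G.left → HasTorus (algebraMap k K) C) :
    HasTorus (algebraMap k K) G := by
  obtain ⟨A', _, _, π, X', hco, hft, hπ, hX', hXX', hsep⟩ := exists_hull hX
  haveI := hco
  haveI := hft
  let x₀ : sp k A' ⟶ G := spMap (π : D.A →ₐ[k] A') ≫ D.a.hom
  haveI : IsMonHom x₀ := inferInstance
  let mk : A' →ₐc[k] A' ⧸ UniPart.multIdeal k A' := Bialgebra.Quotient.mkBialgHom (R := k) (UniPart.multIdeal k A')
  let u : sp k (A' ⧸ UniPart.multIdeal k A') ⟶ G := spMap (mk : A' →ₐ[k] A' ⧸ UniPart.multIdeal k A') ≫ x₀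
  haveI : IsMonHom u := inferInstance
  have hqx : x₀ ≫ D.q = spMap ((π.comp D.ψ : D.B →ₐc[k] A') : D.B →ₐ[k] A') ≫ D.b.hom := by
    rw [show spMap ((π.comp D.ψ : D.B →ₐc[k] A') : D.B →ₐ[k] A') =
      spMap (π : D.A →ₐ[k] A') ≫ spMap (D.ψ : D.B →ₐ[k] D.A) by rw [spMap_comp]; rfl, ← D.hψ]
    simp [x₀]
  -- the multiplicative part is not central
  have hu : u ≫ D.q ≠ 1 := by
    intro h
    refine hn ?_
    rw [← hXX', show pull D.ψ (pull π X') = pull (π.comp D.ψ) X' from rfl]
    refine isTopNilp_of_multIdeal hX' (π.comp D.ψ) fun z => ?_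
    have h1 : (u ≫ D.q) ≫ D.b.inv = 1 := by rw [h, MonObj.one_comp]
    rw [Category.assoc (spMap _) x₀, hqx, Category.assoc, Category.assoc, Iso.hom_inv_id, Category.comp_id,
      spMap_comp, spMap_eq_one_iff] at h1
    refine Ideal.Quotient.eq_zero_iff_mem.mp ?_
    rw [map_sub, sub_eq_zero]
    exact (h1 z).trans (AlgHom.commutes (Ideal.Quotient.mkₐ k _) _).symm
  haveI : IsAffineHom G.hom := isAffineHom_of_isAffine G.hom
  obtain ⟨C, _, c, hc, hcl, hsm⟩ := Groth.Agent.S5247.result _ G (UniPart.isMultTypeFT_multPart (k := k) (A := A'))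
    inferInstance inferInstance u
  haveI := hc.1
  haveI := hcl
  haveI := hsm
  haveI : Mono c := hc.2.1
  haveI : IsAffine C.left := isAffine_of_isAffineHom c.left
  -- the hull lies in the centralizer
  obtain ⟨z₀, hz₀⟩ := (hc.2.2 (sp k A') x₀).mpr fun X' y h => by
    rw [show h ≫ u = (h ≫ spMap (mk : A' →ₐ[k] A' ⧸ UniPart.multIdeal k A')) ≫ x₀ from (Category.assoc _ _ _).symm,
      ← MonObj.mul_comp, ← MonObj.mul_comp]
    haveI : IsCommMonObj (sp k A') := inferInstance
    rw [_root_.mul_comm]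
  obtain ⟨C₀, _, i₀, hi₀, hci₀, hfl, -, hgi, hcpt⟩ := GrpSchLib.exists_identityComponent (G := C)
  haveI := hi₀
  haveI := hci₀
  haveI := hfl
  haveI := hgi
  haveI := hcpt
  haveI : LocallyOfFinitePresentation i₀.left := by
    haveI : LocallyOfFiniteType (i₀.left ≫ C.hom) := inferInstance
    haveI : LocallyOfFinitePresentation (i₀.left ≫ C.hom) := AlgSpPts.locallyOfFinitePresentation_of_comp _ (𝟙 _)
    exact AlgSpPts.locallyOfFinitePresentation_of_comp i₀.left C.hom
  haveI : IsOpenImmersion i₀.left := IsOpenImmersion.of_flat_of_mono _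
  haveI : Smooth C₀.hom := by rw [← Over.w i₀]; infer_instance
  haveI : IrreducibleSpace C₀.left := GeometricallyIrreducible.irreducibleSpace_of_subsingleton C₀.hom
  haveI : IsAffine C₀.left := isAffine_of_isAffineHom i₀.left
  haveI : IsClosedImmersion (i₀ ≫ c).left := inferInstanceAs (IsClosedImmersion (i₀.left ≫ c.left))
  haveI : IsMonHom (i₀ ≫ c) := inferInstance
  haveI : Mono (i₀ ≫ c) := (Over.forget _).mono_of_mono_map (inferInstanceAs (Mono (i₀ ≫ c).left))
  have hne := range_ne_univ u c hc D.i D.q D.hZ D.hk hu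
  have hlt : topologicalKrullDim ↥C₀.left < topologicalKrullDim ↥G.left :=
    dim_lt (i₀ ≫ c) fun h => hne (Set.eq_univ_of_univ_subset (by
      rw [← h, Over.comp_left, Scheme.Hom.comp_base, TopCat.coe_comp]
      exact Set.range_comp_subset_range _ _))
  obtain ⟨T, _, t, htm, htmono, hT, htmax⟩ := IH C₀ hlt
  haveI := htm
  haveI := htmono
  by_cases hcen : (t ≫ i₀ ≫ c) ≫ D.q = 1
  swap
  · haveI : Mono (t ≫ i₀ ≫ c) := mono_comp t (i₀ ≫ c)
    obtain ⟨C', _, c', hc'm, hc'cl, hc's, hc'con, hc', hmax⟩ :=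
      exists_centralizer (algebraMap k K) (t ≫ i₀ ≫ c) hT
    haveI := hc'm
    haveI := hc'cl
    haveI := hc's
    haveI := hc'con
    haveI : IsAffine C'.left := isAffine_of_isAffineHom c'.left
    exact hasTorus_of_sub (algebraMap k K) c' hmax
      (IH C' (dim_lt c' (range_ne_univ _ c' hc' D.i D.q D.hZ D.hk hcen)))
  exfalso
  refine hn ?_
  -- the hull lands in the identity component
  haveI := connectedSpace_hull hX' hsep
  have he : η[sp k A'] ≫ z₀ = η[C] := by
    rw [← cancel_mono c, Category.assoc, hz₀, IsMonHom.one_hom x₀, IsMonHom.one_hom c]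
  obtain ⟨w₀, hw₀⟩ := UnipRadSep.exists_fac_openSubgroup i₀ z₀ η[sp k A'] he
  have hw : w₀ ≫ i₀ ≫ c = x₀ := by rw [reassoc_of% hw₀, hz₀]
  haveI : IsMonHom w₀ := SekSuwaLib.CharLift.isMonHom_of_mul w₀ fun {Y} a b => by
    rw [← cancel_mono (i₀ ≫ c), Category.assoc, hw, MonObj.mul_comp, MonObj.mul_comp, Category.assoc, Category.assoc,
      hw]
  let F := Over.pullback σ
  obtain ⟨hA, hS, hC⟩ := Frob.bcG_props (algebraMap k K) (G := C₀)
  haveI := hA
  haveI := hS
  haveI := hC
  obtain ⟨hA', hS', hC'⟩ := Frob.bcG_props (algebraMap k K) (G := D.Q)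
  haveI := hA'
  haveI := hS'
  obtain ⟨R, _, _, p, m, hp, hm, hpm, hexh⟩ := exists_unipotent_image (F.map ((i₀ ≫ c) ≫ D.q)) (F.map t) htmax (by
    rw [← Functor.map_comp, ← Category.assoc, hcen]
    exact map_one F.homMonoidHom)
  haveI := hp
  haveI := hm
  haveI := isMonHom_toA (K := K) D.b m
  obtain ⟨cu, hcu⟩ := exists_bialgHom (A := R) (B := K ⊗[k] D.B) (toA D.b m)
  haveI := isMonHom_inv (bcIso (k := k) (K := K) A')
  obtain ⟨ρ, hρ⟩ := exists_bialgHom (A := K ⊗[k] A') (B := R) ((bcIso (k := k) (K := K) A').inv ≫ F.map w₀ ≫ p)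
  have e : spMap ((bcA (K := K) (π.comp D.ψ) : K ⊗[k] D.B →ₐ[K] K ⊗[k] A')) =
      spMap ((ρ.comp cu : K ⊗[k] D.B →ₐc[K] K ⊗[k] A') : K ⊗[k] D.B →ₐ[K] K ⊗[k] A') := by
    rw [show spMap ((ρ.comp cu : K ⊗[k] D.B →ₐc[K] K ⊗[k] A') : K ⊗[k] D.B →ₐ[K] K ⊗[k] A') =
      spMap (ρ : R →ₐ[K] K ⊗[k] A') ≫ spMap (cu : K ⊗[k] D.B →ₐ[K] R) by rw [spMap_comp]; rfl, ← hρ, ← hcu,
      ← Iso.inv_hom_id_assoc (bcIso (k := k) (K := K) A') (spMap _), ← bc_spMap]
    simp only [toA, Category.assoc, reassoc_of% hpm]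
    rw [← Functor.map_comp_assoc, ← Functor.map_comp_assoc]
    congr 3
    simp only [Category.assoc]
    rw [reassoc_of% hw, reassoc_of% hqx, Iso.hom_inv_id, Category.comp_id]
  have e' := spMap_injective e
  have h1 : IsTopNilp (pull (bcA (K := K) (π.comp D.ψ)) (bcD K X')) := by
    have h2 := ((isTopNilp_of_exh (hX'.bcD.pull ρ) hexh).pull cu)
    convert h2 using 1
    refine WithConv.ext (LinearMap.ext fun z => ?_)
    show (bcD K X').ofConv (bcA (K := K) (π.comp D.ψ) z) = (bcD K X').ofConv (ρ (cu z))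
    congr 1
    exact DFunLike.congr_fun e' z
  intro z
  obtain ⟨n, hn'⟩ := h1 ((1 : K) ⊗ₜ[k] z)
  refine ⟨n, fun j hj => ?_⟩
  have h3 := hn' j hj
  rw [pull_pow, pull_apply] at h3
  change (bcD K X' ^ j).ofConv ((1 : K) ⊗ₜ[k] π (D.ψ z)) = 0 at h3
  rw [pow_bcD_apply] at h3
  rw [pull_pow, pull_apply, ← hXX', pull_pow, pull_apply]
  exact (algebraMap k K).injective (h3.trans (map_zero _).symm)

end Groth.Agent.SolvGrp.Groth
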