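import Groth.Agent.SolvGrp.GrothAdj
import Groth.Agent.SolvGrp.GrothDense
import Groth.Agent.SolvGrp.Bridge
import Groth.Agent.SolvGrp.CharExtend
import Groth.Agent.UniPart.Centre
import Groth.Agent.UniPart.Rigid

/-! The two cases of Grothendieck's theorem on maximal tori. -/

set_option backward.isDefEq.respectTransparency false
set_option backward.isDefEq.respectTransparency.types false
set_option linter.style.haveILetI false
set_option synthInstance.maxHeartbeats 1000000

universe u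

open CategoryTheory MonoidalCategory CartesianMonoidalCategory MonObj GrpObj AlgebraicGeometry
open scoped TensorProduct
open WithConv

noncomputable section

namespace Groth.Agent.SolvGrp.Groth

open GrpSchLib GrpSchLib.AffineHopf GrpSchLib.Kunneth GrpSchLib.LineGroups WeilCmp.Unip AGFLib AGFLib.Gen
  AGFLib.BorelFixed AGFLib.BorelExist

variable {k : Type u} [Field k] {K : Type u} [Field K] [Algebra k K]

local notation "σ" => Spec.map (CommRingCat.ofHom (algebraMap k K))
local notation "PK" => 𝟙_ (Over (Spec (CommRingCat.of K)))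

omit [Algebra k K] in
theorem isMonHom_inv {X Y : Over (Spec (CommRingCat.of K))} [GrpObj X] [GrpObj Y] (e : X ≅ Y) [IsMonHom e.hom] :
    IsMonHom e.inv :=
  SekSuwaLib.CharLift.isMonHom_of_mul e.inv fun {Z} x y => by
    rw [← cancel_mono e.hom, Category.assoc, Iso.inv_hom_id, MonObj.mul_comp, MonObj.mul_comp,
      Category.assoc, Category.assoc, Iso.inv_hom_id, Category.comp_id, Category.comp_id]

/-- The torsion of a split torus is of multiplicative type. -/
theorem isMultTypeFT_tor (r N : ℕ) : SGA3x.IsMultTypeFT (sp K (MonoidAlgebra K (Chr r N))) := by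
  obtain ⟨e⟩ := nonempty_DS_iso K (Fin r → ZMod N)
  haveI : AddGroup.FG (ZMod N) := by
    rw [AddGroup.fg_iff]
    exact ⟨{1}, eq_top_iff.mpr fun x _ => AddSubgroup.mem_closure_singleton.mpr
      ⟨ZMod.cast x, by simp⟩, Set.finite_singleton _⟩
  refine ⟨_, 𝟙 _, inferInstance, inferInstance, fun V hV => ⟨V, hV.isCompact, by simp⟩, fun s =>
    ⟨⊤, trivial, Fin r → ZMod N, inferInstance, inferInstance, ?_⟩⟩
  obtain ⟨e₁⟩ := MultTypeBC.bc_iso (Scheme.Opens.ι (⊤ : (Spec (CommRingCat.of K)).Opens) ≫ 𝟙 _) e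
  obtain ⟨e₂⟩ := MultTypeBC.bc_DS (Scheme.Opens.ι (⊤ : (Spec (CommRingCat.of K)).Opens) ≫ 𝟙 _) (Fin r → ZMod N)
  exact ⟨e₁ ≪≫ e₂⟩

variable [IsAlgClosed K] {G : Over (Spec (CommRingCat.of k))} [GrpObj G] [IsAffine G.left] [Smooth G.hom]
  [ConnectedSpace G.left] (D : Adj G)

/-- A group of multiplicative type central in the adjoint group is central. -/
theorem Adj.isCen_of_quot {H : Over (Spec (CommRingCat.of K))} [GrpObj H] (hH : SGA3x.IsMultTypeFT H)
    (y : H ⟶ Red.bc σ G) [IsMonHom y] (hy : IsCen (y ≫ (Over.pullback σ).map D.q)) : IsCen y := by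
  obtain ⟨hA, hS, hC⟩ := Frob.bcG_props (algebraMap k K) (G := G)
  haveI := hA
  haveI := hS
  haveI := hC
  let GK := Red.bc σ G
  haveI : LocallyOfFiniteType GK.hom := inferInstance
  haveI : IsSeparated GK.hom := GrpSchLib.AntiAffine.isSeparated_grp GK
  let F : H ⊗ GK ⟶ GK := (fst H GK ≫ y) * snd H GK * (fst H GK ≫ y)⁻¹ * (snd H GK)⁻¹
  have hF : ∀ (X : Over (Spec (CommRingCat.of K))) (h : X ⟶ H) (g : X ⟶ GK),
      lift h g ≫ F = (h ≫ y) * g * (h ≫ y)⁻¹ * g⁻¹ := fun X h g => by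
    simp only [F, MonObj.comp_mul, GrpObj.comp_inv, lift_fst_assoc, lift_snd]
  have hcen : ∀ (X : Over (Spec (CommRingCat.of K))) (h : X ⟶ H) (g g' : X ⟶ GK),
      ((h ≫ y) * g * (h ≫ y)⁻¹ * g⁻¹) * g' = g' * ((h ≫ y) * g * (h ≫ y)⁻¹ * g⁻¹) := fun X h g g' => by
    refine central_of_comp_eq_one (algebraMap k K) D.i D.q D.hZ D.hk _ ?_ g'
    rw [MonObj.mul_comp, MonObj.mul_comp, MonObj.mul_comp, GrpObj.inv_comp, GrpObj.inv_comp, Category.assoc,
      hy X h (g ≫ _), mul_inv_cancel_right, mul_inv_cancel]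
  have h1 : F = 1 := UniPart.family_eq_one hH F (fun X a b g => by
    rw [hF, hF, hF, MonObj.mul_comp]
    have e : (a ≫ y) * (b ≫ y) * g * ((a ≫ y) * (b ≫ y))⁻¹ * g⁻¹ =
        (a ≫ y) * ((b ≫ y) * g * (b ≫ y)⁻¹ * g⁻¹) * g * (a ≫ y)⁻¹ * g⁻¹ := by group
    rw [e, ← hcen X b g (a ≫ y), ← hcen X b g ((a ≫ y) * g * (a ≫ y)⁻¹ * g⁻¹)]
    simp only [_root_.mul_assoc]) η[GK] fun X a => by
    rw [hF, ← Hom.one_def]
    simp
  intro X' a h
  have h2 := hF X' a h
  rw [h1, MonObj.comp_one, eq_comm, mul_inv_eq_one, mul_inv_eq_iff_eq_mul] at h2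
  exact h2

/-- If all rational derivations are nilpotent in the adjoint group, the level drops in the adjoint group. -/
theorem Adj.central_or_step [Infinite k] (p : ℕ) [CharP K p]
    (hn : ∀ X : CartDual.D k D.A, IsDer X → IsTopNilp (pull D.ψ X)) {n : ℕ} (h : NonCen K G p (n + 1)) :
    n ≠ 0 ∧ NonCen K D.Q p n := by
  obtain ⟨r, v, hv, hcen⟩ := h
  haveI := hv
  obtain ⟨ρ, hρv, hρ⟩ := Groth.exists_rho D.a D.b D.q D.ψ D.hψ v
  let θ : K ⊗[k] D.B →ₐc[K] MonoidAlgebra K (Lat r) := ρ.comp (bcA (K := K) D.ψ)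
  have hlam : ∀ i, IsTopNilp (pull θ (lam r i)) := fun i => by
    have := isTopNilp_of_rational D.ψ hn K (pull ρ (lam r i)) ((isDer_lam r i).pull ρ)
    convert this using 1
    exact WithConv.ext (LinearMap.ext fun _ => rfl)
  have hp : IsCen (tor K r p ≫ v) := by
    rw [D.isCen_iff, Category.assoc]
    exact (hρ _).mpr fun z => (red_eq_counit p θ hlam z).trans (by rfl)
  have hn0 : n ≠ 0 := by
    rintro rfl
    rw [zero_add, pow_one] at hcen
    exact hcen hp
  refine ⟨hn0, ?_⟩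
  have hp0 : p ≠ 0 := by
    rintro rfl
    rw [zero_pow (Nat.succ_ne_zero n)] at hcen
    exact hcen hp
  let pw : Lat r →* Lat r := powMonoidHom p
  have hpw : Function.Injective pw := fun x y hxy => by
    refine Multiplicative.toAdd.injective (funext fun i => ?_)
    have := congrArg (fun u : Lat r => Multiplicative.toAdd u i) hxy
    simpa [pw, hp0] using this
  let P : MonoidAlgebra K (Lat r) →ₐc[K] MonoidAlgebra K (Lat r) := MonoidAlgebra.mapDomainBialgHom K pw
  let Pa : MonoidAlgebra K (Lat r) →ₐ[K] MonoidAlgebra K (Lat r) := P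
  have hP : Function.Injective Pa := MonoidAlgebra.mapDomain_injective hpw
  have hrange : ∀ z, (θ : K ⊗[k] D.B →ₐ[K] MonoidAlgebra K (Lat r)) z ∈ Pa.range := by
    intro z
    show θ z ∈ Pa.range
    rw [← MonoidAlgebra.sum_coeff_single (θ z), Finsupp.sum]
    refine Subalgebra.sum_mem _ fun m hm => ?_
    have h1 := red_eq_one_of_coeff p θ hlam z m (Finsupp.mem_support_iff.1 hm)
    choose w hw using fun i => (ZMod.intCast_zmod_eq_zero_iff_dvd _ _).1
      ((red_apply r p m i).symm.trans (congrArg (fun u : Chr r p => Multiplicative.toAdd u i) h1))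
    refine ⟨MonoidAlgebra.single (Multiplicative.ofAdd w) ((θ z).coeff m), ?_⟩
    show MonoidAlgebra.mapDomain pw (MonoidAlgebra.single _ _) = _
    rw [MonoidAlgebra.mapDomain_single]
    congr 1
    refine Multiplicative.toAdd.injective (funext fun i => ?_)
    simp [pw, hw i]
  let ρ'a : K ⊗[k] D.B →ₐ[K] MonoidAlgebra K (Lat r) :=
    (AlgEquiv.ofInjective Pa hP).symm.toAlgHom.comp
      ((θ : K ⊗[k] D.B →ₐ[K] MonoidAlgebra K (Lat r)).codRestrict Pa.range hrange)
  have hρ' : ∀ z, P (ρ'a z) = θ z := fun z =>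
    congrArg Subtype.val ((AlgEquiv.ofInjective Pa hP).apply_symm_apply
      ((θ : K ⊗[k] D.B →ₐ[K] MonoidAlgebra K (Lat r)).codRestrict Pa.range hrange z))
  have hPP : Function.Injective (TensorProduct.map (Pa.toLinearMap) (Pa.toLinearMap)) :=
    TensorProduct.map_injective_of_flat_flat _ _ hP hP
  let ρ' : K ⊗[k] D.B →ₐc[K] MonoidAlgebra K (Lat r) := BialgHom.ofAlgHom ρ'a
    (AlgHom.ext fun z => by
      show Coalgebra.counit (R := K) (ρ'a z) = Coalgebra.counit (R := K) z
      rw [← CoalgHomClass.counit_comp_apply P, hρ', CoalgHomClass.counit_comp_apply])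
    (AlgHom.ext fun z => hPP (by
      show TensorProduct.map Pa.toLinearMap Pa.toLinearMap
          (Algebra.TensorProduct.map ρ'a ρ'a (Coalgebra.comul (R := K) z)) =
        TensorProduct.map Pa.toLinearMap Pa.toLinearMap (Coalgebra.comul (R := K) (ρ'a z))
      have e1 : TensorProduct.map Pa.toLinearMap Pa.toLinearMap (Coalgebra.comul (R := K) (ρ'a z)) =
          Coalgebra.comul (R := K) (P (ρ'a z)) := CoalgHomClass.map_comp_comul_apply P (ρ'a z)
      have e2 : ∀ t, TensorProduct.map Pa.toLinearMap Pa.toLinearMap (Algebra.TensorProduct.map ρ'a ρ'a t) =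
          TensorProduct.map (θ : K ⊗[k] D.B →ₐ[K] MonoidAlgebra K (Lat r)).toLinearMap
            (θ : K ⊗[k] D.B →ₐ[K] MonoidAlgebra K (Lat r)).toLinearMap t := fun t => by
        induction t using TensorProduct.induction_on with
        | zero => simp
        | tmul x y =>
          show P (ρ'a x) ⊗ₜ[K] P (ρ'a y) = θ x ⊗ₜ[K] θ y
          rw [hρ', hρ']
        | add s t hs ht => simp only [map_add, hs, ht]
      rw [e1, e2, hρ']
      exact CoalgHomClass.map_comp_comul_apply θ z))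
  haveI : IsMonHom (bcIso (k := k) (K := K) D.B).inv :=
    isMonHom_inv (bcIso (k := k) (K := K) D.B)
  let vQ : spT K r ⟶ Red.bc σ D.Q :=
    spMap (ρ' : K ⊗[k] D.B →ₐ[K] MonoidAlgebra K (Lat r)) ≫ (bcIso (k := k) (K := K) D.B).inv ≫
      (Over.pullback σ).map D.b.hom
  haveI : IsMonHom vQ := inferInstance
  have hback : ∀ {X : Over (Spec (CommRingCat.of K))} (x : X ⟶ Red.bc σ D.Q),
      toA D.b x ≫ (bcIso (k := k) (K := K) D.B).inv ≫ (Over.pullback σ).map D.b.hom = x := fun x => by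
    simp only [toA, Category.assoc, Iso.hom_inv_id_assoc, ← Functor.map_comp, Iso.inv_hom_id,
      CategoryTheory.Functor.map_id, Category.comp_id]
  have hPv : spMap (P : MonoidAlgebra K (Lat r) →ₐ[K] MonoidAlgebra K (Lat r)) ≫ vQ =
      v ≫ (Over.pullback σ).map D.q := by
    rw [← hback (v ≫ (Over.pullback σ).map D.q), toA_comp D.a D.b D.q D.ψ D.hψ v, hρv, spMap_comp,
      ← Category.assoc, spMap_comp]
    congr 2
    exact AlgHom.ext hρ'
  refine ⟨r, vQ, inferInstance, fun hQ => hcen ?_⟩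
  -- multiplication by `p` between the torsion levels
  let f : ℤ →+ ZMod (p ^ (n + 1)) := (Int.castAddHom _).comp (AddMonoidHom.mulLeft (p : ℤ))
  have hf : f ((p ^ n : ℕ) : ℤ) = 0 := by
    show (((p : ℤ) * ((p ^ n : ℕ) : ℤ) : ℤ) : ZMod (p ^ (n + 1))) = 0
    rw [ZMod.intCast_zmod_eq_zero_iff_dvd]
    push_cast
    rw [pow_succ']
  let lf : ZMod (p ^ n) →+ ZMod (p ^ (n + 1)) := ZMod.lift (p ^ n) ⟨f, hf⟩
  let mu : Chr r (p ^ n) →* Chr r (p ^ (n + 1)) :=
    (Pi.addMonoidHom fun i => lf.comp (Pi.evalAddMonoidHom (fun _ : Fin r => ZMod (p ^ n)) i)).toMultiplicative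
  have hμ : (red r (p ^ (n + 1))).comp pw = mu.comp (red r (p ^ n)) := by
    refine MonoidHom.ext fun m => Multiplicative.toAdd.injective (funext fun i => ?_)
    show ((Multiplicative.toAdd (pw m) i : ℤ) : ZMod (p ^ (n + 1))) = lf ((Multiplicative.toAdd m i : ℤ) : ZMod (p ^ n))
    rw [ZMod.lift_coe]
    simp [pw, f]
  have hsq : tor K r (p ^ (n + 1)) ≫ spMap (P : MonoidAlgebra K (Lat r) →ₐ[K] MonoidAlgebra K (Lat r)) =
      spMap (MonoidAlgebra.mapDomainBialgHom K mu :
        MonoidAlgebra K (Chr r (p ^ n)) →ₐ[K] MonoidAlgebra K (Chr r (p ^ (n + 1)))) ≫ tor K r (p ^ n) := by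
    rw [spMap_comp, spMap_comp]
    congr 1
    refine AlgHom.ext fun x => ?_
    show MonoidAlgebra.mapDomainBialgHom K (red r (p ^ (n + 1))) (P x) =
      MonoidAlgebra.mapDomainBialgHom K mu (MonoidAlgebra.mapDomainBialgHom K (red r (p ^ n)) x)
    rw [← BialgHom.comp_apply, ← BialgHom.comp_apply, ← MonoidAlgebra.mapDomainBialgHom_comp,
      ← MonoidAlgebra.mapDomainBialgHom_comp, hμ]
  refine D.isCen_of_quot (isMultTypeFT_tor r _) _ ?_
  rw [Category.assoc, ← hPv, reassoc_of% hsq]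
  exact hQ.comp _

end Groth.Agent.SolvGrp.Groth
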