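import Groth.Agent.UniPart.Split
import Groth.Agent.UniPart.MultPart
import Groth.Agent.GrpSchLib.HeightOnePoint
import Mathlib.LinearAlgebra.Eigenspace.Triangularizable

/-! Derivations at the counit: topological nilpotence, and what the multiplicative part detects. -/

universe u

open TensorProduct WithConv

noncomputable section

namespace Groth.Agent.SolvGrp.Groth

open GrpSchLib

variable {k : Type u} [Field k] {A : Type u} [CommRing A] [HopfAlgebra k A] {B : Type u} [CommRing B] [HopfAlgebra k B]

/-- A derivation at the counit. -/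
def IsDer (X : CartDual.D k A) : Prop :=
  ∀ a b, X.ofConv (a * b) = Coalgebra.counit (R := k) a * X.ofConv b + Coalgebra.counit (R := k) b * X.ofConv a

/-- The high powers of the form vanish on every element. -/
def IsTopNilp (Y : CartDual.D k B) : Prop := ∀ b, ∃ n, ∀ m, n ≤ m → (Y ^ m).ofConv b = 0

/-- The pullback of a form. -/
def pull (φ : B →ₐc[k] A) (X : CartDual.D k A) : CartDual.D k B :=
  toConv (X.ofConv ∘ₗ ((φ : B →ₐ[k] A) : B →ₗ[k] A))

theorem pull_apply (φ : B →ₐc[k] A) (X : CartDual.D k A) (b : B) : (pull φ X).ofConv b = X.ofConv (φ b) := rfl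

theorem IsDer.pull {X : CartDual.D k A} (hX : IsDer X) (φ : B →ₐc[k] A) : IsDer (pull φ X) := fun a b => by
  simp only [pull_apply, map_mul, hX (φ a) (φ b), CoalgHomClass.counit_comp_apply]

theorem formOp_pull (φ : B →ₐc[k] A) (X : CartDual.D k A) (b : B) :
    φ (formOp (pull φ X) b) = formOp X (φ b) := by
  rw [formOp_apply, formOp_apply, ← CoalgHomClass.map_comp_comul_apply φ b]
  generalize Coalgebra.comul (R := k) b = t
  induction t using TensorProduct.induction_on with
  | zero => simp
  | tmul x y => simp [pull_apply]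
  | add s t hs ht => simp only [map_add, hs, ht]

theorem formOp_one (a : A) : formOp (1 : CartDual.D k A) a = a := by
  rw [formOp_apply]
  have h : (1 : CartDual.D k A).ofConv = Coalgebra.counit := by ext x; simp [LinearMap.convOne_apply]
  rw [h, Coalgebra.lTensor_counit_comul, TensorProduct.rid_tmul, one_smul]

theorem formOp_pow (Y : CartDual.D k A) : ∀ (m : ℕ) (x : A), (formOp Y ^ m) x = formOp (Y ^ m) x
  | 0, x => by rw [pow_zero, pow_zero, formOp_one]; rfl
  | m + 1, x => by rw [pow_succ', pow_succ', Module.End.mul_apply, formOp_pow Y m, formOp_mul]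

theorem pow_apply (Y : CartDual.D k A) (m : ℕ) (x : A) :
    (Y ^ m).ofConv x = Coalgebra.counit (R := k) ((formOp Y ^ m) x) := by
  rw [formOp_pow, counit_formOp]

theorem pull_pow (φ : B →ₐc[k] A) (X : CartDual.D k A) (m : ℕ) : pull φ X ^ m = pull φ (X ^ m) := by
  refine WithConv.ext (LinearMap.ext fun b => ?_)
  rw [pull_apply, pow_apply, pow_apply]
  have h : φ ((formOp (pull φ X) ^ m) b) = (formOp X ^ m) (φ b) := by
    induction m with
    | zero => simp
    | succ m ih => rw [pow_succ', pow_succ', Module.End.mul_apply, Module.End.mul_apply, formOp_pull, ih]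
  rw [← h]
  exact (CoalgHomClass.counit_comp_apply φ _).symm

/-- Every element lies in a finite-dimensional subspace stable under all the invariant operators. -/
theorem exists_stable (b : B) : ∃ U : Submodule k B, Module.Finite k U ∧ b ∈ U ∧
    (∀ (Y : CartDual.D k B), ∀ u ∈ U, formOp Y u ∈ U) ∧
      ∀ u ∈ U, Coalgebra.comul (R := k) u ∈ LinearMap.range (U.subtype.rTensor B) := by
  obtain ⟨U, hU, hb, hs⟩ := ComodLib.exists_finite_subcomod_mem (k := k) (C := B) (V := B) b
  refine ⟨U, hU, hb, fun Y u hu => ?_, hs⟩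
  obtain ⟨t, ht⟩ := hs u hu
  rw [formOp_apply, show Coalgebra.comul (R := k) u = U.subtype.rTensor B t from ht.symm]
  clear ht
  induction t using TensorProduct.induction_on with
  | zero => simp
  | tmul x y => simpa using U.smul_mem _ x.2
  | add s t hs ht => simp only [map_add]; exact U.add_mem hs ht

/-- The order of nilpotence is bounded independently of the form. -/
theorem exists_bound (b : B) : ∃ d : ℕ, ∀ Y : CartDual.D k B, IsTopNilp (k := k) Y → ∀ m, d ≤ m → (Y ^ m).ofConv b = 0 := by
  obtain ⟨U, _, hb, hD, hΔ⟩ := exists_stable (k := k) b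
  refine ⟨Module.finrank k U, fun Y hY m hm => ?_⟩
  let D : Module.End k ↥U := (formOp Y).restrict (hD Y)
  have hDc : ∀ (m : ℕ) (u : U), ((D ^ m) u : B) = (formOp Y ^ m) u := by
    intro m
    induction m with
    | zero => intro u; rfl
    | succ m ih => intro u; rw [pow_succ', pow_succ', Module.End.mul_apply, Module.End.mul_apply, ← ih]; rfl
  have hn : IsNilpotent D := Module.End.isNilpotent_iff_of_finite.mpr fun u => by
    obtain ⟨t, ht⟩ := hΔ u.1 u.2
    obtain ⟨S, hS⟩ := TensorProduct.exists_finset (R := k) t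
    choose n hn using hY
    refine ⟨S.sup fun p => n p.2, Subtype.ext ?_⟩
    rw [hDc, formOp_pow, formOp_apply, show Coalgebra.comul (R := k) (u : B) = U.subtype.rTensor B t from ht.symm, hS]
    simp only [map_sum, LinearMap.rTensor_tmul, LinearMap.lTensor_tmul, TensorProduct.rid_tmul, ZeroMemClass.coe_zero]
    exact Finset.sum_eq_zero fun p hp => by
      rw [hn p.2 _ (Finset.le_sup (f := fun p => n p.2) hp), zero_smul]
  obtain ⟨N, hN⟩ := hn
  have h0 : D ^ Module.finrank k U = 0 := by
    have h1 : D.charpoly = Polynomial.X ^ Module.finrank k U :=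
      ((LinearMap.charpoly_nilpotent_tfae D).out 0 1).mp (show IsNilpotent D from ⟨N, hN⟩)
    have h2 := D.aeval_self_charpoly
    rwa [h1, map_pow, Polynomial.aeval_X] at h2
  have h3 : (D ^ m) (⟨b, hb⟩ : U) = 0 := by rw [pow_eq_zero_of_le hm h0]; rfl
  rw [pow_apply, show (formOp Y ^ m) b = ((D ^ m) ⟨b, hb⟩ : B) from (hDc m ⟨b, hb⟩).symm, h3]
  simp

/-- A derivation at the counit of a unipotent Hopf algebra is topologically nilpotent. -/
theorem isTopNilp_of_exh {X : CartDual.D k A} (hX : IsDer X) (h : CoradFil.Exh (Submodule.span k {(1 : A)})) :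
    IsTopNilp X := by
  have key : ∀ (r : ℕ) (a : A), a ∈ UniPart.W k A r → ∀ m, r < m → (formOp X ^ m) a = 0 := by
    intro r
    induction r with
    | zero =>
      intro a ha m hm
      obtain ⟨c, rfl⟩ := UniPart.exists_eq_of_mem_zero ha
      obtain ⟨m, rfl⟩ : ∃ j, m = j + 1 := ⟨m - 1, by omega⟩
      rw [pow_succ, Module.End.mul_apply, map_smul,
        show formOp X (1 : A) = 0 by
          rw [formOp_apply, Bialgebra.comul_one, Algebra.TensorProduct.one_def]
          simp [deriv_apply_one hX]]
      simp
    | succ r ih =>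
      intro a ha m hm
      obtain ⟨m, rfl⟩ : ∃ j, m = j + 1 := ⟨m - 1, by omega⟩
      obtain ⟨t, ht⟩ := UniPart.mem_W_succ.1 ha
      rw [pow_succ, Module.End.mul_apply, formOp_apply,
        show Coalgebra.comul (R := k) a = (UniPart.W k A r).subtype.rTensor A t + a ⊗ₜ[k] (1 : A) by
          rw [ht, sub_add_cancel]]
      simp only [map_add, LinearMap.lTensor_tmul, deriv_apply_one hX, TensorProduct.tmul_zero, map_zero, add_zero]
      clear ht
      induction t using TensorProduct.induction_on with
      | zero => simp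
      | tmul x y => simp [ih x.1 x.2 m (by omega)]
      | add s t hs ht => simp only [map_add, hs, ht, add_zero]
  intro a
  obtain ⟨r, hr⟩ := h a
  exact ⟨r + 1, fun m hm => by rw [pow_apply, key r a hr m (by omega), map_zero]⟩

section BaseChange

variable (K : Type u) [Field K] [Algebra k K]

/-- The extension of scalars of a form. -/
def bcD (X : CartDual.D k A) : CartDual.D K (K ⊗[k] A) :=
  toConv ((TensorProduct.AlgebraTensorModule.rid k K K).toLinearMap ∘ₗ X.ofConv.baseChange K)

variable {K}

theorem bcD_tmul (X : CartDual.D k A) (c : K) (a : A) :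
    (bcD K X).ofConv (c ⊗ₜ[k] a) = X.ofConv a • c := by
  simp [bcD]

theorem IsDer.bcD {X : CartDual.D k A} (hX : IsDer X) : IsDer (bcD K X) := by
  intro x y
  induction x using TensorProduct.induction_on with
  | zero => simp
  | add s t hs ht => simp only [add_mul, map_add, hs, ht]; ring
  | tmul c a =>
    induction y using TensorProduct.induction_on with
    | zero => simp
    | add s t hs ht => simp only [mul_add, map_add, hs, ht]; ring
    | tmul d b =>
      simp only [Algebra.TensorProduct.tmul_mul_tmul, bcD_tmul, hX a b, TensorProduct.counit_tmul,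
        CommSemiring.counit_apply, smul_eq_mul, Algebra.smul_def, map_add, map_mul]
      ring

theorem formOp_bcD (X : CartDual.D k A) (c : K) (a : A) :
    formOp (bcD K X) (c ⊗ₜ[k] a) = c ⊗ₜ[k] formOp X a := by
  rw [formOp_apply, formOp_apply, TensorProduct.comul_tmul]
  generalize Coalgebra.comul (R := k) a = t
  induction t using TensorProduct.induction_on with
  | zero => simp
  | add s t hs ht => simp only [map_add, TensorProduct.tmul_add, hs, ht]
  | tmul p q => simp [bcD_tmul, TensorProduct.smul_tmul', mul_comm]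

theorem pow_formOp_bcD (X : CartDual.D k A) (c : K) : ∀ (m : ℕ) (a : A),
    (formOp (bcD K X) ^ m) (c ⊗ₜ[k] a) = c ⊗ₜ[k] (formOp X ^ m) a
  | 0, a => by simp
  | m + 1, a => by
    rw [pow_succ', pow_succ', Module.End.mul_apply, Module.End.mul_apply, pow_formOp_bcD X c m a, formOp_bcD]

theorem pow_bcD_apply (X : CartDual.D k A) (m : ℕ) (a : A) :
    (bcD K X ^ m).ofConv ((1 : K) ⊗ₜ[k] a) = algebraMap k K ((X ^ m).ofConv a) := by
  rw [pow_apply, pow_apply, pow_formOp_bcD]
  simp [Algebra.algebraMap_eq_smul_one]

end BaseChange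

section AlgClosed

variable {K : Type u} [Field K] {A : Type u} [CommRing A] [HopfAlgebra K A] {X : CartDual.D K A}

theorem pow_mul_eq_zero (hX : IsDer X) : ∀ (n : ℕ) (a b : ℕ) (u v : A), a + b ≤ n → (formOp X ^ a) u = 0 →
    (formOp X ^ b) v = 0 → (formOp X ^ (a + b)) (u * v) = 0 := by
  intro n
  induction n with
  | zero =>
    intro a b u v h hu hv
    obtain rfl : a = 0 := by omega
    obtain rfl : b = 0 := by omega
    simp at hu hv ⊢
    simp [hu]
  | succ n ih =>
    intro a b u v h hu hv
    rcases Nat.eq_zero_or_pos a with rfl | ha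
    · simp at hu; simp [hu]
    rcases Nat.eq_zero_or_pos b with rfl | hb
    · simp at hv; simp [hv]
    obtain ⟨a, rfl⟩ : ∃ j, a = j + 1 := ⟨a - 1, by omega⟩
    obtain ⟨b, rfl⟩ : ∃ j, b = j + 1 := ⟨b - 1, by omega⟩
    rw [show a + 1 + (b + 1) = (a + 1 + b) + 1 by omega, pow_succ, Module.End.mul_apply, formOp_leibniz hX, map_add]
    have h1 := ih (a + 1) b u (formOp X v) (by omega) hu (by rwa [← Module.End.mul_apply, ← pow_succ])
    have h2 := ih a (b + 1) (formOp X u) v (by omega) (by rwa [← Module.End.mul_apply, ← pow_succ]) hv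
    rw [h1, mul_comm, show a + 1 + b = a + (b + 1) by omega, h2, add_zero]

theorem formOp_groupLike {g : A} (hg : IsGroupLikeElem K g) : formOp X g = X.ofConv g • g := by
  rw [formOp_apply, hg.comul_eq_tmul_self]
  simp

theorem mem_maxGen_mul (hX : IsDer X) {g : A} (hg : IsGroupLikeElem K g) {v : A} {n : ℕ}
    (hv : (formOp X ^ n) v = 0) : g * v ∈ Module.End.maxGenEigenspace (formOp X) (X.ofConv g) := by
  rw [Module.End.mem_maxGenEigenspace]
  refine ⟨n, ?_⟩
  have h : ∀ m, ((formOp X - X.ofConv g • 1) ^ m) (g * v) = g * (formOp X ^ m) v := fun m => by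
    induction m with
    | zero => simp
    | succ m ih =>
      rw [pow_succ', pow_succ', Module.End.mul_apply, Module.End.mul_apply, ih, LinearMap.sub_apply,
        formOp_leibniz hX, formOp_groupLike hg, LinearMap.smul_apply, Module.End.one_apply,
        mul_smul_comm, mul_comm ((formOp X ^ m) v)]
      abel
  rw [h, hv, mul_zero]

end AlgClosed

/-- A derivation is topologically nilpotent on what the multiplicative part does not see. -/
theorem isTopNilp_of_multIdeal [Coalgebra.IsCocomm k A] {X : CartDual.D k A} (hX : IsDer X) (φ : B →ₐc[k] A)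
    (hφ : ∀ b, φ b - algebraMap k A (Coalgebra.counit (R := k) b) ∈ UniPart.multIdeal k A) :
    IsTopNilp (pull φ X) := by
  classical
  let K := AlgebraicClosure k
  let Y := bcD K X
  let D := formOp Y
  have hY : IsDer Y := hX.bcD
  let E : K → Submodule K (K ⊗[k] A) := Module.End.maxGenEigenspace D
  let εl : K ⊗[k] A →ₗ[K] K := Coalgebra.counit
  let P : Submodule K (K ⊗[k] A) := ⨆ μ, E μ ⊓ LinearMap.ker εl
  -- nilpotence on the component of the unit
  have hW : ∀ (r : ℕ) (b : K ⊗[k] A), b ∈ UniPart.W K (K ⊗[k] A) r → ∃ n, (D ^ n) b = 0 := by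
    intro r
    induction r with
    | zero =>
      intro b hb
      obtain ⟨c, rfl⟩ := UniPart.exists_eq_of_mem_zero hb
      refine ⟨1, ?_⟩
      rw [pow_one, map_smul, show D (1 : K ⊗[k] A) = 0 by
        show formOp Y 1 = 0
        rw [formOp_apply, Bialgebra.comul_one, Algebra.TensorProduct.one_def]
        simp [deriv_apply_one hY]]
      simp
    | succ r ih =>
      intro b hb
      obtain ⟨t, ht⟩ := UniPart.mem_W_succ.1 hb
      have hDb : ∃ n, (D ^ n) (D b) = 0 := by
        show ∃ n, (D ^ n) (formOp Y b) = 0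
        rw [formOp_apply, show Coalgebra.comul (R := K) b =
            (UniPart.W K (K ⊗[k] A) r).subtype.rTensor _ t + b ⊗ₜ[K] 1 by rw [ht, sub_add_cancel]]
        simp only [map_add, LinearMap.lTensor_tmul, deriv_apply_one hY, TensorProduct.tmul_zero, map_zero, add_zero]
        clear ht
        induction t using TensorProduct.induction_on with
        | zero => exact ⟨0, by simp⟩
        | tmul x y =>
          obtain ⟨n, hn⟩ := ih x.1 x.2
          exact ⟨n, by simp [hn]⟩
        | add s t hs ht =>
          obtain ⟨n, hn⟩ := hs; obtain ⟨n', hn'⟩ := ht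
          refine ⟨n + n', ?_⟩
          simp only [map_add]
          have h1 := congrArg (D ^ n') hn
          have h2 := congrArg (D ^ n) hn'
          rw [← Module.End.mul_apply, ← pow_add, map_zero, Nat.add_comm] at h1
          rw [← Module.End.mul_apply, ← pow_add, map_zero] at h2
          rw [h1, h2, add_zero]
      obtain ⟨n, hn⟩ := hDb
      exact ⟨n + 1, by rw [pow_succ, Module.End.mul_apply, hn]⟩
  -- the multiplicative ideal
  have hP : ∀ y ∈ UniPart.multIdeal k A, (1 : K) ⊗ₜ[k] y ∈ P := by
    letI := UniPart.hopfU k A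
    have hu : ∀ u : UniPart.U k A, Coalgebra.counit (R := k) (u : A) = 0 → ∀ z : K ⊗[k] A,
        ((1 : K) ⊗ₜ[k] (u : A)) * z ∈ P := by
      intro u hu0 z
      have hz := UniPart.mem_span_translates (K := K) z
      induction hz using Submodule.span_induction with
      | zero => simp
      | add a b _ _ ha hb => rw [mul_add]; exact P.add_mem ha hb
      | smul s a _ ha => rw [mul_smul_comm]; exact P.smul_mem s ha
      | mem w hw =>
        obtain ⟨g, b, hg, ⟨r, hb⟩, rfl⟩ := hw
        obtain ⟨n, hn⟩ := hW r b hb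
        obtain ⟨s, hs⟩ := u.2
        obtain ⟨m, hm⟩ : ∃ m, (D ^ m) ((1 : K) ⊗ₜ[k] (u : A)) = 0 := by
          clear hu0
          have : ∀ (s : ℕ) (a : A), a ∈ UniPart.W k A s → (formOp X ^ (s + 1)) a = 0 := by
            intro s
            induction s with
            | zero =>
              intro a ha
              obtain ⟨c, rfl⟩ := UniPart.exists_eq_of_mem_zero ha
              rw [pow_one, map_smul, formOp_apply, Bialgebra.comul_one, Algebra.TensorProduct.one_def]
              simp [deriv_apply_one hX]
            | succ s ih =>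
              intro a ha
              obtain ⟨t, ht⟩ := UniPart.mem_W_succ.1 ha
              rw [pow_succ, Module.End.mul_apply, formOp_apply,
                show Coalgebra.comul (R := k) a = (UniPart.W k A s).subtype.rTensor A t + a ⊗ₜ[k] (1 : A) by
                  rw [ht, sub_add_cancel]]
              simp only [map_add, LinearMap.lTensor_tmul, deriv_apply_one hX, TensorProduct.tmul_zero, map_zero,
                add_zero]
              clear ht
              induction t using TensorProduct.induction_on with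
              | zero => simp
              | tmul x y => simp [ih x.1 x.2]
              | add p q hp hq => simp only [map_add, hp, hq, add_zero]
          exact ⟨s + 1, by show (formOp (bcD K X) ^ _) _ = 0; rw [pow_formOp_bcD, this s _ hs, TensorProduct.tmul_zero]⟩
        refine Submodule.mem_iSup_of_mem (Y.ofConv g) ⟨?_, ?_⟩
        · rw [show (1 : K) ⊗ₜ[k] (u : A) * (g * b) = g * ((1 : K) ⊗ₜ[k] (u : A) * b) by ring]
          exact mem_maxGen_mul hY hg (pow_mul_eq_zero hY _ m n _ b le_rfl hm hn)
        · show εl _ = 0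
          rw [show εl ((1 : K) ⊗ₜ[k] (u : A) * (g * b)) = _ from Bialgebra.counit_mul _ _, TensorProduct.counit_tmul,
            hu0]
          simp
    intro y hy
    rw [UniPart.multIdeal, Ideal.map] at hy
    suffices ∀ z : K ⊗[k] A, ((1 : K) ⊗ₜ[k] y) * z ∈ P by simpa using this 1
    induction hy using Submodule.span_induction with
    | zero => intro z; simp
    | add a b _ _ ha hb => intro z; rw [TensorProduct.tmul_add, add_mul]; exact P.add_mem (ha z) (hb z)
    | smul s a _ ha =>
      intro z
      have := ha (((1 : K) ⊗ₜ[k] s) * z)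
      rwa [← mul_assoc, Algebra.TensorProduct.tmul_mul_tmul, mul_one, mul_comm a s, ← smul_eq_mul s a] at this
    | mem a ha =>
      intro z
      obtain ⟨u, hu1, rfl⟩ := ha
      refine hu u ?_ z
      have h : Coalgebra.counit (R := k) u = 0 := hu1
      rw [← h]
      exact CoalgHomClass.counit_comp_apply (UniPart.inclU k A) u
  let φK : K ⊗[k] B →ₐc[K] K ⊗[k] A := Bialgebra.TensorProduct.map (BialgHom.id K K) φ
  have hφK : ∀ z : K ⊗[k] B, φK z - algebraMap K _ (Coalgebra.counit (R := K) z) ∈ P := by
    intro z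
    induction z using TensorProduct.induction_on with
    | zero => simp
    | add p q hp hq =>
      rw [map_add, map_add, map_add, add_sub_add_comm]
      exact P.add_mem hp hq
    | tmul c b =>
      have e : φK (c ⊗ₜ[k] b) - algebraMap K _ (Coalgebra.counit (R := K) (c ⊗ₜ[k] b)) =
          c • ((1 : K) ⊗ₜ[k] (φ b - algebraMap k A (Coalgebra.counit (R := k) b))) := by
        rw [show φK (c ⊗ₜ[k] b) = c ⊗ₜ[k] φ b from rfl, TensorProduct.tmul_sub, smul_sub]
        congr 1
        · rw [TensorProduct.smul_tmul', smul_eq_mul, mul_one]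
        · rw [TensorProduct.smul_tmul', smul_eq_mul, mul_one, Algebra.algebraMap_eq_smul_one,
            Algebra.algebraMap_eq_smul_one, TensorProduct.counit_tmul, CommSemiring.counit_apply,
            Algebra.TensorProduct.one_def, TensorProduct.smul_tmul', TensorProduct.tmul_smul,
            TensorProduct.smul_tmul', smul_eq_mul, mul_one]
      rw [e]
      exact P.smul_mem c (hP _ (hφ b))
  have hind : iSupIndep E := Module.End.independent_maxGenEigenspace D
  -- no eigenvector with non-zero eigenvalue in the image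
  have hnoeig : ∀ z : K ⊗[k] B, ∀ μ : K, μ ≠ 0 → D (φK z) = μ • φK z → φK z = 0 := by
    intro z μ hμ hz
    have hmem : ∀ z' : K ⊗[k] B, D (φK z') = μ • φK z' → Coalgebra.counit (R := K) (φK z') = 0 := by
      intro z' hz'
      have h1 : φK z' ∈ E μ := (Module.End.mem_maxGenEigenspace _ _ _).mpr ⟨1, by simp [hz']⟩
      have h0 : (1 : K ⊗[k] A) ∈ E 0 := (Module.End.mem_maxGenEigenspace _ _ _).mpr ⟨1, by
        simp only [pow_one, zero_smul, sub_zero]
        show formOp Y 1 = 0
        rw [formOp_apply, Bialgebra.comul_one, Algebra.TensorProduct.one_def]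
        simp [deriv_apply_one hY]⟩
      have hle : P ≤ (E μ ⊓ LinearMap.ker εl) ⊔ ⨆ ν, ⨆ (_ : ν ≠ μ), E ν := iSup_le fun ν => by
        by_cases h : ν = μ
        · subst h; exact le_sup_left
        · exact le_sup_of_le_right (inf_le_left.trans (le_iSup₂_of_le ν h le_rfl))
      have h2 := hle (hφK z')
      obtain ⟨a, ⟨ha, ha0⟩, r, hr, har⟩ := Submodule.mem_sup.1 h2
      have h3 : φK z' - a ∈ ⨆ ν, ⨆ (_ : ν ≠ μ), E ν := by
        rw [show φK z' - a = r + algebraMap K _ (Coalgebra.counit (R := K) z') by
          linear_combination (norm := abel) -har]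
        refine Submodule.add_mem _ hr ?_
        rw [Algebra.algebraMap_eq_smul_one]
        exact Submodule.smul_mem _ _ (Submodule.mem_iSup_of_mem 0 (Submodule.mem_iSup_of_mem hμ.symm h0))
      have h4 : φK z' - a = 0 :=
        (Submodule.disjoint_def.mp (hind μ)) _ ((E μ).sub_mem h1 ha) h3
      rw [sub_eq_zero.mp h4]
      exact ha0
    refine (Module.forall_dual_apply_eq_zero_iff K _).mp fun f => ?_
    have h5 := hmem (formOp (pull φK (toConv f)) z) (by
      rw [formOp_pull, ← formOp_mul, mul_comm, formOp_mul]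
      show formOp _ (D (φK z)) = _
      rw [hz, map_smul])
    rwa [formOp_pull, counit_formOp] at h5
  intro b
  obtain ⟨U, _, hb, hUD, -⟩ := exists_stable (k := k) b
  let V : Submodule K (K ⊗[k] A) := (U.baseChange K).map (φK : K ⊗[k] B →ₗ[K] K ⊗[k] A)
  haveI : Module.Finite K (U.baseChange K) := Module.Finite.of_surjective
    (U.subtype.baseChange K).rangeRestrict (LinearMap.surjective_rangeRestrict _)
  haveI : Module.Finite K V := inferInstance
  have hφl : ∀ w, (φK : K ⊗[k] B →ₗ[K] K ⊗[k] A) w = φK w := fun _ => rfl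
  have hV : ∀ v ∈ V, D v ∈ V := by
    rintro _ ⟨w, hw, rfl⟩
    rw [Submodule.baseChange_eq_span] at hw
    induction hw using Submodule.span_induction with
    | zero => simp
    | add p q _ _ hp hq => rw [map_add, map_add]; exact V.add_mem hp hq
    | smul s p _ hp => rw [map_smul, map_smul]; exact V.smul_mem s hp
    | mem p hp =>
      obtain ⟨u, hu, rfl⟩ := hp
      refine ⟨(1 : K) ⊗ₜ[k] formOp (pull φ X) u, Submodule.tmul_mem_baseChange_of_mem _ (hUD _ _ hu), ?_⟩
      show (1 : K) ⊗ₜ[k] φ (formOp (pull φ X) u) = formOp (bcD K X) ((1 : K) ⊗ₜ[k] φ u)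
      rw [formOp_bcD, formOp_pull]
  let D' : Module.End K V := D.restrict hV
  have hD' : ∀ (μ : K), μ ≠ 0 → Module.End.maxGenEigenspace D' μ = ⊥ := by
    intro μ hμ
    rw [eq_bot_iff]
    intro v hv
    rw [Submodule.mem_bot]
    obtain ⟨n, hn⟩ := (Module.End.mem_maxGenEigenspace _ _ _).1 hv
    have hinj : Function.Injective (D' - μ • 1 : Module.End K V) := by
      rw [injective_iff_map_eq_zero]
      intro v' hv'
      obtain ⟨w, -, hw⟩ := v'.2
      refine Subtype.ext ?_
      rw [← hw, hφl]
      refine hnoeig w μ hμ ?_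
      rw [LinearMap.sub_apply, sub_eq_zero] at hv'
      have h8 := congrArg Subtype.val hv'
      rw [← hφl, hw]
      exact h8
    have hinj' := hinj.iterate n
    rw [← Module.End.coe_pow] at hinj'
    exact hinj' (hn.trans (map_zero _).symm)
  have htop : Module.End.maxGenEigenspace D' 0 = ⊤ := by
    rw [eq_top_iff, ← Module.End.iSup_maxGenEigenspace_eq_top D']
    exact iSup_le fun μ => by
      by_cases h : μ = 0
      · rw [h]
      · rw [hD' μ h]; exact bot_le
  have hbV : (1 : K) ⊗ₜ[k] φ b ∈ V :=
    ⟨(1 : K) ⊗ₜ[k] b, Submodule.tmul_mem_baseChange_of_mem _ hb, rfl⟩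
  obtain ⟨n, hn⟩ := (Module.End.mem_maxGenEigenspace _ _ _).1 (htop ▸ Submodule.mem_top :
    (⟨_, hbV⟩ : V) ∈ Module.End.maxGenEigenspace D' 0)
  replace hn : (D' ^ n) (⟨_, hbV⟩ : V) = 0 := by
    rw [zero_smul, show D' - 0 = D' from sub_zero D'] at hn
    exact hn
  refine ⟨n, fun m hm => ?_⟩
  rw [pull_pow, pull_apply]
  have h6 : (D' ^ m) (⟨_, hbV⟩ : V) = 0 := by
    obtain ⟨j, rfl⟩ := Nat.exists_eq_add_of_le hm
    rw [add_comm, pow_add, Module.End.mul_apply, hn, map_zero]
  have hc : ∀ (m : ℕ) (v : V), ((D' ^ m) v : K ⊗[k] A) = (D ^ m) v := by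
    intro m
    induction m with
    | zero => intro v; rfl
    | succ m ih => intro v; rw [pow_succ', pow_succ', Module.End.mul_apply, Module.End.mul_apply, ← ih]; rfl
  have h7 : (bcD K X ^ m).ofConv ((1 : K) ⊗ₜ[k] φ b) = 0 := by
    rw [pow_apply, show (formOp (bcD K X) ^ m) ((1 : K) ⊗ₜ[k] φ b) = _ from (hc m ⟨_, hbV⟩).symm, h6]
    simp
  rw [pow_bcD_apply] at h7
  exact (algebraMap k K).injective (h7.trans (map_zero _).symm)

end Groth.Agent.SolvGrp.Groth
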