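import Groth.Agent.SolvGrp.LunaPair
import Groth.Agent.SolvGrp.Bridge

/-! Unipotent subgroups of all Borel subgroups through a maximal torus lie in all Borel subgroups. -/

set_option backward.isDefEq.respectTransparency false
set_option backward.isDefEq.respectTransparency.types false
set_option linter.style.haveILetI false

universe u

open CategoryTheory MonoidalCategory CartesianMonoidalCategory MonObj AlgebraicGeometry
open scoped Matrix

namespace Groth.Agent.SolvGrp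

open GrpSchLib GrpSchLib.Kunneth GrpSchLib.LineGroups GrpSchLib.ProjLine WeilCmp.Unip AGFLib AGFLib.Gen AGFLib.BorelFixed
open AGFLib.BorelExist AGFLib.ProjAct

variable {k : Type u} [Field k] [IsAlgClosed k]

local notation "PT" => 𝟙_ (Over (Spec (CommRingCat.of k)))

/-- A unipotent group fixing a line inside the span of an orbit and a functional not vanishing on it has a one-point orbit. -/
theorem subsingleton_of_fixed {H : Over (Spec (CommRingCat.of k))} [GrpObj H] [IsAffine H.left] [Smooth H.hom]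
    [ConnectedSpace H.left] (hu : ∀ h : PT ⟶ H, IsUnipPt h) {s : ℕ} (hs : derivedSeries (PT ⟶ H) s = ⊥)
    {m : ℕ} {R : Matrix (Fin (m + 1)) (Fin (m + 1)) (Fn H)} (hR : IsRepMatrix R) (W₀ : Fin (m + 1) → k)
    (hspan : ∀ c : Fin (m + 1) → k, (∀ h : PT ⟶ H, c ⬝ᵥ (valM R h).mulVec W₀ = 0) → c = 0)
    (ζ : Fin (m + 1) → k) (hζ : ∀ h : PT ⟶ H, ∃ e : k, (valM R h).mulVec ζ = e • ζ)
    (c : Fin (m + 1) → k) (hc : ∀ h : PT ⟶ H, c ⬝ᵥ (valM R h).mulVec W₀ = c ⬝ᵥ W₀) (hcζ : c ⬝ᵥ ζ ≠ 0)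
    (x y : Fin (m + 1)) : x = y := by
  classical
  haveI : IsReduced H.left := isReduced_of_smooth_field H.hom
  have hb : c ⬝ᵥ W₀ ≠ 0 := fun h0 => hcζ (by
    rw [hspan c fun h => (hc h).trans h0, zero_dotProduct])
  have hR' := isRepMatrix_dualRep hR
  have key : ∀ q : Fin (m + 1) → k, q ⬝ᵥ ζ = 0 → q = 0 := by
    intro q hq
    by_contra hq0
    obtain ⟨Fh, hFh, hFh'⟩ := exists_hyperplane ζ
    obtain ⟨p, hp, hpF, hpfix⟩ := exists_fixed_line hs hR' Fh hFh q hq0 ((hFh' q hq0).mpr (by rw [dotProduct_comm]; exact hq))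
      fun h v hv hv' => by
        rw [hFh'] at hv' ⊢
        obtain ⟨e, he⟩ := hζ h
        have he0 : e ≠ 0 := fun h0 => mulVec_ne_zero hR h (v := ζ) (fun hz => hcζ (by rw [hz, dotProduct_zero]))
          (by rw [he, h0, zero_smul])
        have h1 := dot_dualRep hR h v ζ
        rw [he, dotProduct_smul, dotProduct_comm v ζ, hv', smul_eq_mul, mul_eq_zero] at h1
        rw [dotProduct_comm]
        exact h1.resolve_left he0
    rw [hFh', dotProduct_comm] at hpF
    have hconst : ∀ h, p ⬝ᵥ (valM R h).mulVec W₀ = p ⬝ᵥ W₀ := fun h => by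
      have h1 := dot_dualRep hR h p W₀
      rwa [eigen_unip hR' p hpfix (hu h)] at h1
    have h2 : p - ((p ⬝ᵥ W₀) / (c ⬝ᵥ W₀)) • c = 0 := hspan _ fun h => by
      rw [sub_dotProduct, smul_dotProduct, hconst, hc, smul_eq_mul, div_mul_cancel₀ _ hb, sub_self]
    rw [sub_eq_zero] at h2
    rw [h2, smul_dotProduct, smul_eq_mul, mul_eq_zero] at hpF
    exact hp (by rw [h2, hpF.resolve_right hcζ, zero_smul])
  by_contra hxy
  have h1 : ζ x = 0 := by
    have h2 := key (Pi.single y (ζ x) - Pi.single x (ζ y)) (by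
      rw [sub_dotProduct, single_dotProduct, single_dotProduct]; ring)
    simpa [Pi.single_apply, Ne.symm hxy] using congrFun h2 y
  have h3 := congrFun (key (Pi.single x 1) (by rw [single_dotProduct, h1, MulZeroClass.mul_zero])) x
  simp at h3

variable {G : Over (Spec (CommRingCat.of k))} [GrpObj G] [IsAffine G.left] [Smooth G.hom] [ConnectedSpace G.left]

/-- Luna: a connected unipotent subgroup contained in every Borel subgroup through a maximal torus lies in every Borel subgroup. -/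
theorem luna {B T H : Over (Spec (CommRingCat.of k))} [GrpObj B] [GrpObj T] [GrpObj H] (iB : B ⟶ G) [IsMonHom iB]
    (hB : Red.IsBorelOver k iB) (iT : T ⟶ G) (hT : AGF.IsMaxTorus iT) [IsAffine H.left] [Smooth H.hom]
    [ConnectedSpace H.left] (iH : H ⟶ G) [IsMonHom iH] (hu : ∀ h : PT ⟶ H, IsUnipPt h)
    (hH : ∀ g : PT ⟶ G, (∀ t, g⁻¹ * (t ≫ iT) * g ∈ rangePts iB) → ∀ h, g⁻¹ * (h ≫ iH) * g ∈ rangePts iB)
    (g : PT ⟶ G) (h₀ : PT ⟶ H) : g⁻¹ * (h₀ ≫ iH) * g ∈ rangePts iB := by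
  classical
  haveI := hT.1
  haveI := hB.2.1
  haveI := hB.2.2.1
  haveI := hB.2.2.2.1
  haveI : IsReduced G.left := isReduced_of_smooth_field G.hom
  haveI : IsReduced H.left := isReduced_of_smooth_field H.hom
  obtain ⟨haB, hlB, -, -, -⟩ := sub_props iB
  haveI := haB
  haveI : IsReduced B.left := isReduced_of_smooth_field B.hom
  obtain ⟨haT, hsT, hcT, -⟩ := torus_props hT.2.2.1
  haveI := haT
  haveI := hsT
  haveI := hcT
  haveI : IsReduced T.left := isReduced_of_smooth_field T.hom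
  have hsT1 : derivedSeries (PT ⟶ T) 1 = ⊥ := by
    rw [derivedSeries_one, commutator_def, Subgroup.commutator_eq_bot_iff_le_centralizer]
    exact fun x _ => Subgroup.mem_centralizer_iff.mpr fun y _ => (torus_commute hT.2.2.1 y x).eq
  haveI : Group.IsNilpotent (PT ⟶ H) := isNilpotent_pts hu
  obtain ⟨s, hs⟩ := (inferInstance : Group.IsSolvable (PT ⟶ H)).solvable
  obtain ⟨sB, hsB⟩ := hB.2.2.2.2.1
  obtain ⟨n, N, v₀, hv₀, hN, hfix, hstab, hspan⟩ := exists_borelRep iB
  have hN' := isRepMatrix_dualRep hN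
  obtain ⟨c₀, hc₀, -, hc₀fix⟩ := exists_fixed_line (hsB _) (isRepMatrix_restrict iB hN') Set.univ isClosed_univ v₀ hv₀
    (Set.mem_univ _) (fun _ _ _ _ => Set.mem_univ _)
  have hfix' : ∀ b ∈ rangePts iB, ∃ c : k, (valM (dualRep N) b).mulVec c₀ = c • c₀ := by
    rintro _ ⟨b, rfl⟩
    obtain ⟨c, hc⟩ := hc₀fix b
    exact ⟨c, by rw [← valM_restrict]; exact hc⟩
  obtain ⟨w, hw_def⟩ : ∃ w, w = (valM N g).mulVec v₀ := ⟨_, rfl⟩
  have hw : w ≠ 0 := hw_def ▸ mulVec_ne_zero hN g hv₀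
  let Ann : Set (Fin (n + 1) → k) := {q | ∀ h : PT ⟶ H, q ⬝ᵥ (valM N (h ≫ iH)).mulVec w = 0}
  obtain ⟨F, hF, hFmem, hFlift⟩ := exists_orbit iB hB hN v₀ hv₀ hfix
  have hFst : ∀ (x : PT ⟶ G) (v : Fin (n + 1) → k) (hv : v ≠ 0), cp (lineP v hv) ∈ F →
      cp (lineP ((valM N x).mulVec v) (mulVec_ne_zero hN x hv)) ∈ F := fun x v hv hvF => by
    obtain ⟨y, c, rfl⟩ := (hFmem v hv).mp hvF
    exact (hFmem _ _).mpr ⟨x * y, c, by rw [valM_mul hN, ← Matrix.mulVec_mulVec, Matrix.mulVec_smul]⟩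
  choose Hy hHy hHy' using fun q : Fin (n + 1) → k => exists_hyperplane q
  -- a fixed line in the span of the orbit
  obtain ⟨ζ, hζ0, hζF, hζfix⟩ := exists_fixed_line hs (isRepMatrix_restrict iH hN) (F ∩ ⋂ q ∈ Ann, Hy q)
    (hF.inter (isClosed_biInter fun q _ => hHy q)) w hw
    ⟨(hFmem w hw).mpr ⟨g, 1, by rw [one_smul, hw_def]⟩, Set.mem_iInter₂.mpr fun q hq => (hHy' q w hw).mpr (by
      simpa [valM_one hN] using hq 1)⟩
    (fun h v hv hv' => by
      obtain ⟨hvF, hvA⟩ := hv'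
      rw [Set.mem_iInter₂] at hvA
      refine ⟨?_, Set.mem_iInter₂.mpr fun q hq => (hHy' q _ _).mpr ?_⟩
      · have e : (valM (N.map (ev iH)) h).mulVec v = (valM N (h ≫ iH)).mulVec v := by rw [valM_restrict]
        rw [lineP_congr e _ (mulVec_ne_zero hN _ hv)]
        exact hFst _ v hv hvF
      · rw [valM_restrict, Matrix.dotProduct_mulVec]
        refine (hHy' _ v hv).mp (hvA _ fun h' => ?_)
        rw [← Matrix.dotProduct_mulVec, Matrix.mulVec_mulVec, ← valM_mul hN, ← MonObj.mul_comp]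
        exact hq _)
  obtain ⟨hζX, hζA⟩ := hζF
  rw [Set.mem_iInter₂] at hζA
  have hζ' : ∀ q ∈ Ann, q ⬝ᵥ ζ = 0 := fun q hq => (hHy' q ζ hζ0).mp (hζA q hq)
  -- a functional fixed by the subgroup, not vanishing on that line
  obtain ⟨g₂, hg₂, hne⟩ : ∃ g₂ : PT ⟶ G, (∀ t ∈ rangePts iT, g₂⁻¹ * t * g₂ ∈ rangePts iB) ∧
      (valM (dualRep N) g₂).mulVec c₀ ⬝ᵥ ζ ≠ 0 := by
    by_contra hcon
    push Not at hcon
    obtain ⟨ν, hν0, hνF, hνfix⟩ := exists_fixed_line hsT1 (isRepMatrix_restrict iT hN)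
      (F ∩ ⋂ g₂ ∈ {g₂ : PT ⟶ G | ∀ t ∈ rangePts iT, g₂⁻¹ * t * g₂ ∈ rangePts iB}, Hy ((valM (dualRep N) g₂).mulVec c₀))
      (hF.inter (isClosed_biInter fun q _ => hHy _)) ζ hζ0
      ⟨hζX, Set.mem_iInter₂.mpr fun g₂ hg₂ => (hHy' _ ζ hζ0).mpr (hcon g₂ hg₂)⟩
      (fun t v hv hv' => by
        obtain ⟨hvF, hvA⟩ := hv'
        rw [Set.mem_iInter₂] at hvA
        refine ⟨?_, Set.mem_iInter₂.mpr fun g₂ hg₂ => (hHy' _ _ _).mpr ?_⟩
        · have e : (valM (N.map (ev iT)) t).mulVec v = (valM N (t ≫ iT)).mulVec v := by rw [valM_restrict]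
          rw [lineP_congr e _ (mulVec_ne_zero hN _ hv)]
          exact hFst _ v hv hvF
        · rw [valM_restrict]
          obtain ⟨e, he⟩ := hfix' _ (hg₂ (t ≫ iT) ⟨t, rfl⟩)
          have h1 : (valM (dualRep N) (t ≫ iT)).mulVec ((valM (dualRep N) g₂).mulVec c₀) =
              e • (valM (dualRep N) g₂).mulVec c₀ := by
            rw [Matrix.mulVec_mulVec, ← valM_mul hN', show (t ≫ iT) * g₂ = g₂ * (g₂⁻¹ * (t ≫ iT) * g₂) by group,
              valM_mul hN', ← Matrix.mulVec_mulVec, he, Matrix.mulVec_smul]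
          have he0 : e ≠ 0 := fun h0 => mulVec_ne_zero hN' (t ≫ iT) (mulVec_ne_zero hN' g₂ hc₀) (by
            rw [h1, h0, zero_smul])
          have h2 := dot_dualRep hN (t ≫ iT) ((valM (dualRep N) g₂).mulVec c₀) v
          rw [h1, smul_dotProduct, (hHy' _ v hv).mp (hvA g₂ hg₂), smul_eq_mul, mul_eq_zero] at h2
          exact h2.resolve_left he0)
    obtain ⟨hνX, hνA⟩ := hνF
    rw [Set.mem_iInter₂] at hνA
    obtain ⟨g', c', hν, hg'⟩ := hFlift T 1 hsT1 iT ν hν0 hνX fun t => by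
      obtain ⟨e, he⟩ := hνfix t
      exact ⟨e, by rw [← valM_restrict]; exact he⟩
    obtain ⟨g₂, hg₂, hne⟩ := exists_pair iB iT hB hT hN v₀ hv₀ hfix hspan c₀ hc₀ hfix' g' hg'
    have h1 := (hHy' _ ν hν0).mp (hνA g₂ hg₂)
    rw [hν, dotProduct_smul, smul_eq_mul, mul_eq_zero] at h1
    exact h1.elim (fun h0 => hν0 (by rw [hν, h0, zero_smul])) hne
  obtain ⟨c, hc_def⟩ : ∃ c, c = (valM (dualRep N) g₂).mulVec c₀ := ⟨_, rfl⟩
  rw [← hc_def] at hne
  have hcfix : ∀ h : PT ⟶ H, (valM (dualRep N) (h ≫ iH)).mulVec c = c := fun h => by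
    rw [← valM_restrict]
    refine eigen_unip (isRepMatrix_restrict iH hN') c (fun h' => ?_) (hu h)
    obtain ⟨e, he⟩ := hfix' _ (hH g₂ (fun t => hg₂ _ ⟨t, rfl⟩) h')
    refine ⟨e, ?_⟩
    rw [valM_restrict, hc_def, Matrix.mulVec_mulVec, ← valM_mul hN',
      show (h' ≫ iH) * g₂ = g₂ * (g₂⁻¹ * (h' ≫ iH) * g₂) by group, valM_mul hN', ← Matrix.mulVec_mulVec, he,
      Matrix.mulVec_smul]
  have hcw : ∀ h : PT ⟶ H, c ⬝ᵥ (valM N (h ≫ iH)).mulVec w = c ⬝ᵥ w := fun h => by
    conv_lhs => rw [← hcfix h]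
    exact dot_dualRep hN _ c w
  -- the spanning representation of the orbit
  obtain ⟨m, R, a, A, W₀, -, hR, hRW, hzA, hRdef, hRspan⟩ := exists_spanRep
    (fun l => ∑ j, w j • (N.map (ev iH)) l j) (fun x s => (N.map (ev iH)) x s)
    (fun h h' x => by
      have e : ∀ p l, vl p (∑ j, w j • (N.map (ev iH)) l j) = ((valM N (p ≫ iH)).mulVec w) l := fun p l => by
        rw [← valM_restrict, map_sum]
        simp [Matrix.mulVec, dotProduct, valM_apply, _root_.mul_comm]
      rw [e, MonObj.mul_comp, valM_mul hN, ← Matrix.mulVec_mulVec]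
      simp only [e]
      rw [← valM_restrict (i := iH)]
      rfl)
    (by
      obtain ⟨l, hl⟩ := Function.ne_iff.mp hw
      refine ⟨l, ?_⟩
      rw [map_sum]
      rw [show ∑ j, vl (1 : PT ⟶ H) (w j • (N.map (ev iH)) l j) = ((valM N ((1 : PT ⟶ H) ≫ iH)).mulVec w) l by
        rw [← valM_restrict]
        simp [Matrix.mulVec, dotProduct, valM_apply, _root_.mul_comm],
        MonObj.one_comp, valM_one hN, Matrix.one_mulVec]
      exact hl)
  have hz : ∀ (h : PT ⟶ H) l, vl h (∑ j, w j • (N.map (ev iH)) l j) = ((valM N (h ≫ iH)).mulVec w) l := fun h l => by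
    rw [← valM_restrict, map_sum]
    simp [Matrix.mulVec, dotProduct, valM_apply, _root_.mul_comm]
  simp only [hz] at hRW hzA
  have hW₀ : ∀ j, W₀ j = w (a j) := fun j => by
    have h1 := hRW 1 j
    rwa [valM_one hR, Matrix.one_mulVec, MonObj.one_comp, valM_one hN, Matrix.one_mulVec] at h1
  have hζA' : ∀ s, ζ s = ∑ j, A s j * ζ (a j) := fun s => by
    have h1 := hζ' (fun l => (if l = s then 1 else 0) - ∑ j, (if l = a j then A s j else 0)) fun h => by
      simp only [dotProduct, sub_mul, Finset.sum_sub_distrib, Finset.sum_mul, ite_mul, _root_.one_mul,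
        MulZeroClass.zero_mul, Finset.sum_ite_eq', Finset.mem_univ, if_true]
      rw [Finset.sum_comm]
      simp only [Finset.sum_ite_eq', Finset.mem_univ, if_true]
      rw [← hzA h s, sub_self]
    simp only [dotProduct, sub_mul, Finset.sum_sub_distrib, Finset.sum_mul, ite_mul, _root_.one_mul,
      MulZeroClass.zero_mul, Finset.sum_ite_eq', Finset.mem_univ, if_true] at h1
    rw [Finset.sum_comm] at h1
    simp only [Finset.sum_ite_eq', Finset.mem_univ, if_true] at h1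
    exact sub_eq_zero.mp h1
  have hRζ : ∀ h i, (valM R h).mulVec (fun j => ζ (a j)) i = ((valM N (h ≫ iH)).mulVec ζ) (a i) := fun h i => by
    rw [← valM_restrict]
    simp only [Matrix.mulVec, dotProduct, hRdef, Finset.sum_mul]
    rw [Finset.sum_comm]
    refine Finset.sum_congr rfl fun s _ => ?_
    rw [hζA' s, Finset.mul_sum]
    exact Finset.sum_congr rfl fun j _ => by rw [valM_apply]; ring
  let c' : Fin (m + 1) → k := fun j => ∑ s, c s * A s j
  have hc' : ∀ v : Fin (n + 1) → k, (∀ s, v s = ∑ j, A s j * v (a j)) → c' ⬝ᵥ (fun j => v (a j)) = c ⬝ᵥ v := fun v hv => by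
    simp only [c', dotProduct, Finset.sum_mul]
    rw [Finset.sum_comm]
    refine Finset.sum_congr rfl fun s _ => ?_
    conv_rhs => rw [hv s, Finset.mul_sum]
    exact Finset.sum_congr rfl fun j _ => by ring
  have hsub := subsingleton_of_fixed hu hs hR W₀ hRspan (fun j => ζ (a j))
    (fun h => by
      obtain ⟨e, he⟩ := hζfix h
      rw [valM_restrict] at he
      exact ⟨e, funext fun i => by rw [hRζ, he]; rfl⟩)
    c'
    (fun h => by
      rw [show (valM R h).mulVec W₀ = fun j => ((valM N (h ≫ iH)).mulVec w) (a j) from funext (hRW h),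
        hc' _ (hzA h), hcw, show W₀ = fun j => w (a j) from funext hW₀, hc' _ fun s => by
          simpa [valM_one hN] using hzA 1 s])
    (by rw [hc' ζ hζA']; exact hne)
  have hprop : (valM N (h₀ ≫ iH)).mulVec w =
      (((valM N (h₀ ≫ iH)).mulVec w) (a 0) / w (a 0)) • w := by
    have hw0 : w (a 0) ≠ 0 := fun h0 => hw (funext fun s => by
      have h1 : w s = ∑ j, A s j * w (a j) := by simpa [valM_one hN] using hzA 1 s
      rw [h1, Pi.zero_apply]
      exact Finset.sum_eq_zero fun j _ => by rw [hsub j 0, h0, MulZeroClass.mul_zero])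
    funext s
    have h1 : w s = ∑ j, A s j * w (a j) := by simpa [valM_one hN] using hzA 1 s
    rw [hzA h₀ s, Pi.smul_apply, smul_eq_mul, h1, Finset.mul_sum]
    refine Finset.sum_congr rfl fun j _ => ?_
    rw [hsub j 0]
    field_simp
  generalize ((valM N (h₀ ≫ iH)).mulVec w) (a 0) / w (a 0) = μ₀ at hprop
  refine hstab _ ⟨μ₀, ?_⟩
  rw [valM_mul hN, valM_mul hN, ← Matrix.mulVec_mulVec, ← Matrix.mulVec_mulVec, ← hw_def, hprop, Matrix.mulVec_smul,
    hw_def, Matrix.mulVec_mulVec, ← valM_mul hN, inv_mul_cancel, valM_one hN, Matrix.one_mulVec]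

end Groth.Agent.SolvGrp
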