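import Groth.Agent.SolvGrp.RepTools

/-! Orbits of lines fixed by a Borel subgroup. -/

set_option backward.isDefEq.respectTransparency false
set_option backward.isDefEq.respectTransparency.types false
set_option linter.style.haveILetI false

universe u

open CategoryTheory MonoidalCategory CartesianMonoidalCategory MonObj AlgebraicGeometry
open scoped Matrix

namespace Groth.Agent.SolvGrp

open GrpSchLib GrpSchLib.Kunneth GrpSchLib.LineGroups GrpSchLib.ProjLine WeilCmp.Unip AGFLib AGFLib.Gen AGFLib.BorelFixed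
open AGFLib.BorelExist AGFLib.QuotProper AGFLib.ProjAct

variable {k : Type u} [Field k] [IsAlgClosed k]

local notation "PT" => 𝟙_ (Over (Spec (CommRingCat.of k)))

variable {G : Over (Spec (CommRingCat.of k))} [GrpObj G] [IsAffine G.left] [Smooth G.hom] [ConnectedSpace G.left]

/-- The orbit of a line fixed by a Borel subgroup is closed; a fixed point in it lifts to a fixed coset. -/
theorem exists_orbit {B : Over (Spec (CommRingCat.of k))} [GrpObj B] (iB : B ⟶ G) [IsMonHom iB]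
    (hB : Red.IsBorelOver k iB) {n : ℕ} {N : Matrix (Fin (n + 1)) (Fin (n + 1)) (Fn G)} (hN : IsRepMatrix N)
    (v : Fin (n + 1) → k) (hv : v ≠ 0) (hfix : ∀ b ∈ rangePts iB, ∃ c : k, (valM N b).mulVec v = c • v) :
    ∃ F : Set (Pn k n).left, IsClosed F ∧
      (∀ (w : Fin (n + 1) → k) (hw : w ≠ 0), cp (lineP w hw) ∈ F ↔ ∃ (g : PT ⟶ G) (c : k), w = c • (valM N g).mulVec v) ∧
      ∀ (S : Over (Spec (CommRingCat.of k))) [GrpObj S] [IsAffine S.left] [Smooth S.hom] [ConnectedSpace S.left]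
        (s : ℕ) (_ : derivedSeries (PT ⟶ S) s = ⊥) (iS : S ⟶ G) [IsMonHom iS] (w : Fin (n + 1) → k) (hw : w ≠ 0),
        cp (lineP w hw) ∈ F → (∀ t : PT ⟶ S, ∃ c : k, (valM N (t ≫ iS)).mulVec w = c • w) →
        ∃ (g : PT ⟶ G) (c : k), w = c • (valM N g).mulVec v ∧ ∀ t ∈ rangePts iS, g⁻¹ * t * g ∈ rangePts iB := by
  haveI := hB.2.1
  haveI := hB.2.2.1
  obtain ⟨haB, hlB, hqB, hmB, -⟩ := sub_props iB
  haveI := haB
  haveI := hlB
  haveI := hqB
  haveI : IsReduced B.left := isReduced_of_smooth_field B.hom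
  haveI : IsReduced G.left := isReduced_of_smooth_field G.hom
  haveI : QuasiCompact G.hom := inferInstance
  obtain ⟨X, b, o, hl, -, hfl, hsu, hsq⟩ := GrpSchLib.HomogeneousQuot.exists_quot G B iB
  have hX : AGF.IsQuotient iB X b o := ⟨hl, hfl, hsu, hsq⟩
  haveI := hl
  haveI := hfl
  haveI := hsu
  haveI := AGFLib.Borel.isProper_borel iB hB hX
  obtain ⟨_, _⟩ := QuotProper.quot_orbit_qc hX
  haveI : IsLocallyNoetherian X.left := LocallyOfFiniteType.isLocallyNoetherian X.hom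
  haveI : LocallyOfFiniteType ((b.orbitMap o).left ≫ X.hom) := by rw [Over.w (b.orbitMap o)]; infer_instance
  haveI : LocallyOfFiniteType (b.orbitMap o).left := locallyOfFiniteType_of_comp (b.orbitMap o).left X.hom
  haveI : LocallyOfFinitePresentation (b.orbitMap o).left := inferInstance
  haveI : IsReduced (G ⊗ B).left := GrpSchLib.isReduced_pullback_of_perfectField G.hom B.hom
  haveI : LocallyOfFiniteType (G ⊗ B).hom :=
    inferInstanceAs (LocallyOfFiniteType (Limits.pullback.fst G.hom B.hom ≫ G.hom))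
  haveI : IsProper (Pn k n).hom := isProper_Pn
  obtain ⟨a, ha⟩ := exists_act hN
  let ψ : G ⟶ Pn k n := a.orbitMap (lineP v hv)
  have hψ : ∀ g : PT ⟶ G, g ≫ ψ = lineP ((valM N g).mulVec v) (mulVec_ne_zero hN g hv) := fun g =>
    (pt_orbitMap a _ g).trans (ha g v hv)
  have hψB : ∀ (g : PT ⟶ G), ∀ y ∈ rangePts iB, (g * y) ≫ ψ = g ≫ ψ := fun g y hy => by
    obtain ⟨c, hc⟩ := hfix y hy
    have h1 : (valM N (g * y)).mulVec v = c • (valM N g).mulVec v := by
      rw [valM_mul hN, ← Matrix.mulVec_mulVec, hc, Matrix.mulVec_smul]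
    rw [hψ, hψ, lineP_congr h1 (mulVec_ne_zero hN _ hv) (h1 ▸ mulVec_ne_zero hN _ hv)]
    exact lineP_smul c _ _
  have hinv : fst G B ≫ ψ = ((G ◁ iB) ≫ μ[G]) ≫ ψ := hom_ext_pts fun x => by
    rw [← Category.assoc, ← Category.assoc, ← QuotProper.mul_eq_comp]
    exact (hψB _ _ ⟨x ≫ snd G B, Category.assoc _ _ _⟩).symm
  obtain ⟨e, he⟩ := GrpSchLib.OrbitImmersion.exists_desc hsq ψ hinv
  haveI : IsProper (e.left ≫ (Pn k n).hom) := by rw [Over.w e]; infer_instance
  haveI : IsProper e.left := IsProper.of_comp e.left (Pn k n).hom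
  have hmem : ∀ (w : Fin (n + 1) → k) (hw : w ≠ 0), cp (lineP w hw) ∈ Set.range e.left ↔
      ∃ (g : PT ⟶ G) (c : k), w = c • (valM N g).mulVec v := by
    intro w hw
    constructor
    · rintro ⟨x, hx⟩
      obtain ⟨y, rfl⟩ := (b.orbitMap o).left.surjective x
      obtain ⟨g, hg⟩ := exists_of_mem_range ψ (lineP w hw) ⟨y, by rw [← hx, ← he]; rfl⟩
      rw [hψ] at hg
      obtain ⟨c, -, hc⟩ := exists_smul_of_lineP_eq hw (mulVec_ne_zero hN g hv) hg.symm
      exact ⟨g, c, hc⟩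
    · rintro ⟨g, c, rfl⟩
      refine ⟨(b.orbitMap o).left (cp g), ?_⟩
      rw [lineP_smul c (mulVec_ne_zero hN g hv) hw, ← hψ g, ← he, ← Category.assoc, cp_comp, cp_comp]
  refine ⟨_, e.left.isClosedMap.isClosed_range, hmem, fun S _ _ _ _ s hs iS _ w hw hwF hwfix => ?_⟩
  haveI : IsReduced S.left := isReduced_of_smooth_field S.hom
  obtain ⟨b', hb'⟩ := exists_restrict b iS
  obtain ⟨g₀, c₀, hg₀⟩ := (hmem w hw).mp hwF
  have hline : ∀ g : PT ⟶ G, cp ((lift g o ≫ b.act) ≫ e) = cp (lineP w hw) ↔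
      g ≫ ψ = lineP w hw := by
    intro g
    rw [← pt_orbitMap b o g, Category.assoc, he]
    exact ⟨fun h => cp_injective h, congrArg cp⟩
  obtain ⟨x, hxF, hx⟩ := exists_fixed_in s hs b' (e.left ⁻¹' {cp (lineP w hw)})
    ((isClosed_cp (lineP w hw)).preimage e.left.continuous)
    ⟨cp (lift g₀ o ≫ b.act), by
      show e.left (cp (lift g₀ o ≫ b.act)) = _
      rw [← cp_comp, hline, hψ]
      have h1 : c₀ • (valM N g₀).mulVec v ≠ 0 := hg₀ ▸ hw
      rw [lineP_congr hg₀ hw h1]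
      exact (lineP_smul c₀ _ _).symm⟩
    fun t x hx => by
      obtain ⟨g, rfl⟩ := exists_of_mem_range (b.orbitMap o) x ((b.orbitMap o).left.surjective _)
      change e.left (cp _) = _ at hx ⊢
      rw [← cp_comp, pt_orbitMap, hline] at hx
      rw [hb', ← Category.assoc, lift_whiskerRight, pt_orbitMap, GrpSchLib.act_mul, ← cp_comp, hline, hψ]
      rw [hψ] at hx
      obtain ⟨c, hc0, hc⟩ := exists_smul_of_lineP_eq _ hw hx
      obtain ⟨c', hc'⟩ := hwfix t
      have h1 : (valM N ((t ≫ iS) * g)).mulVec v = (c * c') • w := by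
        rw [valM_mul hN, ← Matrix.mulVec_mulVec, hc, Matrix.mulVec_smul, hc', smul_smul]
      rw [lineP_congr h1 (mulVec_ne_zero hN _ hv) (h1 ▸ mulVec_ne_zero hN _ hv)]
      exact lineP_smul _ _ _
  obtain ⟨g, rfl⟩ := exists_of_mem_range (b.orbitMap o) x ((b.orbitMap o).left.surjective _)
  change e.left (cp _) = _ at hxF
  rw [← cp_comp, pt_orbitMap, hline, hψ] at hxF
  obtain ⟨c, hc0, hc⟩ := exists_smul_of_lineP_eq _ hw hxF
  refine ⟨g, c⁻¹, by rw [hc, smul_smul, inv_mul_cancel₀ hc0, one_smul], ?_⟩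
  rintro _ ⟨t, rfl⟩
  have h1 := hx t
  rw [hb', ← Category.assoc, lift_whiskerRight, pt_orbitMap, GrpSchLib.act_mul] at h1
  obtain ⟨z, hz⟩ := exists_mul_eq hX g ((t ≫ iS) * g) (by rw [pt_orbitMap, pt_orbitMap]; exact h1.symm)
  exact ⟨z, by show z ≫ iB = _; rw [_root_.mul_assoc, ← hz, inv_mul_cancel_left]⟩

end Groth.Agent.SolvGrp
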