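import Groth.Agent.SolvGrp.SpanRep
import Groth.Agent.SolvGrp.OrbitLine
import Groth.Agent.SolvGrp.Limit

/-! Functionals semi-invariant under the Borel subgroups through a torus, separating its fixed lines. -/

set_option backward.isDefEq.respectTransparency false
set_option backward.isDefEq.respectTransparency.types false
set_option linter.style.haveILetI false

universe u

open CategoryTheory MonoidalCategory CartesianMonoidalCategory MonObj AlgebraicGeometry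
open scoped Matrix

namespace Groth.Agent.SolvGrp

open GrpSchLib GrpSchLib.Kunneth GrpSchLib.LineGroups GrpSchLib.ProjLine WeilCmp.Unip AGFLib AGFLib.Gen AGFLib.BorelFixed
open AGFLib.BorelExist AGFLib.ProjAct

variable {k : Type u} [Field k] [IsAlgClosed k]

local notation "PT" => 𝟙_ (Over (Spec (CommRingCat.of k)))

variable {G : Over (Spec (CommRingCat.of k))} [GrpObj G] [IsAffine G.left] [Smooth G.hom] [ConnectedSpace G.left]

/-- A vector spanning the representation whose line has the Borel subgroup as stabiliser. -/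
theorem exists_borelRep {B : Over (Spec (CommRingCat.of k))} [GrpObj B] (iB : B ⟶ G) [IsMonHom iB]
    [IsClosedImmersion iB.left] :
    ∃ (n : ℕ) (N : Matrix (Fin (n + 1)) (Fin (n + 1)) (Fn G)) (v₀ : Fin (n + 1) → k), v₀ ≠ 0 ∧ IsRepMatrix N ∧
      (∀ b ∈ rangePts iB, ∃ c : k, (valM N b).mulVec v₀ = c • v₀) ∧
      (∀ g : PT ⟶ G, (∃ c : k, (valM N g).mulVec v₀ = c • v₀) → g ∈ rangePts iB) ∧
      ∀ c : Fin (n + 1) → k, (∀ g : PT ⟶ G, c ⬝ᵥ (valM N g).mulVec v₀ = 0) → c = 0 := by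
  haveI : IsReduced G.left := isReduced_of_smooth_field G.hom
  obtain ⟨n, z, α, M, h1, hlin, hz⟩ := StabVec.exists_vec_grp G B iB
  have hlinK : ∀ (g h : PT ⟶ G) x, vl (g * h) (z x) = ∑ s, vl g (M x s) * vl h (z s) := fun g h x => by
    show ProjAct.toK (ev (g * h) (z x)) = _
    rw [hlin PT g h x, map_sum]
    simp only [map_mul]
    rfl
  have hne : ∃ x, vl (1 : PT ⟶ G) (z x) ≠ 0 := by
    by_contra hne
    push Not at hne
    have h2 := congrArg (vl (1 : PT ⟶ G)) h1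
    rw [map_sum, map_one] at h2
    simp only [map_mul, hne, MulZeroClass.mul_zero, Finset.sum_const_zero] at h2
    exact zero_ne_one h2
  have hcrit : ∀ g : PT ⟶ G, (∀ x q, vl 1 (z x) * vl g (z q) = vl 1 (z q) * vl g (z x)) ↔ g ∈ rangePts iB := by
    intro g
    constructor
    · intro h
      obtain ⟨w, hw⟩ := (hz PT 1 g).mp fun x q => (ProjAct.toK (k := k)).injective (by
        rw [map_mul, map_mul]; exact h x q)
      exact ⟨w, by simpa using hw.symm⟩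
    · rintro ⟨w, rfl⟩ x q
      have h2 := (hz PT 1 (w ≫ iB)).mpr ⟨w, by simp⟩ x q
      have h3 := congrArg (ProjAct.toK (k := k)) h2
      rwa [map_mul, map_mul] at h3
  obtain ⟨m, R, a, A, W₀, hW₀, hR, hRW, hzA, -, hspan⟩ := exists_spanRep z M hlinK hne
  have hW1 : ∀ j, W₀ j = vl 1 (z (a j)) := fun j => by rw [← hRW, valM_one hR, Matrix.one_mulVec]
  refine ⟨m, R, W₀, hW₀, hR, fun b hb => ?_, fun g ⟨c, hc⟩ => (hcrit g).mp fun x q => ?_, hspan⟩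
  · obtain ⟨c, -, hc⟩ := exists_smul_of_lineP_eq (mulVec_ne_zero hR b hW₀) hW₀
      ((lineP_eq_iff _ _ _ _).mpr fun x q => by
        rw [hRW, hRW, hW1, hW1]
        linear_combination (hcrit b).mpr hb (a q) (a x))
    exact ⟨c, hc⟩
  · have h2 : ∀ s, vl g (z s) = c * vl 1 (z s) := fun s => by
      rw [hzA g s, hzA 1 s, Finset.mul_sum]
      refine Finset.sum_congr rfl fun j _ => ?_
      rw [← hRW, hc, Pi.smul_apply, smul_eq_mul, hW1]
      ring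
    rw [h2, h2]
    ring

variable {B T : Over (Spec (CommRingCat.of k))} [GrpObj B] [GrpObj T] (iB : B ⟶ G) [IsMonHom iB]
  (iT : T ⟶ G) [IsMonHom iT]

/-- Some pair of a fixed line and a fixed functional pairs non-trivially. -/
theorem exists_pair₀ (hB : Red.IsBorelOver k iB) (hT : Red.IsTorus T) {n : ℕ}
    {N : Matrix (Fin (n + 1)) (Fin (n + 1)) (Fn G)} (hN : IsRepMatrix N) (v₀ : Fin (n + 1) → k) (hv₀ : v₀ ≠ 0)
    (hfix : ∀ b ∈ rangePts iB, ∃ c : k, (valM N b).mulVec v₀ = c • v₀)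
    (hspan : ∀ c : Fin (n + 1) → k, (∀ g : PT ⟶ G, c ⬝ᵥ (valM N g).mulVec v₀ = 0) → c = 0)
    (c₀ : Fin (n + 1) → k) (hc₀ : c₀ ≠ 0)
    (hfix' : ∀ b ∈ rangePts iB, ∃ c : k, (valM (dualRep N) b).mulVec c₀ = c • c₀) :
    ∃ g₁ g₂ : PT ⟶ G, (∀ t ∈ rangePts iT, g₁⁻¹ * t * g₁ ∈ rangePts iB) ∧
      (∀ t ∈ rangePts iT, g₂⁻¹ * t * g₂ ∈ rangePts iB) ∧
      (valM (dualRep N) g₂).mulVec c₀ ⬝ᵥ (valM N g₁).mulVec v₀ ≠ 0 := by
  classical
  haveI : IsReduced G.left := isReduced_of_smooth_field G.hom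
  obtain ⟨haT, hsT, hcT, -⟩ := torus_props hT
  haveI := haT
  haveI := hsT
  haveI := hcT
  have hn : derivedSeries (PT ⟶ T) 1 = ⊥ := by
    rw [derivedSeries_one, commutator_def, Subgroup.commutator_eq_bot_iff_le_centralizer]
    exact fun x _ => Subgroup.mem_centralizer_iff.mpr fun y _ => (torus_commute hT y x).eq
  have hN' := isRepMatrix_dualRep hN
  obtain ⟨F, hF, hFmem, hFlift⟩ := exists_orbit iB hB hN v₀ hv₀ hfix
  obtain ⟨F', hF', hFmem', hFlift'⟩ := exists_orbit iB hB hN' c₀ hc₀ hfix'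
  haveI : IsReduced T.left := isReduced_of_smooth_field T.hom
  obtain ⟨r, S, e, P, hP0, hinj, horth, hone, heig, hcurve⟩ := exists_decomp hT (isRepMatrix_restrict iT hN)
  have hSne : S.Nonempty := by
    by_contra h
    rw [Finset.not_nonempty_iff_eq_empty] at h
    rw [h, Finset.sum_empty] at hone
    exact zero_ne_one hone
  obtain ⟨m₀, hm₀, hmax⟩ := S.exists_max_image e hSne
  have hlt : ∀ m ∈ S, m ≠ m₀ → e m < e m₀ := fun m hm hne =>
    lt_of_le_of_ne (hmax m hm) fun h => hne (hinj m hm m₀ hm₀ h)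
  have hidem : P m₀ * P m₀ = P m₀ := by rw [horth m₀ hm₀ m₀ hm₀, if_pos rfl]
  -- the limit line in the orbit
  obtain ⟨g, hg⟩ : ∃ g : PT ⟶ G, (P m₀).mulVec ((valM N g).mulVec v₀) ≠ 0 := by
    by_contra h
    push Not at h
    exact hP0 m₀ hm₀ (funext fun i => hspan (P m₀ i) fun g => congrFun (h g) i)
  obtain ⟨w, hw_def⟩ : ∃ w, w = (valM N g).mulVec v₀ := ⟨_, rfl⟩
  rw [← hw_def] at hg
  let vv : (Fin r → ℤ) → Fin (n + 1) → k := fun m => (P m).mulVec w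
  obtain ⟨l, hl⟩ := Function.ne_iff.mp hg
  change vv m₀ l ≠ 0 at hl
  have hq : ∀ m ∈ S, ((vv m₀ l)⁻¹ • P m₀ l) ⬝ᵥ vv m = if m = m₀ then 1 else 0 := fun m hm => by
    have h1 : P m₀ l ⬝ᵥ vv m = ((P m₀ * P m).mulVec w) l := by rw [← Matrix.mulVec_mulVec]; rfl
    rw [smul_dotProduct, h1, horth m₀ hm₀ m hm]
    rcases eq_or_ne m m₀ with h | h
    · subst h
      rw [if_pos rfl, if_pos rfl, smul_eq_mul]
      exact inv_mul_cancel₀ hl
    · rw [if_neg (Ne.symm h), if_neg h, Matrix.zero_mulVec, Pi.zero_apply, smul_zero]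
  have hz : cp (lineP (vv m₀) hg) ∈ F := limit_mem F hF S e vv m₀ hm₀ hmax _
    (by rw [hq m₀ hm₀, if_pos rfl]) (fun m hm hne => by rw [hq m hm, if_neg hne]) hlt
    (fun u hu hv => (hFmem _ hv).mpr (by
      obtain ⟨t, ht⟩ := hcurve u hu
      refine ⟨(t ≫ iT) * g, 1, ?_⟩
      rw [one_smul, valM_mul hN, ← Matrix.mulVec_mulVec, ← hw_def, ← valM_restrict, ht, Matrix.sum_mulVec]
      exact Finset.sum_congr rfl fun m _ => by rw [Matrix.smul_mulVec])) hg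
  have heigz : ∀ t : PT ⟶ T, ∃ c : k, (valM N (t ≫ iT)).mulVec (vv m₀) = c • vv m₀ := fun t => by
    obtain ⟨c, hc⟩ := heig t m₀ hm₀
    exact ⟨c, by rw [Matrix.mulVec_mulVec, ← valM_restrict, hc, Matrix.smul_mulVec]⟩
  obtain ⟨g₁, a₁, hz₁, hT₁⟩ := hFlift T 1 hn iT (vv m₀) hg hz heigz
  -- a functional in the dual orbit not vanishing there
  obtain ⟨g', hg'⟩ : ∃ g', (valM (dualRep N) g').mulVec c₀ ⬝ᵥ vv m₀ ≠ 0 := by
    by_contra h
    push Not at h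
    refine hc₀ (hspan c₀ fun x => ?_)
    have h1 := h (g₁ * x⁻¹)
    rw [hz₁, dotProduct_smul, smul_eq_mul, show g₁ = g₁ * x⁻¹ * x by group, valM_mul hN, ← Matrix.mulVec_mulVec] at h1
    simp only [show g₁ * x⁻¹ * x * x⁻¹ = g₁ * x⁻¹ by group] at h1
    rw [dot_dualRep hN] at h1
    refine (mul_eq_zero.mp h1).resolve_left fun h0 => hg ?_
    show vv m₀ = 0; rw [hz₁, h0, zero_smul]
  obtain ⟨c, hc_def⟩ : ∃ c, c = (valM (dualRep N) g').mulVec c₀ := ⟨_, rfl⟩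
  rw [← hc_def] at hg'
  let vv' : (Fin r → ℤ) → Fin (n + 1) → k := fun m => (P m)ᵀ.mulVec c
  have hpair : vv' m₀ ⬝ᵥ vv m₀ = c ⬝ᵥ vv m₀ := by
    show (P m₀)ᵀ.mulVec c ⬝ᵥ (P m₀).mulVec w = c ⬝ᵥ (P m₀).mulVec w
    rw [Matrix.mulVec_transpose, ← Matrix.dotProduct_mulVec, Matrix.mulVec_mulVec, hidem]
  have hg₀' : vv' m₀ ≠ 0 := fun h => hg' (by rw [← hpair, h, zero_dotProduct])
  obtain ⟨l', hl'⟩ := Function.ne_iff.mp hg₀'
  change vv' m₀ l' ≠ 0 at hl'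
  have hq' : ∀ m ∈ S, ((vv' m₀ l')⁻¹ • (P m₀)ᵀ l') ⬝ᵥ vv' m = if m = m₀ then 1 else 0 := fun m hm => by
    have h1 : (P m₀)ᵀ l' ⬝ᵥ vv' m = (((P m₀)ᵀ * (P m)ᵀ).mulVec c) l' := by rw [← Matrix.mulVec_mulVec]; rfl
    rw [smul_dotProduct, h1, ← Matrix.transpose_mul, horth m hm m₀ hm₀]
    rcases eq_or_ne m m₀ with h | h
    · subst h
      rw [if_pos rfl, if_pos rfl, smul_eq_mul]
      exact inv_mul_cancel₀ hl'
    · rw [if_neg h, if_neg h, Matrix.transpose_zero, Matrix.zero_mulVec, Pi.zero_apply, smul_zero]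
  have hz' : cp (lineP (vv' m₀) hg₀') ∈ F' := limit_mem F' hF' S e vv' m₀ hm₀ hmax _
    (by rw [hq' m₀ hm₀, if_pos rfl]) (fun m hm hne => by rw [hq' m hm, if_neg hne]) hlt
    (fun u hu hv => (hFmem' _ hv).mpr (by
      obtain ⟨t, ht⟩ := hcurve u hu
      refine ⟨(t ≫ iT)⁻¹ * g', 1, ?_⟩
      rw [one_smul, valM_mul hN', ← Matrix.mulVec_mulVec, ← hc_def, valM_dualRep, _root_.inv_inv, ← valM_restrict,
        ht, Matrix.transpose_sum, Matrix.sum_mulVec]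
      exact Finset.sum_congr rfl fun m _ => by rw [Matrix.transpose_smul, Matrix.smul_mulVec])) hg₀'
  have heigz' : ∀ t : PT ⟶ T, ∃ a : k, (valM (dualRep N) (t ≫ iT)).mulVec (vv' m₀) = a • vv' m₀ := fun t => by
    obtain ⟨a, ha⟩ := heig t⁻¹ m₀ hm₀
    refine ⟨a, ?_⟩
    have h1 : ∀ m ∈ S, P m₀ * (valM (N.map (ev iT)) t⁻¹ * P m) = if m₀ = m then a • P m₀ else 0 := fun m hm => by
      obtain ⟨b, hb⟩ := heig t⁻¹ m hm
      rw [hb, Matrix.mul_smul, horth m₀ hm₀ m hm]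
      split_ifs with h
      · subst h
        rw [← hb, ha]
      · rw [smul_zero]
    have h2 : P m₀ * valM (N.map (ev iT)) t⁻¹ = a • P m₀ := by
      calc P m₀ * valM (N.map (ev iT)) t⁻¹
          = ∑ m ∈ S, P m₀ * (valM (N.map (ev iT)) t⁻¹ * P m) := by
            rw [← Finset.mul_sum, ← Finset.mul_sum, hone, Matrix.mul_one]
        _ = a • P m₀ := by rw [Finset.sum_congr rfl h1, Finset.sum_ite_eq, if_pos hm₀]
    rw [valM_dualRep, ← GrpObj.inv_comp, ← valM_restrict, Matrix.mulVec_mulVec, ← Matrix.transpose_mul, h2,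
      Matrix.transpose_smul, Matrix.smul_mulVec]
  obtain ⟨g₂, a₂, hz₂, hT₂⟩ := hFlift' T 1 hn iT (vv' m₀) hg₀' hz' heigz'
  refine ⟨g₁, g₂, hT₁, hT₂, fun h => hg' ?_⟩
  rw [← hpair, hz₂, hz₁, smul_dotProduct, dotProduct_smul, h, smul_zero, smul_zero]

/-- The translate of the functional under the normaliser pairs with every fixed line. -/
theorem exists_pair (hB : Red.IsBorelOver k iB) (hT : AGF.IsMaxTorus iT) {n : ℕ}
    {N : Matrix (Fin (n + 1)) (Fin (n + 1)) (Fn G)} (hN : IsRepMatrix N) (v₀ : Fin (n + 1) → k) (hv₀ : v₀ ≠ 0)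
    (hfix : ∀ b ∈ rangePts iB, ∃ c : k, (valM N b).mulVec v₀ = c • v₀)
    (hspan : ∀ c : Fin (n + 1) → k, (∀ g : PT ⟶ G, c ⬝ᵥ (valM N g).mulVec v₀ = 0) → c = 0)
    (c₀ : Fin (n + 1) → k) (hc₀ : c₀ ≠ 0)
    (hfix' : ∀ b ∈ rangePts iB, ∃ c : k, (valM (dualRep N) b).mulVec c₀ = c • c₀)
    (g : PT ⟶ G) (hg : ∀ t ∈ rangePts iT, g⁻¹ * t * g ∈ rangePts iB) :
    ∃ g₂ : PT ⟶ G, (∀ t ∈ rangePts iT, g₂⁻¹ * t * g₂ ∈ rangePts iB) ∧
      (valM (dualRep N) g₂).mulVec c₀ ⬝ᵥ (valM N g).mulVec v₀ ≠ 0 := by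
  haveI : IsReduced G.left := isReduced_of_smooth_field G.hom
  obtain ⟨g₁, g₂, hT₁, hT₂, hne⟩ := exists_pair₀ iB iT hB hT.2.2.1 hN v₀ hv₀ hfix hspan c₀ hc₀ hfix'
  obtain ⟨haT, hsT, -, -⟩ := torus_props hT.2.2.1
  haveI := haT
  haveI := hsT
  haveI := hB.2.1
  haveI : IsMonHom (AGF.conjBy g₁ iB) := by rw [AGFLib.Borel.conjBy_eq]; infer_instance
  haveI : IsMonHom (AGF.conjBy g iB) := by rw [AGFLib.Borel.conjBy_eq]; infer_instance
  have hB₁ := AGFLib.Borel.isBorel_conj iB hB g₁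
  have hBg := AGFLib.Borel.isBorel_conj iB hB g
  haveI := hB₁.2.1
  haveI := hBg.2.1
  obtain ⟨-, hl₁, -, -, -⟩ := sub_props (AGF.conjBy g₁ iB)
  obtain ⟨-, hlg, -, -, -⟩ := sub_props (AGF.conjBy g iB)
  haveI := hl₁
  haveI := hlg
  obtain ⟨t₁, -, ht₁⟩ := exists_fac_sub (AGF.conjBy g₁ iB) iT fun x hx => (rangePts_conjBy g₁ iB x).mpr (hT₁ x hx)
  obtain ⟨tg, -, htg⟩ := exists_fac_sub (AGF.conjBy g iB) iT fun x hx => (rangePts_conjBy g iB x).mpr (hg x hx)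
  obtain ⟨ν, f, f', hf, hf'⟩ := borelPair_conj _ _ hB₁ hBg iT iT hT hT t₁ ht₁ tg htg
  haveI : IsMonHom (AGF.conjBy ν (AGF.conjBy g₁ iB)) := by rw [AGFLib.Borel.conjBy_eq]; infer_instance
  have hconj : ∀ x, g⁻¹ * x * g ∈ rangePts iB ↔ g₁⁻¹ * (ν⁻¹ * x * ν) * g₁ ∈ rangePts iB := fun x => by
    rw [← rangePts_conjBy g iB, ← rangePts_conjBy g₁ iB, ← rangePts_conjBy ν]
    constructor
    · rintro ⟨y, hy⟩
      refine ⟨y ≫ f.inv, ?_⟩
      show (y ≫ f.inv) ≫ _ = x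
      rw [← hf, Category.assoc, Iso.inv_hom_id_assoc]
      exact hy
    · rintro ⟨y, hy⟩
      change y ≫ _ = x at hy
      exact ⟨y ≫ f.hom, by show (y ≫ f.hom) ≫ _ = x; rw [Category.assoc, hf, hy]⟩
  have hb : g⁻¹ * ν * g₁ ∈ rangePts iB := normalizer_borel iB hB _ fun y hy => by
    constructor
    · have h1 := (hconj (ν * g₁ * y * g₁⁻¹ * ν⁻¹)).mpr (by
        rwa [show g₁⁻¹ * (ν⁻¹ * (ν * g₁ * y * g₁⁻¹ * ν⁻¹) * ν) * g₁ = y by group])
      rwa [show g⁻¹ * (ν * g₁ * y * g₁⁻¹ * ν⁻¹) * g = g⁻¹ * ν * g₁ * y * (g⁻¹ * ν * g₁)⁻¹ by group] at h1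
    · have h1 := (hconj (g * y * g⁻¹)).mp (by rwa [show g⁻¹ * (g * y * g⁻¹) * g = y by group])
      rwa [show g₁⁻¹ * (ν⁻¹ * (g * y * g⁻¹) * ν) * g₁ = (g⁻¹ * ν * g₁)⁻¹ * y * (g⁻¹ * ν * g₁) by group] at h1
  refine ⟨ν * g₂, ?_, fun h0 => hne ?_⟩
  · rintro _ ⟨t, rfl⟩
    have h1 := hT₂ (ν⁻¹ * (t ≫ iT) * ν) ⟨t ≫ f'.inv, by
      show (t ≫ f'.inv) ≫ iT = _
      have h2 : t ≫ iT = ν * ((t ≫ f'.inv) ≫ iT) * ν⁻¹ := by
        conv_lhs => rw [show t = (t ≫ f'.inv) ≫ f'.hom by simp, Category.assoc, hf', AGFLib.Borel.conjBy_eq,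
          ← Category.assoc, comp_conjM_pt]
      rw [h2]; group⟩
    show (ν * g₂)⁻¹ * (t ≫ iT) * (ν * g₂) ∈ _
    rwa [show (ν * g₂)⁻¹ * (t ≫ iT) * (ν * g₂) = g₂⁻¹ * (ν⁻¹ * (t ≫ iT) * ν) * g₂ by group]
  · obtain ⟨μ', hμ'⟩ := hfix _ hb
    have h1 : (valM N (ν * g₁)).mulVec v₀ = μ' • (valM N g).mulVec v₀ := by
      rw [show ν * g₁ = g * (g⁻¹ * ν * g₁) by group, valM_mul hN, ← Matrix.mulVec_mulVec, hμ', Matrix.mulVec_smul]
    have h2 : (valM (dualRep N) (ν * g₂)).mulVec c₀ ⬝ᵥ (valM N (ν * g₁)).mulVec v₀ = 0 := by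
      rw [h1, dotProduct_smul, h0, smul_zero]
    rwa [valM_mul (isRepMatrix_dualRep hN), valM_mul hN, ← Matrix.mulVec_mulVec, ← Matrix.mulVec_mulVec,
      dot_dualRep hN] at h2

end Groth.Agent.SolvGrp
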