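import Groth.Agent.WeilCmp.UnipPts
import Groth.Agent.AGFLib.BorelFixed
import Groth.Agent.SolvGrp.LocFinite

/-! Semisimple and unipotent rational points of affine groups and the Jordan decomposition. -/

set_option backward.isDefEq.respectTransparency false
set_option backward.isDefEq.respectTransparency.types false
set_option linter.style.haveILetI false

universe u

open CategoryTheory MonoidalCategory CartesianMonoidalCategory MonObj AlgebraicGeometry

namespace Groth.Agent.SolvGrp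

open GrpSchLib GrpSchLib.Kunneth GrpSchLib.LineGroups WeilCmp.Unip

variable {k : Type u} [Field k]

local notation "PT" => 𝟙_ (Over (Spec (CommRingCat.of k)))

theorem vl_ext {X : Over (Spec (CommRingCat.of k))} [IsAffine X.left] {g g' : PT ⟶ X}
    (h : ∀ f : Fn X, vl g f = vl g' f) : g = g' :=
  ext_ev (AlgHom.ext fun f => (AGFLib.ProjAct.toK (k := k)).injective (h f))

theorem vl_toUnit {X : Over (Spec (CommRingCat.of k))} (g : PT ⟶ X) (f : Fn X) :
    ev (toUnit X ≫ g) f = algebraMap k (Fn X) (vl g f) := by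
  rw [← ev_ev]
  conv_lhs => rw [← AGFLib.ProjAct.algebraMap_toK (k := k) (ev g f)]
  exact AlgHom.commutes _ _

variable {G : Over (Spec (CommRingCat.of k))} [GrpObj G]

/-- Right translation of functions by a rational point. -/
noncomputable def rt (g : 𝟙_ (Over (Spec (CommRingCat.of k))) ⟶ G) : Fn G →ₐ[k] Fn G :=
  ev (𝟙 G * (toUnit G ≫ g))

/-- Right translation as an endomorphism. -/
noncomputable abbrev rl (g : 𝟙_ (Over (Spec (CommRingCat.of k))) ⟶ G) : Module.End k (Fn G) :=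
  (rt g).toLinearMap

theorem ev_rt {T : Over (Spec (CommRingCat.of k))} (x : T ⟶ G) (g : PT ⟶ G) (f : Fn G) :
    ev x (rt g f) = ev (x * (toUnit T ≫ g)) f := by
  rw [rt, ev_ev, MonObj.comp_mul, Category.comp_id, ← Category.assoc, toUnit_unique (x ≫ toUnit G) (toUnit T)]

theorem vl_rt (x g : PT ⟶ G) (f : Fn G) : vl x (rt g f) = vl (x * g) f := by
  show AGFLib.ProjAct.toK (ev x (rt g f)) = _
  rw [ev_rt, toUnit_unique (toUnit PT) (𝟙 _), Category.id_comp]
  rfl

theorem vl_one_rt (g : PT ⟶ G) (f : Fn G) : vl 1 (rt g f) = vl g f := by rw [vl_rt, _root_.one_mul]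

theorem rl_mul (g h : PT ⟶ G) : rl (g * h) = rl g * rl h := by
  refine LinearMap.ext fun f => ?_
  show ev (𝟙 G * (toUnit G ≫ (g * h))) f = ev (𝟙 G * (toUnit G ≫ g)) (rt h f)
  rw [ev_rt, MonObj.comp_mul, _root_.mul_assoc]

theorem rl_one : rl (1 : PT ⟶ G) = 1 := by
  refine LinearMap.ext fun f => ?_
  show ev (𝟙 G * (toUnit G ≫ 1)) f = f
  rw [MonObj.comp_one, _root_.mul_one, ev_id]

theorem rl_pow (g : PT ⟶ G) : ∀ n : ℕ, rl (g ^ n) = rl g ^ n
  | 0 => by rw [pow_zero, pow_zero, rl_one]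
  | n + 1 => by rw [pow_succ, pow_succ, rl_mul, rl_pow g n]

theorem rl_injective_fun (g : PT ⟶ G) : Function.Injective (rl g) := fun a b h => by
  have h1 := congrArg (rl g⁻¹) h
  rwa [← Module.End.mul_apply, ← Module.End.mul_apply, ← rl_mul, inv_mul_cancel, rl_one] at h1

theorem rl_inj [IsAffine G.left] {g g' : PT ⟶ G} (h : rl g = rl g') : g = g' := vl_ext fun f => by
  rw [← vl_one_rt g f, ← vl_one_rt g' f]
  exact congrArg (vl 1) (LinearMap.congr_fun h f)

theorem rt_lt (g y : PT ⟶ G) (f : Fn G) : rt g (lt y f) = lt y (rt g f) := by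
  show ev (𝟙 G * (toUnit G ≫ g)) (ev ((toUnit G ≫ y) * 𝟙 G) f) = ev ((toUnit G ≫ y) * 𝟙 G) (rt g f)
  rw [ev_ev, ev_rt, MonObj.comp_mul, Category.comp_id, ← Category.assoc,
    toUnit_unique ((𝟙 G * (toUnit G ≫ g)) ≫ toUnit G) (toUnit G), _root_.mul_assoc]

theorem ev_rt_comp {H : Over (Spec (CommRingCat.of k))} [GrpObj H] (i : H ⟶ G) [IsMonHom i] (h : PT ⟶ H) (f : Fn G) :
    ev i (rt (h ≫ i) f) = rt h (ev i f) := by
  show _ = ev (𝟙 H * (toUnit H ≫ h)) (ev i f)
  rw [ev_rt, ev_ev, MonObj.mul_comp, Category.id_comp, Category.assoc]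

/-- Right translations are locally finite. -/
theorem exists_space [IsAffine G.left] [LocallyOfFiniteType G.hom] (F : Finset (Fn G)) :
    ∃ W : Submodule k (Fn G), Module.Finite k W ∧ ↑F ⊆ (W : Set (Fn G)) ∧ ∀ g : PT ⟶ G, ∀ w ∈ W, rl g w ∈ W := by
  obtain ⟨n, w, N, -, -, hFw, hw⟩ := AGFLib.exists_stable (G := G) F
  refine ⟨Submodule.span k (Set.range w), Module.Finite.span_of_finite k (Set.finite_range w), hFw, fun g v hv => ?_⟩
  induction hv using Submodule.span_induction with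
  | mem a ha =>
    obtain ⟨j, rfl⟩ := ha
    show ev (𝟙 G * (toUnit G ≫ g)) (w j) ∈ _
    rw [hw]
    refine Submodule.sum_mem _ fun l _ => ?_
    rw [ev_id, vl_toUnit, _root_.mul_comm, ← Algebra.smul_def]
    exact Submodule.smul_mem _ _ (Submodule.subset_span ⟨l, rfl⟩)
  | zero => rw [map_zero]; exact Submodule.zero_mem _
  | add a b _ _ ha hb => rw [map_add]; exact Submodule.add_mem _ ha hb
  | smul r a _ ha => rw [map_smul]; exact Submodule.smul_mem _ _ ha

theorem rl_isLocFin [IsAffine G.left] [LocallyOfFiniteType G.hom] (g : PT ⟶ G) : IsLocFin (rl g) := fun v => by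
  classical
  obtain ⟨W, hW, hsub, hst⟩ := exists_space (G := G) {v}
  exact ⟨W, hW, hsub (by simp), hst g⟩

/-- The rational point is semisimple. -/
def IsSsPt (g : 𝟙_ (Over (Spec (CommRingCat.of k))) ⟶ G) : Prop := IsDiag (rl g)

/-- The rational point is unipotent. -/
def IsUnipPt (g : 𝟙_ (Over (Spec (CommRingCat.of k))) ⟶ G) : Prop := IsLocUnip (rl g)

theorem isSsPt_one : IsSsPt (1 : PT ⟶ G) := by
  show IsDiag (rl (1 : PT ⟶ G))
  rw [rl_one]
  exact eq_top_iff.mpr fun v _ =>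
    Submodule.mem_iSup_of_mem 1 (Module.End.mem_eigenspace_iff.mpr (by simp))

theorem isUnipPt_one : IsUnipPt (1 : PT ⟶ G) := by
  show IsLocUnip (rl (1 : PT ⟶ G))
  rw [rl_one]
  exact fun v => ⟨1, by simp⟩

theorem rl_commute {a b : PT ⟶ G} (h : Commute a b) : rl a * rl b = rl b * rl a := by
  rw [← rl_mul, ← rl_mul, h.eq]

theorem IsUnipPt.mul {a b : PT ⟶ G} (ha : IsUnipPt a) (hb : IsUnipPt b) (h : Commute a b) : IsUnipPt (a * b) := by
  show IsLocUnip (rl (a * b))
  rw [rl_mul]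
  exact IsLocUnip.mul ha hb (rl_commute h)

theorem IsSsPt.mul [IsAlgClosed k] {a b : PT ⟶ G} (ha : IsSsPt a) (hb : IsSsPt b) (h : Commute a b) :
    IsSsPt (a * b) := by
  show IsDiag (rl (a * b))
  rw [rl_mul]
  exact IsDiag.mul ha hb (rl_commute h)

theorem IsSsPt.inv {a : PT ⟶ G} (ha : IsSsPt a) : IsSsPt a⁻¹ := by
  refine eq_top_iff.mpr (le_trans (ge_of_eq ha) (iSup_le fun lam v hv => ?_))
  have hv' := Module.End.mem_eigenspace_iff.mp hv
  have h1 : rl a⁻¹ (rl a v) = v := by rw [← Module.End.mul_apply, ← rl_mul, inv_mul_cancel, rl_one]; rfl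
  by_cases hlam : lam = 0
  · rw [hlam, zero_smul] at hv'
    rw [show v = 0 from rl_injective_fun a (hv'.trans (map_zero _).symm)]
    exact Submodule.zero_mem _
  refine Submodule.mem_iSup_of_mem lam⁻¹ (Module.End.mem_eigenspace_iff.mpr ?_)
  rw [hv', map_smul] at h1
  calc rl a⁻¹ v = (lam⁻¹ * lam) • rl a⁻¹ v := by rw [inv_mul_cancel₀ hlam, one_smul]
    _ = lam⁻¹ • v := by rw [mul_smul, h1]

theorem eq_one_of_isSsPt_isUnipPt [IsAffine G.left] {g : PT ⟶ G} (hs : IsSsPt g) (hu : IsUnipPt g) : g = 1 :=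
  rl_inj ((eq_one_of_isDiag_isLocUnip hs hu).trans rl_one.symm)

theorem IsSsPt.map {H : Over (Spec (CommRingCat.of k))} [GrpObj H] (i : H ⟶ G) [IsMonHom i]
    (hi : Function.Surjective (ev i)) {h : PT ⟶ H} (hs : IsSsPt (h ≫ i)) : IsSsPt h := by
  refine eq_top_iff.mpr fun v _ => ?_
  obtain ⟨f, rfl⟩ := hi v
  have hf : f ∈ ⨆ lam, (rl (h ≫ i)).eigenspace lam := hs ▸ Submodule.mem_top
  induction hf using Submodule.iSup_induction' with
  | mem lam x hx =>
    refine Submodule.mem_iSup_of_mem lam (Module.End.mem_eigenspace_iff.mpr ?_)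
    show rt h (ev i x) = lam • ev i x
    rw [← ev_rt_comp, show rt (h ≫ i) x = lam • x from Module.End.mem_eigenspace_iff.mp hx, map_smul]
  | zero => simp
  | add x y _ _ hx hy => rw [map_add]; exact Submodule.add_mem _ (hx trivial) (hy trivial)

theorem IsUnipPt.map {H : Over (Spec (CommRingCat.of k))} [GrpObj H] (i : H ⟶ G) [IsMonHom i]
    (hi : Function.Surjective (ev i)) {h : PT ⟶ H} (hs : IsUnipPt (h ≫ i)) : IsUnipPt h := by
  intro v
  obtain ⟨f, rfl⟩ := hi v
  obtain ⟨n, hn⟩ := hs f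
  have key : ∀ m : ℕ, ((rl h - 1) ^ m) (ev i f) = ev i (((rl (h ≫ i) - 1) ^ m) f) := by
    intro m
    induction m with
    | zero => simp
    | succ m ih =>
      rw [pow_succ', pow_succ', Module.End.mul_apply, Module.End.mul_apply, ih]
      simp only [LinearMap.sub_apply, Module.End.one_apply, AlgHom.toLinearMap_apply, map_sub, ev_rt_comp]
  exact ⟨n, by rw [key, hn, map_zero]⟩

section Jordan

variable [IsAlgClosed k] [IsAffine G.left] [LocallyOfFiniteType G.hom] [IsReduced G.left]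

/-- An algebra endomorphism commuting with left translations is a right translation. -/
theorem exists_rt (ψ : Fn G →ₐ[k] Fn G) (h : ∀ y f, ψ (lt y f) = lt y (ψ f)) : ∃ s : PT ⟶ G, rt s = ψ := by
  obtain ⟨s, hs⟩ := exists_pt ((vl (1 : PT ⟶ G)).comp ψ)
  refine ⟨s, AlgHom.ext fun f => eq_of_vl fun x => ?_⟩
  rw [vl_rt, ← vl_lt, hs, AlgHom.comp_apply, h, vl_lt, _root_.mul_one]

/-- The Jordan decomposition, with the semisimple factor given by the semisimple part. -/
theorem exists_jordan (g : PT ⟶ G) :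
    ∃ s u : PT ⟶ G, g = s * u ∧ Commute s u ∧ IsSsPt s ∧ IsUnipPt u ∧ rl s = ssPart (rl g) := by
  have hf := rl_isLocFin g
  obtain ⟨ψ, hψ⟩ := exists_ssPart_algHom (rt g) hf
  obtain ⟨s, hs⟩ := exists_rt ψ fun y f => by
    have := ssPart_comm hf hf (lt y).toLinearMap (fun v => (rt_lt g y v).symm) f
    rw [← hψ] at this
    exact this.symm
  have hrs : rl s = ssPart (rl g) := by rw [← hψ, rl, hs]
  have hsg : rl s * rl g = rl g * rl s := by
    refine LinearMap.ext fun v => ?_
    rw [hrs]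
    exact (ssPart_comm hf hf (rl g) (fun _ => rfl) v).symm
  have hcomm : Commute s g := rl_inj (by rw [rl_mul, rl_mul, hsg])
  have hcu : Commute s (s⁻¹ * g) := ((Commute.refl s).inv_right).mul_right hcomm
  refine ⟨s, s⁻¹ * g, (mul_inv_cancel_left s g).symm, hcu, ?_, ?_, hrs⟩
  · show IsDiag (rl s)
    rw [hrs]
    exact ssPart_isDiag hf
  · refine isLocUnip_of_fac hf (rl_injective_fun g) ?_ ?_
    · rw [← hrs]; exact rl_commute hcu
    · rw [← hrs, ← rl_mul, mul_inv_cancel_left]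

theorem jordan_unique {g s u s' u' : PT ⟶ G} (h : g = s * u) (hc : Commute s u) (hs : IsSsPt s) (hu : IsUnipPt u)
    (h' : g = s' * u') (hc' : Commute s' u') (hs' : IsSsPt s') (hu' : IsUnipPt u') : s = s' ∧ u = u' := by
  have key : ∀ {a b : PT ⟶ G}, g = a * b → Commute a b → IsSsPt a → IsUnipPt b → rl a = ssPart (rl g) :=
    fun {a b} e c ha hb => eq_ssPart (rl_isLocFin g) ha hb (rl_commute c) (by rw [e, rl_mul])
  obtain rfl : s = s' := rl_inj ((key h hc hs hu).trans (key h' hc' hs' hu').symm)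
  exact ⟨rfl, mul_left_cancel (h.symm.trans h')⟩

theorem commute_of_jordan {g s u a : PT ⟶ G} (h : g = s * u) (hc : Commute s u) (hs : IsSsPt s) (hu : IsUnipPt u)
    (ha : Commute a g) : Commute a s ∧ Commute a u := by
  have hs' := eq_ssPart (rl_isLocFin g) hs hu (rl_commute hc) (by rw [h, rl_mul])
  have h1 : Commute a s := rl_inj (by
    rw [rl_mul, rl_mul]
    refine LinearMap.ext fun v => ?_
    rw [hs']
    exact ssPart_comm (rl_isLocFin g) (rl_isLocFin g) (rl a)
      (fun w => LinearMap.congr_fun (rl_commute ha) w) v)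
  refine ⟨h1, ?_⟩
  have : u = s⁻¹ * g := by rw [h, inv_mul_cancel_left]
  rw [this]
  exact h1.inv_right.mul_right ha

/-- The Jordan components of a point of a closed subgroup lie in it, and homomorphisms preserve both kinds. -/
theorem map_isSsPt_isUnipPt {H : Over (Spec (CommRingCat.of k))} [GrpObj H] [IsAffine H.left]
    [LocallyOfFiniteType H.hom] [IsReduced H.left] (i : H ⟶ G) [IsMonHom i] (h : PT ⟶ H) :
    (IsSsPt h → IsSsPt (h ≫ i)) ∧ (IsUnipPt h → IsUnipPt (h ≫ i)) := by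
  obtain ⟨s, u, hg, hc, hs, hu, hrs⟩ := exists_jordan (h ≫ i)
  have key : ∀ a : PT ⟶ H, rl a = ssPart (rl h) → a ≫ i = s := by
    intro a ha
    refine vl_ext fun f => ?_
    have h1 : rl a (ev i f) = ev i (rl s f) := by
      rw [ha, hrs]
      exact (ssPart_comm (rl_isLocFin _) (rl_isLocFin h) (ev i).toLinearMap (fun v => ev_rt_comp i h v) f).symm
    have h2 := congrArg (vl (1 : PT ⟶ H)) h1
    rw [show rl a (ev i f) = rt a (ev i f) from rfl, vl_one_rt, vl_ev, vl_ev, MonObj.one_comp] at h2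
    exact h2.trans (vl_one_rt s f)
  refine ⟨fun hh => ?_, fun hh => ?_⟩
  · have e := key h (eq_ssPart (rl_isLocFin h) hh (show IsLocUnip (1 : Module.End k (Fn H)) from
      fun v => ⟨1, by simp⟩) (by simp) (_root_.mul_one _).symm)
    rw [e]
    exact hs
  · have e := key 1 (eq_ssPart (rl_isLocFin h) isSsPt_one hh (rl_commute (Commute.one_left h))
      (by rw [← rl_mul, _root_.one_mul]))
    rw [MonObj.one_comp] at e
    rw [hg, ← e, _root_.one_mul]
    exact hu

end Jordan

end Groth.Agent.SolvGrp
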