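import Groth.Agent.SolvGrp.TorusSepBase
import Groth.Agent.SolvGrp.Union
import Groth.Agent.SolvGrp.PerfectRad
import Groth.Agent.SolvGrp.UnipNormal
import Groth.Agent.SolvGrp.Radical2

/-! Semisimplicity is invariant under extensions of algebraically closed fields. -/

set_option backward.isDefEq.respectTransparency false
set_option backward.isDefEq.respectTransparency.types false
set_option linter.style.haveILetI false

universe u

open CategoryTheory MonoidalCategory CartesianMonoidalCategory MonObj AlgebraicGeometry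

namespace Groth.Agent.SolvGrp

open GrpSchLib GrpSchLib.Kunneth GrpSchLib.LineGroups WeilCmp.Unip AGFLib AGFLib.Gen AGFLib.BorelFixed AGFLib.BorelExist
open AGFLib.QuotProper

/-- The restriction of an action along a homomorphism. -/
noncomputable def resAct {k : Type u} [Field k] {H G X : Over (Spec (CommRingCat.of k))} [GrpObj H] [GrpObj G]
    (f : H ⟶ G) [IsMonHom f] (a : AlgGrp.Action G X) : AlgGrp.Action H X where
  act := (f ▷ X) ≫ a.act
  one_act := by rw [← comp_whiskerRight_assoc, IsMonHom.one_hom, a.one_act]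
  mul_act := by
    rw [← comp_whiskerRight_assoc, IsMonHom.mul_hom, comp_whiskerRight, Category.assoc, a.mul_act,
      MonoidalCategory.whiskerLeft_comp, Category.assoc, MonoidalCategory.tensorHom_def, comp_whiskerRight,
      Category.assoc, associator_naturality_middle_assoc, associator_naturality_left_assoc,
      ← whisker_exchange_assoc, ← whisker_exchange_assoc]

variable {k : Type u} [Field k] [IsAlgClosed k]

local notation "PT" => 𝟙_ (Over (Spec (CommRingCat.of k)))

variable {G B : Over (Spec (CommRingCat.of k))} [GrpObj G] [GrpObj B] [IsAffine G.left] [Smooth G.hom]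
  [ConnectedSpace G.left]

/-- The intersection of the conjugates of a Borel subgroup of a semisimple group is finite. -/
theorem finite_borel_core (hG : Red.IsSemisimpleOver k G) (iB : B ⟶ G) [IsMonHom iB] (hB : Red.IsBorelOver k iB) :
    {z : PT ⟶ G | ∀ g, g * z * g⁻¹ ∈ rangePts iB}.Finite := by
  obtain ⟨-, hcl, hsm, hconn, hsolv, -⟩ := id hB
  haveI := hcl
  haveI := hsm
  haveI := hconn
  haveI : IsReduced G.left := isReduced_of_smooth_field G.hom
  obtain ⟨haB, hlB, hqB, hmB, -⟩ := sub_props iB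
  haveI := hlB
  haveI := hqB
  haveI := hmB
  let Γ : Subgroup (PT ⟶ G) := ⨅ g : PT ⟶ G, (rangePts iB).comap (MulAut.conj g).toMonoidHom
  have hmem : ∀ z, z ∈ Γ ↔ ∀ g, g * z * g⁻¹ ∈ rangePts iB := fun z => by
    simp [Γ, Subgroup.mem_iInf]
  have hΓ : PtsClosed (Γ : Set (PT ⟶ G)) := by
    have e : (Γ : Set (PT ⟶ G)) = ⋂ g, {w | w ≫ AGFLib.Borel.conjM g ∈ (rangePts iB : Set (PT ⟶ G))} := by
      ext w
      simp only [SetLike.mem_coe, hmem, Set.mem_iInter, Set.mem_setOf_eq, comp_conjM_pt]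
    rw [e]
    exact PtsClosed.iInter fun g => (ptsClosed_range iB).preimage _
  have hΓn : ∀ g, ∀ z ∈ (Γ : Set (PT ⟶ G)), g * z * g⁻¹ ∈ (Γ : Set (PT ⟶ G)) := fun g z hz => (hmem _).mpr fun h => by
    rw [show h * (g * z * g⁻¹) * h⁻¹ = h * g * z * (h * g)⁻¹ by group]
    exact (hmem z).mp hz _
  obtain ⟨D, _, iD, hiD, hcD, hsD, hconnD, hnD, hDle, hDmax⟩ := exists_normalSub (Γ : Set (PT ⟶ G)) hΓn Γ hΓ subset_rfl
  haveI := hiD
  haveI := hcD
  haveI := hsD
  haveI := hconnD
  obtain ⟨haD, hlD, hqD, hmD, -⟩ := sub_props iD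
  haveI := haD
  haveI := hlD
  haveI := hmD
  have hDsolv : Red.IsSolvableGrp D := by
    obtain ⟨n, hn⟩ := hsolv
    refine AGFLib.ProperSpace.isSolvableGrp_of_pts n (eq_bot_iff.mpr fun x hx => ?_)
    have hle : rangePts iD ≤ rangePts iB := fun z hz => by simpa using (hmem z).mp (hDle hz) 1
    have h1 : x ≫ iD ∈ (derivedSeries (PT ⟶ B) n).map (ptsHom iB) := by
      have h2 : (derivedSeries (PT ⟶ D) n).map (ptsHom iD) ≤ (derivedSeries (PT ⟶ B) n).map (ptsHom iB) := by
        clear hx hn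
        induction n with
        | zero =>
          simp only [derivedSeries_zero]
          rintro _ ⟨y, -, rfl⟩
          obtain ⟨b, hb⟩ := hle ⟨y, rfl⟩
          exact ⟨b, Subgroup.mem_top b, hb⟩
        | succ m ih =>
          simp only [derivedSeries_succ, Subgroup.map_commutator]
          exact Subgroup.commutator_mono ih ih
      exact h2 ⟨x, hx, rfl⟩
    rw [hn, Subgroup.map_bot, Subgroup.mem_bot] at h1
    rw [Subgroup.mem_bot, ← cancel_mono iD, h1, MonObj.one_comp]
  have hnD' : AlgGrp.IsNormalHom iD := isNormalHom_of_pts iD hnD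
  have htriv : Red.IsTrivialGrp D := hG.2 D iD hcD hnD' (isTorus_of_solvable_normal iD hG.1 hnD' hDsolv)
  obtain ⟨D', _, i', hi', hci', hsm', hconn', ha', hle', S, hS, -, hcov⟩ := exists_connSub Γ hΓ
  haveI := hi'
  haveI := hsm'
  haveI := hconn'
  haveI := ha'
  refine hS.subset fun z hz => ?_
  obtain ⟨s, hs, hsz⟩ := hcov z ((hmem z).mpr hz)
  obtain ⟨d, hd⟩ := hDmax D' i' (fun w hw => hle' hw) hsz
  change d ≫ iD = s⁻¹ * z at hd
  rw [pt_eq_one_of_trivial htriv d, MonObj.one_comp, eq_comm, inv_mul_eq_one] at hd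
  exact hd ▸ hs

variable {K : Type u} [Field K] [IsAlgClosed K] (φ : k →+* K)

local notation "σ" => Spec.map (CommRingCat.ofHom φ)
local notation "PK" => 𝟙_ (Over (Spec (CommRingCat.of K)))

/-- Conjugation by a rational point on extended points. -/
theorem comp_map_conjM (g : PT ⟶ G) (w : PK ⟶ Red.bc σ G) :
    w ≫ (Over.pullback σ).map (AGFLib.Borel.conjM g) = extPt σ g * w * (extPt σ g)⁻¹ := by
  obtain ⟨v, rfl⟩ := (AVTors.bcPts σ PK G).surjective w
  rw [← AVTors.bcPts_comp]
  have h : v ≫ AGFLib.Borel.conjM g = (toUnit _ ≫ g) * v * (toUnit _ ≫ g)⁻¹ := by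
    simp only [AGFLib.Borel.conjM, AGF.conjBy, MonObj.comp_mul, GrpObj.comp_inv, ← Category.assoc, comp_toUnit, Category.comp_id]
  rw [h, map_mul, map_mul, map_inv]
  rfl

/-- The first projection of a mapped point. -/
theorem fst_map {Z Z' : Over (Spec (CommRingCat.of k))} (w : PK ⟶ Red.bc σ Z) (f : Z ⟶ Z') :
    Limits.pullback.fst Z'.hom σ ((w ≫ (Over.pullback σ).map f).left (IsLocalRing.closedPoint K)) =
      f.left (Limits.pullback.fst Z.hom σ (w.left (IsLocalRing.closedPoint K))) := by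
  rw [Over.comp_left, Scheme.Hom.comp_apply]
  refine (Scheme.Hom.comp_apply _ _ _).symm.trans ?_
  refine ((congrArg (fun m : (Red.bc σ Z).left ⟶ Z'.left => m (w.left (IsLocalRing.closedPoint K)))
    (Limits.pullback.lift_fst _ _ _ : ((Over.pullback σ).map f).left ≫ Limits.pullback.fst Z'.hom σ =
      Limits.pullback.fst Z.hom σ ≫ f.left))).trans ?_
  exact Scheme.Hom.comp_apply _ _ _

/-- A connected solvable normal subgroup of the extension of a semisimple group is trivial. -/
theorem isTrivialGrp_of_solvable_normal_bc (hG : Red.IsSemisimpleOver k G)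
    {U : Over (Spec (CommRingCat.of K))} [GrpObj U] (u : U ⟶ Red.bc σ G) [IsMonHom u] [IsClosedImmersion u.left]
    [Smooth U.hom] [ConnectedSpace U.left] (hn : AlgGrp.IsNormalHom u) (hs : Red.IsSolvableGrp U) :
    Red.IsTrivialGrp U := by
  haveI : IsReduced G.left := isReduced_of_smooth_field G.hom
  haveI : IsAffine (Red.bc σ G).left := inferInstanceAs (IsAffine (Limits.pullback G.hom σ))
  haveI : Smooth (Red.bc σ G).hom := inferInstanceAs (Smooth (Limits.pullback.snd G.hom σ))
  haveI : IsReduced (Red.bc σ G).left := isReduced_of_smooth_field (Red.bc σ G).hom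
  haveI := GrpSchLib.AntiAffine.isSeparated_grp (Red.bc σ G)
  obtain ⟨haU, hlU, hqU, hmU, -⟩ := sub_props u
  haveI := haU
  haveI := hlU
  haveI := hmU
  haveI : IsReduced U.left := isReduced_of_smooth_field U.hom
  obtain ⟨B₀, _, iB, -, -, -, hB, -, -⟩ := AGFLib.Borel.exists_borel G
  haveI := hB.1
  haveI := hB.2.1
  haveI := hB.2.2.1
  obtain ⟨-, hlB, hqB, hmB, -⟩ := sub_props iB
  haveI := hlB
  haveI := hqB
  haveI := hmB
  obtain ⟨X, a, o, hl, -, hfl, hsu, hsq⟩ := GrpSchLib.HomogeneousQuot.exists_quot G B₀ iB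
  have hX : AGF.IsQuotient iB X a o := ⟨hl, hfl, hsu, hsq⟩
  haveI := AGFLib.Borel.isProper_borel iB hB hX
  haveI := hl
  let F := Over.pullback σ
  let aK := AGFLib.GeomBC.bcAction σ a
  let oK := AGFLib.GeomBC.bcPt σ o
  have hXK : AGF.IsQuotient (F.map iB) (Red.bc σ X) aK oK := AGFLib.GeomBC.isQuotient_bc σ iB a o hX
  haveI : IsProper (Red.bc σ X).hom := inferInstanceAs (IsProper (Limits.pullback.snd X.hom σ))
  haveI : LocallyOfFiniteType (Red.bc σ X).hom := hXK.1
  haveI : Surjective (aK.orbitMap oK).left := hXK.2.2.1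
  haveI : Nonempty (Red.bc σ G).left := ⟨cp (1 : PK ⟶ Red.bc σ G)⟩
  haveI : Nonempty (Red.bc σ X).left := ⟨(aK.orbitMap oK).left (cp (1 : PK ⟶ Red.bc σ G))⟩
  obtain ⟨n, hsn⟩ := hs
  obtain ⟨y, hy⟩ := exists_fixed n U (hsn _) (Red.bc σ X) (resAct u aK)
  obtain ⟨x, rfl⟩ := exists_of_mem_range (aK.orbitMap oK) y ((aK.orbitMap oK).left.surjective _)
  have hfix : ∀ z : PK ⟶ U, ∃ b : PK ⟶ Red.bc σ B₀, b ≫ F.map iB = x⁻¹ * (z ≫ u) * x := fun z => by
    have h1 := hy z
    change lift z _ ≫ (u ▷ Red.bc σ X) ≫ aK.act = _ at h1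
    rw [lift_whiskerRight_assoc, pt_orbitMap, GrpSchLib.act_mul] at h1
    obtain ⟨b, hb⟩ := AGFLib.QuotProper.exists_mul_eq hXK x ((z ≫ u) * x) (by
      rw [pt_orbitMap, pt_orbitMap]; exact h1.symm)
    refine ⟨b, ?_⟩
    rw [_root_.mul_assoc, ← hb, inv_mul_cancel_left]
  -- every point lies over the core of the Borel subgroup
  have hfin := finite_borel_core hG iB hB
  let C : Set G.left := ⋂ g : PT ⟶ G, (AGFLib.Borel.conjM g).left ⁻¹' Set.range iB.left
  have hC : IsClosed C := isClosed_iInter fun g =>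
    iB.left.isClosedEmbedding.isClosed_range.preimage (AGFLib.Borel.conjM g).left.continuous
  have hCle : C ⊆ cp '' {z : PT ⟶ G | ∀ g, g * z * g⁻¹ ∈ rangePts iB} := by
    haveI : JacobsonSpace G.left := LocallyOfFiniteType.jacobsonSpace G.hom
    rw [← JacobsonSpace.closure_inter_closedPoints hC]
    refine closure_minimal (fun q hq => ?_) ?_
    · obtain ⟨r, hr⟩ := exists_cp hq.2
      refine ⟨r, fun g => ?_, hr⟩
      obtain ⟨b, hb⟩ := exists_of_mem_range iB (r ≫ AGFLib.Borel.conjM g) (by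
        have := Set.mem_iInter.mp hq.1 g
        rw [← hr] at this
        exact this)
      exact ⟨b, hb.trans (comp_conjM_pt _ _)⟩
    · rw [← Set.biUnion_of_singleton (cp '' {z : PT ⟶ G | ∀ g, g * z * g⁻¹ ∈ rangePts iB})]
      refine (hfin.image cp).isClosed_biUnion ?_
      rintro _ ⟨r, -, rfl⟩
      exact isClosed_cp r
  have hz : ∀ z : PK ⟶ U, z ≫ u ∈ extPt σ '' {z : PT ⟶ G | ∀ g, g * z * g⁻¹ ∈ rangePts iB} := by
    intro z
    have hin : Limits.pullback.fst G.hom σ ((z ≫ u).left (IsLocalRing.closedPoint K)) ∈ C := by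
      refine Set.mem_iInter.mpr fun g => ?_
      show (AGFLib.Borel.conjM g).left _ ∈ Set.range iB.left
      obtain ⟨z', hz'⟩ := hn _ (x * extPt σ g) z
      obtain ⟨b, hb⟩ := hfix z'
      have h2 : (z ≫ u) ≫ F.map (AGFLib.Borel.conjM g) = b ≫ F.map iB := by
        rw [hb, ← hz', comp_map_conjM]
        group
      refine ⟨Limits.pullback.fst B₀.hom σ (b.left (IsLocalRing.closedPoint K)), ?_⟩
      rw [← fst_map, ← h2, fst_map]
    obtain ⟨r, hr, hre⟩ := hCle hin
    exact ⟨r, hr, (eq_extPt_of_mem σ (z ≫ u) r (by rw [fst_extPt]; exact hre.symm)).symm⟩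
  haveI : Finite (PK ⟶ U) := by
    haveI := (hfin.image (extPt σ)).to_subtype
    exact Finite.of_injective (fun z => (⟨z ≫ u, hz z⟩ : extPt σ '' {z : PT ⟶ G | ∀ g, g * z * g⁻¹ ∈ rangePts iB}))
      fun p q h => (cancel_mono u).mp (congrArg Subtype.val h)
  exact isTrivialGrp_of_pts fun z => eq_one_of_finite inferInstance z

end Groth.Agent.SolvGrp
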