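import Groth.Agent.SolvGrp.Ext
import Groth.Agent.SolvGrp.Derived

/-! Tori in connected solvable groups. -/

set_option backward.isDefEq.respectTransparency false
set_option backward.isDefEq.respectTransparency.types false
set_option linter.style.haveILetI false

universe u

open CategoryTheory MonoidalCategory CartesianMonoidalCategory MonObj AlgebraicGeometry
open scoped commutatorElement

namespace Groth.Agent.SolvGrp

open GrpSchLib GrpSchLib.Kunneth GrpSchLib.LineGroups WeilCmp.Unip AGFLib AGFLib.Gen AGFLib.BorelFixed AGFLib.BorelExist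

variable {k : Type u} [Field k] [IsAlgClosed k]

local notation "PT" => 𝟙_ (Over (Spec (CommRingCat.of k)))

theorem rangePts_map {G H K : Over (Spec (CommRingCat.of k))} [GrpObj G] [GrpObj H] [GrpObj K] (i : H ⟶ G) [IsMonHom i]
    (j : K ⟶ H) [IsMonHom j] : rangePts (j ≫ i) = (rangePts j).map (ptsHom i) := by
  ext g
  constructor
  · rintro ⟨x, rfl⟩
    exact ⟨x ≫ j, ⟨x, rfl⟩, (Category.assoc x j i :)⟩
  · rintro ⟨_, ⟨x, rfl⟩, rfl⟩
    exact ⟨x, ((Category.assoc x j i).symm :)⟩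

theorem rangePts_eq_map_top {G H : Over (Spec (CommRingCat.of k))} [GrpObj G] [GrpObj H] (i : H ⟶ G) [IsMonHom i] :
    rangePts i = (⊤ : Subgroup (PT ⟶ H)).map (ptsHom i) := by
  rw [← MonoidHom.range_eq_map]
  rfl

variable {G : Over (Spec (CommRingCat.of k))} [GrpObj G] [IsAffine G.left] [Smooth G.hom] [ConnectedSpace G.left]

/-- The derived series consists of closed connected subgroups. -/
theorem exists_derivedSub (n : ℕ) :
    ∃ (D : Over (Spec (CommRingCat.of k))) (_ : GrpObj D) (i : D ⟶ G) (_ : IsMonHom i),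
      IsClosedImmersion i.left ∧ Smooth D.hom ∧ ConnectedSpace D.left ∧
        rangePts i = derivedSeries (PT ⟶ G) n := by
  induction n with
  | zero =>
    exact ⟨G, inferInstance, 𝟙 G, inferInstance, inferInstanceAs (IsClosedImmersion (𝟙 G.left)), inferInstance,
      inferInstance, eq_top_iff.mpr fun g _ => ⟨g, Category.comp_id g⟩⟩
  | succ n ih =>
    obtain ⟨D, _, i, hi, hci, hsm, hconn, hr⟩ := ih
    haveI := hi
    haveI := hci
    haveI := hsm
    haveI := hconn
    obtain ⟨haff, hlft, hqc, -, -⟩ := sub_props i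
    haveI := haff
    haveI := hlft
    haveI := hqc
    obtain ⟨E, _, e, he, hce, hsmE, hconnE, -, hrE⟩ := exists_commutatorSub (G := D) (N := D) (𝟙 D)
    haveI := he
    haveI := hce
    refine ⟨E, inferInstance, e ≫ i, inferInstance, inferInstanceAs (IsClosedImmersion (e.left ≫ i.left)), hsmE,
      hconnE, ?_⟩
    rw [rangePts_map, hrE, show rangePts (𝟙 D) = (⊤ : Subgroup (PT ⟶ D)) from
      eq_top_iff.mpr fun g _ => ⟨g, Category.comp_id g⟩, Subgroup.map_commutator, ← rangePts_eq_map_top, hr,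
      derivedSeries_succ]

/-- In a connected solvable group there is a torus, complementary to the unipotent points, into which every set of
commuting semisimple points is conjugate. -/
theorem exists_torus_of_derivedSeries : ∀ (n : ℕ) (G : Over (Spec (CommRingCat.of k))) [GrpObj G] [IsAffine G.left]
    [Smooth G.hom] [ConnectedSpace G.left], derivedSeries (PT ⟶ G) n = ⊥ →
    ∃ (T : Over (Spec (CommRingCat.of k))) (_ : GrpObj T) (i : T ⟶ G) (_ : IsMonHom i),
      IsClosedImmersion i.left ∧ Red.IsTorus T ∧ (∀ g : PT ⟶ G, ∃ t ∈ rangePts i, IsUnipPt (t⁻¹ * g)) ∧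
      ∀ S : Set (PT ⟶ G), (∀ s ∈ S, IsSsPt s) → (∀ a ∈ S, ∀ b ∈ S, Commute a b) →
        ∃ b : PT ⟶ G, ∀ s ∈ S, b * s * b⁻¹ ∈ rangePts i := by
  intro n
  induction n using Nat.strong_induction_on with
  | _ n ih =>
    intro G _ _ _ _ hn
    haveI : IsReduced G.left := isReduced_of_smooth_field G.hom
    by_cases hab : derivedSeries (PT ⟶ G) 1 = ⊥
    · have hcomm : ∀ a b : PT ⟶ G, Commute a b := fun a b => commutatorElement_eq_one_iff_commute.mp
        (Subgroup.mem_bot.mp (hab ▸ (derivedSeries_succ (PT ⟶ G) 0).symm ▸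
          Subgroup.commutator_mem_commutator (Subgroup.mem_top a) (Subgroup.mem_top b)))
      obtain ⟨T, inst, i, hi, hci, hT, hmem⟩ := exists_torus_comm hcomm
      refine ⟨T, inst, i, hi, hci, hT, fun g => ?_, fun S hS _ => ⟨1, fun s hs => ?_⟩⟩
      · obtain ⟨s, u, rfl, -, hs, hu, -⟩ := exists_jordan g
        exact ⟨s, hmem s hs, by rwa [inv_mul_cancel_left]⟩
      · simpa using hmem s (hS s hs)
    obtain ⟨m, rfl⟩ : ∃ m, n = m + 2 := by
      refine ⟨n - 2, ?_⟩
      by_contra hne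
      exact hab (le_bot_iff.mp (hn ▸ derivedSeries_antitone (PT ⟶ G) (show n ≤ 1 by omega)))
    haveI : Group.IsSolvable (PT ⟶ G) := (Group.isSolvable_def _).mpr ⟨m + 2, hn⟩
    obtain ⟨N, _, j, hj, hcj, hsj, hconnN, hrN⟩ := exists_derivedSub (G := G) (m + 1)
    haveI := hj
    haveI := hcj
    haveI := hsj
    haveI := hconnN
    obtain ⟨haffN, hlftN, hqcN, -, -⟩ := sub_props j
    haveI := haffN
    haveI := hlftN
    haveI := hqcN
    let V := derivedSeries (PT ⟶ G) (m + 1)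
    have hV : UKer V :=
      { closed := by
          show PtsClosed (derivedSeries (PT ⟶ G) (m + 1) : Set (PT ⟶ G))
          rw [← hrN]
          exact ptsClosed_range j
        normal := derivedSeries_normal _ (m + 1)
        comm := fun a ha b hb => commutatorElement_eq_one_iff_commute.mp (Subgroup.mem_bot.mp
          (hn ▸ (derivedSeries_succ (PT ⟶ G) (m + 1)).symm ▸ Subgroup.commutator_mem_commutator ha hb))
        unip := fun v hv => isUnipPt_of_commutator
          (derivedSeries_one (PT ⟶ G) ▸ derivedSeries_antitone (PT ⟶ G) (show 1 ≤ m + 1 by omega) hv) }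
    obtain ⟨Q, _, q, hq, haQ, hsQ, hrQ, hsurj, hlift, hker⟩ := exists_quot V hV.closed hV.normal
    haveI := hq
    haveI := haQ
    haveI := hsQ
    haveI := hrQ
    haveI := hsurj
    haveI : ConnectedSpace Q.left := q.left.surjective.connectedSpace q.left.continuous
    have hQn : derivedSeries (PT ⟶ Q) (m + 1) = ⊥ := by
      rw [← map_derivedSeries_eq (f := ptsHom q) (fun x => hlift x) (m + 1), eq_bot_iff]
      rintro _ ⟨v, hv, rfl⟩
      exact Subgroup.mem_bot.mpr ((hker v).mpr hv)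
    obtain ⟨Tq, _, iq, hiq, hciq, hTq, hAq, hBq⟩ := ih (m + 1) (by omega) Q hQn
    haveI := hiq
    haveI := hciq
    obtain ⟨-, hlftq, hqcq, -, -⟩ := sub_props iq
    haveI := hlftq
    haveI := hqcq
    haveI := (torus_props hTq).1
    haveI := (torus_props hTq).2.1
    haveI := (torus_props hTq).2.2.1
    let Γ : Subgroup (PT ⟶ G) := (rangePts iq).comap (ptsHom q)
    obtain ⟨D, _, iD, hiD, hciD, hsmD, hconnD, haffD, hleD, R, hRf, hRΓ, hcov⟩ :=
      exists_connSub Γ ((ptsClosed_range iq).preimage q)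
    haveI := hiD
    haveI := hciD
    haveI := hsmD
    haveI := hconnD
    haveI := haffD
    obtain ⟨-, hlftD, hqcD, hmonoD, hevD⟩ := sub_props iD
    haveI := hlftD
    haveI := hqcD
    haveI : IsReduced D.left := isReduced_of_smooth_field D.hom
    have hVΓ : V ≤ Γ := fun v hv => by
      show v ≫ q ∈ rangePts iq
      rw [(hker v).mpr hv]
      exact one_mem _
    -- `V` is in the connected subgroup
    have hVD : V ≤ rangePts iD := by
      intro v hv
      obtain ⟨x, rfl⟩ : v ∈ rangePts j := hrN.symm ▸ hv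
      have htop : (rangePts iD).comap (ptsHom j) = (⊤ : Subgroup (PT ⟶ N)) := by
        classical
        let R' := {r ∈ R | ∃ y : PT ⟶ N, r⁻¹ * (y ≫ j) ∈ rangePts iD}
        have hR' : ∀ r ∈ R', ∃ y : PT ⟶ N, r⁻¹ * (y ≫ j) ∈ rangePts iD := fun r hr => hr.2
        choose f hf using hR'
        refine eq_top_of_finite _ ((ptsClosed_range iD).preimage j) ((fun r : R' => f r r.2) '' Set.univ)
          ((Set.finite_univ_iff.mpr (hRf.subset fun r hr => hr.1).to_subtype).image _) fun y => ?_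
        obtain ⟨r, hr, hry⟩ := hcov (y ≫ j) (hVΓ (show y ≫ j ∈ V from hrN.le ⟨y, rfl⟩))
        refine ⟨f r ⟨hr, y, hry⟩, ⟨⟨r, hr, y, hry⟩, trivial, rfl⟩, ?_⟩
        show ((f r ⟨hr, y, hry⟩)⁻¹ * y) ≫ j ∈ rangePts iD
        rw [MonObj.mul_comp, GrpObj.inv_comp]
        simpa [_root_.mul_assoc] using (rangePts iD).mul_mem ((rangePts iD).inv_mem (hf r ⟨hr, y, hry⟩)) hry
      exact (htop ▸ Subgroup.mem_top x : x ∈ (rangePts iD).comap (ptsHom j))
    have hΓD : Γ ≤ rangePts iD := by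
      intro g hg
      have htop : (rangePts (iD ≫ q)).comap (ptsHom iq) = (⊤ : Subgroup (PT ⟶ Tq)) := by
        classical
        have hlift' : ∀ r ∈ R, ∃ y : PT ⟶ Tq, y ≫ iq = r ≫ q := fun r hr => hRΓ hr
        choose f hf using hlift'
        refine eq_top_of_finite _ ((ptsClosed_range (iD ≫ q)).preimage iq) ((fun r : R => f r r.2) '' Set.univ)
          ((Set.finite_univ_iff.mpr hRf.to_subtype).image _) fun y => ?_
        obtain ⟨z, hz⟩ := hlift (y ≫ iq)
        obtain ⟨r, hr, d, hd⟩ := hcov z (show z ≫ q ∈ rangePts iq from ⟨y, hz.symm⟩)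
        refine ⟨f r hr, ⟨⟨r, hr⟩, trivial, rfl⟩, d, ?_⟩
        show d ≫ iD ≫ q = ((f r hr)⁻¹ * y) ≫ iq
        rw [← Category.assoc, show d ≫ iD = r⁻¹ * z from hd, MonObj.mul_comp, MonObj.mul_comp, GrpObj.inv_comp,
          GrpObj.inv_comp, hf, hz]
      obtain ⟨y, hy⟩ : g ≫ q ∈ rangePts iq := hg
      obtain ⟨d, hd⟩ : y ≫ iq ∈ rangePts (iD ≫ q) := (htop ▸ Subgroup.mem_top y : y ∈ (rangePts (iD ≫ q)).comap (ptsHom iq))
      have h1 : (d ≫ iD)⁻¹ * g ∈ V := (hker _).mp (by
        rw [MonObj.mul_comp, GrpObj.inv_comp, Category.assoc]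
        rw [show d ≫ iD ≫ q = y ≫ iq from hd, show y ≫ iq = g ≫ q from hy, inv_mul_cancel])
      have := (rangePts iD).mul_mem ⟨d, rfl⟩ (hVD h1)
      simpa using this
    have hinj : ∀ a b : PT ⟶ D, a ≫ iD = b ≫ iD → a = b := fun a b h => (cancel_mono iD).mp h
    let VD : Subgroup (PT ⟶ D) := V.comap (ptsHom iD)
    have hVD' : UKer VD :=
      { closed := hV.closed.preimage iD
        normal := hV.normal.comap _
        comm := fun a ha b hb => hinj _ _ (by rw [MonObj.mul_comp, MonObj.mul_comp]; exact hV.comm _ ha _ hb)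
        unip := fun v hv => (hV.unip _ hv).map iD hevD }
    have hDq : ∀ d : PT ⟶ D, ∃ y : PT ⟶ Tq, y ≫ iq = (d ≫ iD) ≫ q := fun d => hleD ⟨d, rfl⟩
    obtain ⟨T, _, i, hi, hci, hT, hTV⟩ := exists_torus_ext hVD'
      (fun a b => by
        obtain ⟨x, hx⟩ := hDq a
        obtain ⟨y, hy⟩ := hDq b
        show ptsHom iD ⁅a, b⁆ ∈ V
        refine (hker _).mp ?_
        show ptsHom q (ptsHom iD ⁅a, b⁆) = 1
        rw [map_commutatorElement, map_commutatorElement, commutatorElement_eq_one_iff_commute]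
        show Commute ((a ≫ iD) ≫ q) ((b ≫ iD) ≫ q)
        rw [← hx, ← hy]
        exact (torus_commute hTq x y).map (ptsHom iq))
      (fun u hu => by
        obtain ⟨y, hy⟩ := hDq u
        have h1 : IsSsPt ((u ≫ iD) ≫ q) := hy ▸ isSsPt_of_torus hTq iq y
        have h2 := eq_one_of_isSsPt_isUnipPt h1 ((map_isSsPt_isUnipPt q _).2 ((map_isSsPt_isUnipPt iD u).2 hu))
        exact (hker _).mp h2)
    haveI := hi
    haveI := hci
    refine ⟨T, inferInstance, i ≫ iD, inferInstance, inferInstanceAs (IsClosedImmersion (i.left ≫ iD.left)), hT,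
      fun g => ?_, fun S hS hc => ?_⟩
    · obtain ⟨tq, htq, huq⟩ := hAq (g ≫ q)
      obtain ⟨z, hz⟩ := hlift tq
      obtain ⟨d, rfl⟩ := hΓD (show z ≫ q ∈ rangePts iq from hz ▸ htq)
      obtain ⟨_, ⟨x, rfl⟩, hxv⟩ := hTV d
      refine ⟨x ≫ i ≫ iD, ⟨x, rfl⟩, ?_⟩
      have hxq : (x ≫ i ≫ iD) ≫ q = tq := by
        have h1 : ptsHom q (ptsHom iD ((x ≫ i)⁻¹ * d)) = 1 := (hker _).mpr hxv
        rw [map_mul, map_mul, map_inv, map_inv, inv_mul_eq_one] at h1
        rw [← hz]
        exact (congrArg (· ≫ q) (Category.assoc x i iD).symm).trans h1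
      have hqu : IsUnipPt (((x ≫ i ≫ iD)⁻¹ * g) ≫ q) := by
        rw [MonObj.mul_comp, GrpObj.inv_comp, hxq]
        exact huq
      set u := (x ≫ i ≫ iD)⁻¹ * g
      obtain ⟨s, u', hsu, hsc, hs, hu', -⟩ := exists_jordan u
      have h := jordan_unique (g := u ≫ q) (by rw [hsu, MonObj.mul_comp]; rfl) (hsc.map (ptsHom q))
        ((map_isSsPt_isUnipPt q s).1 hs) ((map_isSsPt_isUnipPt q u').2 hu') (_root_.one_mul (u ≫ q)).symm
        (Commute.one_left _) isSsPt_one hqu
      have hs1 : s = 1 := eq_one_of_isSsPt_isUnipPt hs (hV.unip s ((hker s).mp h.1))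
      rw [hsu, hs1, _root_.one_mul]
      exact hu'
    · obtain ⟨bq, hbq⟩ := hBq ((fun s => s ≫ q) '' S)
        (by rintro _ ⟨s, hs, rfl⟩; exact (map_isSsPt_isUnipPt q s).1 (hS s hs))
        (by rintro _ ⟨a, ha, rfl⟩ _ ⟨b, hb, rfl⟩; exact (hc a ha b hb).map (ptsHom q))
      obtain ⟨b, hb⟩ := hlift bq
      have hmem : ∀ s ∈ S, ∃ d : PT ⟶ D, d ≫ iD = b * s * b⁻¹ := fun s hs => hΓD (by
        show (b * s * b⁻¹) ≫ q ∈ rangePts iq
        rw [MonObj.mul_comp, MonObj.mul_comp, GrpObj.inv_comp, hb]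
        exact hbq _ ⟨s, hs, rfl⟩)
      obtain ⟨c, -, hcS⟩ := exists_conj_ext hVD' hT i hTV {d : PT ⟶ D | ∃ s ∈ S, d ≫ iD = b * s * b⁻¹}
        (fun d ⟨s, hs, hd⟩ => IsSsPt.map iD hevD (hd ▸ (hS s hs).conj b))
        (fun d ⟨s, hs, hd⟩ d' ⟨s', hs', hd'⟩ => hinj _ _ (by
          rw [MonObj.mul_comp, MonObj.mul_comp, hd, hd',
            show b * s * b⁻¹ * (b * s' * b⁻¹) = b * (s * s') * b⁻¹ by group, (hc s hs s' hs').eq]
          group))
      refine ⟨(c ≫ iD) * b, fun s hs => ?_⟩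
      obtain ⟨d, hd⟩ := hmem s hs
      obtain ⟨x, hx⟩ := hcS d ⟨s, hs, hd⟩
      refine ⟨x, ?_⟩
      show x ≫ i ≫ iD = (c ≫ iD) * b * s * ((c ≫ iD) * b)⁻¹
      rw [← Category.assoc, show x ≫ i = c * d * c⁻¹ from hx, MonObj.mul_comp, MonObj.mul_comp, GrpObj.inv_comp, hd]
      group

end Groth.Agent.SolvGrp
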