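import Groth.Agent.SolvGrp.RepTools

/-! The representation on the span of the translates of a vector of functions. -/

set_option backward.isDefEq.respectTransparency false
set_option backward.isDefEq.respectTransparency.types false
set_option linter.style.haveILetI false

universe u

open CategoryTheory MonoidalCategory CartesianMonoidalCategory MonObj AlgebraicGeometry
open scoped Matrix

namespace Groth.Agent.SolvGrp

open GrpSchLib GrpSchLib.Kunneth GrpSchLib.LineGroups GrpSchLib.ProjLine WeilCmp.Unip AGFLib AGFLib.Gen AGFLib.BorelFixed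
open AGFLib.ProjAct

variable {k : Type u} [Field k] [IsAlgClosed k]

local notation "PT" => 𝟙_ (Over (Spec (CommRingCat.of k)))

variable {G : Over (Spec (CommRingCat.of k))} [GrpObj G] [IsAffine G.left] [LocallyOfFiniteType G.hom] [IsReduced G.left]

/-- A non-zero vector of functions transforming linearly factors through a spanning representation. -/
theorem exists_spanRep {n : ℕ} (z : Fin (n + 1) → Fn G) (M : Fin (n + 1) → Fin (n + 1) → Fn G)
    (hlin : ∀ (g h : 𝟙_ (Over (Spec (CommRingCat.of k))) ⟶ G) x, vl (g * h) (z x) = ∑ s, vl g (M x s) * vl h (z s))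
    (hne : ∃ x, vl (1 : PT ⟶ G) (z x) ≠ 0) :
    ∃ (m : ℕ) (R : Matrix (Fin (m + 1)) (Fin (m + 1)) (Fn G)) (a : Fin (m + 1) → Fin (n + 1))
      (A : Fin (n + 1) → Fin (m + 1) → k) (W₀ : Fin (m + 1) → k), W₀ ≠ 0 ∧ IsRepMatrix R ∧
      (∀ (g : PT ⟶ G) j, (valM R g).mulVec W₀ j = vl g (z (a j))) ∧
      (∀ (g : PT ⟶ G) s, vl g (z s) = ∑ j, A s j * vl g (z (a j))) ∧
      (∀ (g : PT ⟶ G) i j, valM R g i j = ∑ s, A s j * vl g (M (a i) s)) ∧
      ∀ c : Fin (m + 1) → k, (∀ g : PT ⟶ G, c ⬝ᵥ (valM R g).mulVec W₀ = 0) → c = 0 := by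
  classical
  obtain ⟨κ, a₀, hinj, hspan, hli⟩ := exists_linearIndependent' k z
  haveI : Finite κ := Finite.of_injective a₀ hinj
  haveI : Fintype κ := Fintype.ofFinite κ
  haveI : Nonempty κ := by
    by_contra hκ
    rw [not_nonempty_iff] at hκ
    obtain ⟨x, hx⟩ := hne
    have h1 : z x ∈ Submodule.span k (Set.range (z ∘ a₀)) := hspan ▸ Submodule.subset_span ⟨x, rfl⟩
    rw [Set.range_eq_empty, Submodule.span_empty, Submodule.mem_bot] at h1
    exact hx (by rw [h1, map_zero])
  obtain ⟨m, hm⟩ := Nat.exists_eq_succ_of_ne_zero (Fintype.card_ne_zero (α := κ))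
  let e : Fin (m + 1) ≃ κ := (Fintype.equivFinOfCardEq hm).symm
  let a : Fin (m + 1) → Fin (n + 1) := a₀ ∘ e
  have hliw : LinearIndependent k (z ∘ a) := hli.comp e e.injective
  have hspanw : ∀ s, z s ∈ Submodule.span k (Set.range (z ∘ a)) := fun s => by
    rw [show z ∘ a = (z ∘ a₀) ∘ e from rfl, e.surjective.range_comp, hspan]
    exact Submodule.subset_span ⟨s, rfl⟩
  choose A hA using fun s => (Submodule.mem_span_range_iff_exists_fun k).mp (hspanw s)
  have hzA : ∀ (g : PT ⟶ G) s, vl g (z s) = ∑ j, A s j * vl g (z (a j)) := fun g s => by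
    conv_lhs => rw [← hA s]
    simp [map_sum, map_smul]
  let R : Matrix (Fin (m + 1)) (Fin (m + 1)) (Fn G) := Matrix.of fun i j => ∑ s, A s j • M (a i) s
  let W : (PT ⟶ G) → Fin (m + 1) → k := fun g j => vl g (z (a j))
  have hR : ∀ (g : PT ⟶ G) i j, valM R g i j = ∑ s, A s j * vl g (M (a i) s) := fun g i j => by
    show vl g (∑ s, A s j • M (a i) s) = _
    simp [map_sum, map_smul]
  have hW : ∀ g h, W (g * h) = (valM R g).mulVec (W h) := fun g h => funext fun i => by
    show vl (g * h) (z (a i)) = _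
    rw [hlin]
    simp only [Matrix.mulVec, dotProduct, hR, Finset.sum_mul, W]
    rw [Finset.sum_comm]
    refine Finset.sum_congr rfl fun s _ => ?_
    rw [hzA h s, Finset.mul_sum]
    exact Finset.sum_congr rfl fun j _ => by ring
  have hzero : ∀ c : Fin (m + 1) → k, (∀ g, c ⬝ᵥ W g = 0) → c = 0 := fun c hc => by
    refine funext fun j => Fintype.linearIndependent_iff.mp hliw c (eq_of_vl fun g => ?_) j
    rw [map_zero, map_sum]
    simpa [dotProduct, W] using hc g
  have hext : ∀ P Q : Matrix (Fin (m + 1)) (Fin (m + 1)) k, (∀ h, P.mulVec (W h) = Q.mulVec (W h)) → P = Q :=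
    fun P Q h => funext fun i => sub_eq_zero.mp (hzero (P i - Q i) fun g => by
      rw [sub_dotProduct, sub_eq_zero]; exact congrFun (h g) i)
  have hW1 : ∀ g, (valM R g).mulVec (W 1) = W g := fun g => by rw [← hW, _root_.mul_one]
  refine ⟨m, R, a, A, W 1, fun h0 => ?_, ?_, fun g j => congrFun (hW1 g) j, hzA, hR, fun c hc => hzero c fun g => ?_⟩
  · obtain ⟨x, hx⟩ := hne
    refine hx ?_
    rw [hzA]
    exact Finset.sum_eq_zero fun j _ => by rw [show vl 1 (z (a j)) = 0 from congrFun h0 j, MulZeroClass.mul_zero]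
  · refine isRepMatrix_of_pts R (fun g g' => hext _ _ fun h => ?_) (hext _ _ fun h => ?_)
    · rw [← Matrix.mulVec_mulVec, ← hW, ← hW, ← hW, _root_.mul_assoc]
    · rw [← hW, _root_.one_mul, Matrix.one_mulVec]
  · rw [← hW1]; exact hc g

end Groth.Agent.SolvGrp
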