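import Groth.Agent.SolvGrp.Radical2
import Groth.Agent.SolvGrp.LunaPair
import Groth.Agent.SolvGrp.BorelNorm

/-! A torus centralised by the normaliser of a maximal torus lies in every Borel subgroup. -/

set_option backward.isDefEq.respectTransparency false
set_option backward.isDefEq.respectTransparency.types false
set_option linter.style.haveILetI false

universe u

open CategoryTheory MonoidalCategory CartesianMonoidalCategory MonObj AlgebraicGeometry
open scoped Matrix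

namespace Groth.Agent.SolvGrp

open GrpSchLib GrpSchLib.Kunneth GrpSchLib.LineGroups GrpSchLib.ProjLine WeilCmp.Unip AGFLib AGFLib.Gen AGFLib.BorelFixed
open AGFLib.BorelExist AGFLib.ProjAct

variable {k : Type u} [Field k] [IsAlgClosed k]

local notation "PT" => 𝟙_ (Over (Spec (CommRingCat.of k)))

variable {G B T S : Over (Spec (CommRingCat.of k))} [GrpObj G] [GrpObj B] [GrpObj T] [GrpObj S] [IsAffine G.left]
  [Smooth G.hom] [ConnectedSpace G.left] (iB : B ⟶ G) [IsMonHom iB] (iT : T ⟶ G) [IsMonHom iT] (iS : S ⟶ G)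
  [IsMonHom iS]

/-- A coset fixed by a torus which the normaliser centralises is a product `c n b` with `c`, `n` centralising it. -/
theorem exists_cent_mul_borel (hB : Red.IsBorelOver k iB) (hT : AGF.IsMaxTorus iT) (hTB : rangePts iT ≤ rangePts iB)
    (hS : Red.IsTorus S) (hST : rangePts iS ≤ rangePts iT)
    (hW : ∀ n : PT ⟶ G, (∀ t ∈ rangePts iT, n⁻¹ * t * n ∈ rangePts iT) → ∀ s ∈ rangePts iS, Commute n s)
    (g : PT ⟶ G) (hg : ∀ s ∈ rangePts iS, g⁻¹ * s * g ∈ rangePts iB) :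
    ∃ c b : PT ⟶ G, (∀ s ∈ rangePts iS, Commute c s) ∧ b ∈ rangePts iB ∧ g = c * b := by
  haveI : IsReduced G.left := isReduced_of_smooth_field G.hom
  haveI := hT.2.1
  haveI := hB.2.1
  haveI := hB.2.2.1
  obtain ⟨-, hlB, hqB, hmB, -⟩ := sub_props iB
  haveI := hlB
  haveI := hqB
  haveI := hmB
  obtain ⟨hcT, hsT, hcoT, haT, hlT, hqT, hsolvT⟩ := torus_sub hT.2.2.1 iT
  haveI := hcT
  haveI := hsT
  haveI := hcoT
  haveI := haT
  haveI := hlT
  haveI := hqT
  obtain ⟨C, _, z, hmz, hcz, hsC, hconnC, hC⟩ := exists_connSub_torusCent iS hS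
  haveI := hmz
  haveI := hcz
  haveI := hsC
  haveI := hconnC
  obtain ⟨haC, hlC, -, hmC, -⟩ := sub_props z
  haveI := haC
  haveI := hlC
  haveI := hmC
  haveI : IsReduced C.left := isReduced_of_smooth_field C.hom
  have hcommT : ∀ s ∈ rangePts iS, ∀ t ∈ rangePts iT, Commute t s := by
    intro s hs t ht
    obtain ⟨x, rfl⟩ := hST hs
    obtain ⟨y, rfl⟩ := ht
    show (y ≫ iT) * (x ≫ iT) = (x ≫ iT) * (y ≫ iT)
    rw [← MonObj.mul_comp, ← MonObj.mul_comp, (torus_commute hT.2.2.1 y x).eq]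
  obtain ⟨τ, hτ, hτz⟩ := exists_fac_sub z iT fun t ht => (hC t).mpr fun s hs => hcommT s hs t ht
  haveI := hτ
  haveI : IsClosedImmersion (τ.left ≫ z.left) := by rw [← Over.comp_left, hτz]; infer_instance
  haveI : IsClosedImmersion τ.left := IsClosedImmersion.of_comp τ.left z.left
  obtain ⟨B₁, _, b₁, hb₁, hB₁, hle₁⟩ := exists_borel_containing τ hsolvT
  haveI := hb₁
  haveI : IsMonHom (AGF.conjBy g iB) := by rw [AGFLib.Borel.conjBy_eq]; infer_instance
  obtain ⟨D, _, d, hd, hD, hmem⟩ := exists_borel_cent (AGF.conjBy g iB) (AGFLib.Borel.isBorel_conj iB hB g) iS hS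
    (fun s hs => (rangePts_conjBy g iB s).mpr (hg s hs)) z hC
  haveI := hd
  obtain ⟨c₁, f, hf⟩ := AGFLib.Borel.conjugate b₁ d hB₁ hD
  set c := c₁ ≫ z with hc
  have hcS : ∀ s ∈ rangePts iS, Commute c s := (hC _).mp ⟨c₁, rfl⟩
  set h := c⁻¹ * g with hh
  have hhT : ∀ t ∈ rangePts iT, h⁻¹ * t * h ∈ rangePts iB := by
    rintro _ ⟨y, rfl⟩
    obtain ⟨w, hw⟩ := hle₁ ⟨y, rfl⟩
    change w ≫ b₁ = y ≫ τ at hw
    have h1 : (y ≫ τ ≫ AGFLib.Borel.conjM c₁) ∈ rangePts d := ⟨w ≫ f.hom, by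
      show (w ≫ f.hom) ≫ d = _
      rw [Category.assoc, hf, AGFLib.Borel.conjBy_eq, ← Category.assoc, hw, Category.assoc]⟩
    have h2 := (hmem _).mp h1
    rw [← Category.assoc y, comp_conjM_pt, MonObj.mul_comp, MonObj.mul_comp, GrpObj.inv_comp, Category.assoc, hτz,
      rangePts_conjBy] at h2
    show h⁻¹ * (y ≫ iT) * h ∈ rangePts iB
    rw [show h⁻¹ * (y ≫ iT) * h = g⁻¹ * (c * (y ≫ iT) * c⁻¹) * g by rw [hh]; group]
    exact h2
  haveI : IsMonHom (AGF.conjBy h iB) := by rw [AGFLib.Borel.conjBy_eq]; infer_instance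
  have hBh := AGFLib.Borel.isBorel_conj iB hB h
  haveI := hBh.2.1
  obtain ⟨-, hlh, -, -, -⟩ := sub_props (AGF.conjBy h iB)
  haveI := hlh
  obtain ⟨t₁, -, ht₁⟩ := exists_fac_sub (AGF.conjBy h iB) iT fun x hx => (rangePts_conjBy h iB x).mpr (hhT x hx)
  obtain ⟨t₀, -, ht₀⟩ := exists_fac_sub iB iT hTB
  obtain ⟨n, e, e', he, he'⟩ := borelPair_conj _ iB hBh hB iT iT hT hT t₁ ht₁ t₀ ht₀
  have hnT : ∀ t ∈ rangePts iT, n⁻¹ * t * n ∈ rangePts iT := by
    rintro _ ⟨y, rfl⟩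
    refine ⟨y ≫ e'.inv, ?_⟩
    have e1 := congrArg ((y ≫ e'.inv) ≫ ·) he'
    simp only [Category.assoc, Iso.inv_hom_id_assoc] at e1
    rw [AGFLib.Borel.conjBy_eq, ← Category.assoc e'.inv, ← Category.assoc y, comp_conjM_pt] at e1
    show (y ≫ e'.inv) ≫ iT = n⁻¹ * (y ≫ iT) * n
    rw [e1, Category.assoc]
    group
  have hnh : n * h ∈ rangePts iB := by
    refine normalizer_borel iB hB (n * h) fun y hy => ⟨?_, ?_⟩
    · obtain ⟨y, rfl⟩ := hy
      refine ⟨y ≫ e.hom, ?_⟩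
      show (y ≫ e.hom) ≫ iB = n * h * (y ≫ iB) * (n * h)⁻¹
      rw [Category.assoc, he, AGFLib.Borel.conjBy_eq, AGFLib.Borel.conjBy_eq, ← Category.assoc, ← Category.assoc,
        comp_conjM_pt, comp_conjM_pt]
      group
    · obtain ⟨y, rfl⟩ := hy
      refine ⟨y ≫ e.inv, ?_⟩
      show (y ≫ e.inv) ≫ iB = (n * h)⁻¹ * (y ≫ iB) * (n * h)
      have e1 := congrArg ((y ≫ e.inv) ≫ ·) he
      simp only [Category.assoc, Iso.inv_hom_id_assoc] at e1
      simp only [AGFLib.Borel.conjBy_eq, ← Category.assoc, comp_conjM_pt] at e1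
      rw [e1]
      group
  refine ⟨c * n⁻¹, n * h, fun s hs => (hcS s hs).mul_left (hW n hnT s hs).inv_left, hnh, ?_⟩
  rw [hh]
  group

/-- A torus centralised by the normaliser of a maximal torus lies in every Borel subgroup. -/
theorem mem_borel_of_weyl (hB : Red.IsBorelOver k iB) (hT : AGF.IsMaxTorus iT) (hTB : rangePts iT ≤ rangePts iB)
    (hS : Red.IsTorus S) (hST : rangePts iS ≤ rangePts iT)
    (hW : ∀ n : PT ⟶ G, (∀ t ∈ rangePts iT, n⁻¹ * t * n ∈ rangePts iT) → ∀ s ∈ rangePts iS, Commute n s)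
    (g : PT ⟶ G) : ∀ s ∈ rangePts iS, g⁻¹ * s * g ∈ rangePts iB := by
  classical
  haveI : IsReduced G.left := isReduced_of_smooth_field G.hom
  haveI := hB.2.1
  obtain ⟨haS, hsS, hcS, -⟩ := torus_props hS
  haveI := haS
  haveI := hsS
  haveI := hcS
  haveI : IsReduced S.left := isReduced_of_smooth_field S.hom
  have hn1 : derivedSeries (PT ⟶ S) 1 = ⊥ := by
    rw [derivedSeries_one, commutator_def, Subgroup.commutator_eq_bot_iff_le_centralizer]
    exact fun x _ => Subgroup.mem_centralizer_iff.mpr fun y _ => (torus_commute hS y x).eq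
  obtain ⟨n, N, v₀, hv₀, hN, hfix, hstab, -⟩ := exists_borelRep iB
  obtain ⟨F, hF, hFmem, hFlift⟩ := exists_orbit iB hB hN v₀ hv₀ hfix
  have hSB : rangePts iS ≤ rangePts iB := hST.trans hTB
  -- every fixed line of the orbit has the weight of the base line
  have key : ∀ (g : PT ⟶ G), (∀ s ∈ rangePts iS, g⁻¹ * s * g ∈ rangePts iB) → ∀ s ∈ rangePts iS, ∀ a : k,
      (valM N s).mulVec v₀ = a • v₀ → (valM N s).mulVec ((valM N g).mulVec v₀) = a • (valM N g).mulVec v₀ := by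
    intro g hg s hs a ha
    obtain ⟨c, b, hc, hb, rfl⟩ := exists_cent_mul_borel iB iT iS hB hT hTB hS hST hW g hg
    obtain ⟨β, hβ⟩ := hfix b hb
    have hsc : valM N s * valM N c = valM N c * valM N s := by
      rw [← valM_mul hN, ← valM_mul hN, (hc s hs).eq]
    rw [valM_mul hN, ← Matrix.mulVec_mulVec, hβ, Matrix.mulVec_smul, Matrix.mulVec_smul, Matrix.mulVec_mulVec, hsc,
      ← Matrix.mulVec_mulVec, ha, Matrix.mulVec_smul, smul_comm]
  obtain ⟨r, Sw, e, P, hP0, hinj, horth, hone, heig, hcurve⟩ := exists_decomp hS (isRepMatrix_restrict iS hN)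
  let w := (valM N g).mulVec v₀
  let vv : (Fin r → ℤ) → Fin (n + 1) → k := fun m => (P m).mulVec w
  let supp := Sw.filter fun m => vv m ≠ 0
  have hw_sum : w = ∑ m ∈ Sw, vv m := by
    show w = ∑ m ∈ Sw, (P m).mulVec w
    rw [← Matrix.sum_mulVec, hone, Matrix.one_mulVec]
  have hsuppne : supp.Nonempty := by
    by_contra h
    rw [Finset.not_nonempty_iff_eq_empty] at h
    refine mulVec_ne_zero hN g hv₀ ((hw_sum).trans (Finset.sum_eq_zero fun m hm => ?_))
    by_contra hne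
    exact Finset.notMem_empty m (h ▸ Finset.mem_filter.mpr ⟨hm, hne⟩)
  -- extreme components are fixed lines of the orbit
  have ext : ∀ (e' : (Fin r → ℤ) → ℤ), (∀ m ∈ Sw, ∀ m' ∈ Sw, e' m = e' m' → m = m') →
      (∀ u : k, u ≠ 0 → ∃ t : PT ⟶ S, valM (N.map (ev iS)) t = ∑ m ∈ Sw, u ^ e' m • P m) →
      ∀ m₀ ∈ supp, (∀ m ∈ supp, e' m ≤ e' m₀) → ∀ (t : PT ⟶ S) (a : k),
        (valM N (t ≫ iS)).mulVec v₀ = a • v₀ → (valM N (t ≫ iS)).mulVec (vv m₀) = a • vv m₀ := by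
    intro e' hinj' hcurve' m₀ hm₀ hmax t a ha
    obtain ⟨hm₀S, hne⟩ := Finset.mem_filter.mp hm₀
    obtain ⟨l, hl⟩ := Function.ne_iff.mp hne
    change vv m₀ l ≠ 0 at hl
    have hq : ∀ m ∈ Sw, ((vv m₀ l)⁻¹ • P m₀ l) ⬝ᵥ vv m = if m = m₀ then 1 else 0 := fun m hm => by
      have h1 : P m₀ l ⬝ᵥ vv m = ((P m₀ * P m).mulVec w) l := by rw [← Matrix.mulVec_mulVec]; rfl
      rw [smul_dotProduct, h1, horth m₀ hm₀S m hm]
      rcases eq_or_ne m m₀ with h | h
      · subst h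
        rw [if_pos rfl, if_pos rfl, smul_eq_mul]
        exact inv_mul_cancel₀ hl
      · rw [if_neg (Ne.symm h), if_neg h, Matrix.zero_mulVec, Pi.zero_apply, smul_zero]
    have hz : cp (lineP (vv m₀) hne) ∈ F := limit_mem F hF supp e' vv m₀ hm₀ hmax _
      (by rw [hq m₀ hm₀S, if_pos rfl]) (fun m hm hne => by rw [hq m (Finset.mem_filter.mp hm).1, if_neg hne])
      (fun m hm hne => lt_of_le_of_ne (hmax m hm) fun h => hne (hinj' m (Finset.mem_filter.mp hm).1 m₀ hm₀S h))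
      (fun u hu hv => (hFmem _ hv).mpr (by
        obtain ⟨x, hx⟩ := hcurve' u hu
        refine ⟨(x ≫ iS) * g, 1, ?_⟩
        rw [one_smul, valM_mul hN, ← Matrix.mulVec_mulVec, ← valM_restrict, hx, Matrix.sum_mulVec]
        rw [Finset.sum_subset (Finset.filter_subset _ Sw) fun m hm hms => by
          have h0 : vv m = 0 := by by_contra h; exact hms (Finset.mem_filter.mpr ⟨hm, h⟩)
          rw [h0, smul_zero]]
        exact Finset.sum_congr rfl fun m _ => by rw [Matrix.smul_mulVec])) hne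
    have heigz : ∀ t : PT ⟶ S, ∃ c : k, (valM N (t ≫ iS)).mulVec (vv m₀) = c • vv m₀ := fun t => by
      obtain ⟨c, hc⟩ := heig t m₀ hm₀S
      exact ⟨c, by rw [Matrix.mulVec_mulVec, ← valM_restrict, hc, Matrix.smul_mulVec]⟩
    obtain ⟨g₁, a₁, hz₁, hS₁⟩ := hFlift S 1 hn1 iS (vv m₀) hne hz heigz
    rw [hz₁, Matrix.mulVec_smul, key g₁ hS₁ _ ⟨t, rfl⟩ a ha, smul_comm]
  obtain ⟨m₁, hm₁, hmax₁⟩ := supp.exists_max_image e hsuppne
  obtain ⟨m₂, hm₂, hmax₂⟩ := supp.exists_max_image (fun m => -e m) hsuppne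
  have hcurve₂ : ∀ u : k, u ≠ 0 → ∃ t : PT ⟶ S, valM (N.map (ev iS)) t = ∑ m ∈ Sw, u ^ (-e m) • P m := fun u hu => by
    obtain ⟨t, ht⟩ := hcurve u⁻¹ (inv_ne_zero hu)
    exact ⟨t, ht.trans (Finset.sum_congr rfl fun m _ => by rw [inv_zpow'])⟩
  have hz₁ := ext e hinj hcurve m₁ hm₁ hmax₁
  have hz₂ := ext (fun m => -e m) (fun m hm m' hm' h => hinj m hm m' hm' (neg_injective h)) hcurve₂ m₂ hm₂ hmax₂
  -- the two extreme weights agree
  have hev : ∀ (x : PT ⟶ S) (u : k), valM (N.map (ev iS)) x = ∑ m ∈ Sw, u ^ e m • P m → ∀ m ∈ Sw,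
      (valM N (x ≫ iS)).mulVec (vv m) = u ^ e m • vv m := fun x u hx m hm => by
    show (valM N (x ≫ iS)).mulVec ((P m).mulVec w) = u ^ e m • (P m).mulVec w
    rw [Matrix.mulVec_mulVec, ← valM_restrict, hx, Finset.sum_mul,
      Finset.sum_eq_single m (fun b hb hne => by rw [Matrix.smul_mul, horth b hb m hm, if_neg hne, smul_zero])
        (fun h => absurd hm h), Matrix.smul_mul, horth m hm m hm, if_pos rfl, Matrix.smul_mulVec]
  have heq : e m₁ = e m₂ := by
    by_contra hne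
    obtain ⟨u, hu⟩ := (Set.toFinite (↑((Polynomial.X ^ (e m₁ - e m₂).natAbs - 1 : Polynomial k).roots.toFinset) ∪
      ({0} : Set k))).exists_notMem
    simp only [Set.mem_union, Set.mem_singleton_iff, Finset.mem_coe, Multiset.mem_toFinset, not_or] at hu
    obtain ⟨x, hx⟩ := hcurve u hu.2
    obtain ⟨a, ha⟩ := hfix (x ≫ iS) (hSB ⟨x, rfl⟩)
    have h1 : u ^ e m₁ = a := smul_left_injective k (Finset.mem_filter.mp hm₁).2
      ((hev x u hx m₁ (Finset.mem_filter.mp hm₁).1).symm.trans (hz₁ x a ha))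
    have h2 : u ^ e m₂ = a := smul_left_injective k (Finset.mem_filter.mp hm₂).2
      ((hev x u hx m₂ (Finset.mem_filter.mp hm₂).1).symm.trans (hz₂ x a ha))
    refine hu.1 ((Polynomial.mem_roots (Polynomial.X_pow_sub_C_ne_zero
      (Int.natAbs_pos.mpr (sub_ne_zero.mpr hne)) (1 : k) |> (fun h => by simpa using h))).mpr ?_)
    have h3 : u ^ (e m₁ - e m₂) = 1 := by
      rw [zpow_sub₀ hu.2, h1, h2, div_self]
      exact h2 ▸ zpow_ne_zero _ hu.2
    have h4 : u ^ (e m₁ - e m₂).natAbs = 1 := by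
      rcases Int.natAbs_eq (e m₁ - e m₂) with h | h
      · rw [h] at h3; exact_mod_cast h3
      · rw [h, zpow_neg, inv_eq_one] at h3; exact_mod_cast h3
    simp [h4]
  have hw : w = vv m₁ := by
    rw [hw_sum]
    refine Finset.sum_eq_single m₁ (fun m hm hne => ?_) (fun h => absurd (Finset.mem_filter.mp hm₁).1 h)
    by_contra h0
    have hms : m ∈ supp := Finset.mem_filter.mpr ⟨hm, h0⟩
    have h1 := hmax₁ m hms
    have h2 := hmax₂ m hms
    exact hne (hinj m hm m₁ (Finset.mem_filter.mp hm₁).1 (by linarith))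
  rintro _ ⟨t, rfl⟩
  obtain ⟨c, hc⟩ := heig t m₁ (Finset.mem_filter.mp hm₁).1
  refine hstab _ ⟨c, ?_⟩
  show (valM N (g⁻¹ * (t ≫ iS) * g)).mulVec v₀ = c • v₀
  rw [valM_mul hN, valM_mul hN, ← Matrix.mulVec_mulVec, ← Matrix.mulVec_mulVec]
  show (valM N g⁻¹).mulVec ((valM N (t ≫ iS)).mulVec w) = _
  have h1 : (valM N (t ≫ iS)).mulVec w = c • w := by
    rw [hw]
    show (valM N (t ≫ iS)).mulVec ((P m₁).mulVec w) = c • (P m₁).mulVec w
    rw [Matrix.mulVec_mulVec, ← valM_restrict, hc, Matrix.smul_mulVec]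
  rw [h1, Matrix.mulVec_smul, Matrix.mulVec_mulVec, ← valM_mul hN, inv_mul_cancel, valM_one hN, Matrix.one_mulVec]

end Groth.Agent.SolvGrp
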